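import Cfsg.Agent.Lib.MaxSub.Transvec
import Cfsg.Agent.Lib.Geometry.SympBasic

/-!
Symplectic transvections of a non-degenerate alternating form on `F^ι`, centres of transvection groups
inside a subgroup, and generation of the isometry group by transvections.
-/

set_option autoImplicit false

namespace Cfsg.Agent.Lib.MaxSub

open Matrix
open scoped MatrixGroups Matrix

variable {ι : Type} [Fintype ι] [DecidableEq ι] {F : Type*} [Field F]

/-- A non-degenerate alternating bilinear form as a bundled linear map. -/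
structure AltForm (ι : Type) [Fintype ι] (F : Type*) [Field F] where
  B : (ι → F) →ₗ[F] (ι → F) →ₗ[F] F
  alt : ∀ v, B v v = 0
  nondeg : ∀ v, (∀ x, B x v = 0) → v = 0

namespace AltForm

variable (f : AltForm ι F)

theorem skew (u v : ι → F) : f.B u v = - f.B v u := by
  have h := f.alt (u + v)
  simp only [map_add, LinearMap.add_apply, f.alt, zero_add, add_zero] at h
  linear_combination h

/-- The vector of the functional `x ↦ B x v`. -/
def psi (v : ι → F) : ι → F := toVec (f.B.flip v)

theorem psi_dot (v x : ι → F) : f.psi v ⬝ᵥ x = f.B x v := toVec_dot _ x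

/-- `psi` as a linear map. -/
def psiL : (ι → F) →ₗ[F] (ι → F) where
  toFun := f.psi
  map_add' v w := funext fun j => map_add (f.B (Pi.single j 1)) v w
  map_smul' c v := funext fun j => map_smul (f.B (Pi.single j 1)) c v

theorem psi_injective : Function.Injective f.psiL := by
  refine (injective_iff_map_eq_zero f.psiL).mpr fun v hv => f.nondeg v fun x => ?_
  rw [← psi_dot, show f.psi v = 0 from hv, zero_dotProduct]

theorem psi_surjective (a : ι → F) : ∃ v, f.psi v = a :=
  LinearMap.injective_iff_surjective.mp f.psi_injective a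

theorem exists_perp_eq_one (W : Submodule F (ι → F)) {x : ι → F} (hx : x ∉ W) :
    ∃ y, (∀ w ∈ W, f.B w y = 0) ∧ f.B x y = 1 := by
  obtain ⟨a, ha, hax⟩ := exists_functional W hx
  obtain ⟨y, rfl⟩ := f.psi_surjective a
  exact ⟨y, fun w hw => by rw [← psi_dot, ha w hw], by rw [← psi_dot, hax]⟩

/-- The perpendicular space. -/
def perp (W : Submodule F (ι → F)) : Submodule F (ι → F) where
  carrier := {x | ∀ w ∈ W, f.B w x = 0}
  add_mem' {a b} ha hb w hw := by rw [map_add, ha w hw, hb w hw, add_zero]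
  zero_mem' w _ := map_zero _
  smul_mem' c a ha w hw := by rw [map_smul, ha w hw, smul_zero]

theorem mem_perp {W : Submodule F (ι → F)} {x : ι → F} : x ∈ f.perp W ↔ ∀ w ∈ W, f.B w x = 0 := Iff.rfl

theorem mem_perp' {W : Submodule F (ι → F)} {x : ι → F} (hx : x ∈ f.perp W) {w : ι → F} (hw : w ∈ W) :
    f.B x w = 0 := by rw [f.skew, hx w hw, neg_zero]

theorem perp_perp (W : Submodule F (ι → F)) : f.perp (f.perp W) = W := by
  refine le_antisymm (fun x hx => ?_) fun w hw y hy => f.mem_perp' hy hw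
  by_contra h
  obtain ⟨y, hy, hxy⟩ := f.exists_perp_eq_one W h
  have := f.mem_perp' hx (show y ∈ f.perp W from hy)
  rw [hxy] at this
  exact one_ne_zero this

theorem perp_antitone {W U : Submodule F (ι → F)} (h : W ≤ U) : f.perp U ≤ f.perp W :=
  fun _ hx w hw => hx w (h hw)

theorem dot_self (w : ι → F) (c : F) : (c • f.psi w) ⬝ᵥ w = 0 := by
  rw [smul_dotProduct, psi_dot, f.alt, smul_zero]

/-- The symplectic transvection `x ↦ x + c B(x,w) w`. -/
def trans (w : ι → F) (c : F) : GL ι F := tv w (c • f.psi w) (f.dot_self w c)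

theorem trans_mulVec (w : ι → F) (c : F) (x : ι → F) :
    (f.trans w c : Matrix ι ι F) *ᵥ x = x + (c * f.B x w) • w := by
  rw [trans, tv_mulVec, smul_dotProduct, psi_dot, smul_eq_mul]

/-- `g` preserves the form. -/
def Preserves (g : GL ι F) : Prop :=
  ∀ u v, f.B ((g : Matrix ι ι F) *ᵥ u) ((g : Matrix ι ι F) *ᵥ v) = f.B u v

theorem trans_preserves (w : ι → F) (c : F) : f.Preserves (f.trans w c) := fun u v => by
  simp only [trans_mulVec, map_add, map_smul, LinearMap.add_apply, LinearMap.smul_apply, f.alt, smul_eq_mul]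
  rw [f.skew w v]
  ring

theorem preserves_inv_left {g : GL ι F} (hg : f.Preserves g) (u v : ι → F) :
    f.B (((g⁻¹ : GL ι F) : Matrix ι ι F) *ᵥ u) v = f.B u ((g : Matrix ι ι F) *ᵥ v) := by
  rw [← hg, Matrix.mulVec_mulVec, ← Units.val_mul, mul_inv_cancel, Units.val_one, Matrix.one_mulVec]

theorem conj_trans {g : GL ι F} (hg : f.Preserves g) (w : ι → F) (c : F) :
    g * f.trans w c * g⁻¹ = f.trans ((g : Matrix ι ι F) *ᵥ w) c :=
  Units.ext (eq_of_mulVec_eq fun x => by
    rw [Units.val_mul, Units.val_mul, ← Matrix.mulVec_mulVec, ← Matrix.mulVec_mulVec, trans_mulVec,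
      trans_mulVec, preserves_inv_left f hg, Matrix.mulVec_add, Matrix.mulVec_smul, Matrix.mulVec_mulVec,
      ← Units.val_mul, mul_inv_cancel, Units.val_one, Matrix.one_mulVec])

/-- `w` is a centre: all transvections with centre `w` lie in `K`. -/
def Centre (K : Subgroup (GL ι F)) (w : ι → F) : Prop := ∀ c : F, f.trans w c ∈ K

variable {f} {K : Subgroup (GL ι F)}

theorem Centre.smul {w : ι → F} (h : f.Centre K w) (a : F) : f.Centre K (a • w) := fun c => by
  have : f.trans (a • w) c = f.trans w (c * a * a) :=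
    Units.ext (eq_of_mulVec_eq fun x => by
      rw [trans_mulVec, trans_mulVec, map_smul, smul_smul, smul_eq_mul]
      congr 2
      ring)
  exact this ▸ h _

theorem Centre.of_conj {w : ι → F} (h : f.Centre K w) {g : GL ι F} (hgK : g ∈ K) (hg : f.Preserves g) :
    f.Centre K ((g : Matrix ι ι F) *ᵥ w) := fun c =>
  f.conj_trans hg w c ▸ K.mul_mem (K.mul_mem hgK (h c)) (K.inv_mem hgK)

/-- Two non-orthogonal centres give every vector of their span. -/
theorem Centre.add_smul {u w : ι → F} (hu : f.Centre K u) (hw : f.Centre K w) (huw : f.B u w ≠ 0) (c : F) :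
    f.Centre K (u + c • w) := by
  have := hu.of_conj (hw (c / f.B u w)) (f.trans_preserves w _)
  rwa [trans_mulVec, div_mul_cancel₀ _ huw] at this

theorem Centre.add {u w : ι → F} (hu : f.Centre K u) (hw : f.Centre K w) (huw : f.B u w ≠ 0) :
    f.Centre K (u + w) := by simpa using hu.add_smul hw huw 1

variable (f)

/-- Inside a non-degenerate space of centres the component of a centre may be replaced by any non-zero vector. -/
theorem centre_replace (D : Submodule F (ι → F)) (hD : ∀ w ∈ D, f.Centre K w)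
    (hnd : ∀ a ∈ D, a ≠ 0 → ∃ x ∈ D, f.B a x ≠ 0) {a b r : ι → F} (ha : a ∈ D) (ha0 : a ≠ 0) (hb : b ∈ D)
    (hb0 : b ≠ 0) (hr : ∀ x ∈ D, f.B r x = 0) (h : f.Centre K (a + r)) : f.Centre K (b + r) := by
  have step : ∀ a' b', a' ∈ D → b' ∈ D → f.B a' b' ≠ 0 → f.Centre K (a' + r) → f.Centre K (b' + r) := by
    intro a' b' ha' hb' hab hc
    have hne : f.B (a' + r) (b' - a') ≠ 0 := by
      rw [map_add, LinearMap.add_apply, hr _ (D.sub_mem hb' ha'), add_zero, map_sub, f.alt, sub_zero]
      exact hab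
    have := hc.add (hD _ (D.sub_mem hb' ha')) hne
    rwa [show a' + r + (b' - a') = b' + r by abel] at this
  by_cases hab : f.B a b = 0
  · obtain ⟨x, hx, hax⟩ := hnd a ha ha0
    obtain ⟨y, hy, hby⟩ := hnd b hb hb0
    by_cases hxb : f.B x b = 0
    · by_cases hay : f.B a y = 0
      · refine step (x + y) b (D.add_mem hx hy) hb ?_ (step a (x + y) ha (D.add_mem hx hy) ?_ h)
        · rw [map_add, LinearMap.add_apply, hxb, zero_add, f.skew y b]
          exact neg_ne_zero.mpr hby
        · rw [map_add, hay, add_zero]; exact hax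
      · exact step y b hy hb (by rw [f.skew y b]; exact neg_ne_zero.mpr hby) (step a y ha hy hay h)
    · exact step x b hx hb hxb (step a x ha hx hax h)
  · exact step a b ha hb hab h

/-- The vectors fixed by `g`. -/
def fixSpace (g : GL ι F) : Submodule F (ι → F) :=
  LinearMap.ker (Matrix.toLin' (g : Matrix ι ι F) - LinearMap.id)

theorem mem_fixSpace {g : GL ι F} {x : ι → F} : x ∈ fixSpace g ↔ (g : Matrix ι ι F) *ᵥ x = x := by
  simp [fixSpace, sub_eq_zero]

/-- The isometry group is generated by the transvections. -/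
theorem mem_of_centres (hall : ∀ w, f.Centre K w) (g : GL ι F) (hg : f.Preserves g) : g ∈ K := by
  induction hF : fixSpace g using WellFoundedGT.induction generalizing g with
  | ind W ih =>
    subst hF
    by_cases htop : fixSpace g = ⊤
    · have h1 : g = 1 := Units.ext (eq_of_mulVec_eq fun x => by
        rw [Units.val_one, Matrix.one_mulVec]
        exact mem_fixSpace.mp (by rw [htop]; trivial))
      exact h1 ▸ K.one_mem
    -- one transvection step enlarges the fixed space
    have finish : ∀ t : GL ι F, t ∈ K → f.Preserves t →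
        (∀ x ∈ fixSpace g, (t : Matrix ι ι F) *ᵥ x = x) →
        (∃ v, v ∉ fixSpace g ∧ (t : Matrix ι ι F) *ᵥ ((g : Matrix ι ι F) *ᵥ v) = v) → g ∈ K := by
      rintro t ht htp hfix ⟨v, hv, htv⟩
      have hlt : fixSpace g < fixSpace (t * g) := by
        refine lt_of_le_of_ne (fun x hx => mem_fixSpace.mpr ?_) fun he => hv (he ▸ mem_fixSpace.mpr ?_)
        · rw [Units.val_mul, ← Matrix.mulVec_mulVec, mem_fixSpace.mp hx, hfix x hx]
        · rw [Units.val_mul, ← Matrix.mulVec_mulVec, htv]
      have hp : f.Preserves (t * g) := fun a b => by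
        rw [Units.val_mul, ← Matrix.mulVec_mulVec, ← Matrix.mulVec_mulVec, htp, hg]
      simpa using K.mul_mem (K.inv_mem ht) (ih _ hlt (t * g) hp rfl)
    have hfixpair : ∀ v, ∀ x ∈ fixSpace g, f.B x ((g : Matrix ι ι F) *ᵥ v) = f.B x v := fun v x hx => by
      conv_lhs => rw [← mem_fixSpace.mp hx]
      rw [hg]
    by_cases hA : ∃ v, f.B v ((g : Matrix ι ι F) *ᵥ v) ≠ 0
    · obtain ⟨v, hv⟩ := hA
      have hne : f.B ((g : Matrix ι ι F) *ᵥ v) (v - (g : Matrix ι ι F) *ᵥ v) ≠ 0 := by
        rw [map_sub, f.alt, sub_zero, f.skew]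
        exact neg_ne_zero.mpr hv
      refine finish _ (hall (v - (g : Matrix ι ι F) *ᵥ v) (f.B ((g : Matrix ι ι F) *ᵥ v) (v - (g : Matrix ι ι F) *ᵥ v))⁻¹)
        (f.trans_preserves _ _) (fun x hx => ?_) ⟨v, fun h => hv ?_, ?_⟩
      · rw [trans_mulVec, map_sub (f.B x), hfixpair v x hx, sub_self, mul_zero, zero_smul, add_zero]
      · rw [mem_fixSpace.mp h, f.alt]
      · rw [trans_mulVec, inv_mul_cancel₀ hne, one_smul, add_sub_cancel]
    · push Not at hA
      obtain ⟨v, hv⟩ : ∃ v, v ∉ fixSpace g := by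
        by_contra hc
        push Not at hc
        exact htop (Submodule.eq_top_iff'.mpr hc)
      set u := (g : Matrix ι ι F) *ᵥ v with hu
      have huF : u ∉ fixSpace g := by
        intro h
        refine hv (mem_fixSpace.mpr ?_)
        have h2 := congrArg (((g⁻¹ : GL ι F) : Matrix ι ι F) *ᵥ ·) (mem_fixSpace.mp h)
        simp only [Matrix.mulVec_mulVec] at h2
        rw [← Units.val_mul, inv_mul_cancel, Units.val_one, Matrix.one_mulVec, hu, Matrix.mulVec_mulVec,
          ← Units.val_mul, inv_mul_cancel, Units.val_one, Matrix.one_mulVec] at h2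
        exact h2
      obtain ⟨y₁, hy₁, hv₁⟩ := f.exists_perp_eq_one _ hv
      obtain ⟨y₂, hy₂, hu₂⟩ := f.exists_perp_eq_one _ huF
      obtain ⟨y, hy, hyv, hyu⟩ : ∃ y, (∀ x ∈ fixSpace g, f.B x y = 0) ∧ f.B v y ≠ 0 ∧ f.B u y ≠ 0 := by
        by_cases h1 : f.B u y₁ = 0
        · by_cases h2 : f.B v y₂ = 0
          · refine ⟨y₁ + y₂, fun x hx => by rw [map_add, hy₁ x hx, hy₂ x hx, add_zero], ?_, ?_⟩
            · rw [map_add, hv₁, h2, add_zero]; exact one_ne_zero
            · rw [map_add, h1, hu₂, zero_add]; exact one_ne_zero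
          · exact ⟨y₂, hy₂, h2, by rw [hu₂]; exact one_ne_zero⟩
        · exact ⟨y₁, hy₁, by rw [hv₁]; exact one_ne_zero, h1⟩
      set z := v + y with hz
      have huz : f.B u (z - u) ≠ 0 := by
        have h0 : f.B u v = 0 := by rw [f.skew, hu, hA v, neg_zero]
        rw [map_sub, f.alt, sub_zero, hz, map_add, h0, zero_add]
        exact hyu
      have hzv : f.B z (v - z) ≠ 0 := by
        rw [map_sub, f.alt, sub_zero, hz, map_add, LinearMap.add_apply, f.alt, zero_add, f.skew]
        exact neg_ne_zero.mpr hyv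
      refine finish (f.trans (v - z) (f.B z (v - z))⁻¹ * f.trans (z - u) (f.B u (z - u))⁻¹)
        (K.mul_mem (hall _ _) (hall _ _)) (fun a b => ?_) (fun x hx => ?_) ⟨v, hv, ?_⟩
      · rw [Units.val_mul, ← Matrix.mulVec_mulVec, ← Matrix.mulVec_mulVec, f.trans_preserves, f.trans_preserves]
      · have h1 : f.B x (z - u) = 0 := by
          rw [map_sub, hz, map_add, hy x hx, add_zero, hu, hfixpair v x hx, sub_self]
        have h2 : f.B x (v - z) = 0 := by
          rw [hz, map_sub, map_add, hy x hx, add_zero, sub_self]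
        rw [Units.val_mul, ← Matrix.mulVec_mulVec, trans_mulVec, trans_mulVec, h1, mul_zero, zero_smul,
          add_zero, h2, mul_zero, zero_smul, add_zero]
      · rw [Units.val_mul, ← Matrix.mulVec_mulVec, trans_mulVec, trans_mulVec, inv_mul_cancel₀ huz,
          one_smul, add_sub_cancel, inv_mul_cancel₀ hzv, one_smul, add_sub_cancel]

end AltForm

/-- The standard symplectic form as an `AltForm`. -/
noncomputable def stdAlt (m : ℕ) (F : Type*) [Field F] : AltForm (Fin m ⊕ Fin m) F where
  B := Cfsg.Agent.Lib.Geometry.sympBilin m F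
  alt v := by rw [Cfsg.Agent.Lib.Geometry.sympBilin_apply, Cfsg.Agent.Lib.Geometry.sympForm_self]
  nondeg v h := (Cfsg.Agent.Lib.Geometry.sympBilin_nondegenerate F m).2 v h

theorem stdAlt_apply {m : ℕ} (u v : Fin m ⊕ Fin m → F) : (stdAlt m F).B u v = Cfsg.sympForm m F u v :=
  Cfsg.Agent.Lib.Geometry.sympBilin_apply u v

theorem mem_spGL_iff {m : ℕ} {g : GL (Fin m ⊕ Fin m) F} :
    g ∈ Cfsg.spGL m F ↔ (stdAlt m F).Preserves g := by
  simp only [AltForm.Preserves, stdAlt_apply]
  rfl

theorem spGL_le {m : ℕ} {K : Subgroup (GL (Fin m ⊕ Fin m) F)} (h : ∀ w, (stdAlt m F).Centre K w) :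
    Cfsg.spGL m F ≤ K :=
  fun g hg => (stdAlt m F).mem_of_centres h g (mem_spGL_iff.mp hg)

end Cfsg.Agent.Lib.MaxSub
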