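import Cfsg.Agent.Lib.Geometry.SympBasis
import Cfsg.Agent.Lib.Geometry.SympBasic
import Cfsg.Agent.Lib.Classical.LinearCard
import Cfsg.Prelude.Def_GeometricClasses
import Mathlib

/-!
The index of the similitude group of an alternating form in the special linear group.
-/

set_option autoImplicit false
set_option maxHeartbeats 1000000

namespace Cfsg.Agent.Lib.MaxSub.SympSimilarity

open Module Matrix

variable {F : Type*} [Field F] {n : ℕ}

/-- The bilinear form of a symplectic form. -/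
def toB {f : (Fin n → F) → (Fin n → F) → F} (hf : Cfsg.Geo.IsSymplecticForm f) : LinearMap.BilinForm F (Fin n → F) :=
  LinearMap.mk₂ F f hf.bilinear.add_left hf.bilinear.smul_left hf.bilinear.add_right hf.bilinear.smul_right

theorem toB_nondeg {f : (Fin n → F) → (Fin n → F) → F} (hf : Cfsg.Geo.IsSymplecticForm f) {u : Fin n → F}
    (h : ∀ v, toB hf u v = 0) : u = 0 := by
  by_contra hu
  obtain ⟨w, hw⟩ := (hf.nondegenerate u hu).2
  exact hw (h w)

/-- A standard frame. -/
theorem exists_frame {f : (Fin n → F) → (Fin n → F) → F} (hf : Cfsg.Geo.IsSymplecticForm f) :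
    ∃ (m : ℕ) (T : (Fin m ⊕ Fin m → F) ≃ₗ[F] (Fin n → F)),
      n = 2 * m ∧ ∀ u v, f (T u) (T v) = Cfsg.sympForm m F u v := by
  classical
  have hA : (toB hf).IsAlt := hf.alternating
  obtain ⟨m, k, b, h1, h2, h3, h4⟩ := Cfsg.Agent.Lib.Geometry.exists_sympBasis (toB hf) hA
  have hk : k = 0 := by
    by_contra hk
    exact b.ne_zero (Sum.inr ⟨0, Nat.pos_of_ne_zero hk⟩) (toB_nondeg hf (h4 _))
  subst hk
  let e : Fin m ⊕ Fin m ≃ (Fin m ⊕ Fin m) ⊕ Fin 0 := (Equiv.sumComm _ _).trans (Equiv.sumEmpty _ _).symm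
  let T : (Fin m ⊕ Fin m → F) ≃ₗ[F] (Fin n → F) := (Pi.basisFun F (Fin m ⊕ Fin m)).equiv b e
  have hT : ∀ a, T (Pi.basisFun F (Fin m ⊕ Fin m) a) = b (e a) := fun a => Basis.equiv_apply _ a _ _
  refine ⟨m, T, ?_, fun u v => ?_⟩
  · have := T.finrank_eq
    rw [Module.finrank_fin_fun, Module.finrank_fintype_fun_eq_card, Fintype.card_sum, Fintype.card_fin] at this
    omega
  · have key : (toB hf).compl₁₂ T.toLinearMap T.toLinearMap = Cfsg.Agent.Lib.Geometry.sympBilin m F := by
      refine LinearMap.BilinForm.ext_basis (Pi.basisFun F (Fin m ⊕ Fin m)) fun a c => ?_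
      rw [LinearMap.compl₁₂_apply, LinearEquiv.coe_coe, hT, hT, Cfsg.Agent.Lib.Geometry.sympBilin_apply,
        Cfsg.Agent.Lib.Geometry.sympForm_eq_sum]
      rcases a with i | i <;> rcases c with j | j
      · simp [e, Pi.single_apply, h3]
      · have h : toB hf (b (Sum.inl (Sum.inr i))) (b (Sum.inl (Sum.inl j))) =
            - toB hf (b (Sum.inl (Sum.inl j))) (b (Sum.inl (Sum.inr i))) := hf.skew _ _
        simp [e, Pi.single_apply, h, h1, eq_comm]
      · simp [e, Pi.single_apply, h1, eq_comm]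
      · simp [e, Pi.single_apply, h2]
    have := LinearMap.congr_fun (LinearMap.congr_fun key u) v
    rw [Cfsg.Agent.Lib.Geometry.sympBilin_apply] at this
    exact this

theorem prod_split (q : ℕ) : ∀ m : ℕ,
    ∏ i ∈ Finset.range (2 * (m + 1) - 1), (q ^ (i + 2) - 1) =
      (∏ i ∈ Finset.range (m + 1), (q ^ (2 * (i + 1)) - 1)) * ∏ i ∈ Finset.range m, (q ^ (2 * i + 3) - 1)
  | 0 => by simp
  | m + 1 => by
    rw [show 2 * (m + 1 + 1) - 1 = 2 * (m + 1) - 1 + 1 + 1 by omega, Finset.prod_range_succ, Finset.prod_range_succ,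
      prod_split q m, Finset.prod_range_succ _ (m + 1), Finset.prod_range_succ _ m]
    rw [show 2 * (m + 1) - 1 + 1 + 2 = 2 * (m + 1 + 1) by omega, show 2 * (m + 1) - 1 + 2 = 2 * m + 3 by omega,
      show Finset.range (m + 1) = Finset.range m.succ from rfl, Finset.prod_range_succ]
    ring

variable [Fintype F] {p : ℕ} [Fact p.Prime] [CharP F p]

/-- An odd prime other than the characteristic dividing the index has odd order bounded by the dimension. -/
theorem order_odd_of_dvd_index {f : (Fin n → F) → (Fin n → F) → F} (hf : Cfsg.Geo.IsSymplecticForm f)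
    (r : ℕ) [Fact r.Prime] (hr2 : r ≠ 2) (hrp : r ≠ p)
    (hΩ : r ∣ ((Cfsg.Geo.similarityGroup f).comap (Matrix.SpecialLinearGroup.toGL :
      Matrix.SpecialLinearGroup (Fin n) F →* GL (Fin n) F)).index) :
    Odd (orderOf (Fintype.card F : ZMod r)) ∧ orderOf (Fintype.card F : ZMod r) ≤ n := by
  classical
  have hr : r.Prime := Fact.out
  set q := Fintype.card F with hq
  set H := (Cfsg.Geo.similarityGroup f).comap (Matrix.SpecialLinearGroup.toGL :
      Matrix.SpecialLinearGroup (Fin n) F →* GL (Fin n) F) with hH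
  obtain ⟨m, T, hn, hT⟩ := exists_frame hf
  let c : Matrix (Fin m ⊕ Fin m) (Fin m ⊕ Fin m) F →* Matrix (Fin n) (Fin n) F :=
    { toFun := fun A => LinearMap.toMatrix' (T.conj (Matrix.toLin' A))
      map_one' := by simp
      map_mul' := fun A B => by rw [Matrix.toLin'_mul, LinearEquiv.conj_comp, LinearMap.toMatrix'_comp] }
  have hcdet : ∀ A, (c A).det = A.det := fun A => by
    show (LinearMap.toMatrix' (T.conj (Matrix.toLin' A))).det = _
    rw [LinearMap.det_toMatrix', LinearEquiv.conj_apply, LinearMap.comp_assoc, LinearMap.det_conj, LinearMap.det_toLin']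
  let φ : Matrix.symplecticGroup (Fin m) F →* F := Matrix.detMonoidHom.comp (Submonoid.subtype _)
  let φu : Matrix.symplecticGroup (Fin m) F →* Fˣ := φ.toHomUnits
  have hφ : ∀ A : Matrix.symplecticGroup (Fin m) F, (φu A : F) = A.1.det := fun A => rfl
  let ψ : φu.ker →* H :=
    { toFun := fun A => ⟨⟨c A.1.1, by
          rw [hcdet, ← hφ, (MonoidHom.mem_ker.1 A.2), Units.val_one]⟩, by
        refine ⟨1, fun u v => ?_⟩
        show f ((c A.1.1) *ᵥ u) ((c A.1.1) *ᵥ v) = _
        obtain ⟨u, rfl⟩ := T.surjective u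
        obtain ⟨v, rfl⟩ := T.surjective v
        have hc : ∀ w, c A.1.1 *ᵥ T w = T (A.1.1 *ᵥ w) := fun w => by
          show LinearMap.toMatrix' (T.conj (Matrix.toLin' A.1.1)) *ᵥ T w = _
          rw [← Matrix.toLin'_apply, Matrix.toLin'_toMatrix', LinearEquiv.conj_apply]
          simp
        rw [hc, hc, hT, hT, Units.val_one, one_mul,
          (Cfsg.Agent.Lib.Geometry.mem_symplecticGroup_iff_form.1 A.1.2) u v]⟩
      map_one' := Subtype.ext (Subtype.ext (map_one c))
      map_mul' := fun A B => Subtype.ext (Subtype.ext (map_mul c A.1.1 B.1.1)) }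
  have hψ : Function.Injective ψ := by
    intro A B h
    have h1 : c A.1.1 = c B.1.1 := congrArg (fun x : H => (x.1 : Matrix (Fin n) (Fin n) F)) h
    exact Subtype.ext (Subtype.ext (Matrix.toLin'.injective (T.conj.injective (LinearMap.toMatrix'.injective h1))))
  have h1 : Nat.card φu.ker ∣ Nat.card H := by
    rw [Nat.card_congr (MonoidHom.ofInjective hψ).toEquiv]
    exact Subgroup.card_subgroup_dvd_card _
  have h2 : Nat.card φu.range ∣ 2 := by
    have hle : φu.range ≤ rootsOfUnity 2 F := by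
      rintro _ ⟨A, rfl⟩
      rw [mem_rootsOfUnity]
      apply Units.ext
      have h := congrArg Matrix.det (SymplecticGroup.mem_iff'.1 A.2)
      rw [Matrix.det_mul, Matrix.det_mul, Matrix.det_transpose] at h
      have hJ : (Matrix.J (Fin m) F).det ≠ 0 := (Matrix.isUnit_det_J (Fin m) F).ne_zero
      rw [Units.val_pow_eq_pow_val, hφ, Units.val_one, pow_two]
      exact mul_right_cancel₀ hJ (by rw [one_mul]; linear_combination h)
    have hcard : Nat.card (rootsOfUnity 2 F) ≤ 2 := card_rootsOfUnity F 2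
    have h3 : Nat.card φu.range ≤ 2 := (Subgroup.card_le_of_le hle).trans hcard
    have h4 : 0 < Nat.card φu.range := Nat.card_pos
    interval_cases Nat.card φu.range <;> norm_num
  have hsp : Nat.card (Matrix.symplecticGroup (Fin m) F) ∣ 2 * Nat.card H := by
    rw [← Subgroup.card_mul_index φu.ker, Subgroup.index_ker, mul_comm]
    exact Nat.mul_dvd_mul h2 h1
  have hrdvd : r * Nat.card (Matrix.symplecticGroup (Fin m) F) ∣ 2 * Nat.card (Matrix.SpecialLinearGroup (Fin n) F) := by
    rw [← H.card_mul_index, ← mul_assoc, mul_comm r]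
    exact Nat.mul_dvd_mul hsp hΩ
  rw [Cfsg.Agent.Lib.Classical.card_sp, Cfsg.Agent.Lib.Classical.card_SL_formula] at hrdvd
  obtain ⟨⟨e, he⟩, -, hcard⟩ := FiniteField.card F p
  have hq2 : 1 < q := Fintype.one_lt_card
  rcases m with _ | m
  · simp [hn] at hrdvd
    exact absurd ((Nat.prime_dvd_prime_iff_eq hr Nat.prime_two).1 hrdvd) hr2
  rw [hn, prod_split] at hrdvd
  have hPpos : 0 < ∏ i ∈ Finset.range (m + 1), (q ^ (2 * (i + 1)) - 1) :=
    Finset.prod_pos fun i _ => Nat.sub_pos_of_lt (Nat.one_lt_pow (by omega) hq2)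
  have h5 : r * q ^ ((m + 1) ^ 2) ∣ 2 * q ^ (2 * (m + 1) * (2 * (m + 1) - 1) / 2) * ∏ i ∈ Finset.range m, (q ^ (2 * i + 3) - 1) := by
    refine Nat.dvd_of_mul_dvd_mul_right hPpos ?_
    convert hrdvd using 1 <;> ring
  have h6 := (dvd_mul_right r _).trans h5
  rcases (Nat.Prime.dvd_mul hr).1 h6 with h7 | h7
  · exfalso
    rcases (Nat.Prime.dvd_mul hr).1 h7 with h8 | h8
    · exact hr2 ((Nat.prime_dvd_prime_iff_eq hr Nat.prime_two).1 h8)
    · have h9 := hr.dvd_of_dvd_pow h8
      rw [hq, hcard] at h9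
      exact hrp ((Nat.prime_dvd_prime_iff_eq hr Fact.out).1 (hr.dvd_of_dvd_pow h9))
  · obtain ⟨j, hj, hd⟩ := (Prime.dvd_finsetProd_iff (Nat.prime_iff.1 hr) _).1 h7
    rw [Finset.mem_range] at hj
    have h8 : ((q ^ (2 * j + 3) - 1 : ℕ) : ZMod r) = 0 := (ZMod.natCast_eq_zero_iff _ _).2 hd
    rw [Nat.cast_sub (Nat.one_le_pow _ _ (by omega)), Nat.cast_pow, Nat.cast_one, sub_eq_zero] at h8
    have h9 := orderOf_dvd_of_pow_eq_one h8
    refine ⟨?_, (Nat.le_of_dvd (by omega) h9).trans (by omega)⟩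
    exact Odd.of_dvd_nat ⟨j + 1, by ring⟩ h9

end Cfsg.Agent.Lib.MaxSub.SympSimilarity
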