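import Cfsg.Prelude.Def_GeometricClasses
import Cfsg.Agent.Lib.Classical.Eichler
import Cfsg.Agent.Lib.Geometry.OrthBridge
import Cfsg.Agent.Lib.Geometry.OrthTransfer

/-!
Eichler transformations as matrices, root centres in subgroups of `GL`, and the criterion for a subgroup to
contain `omegaGL`, in any characteristic.
-/

set_option autoImplicit false

namespace Cfsg.Agent.Lib.MaxSub.Orth

open Matrix QuadraticMap
open Cfsg.Agent.Lib.Geometry (quadIsometries isometryEquiv isometryEquiv_apply quad_add quad_sub quad_smul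
  quad_polar_self quad_polar_comm)
open Cfsg.Agent.Lib.Classical (eich eich_apply eich_conj eichLin eichLin_apply)
open scoped MatrixGroups Matrix

attribute [-simp] QuadraticMap.polarBilin_apply_apply

variable {ι : Type} [Fintype ι] [DecidableEq ι] {F : Type*} [Field F]

/-- A function satisfying `IsNondegenerateQuadraticForm` as a `QuadraticForm`. -/
theorem exists_quadraticForm {f : (ι → F) → F} (h : Cfsg.Geo.IsNondegenerateQuadraticForm f) :
    ∃ Q : QuadraticForm F (ι → F), f = ⇑Q ∧ (polarBilin Q).Nondegenerate := by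
  obtain ⟨hs, ⟨hal, hsl, har, hsr⟩, hnd⟩ := h
  refine ⟨QuadraticMap.ofPolar f (fun a x => by rw [hs, smul_eq_mul, pow_two]) hal hsl, rfl, ?_, ?_⟩
  · intro x hx
    by_contra hx0
    obtain ⟨y, hy⟩ := (hnd x hx0).2
    exact hy (hx y)
  · intro x hx
    by_contra hx0
    obtain ⟨y, hy⟩ := (hnd x hx0).1
    exact hy (hx y)

variable (Q : QuadraticForm F (ι → F))

/-- An isometry as an element of `GL`. -/
noncomputable def toGL : quadIsometries Q →* GL ι F :=
  (Cfsg.isometryGroup F ⇑Q).subtype.comp (isometryEquiv Q).symm.toMonoidHom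

theorem toGL_mulVec (g : quadIsometries Q) (x : ι → F) :
    (toGL Q g : Matrix ι ι F) *ᵥ x = (g : (ι → F) ≃ₗ[F] (ι → F)) x := by
  conv_rhs => rw [← (isometryEquiv Q).apply_symm_apply g, isometryEquiv_apply]
  rfl

theorem toGL_mem_isometry (g : quadIsometries Q) : toGL Q g ∈ Cfsg.isometryGroup F ⇑Q :=
  ((isometryEquiv Q).symm g).2

/-- The Eichler transformation of a singular vector `u` and an `x` orthogonal to it, as a matrix. -/
noncomputable def eichGL (u x : ι → F) (hu : Q u = 0) (hx : polarBilin Q u x = 0) : GL ι F :=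
  toGL Q (eich Q u x hu hx)

theorem eichGL_mulVec {u x : ι → F} (hu : Q u = 0) (hx : polarBilin Q u x = 0) (y : ι → F) :
    (eichGL Q u x hu hx : Matrix ι ι F) *ᵥ y =
      y + polarBilin Q y u • x - (polarBilin Q y x + Q x * polarBilin Q y u) • u := by
  rw [eichGL, toGL_mulVec, eich_apply]

theorem polar_symm (x y : ι → F) (h : polarBilin Q x y = 0) : polarBilin Q y x = 0 := by
  rw [quad_polar_comm, h]

theorem polar_self_of_sing {u : ι → F} (hu : Q u = 0) : polarBilin Q u u = 0 := by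
  rw [quad_polar_self, hu, mul_zero]

variable {Q}

theorem iso_quad {g : GL ι F} (hg : g ∈ Cfsg.isometryGroup F ⇑Q) (x : ι → F) :
    Q ((g : Matrix ι ι F) *ᵥ x) = Q x := hg x x

theorem iso_polar {g : GL ι F} (hg : g ∈ Cfsg.isometryGroup F ⇑Q) (x y : ι → F) :
    polarBilin Q ((g : Matrix ι ι F) *ᵥ x) ((g : Matrix ι ι F) *ᵥ y) = polarBilin Q x y := by
  simp only [polarBilin_apply_apply, polar, ← Matrix.mulVec_add, iso_quad hg]

theorem omegaGL_le_isometry : Cfsg.Geo.omegaGL ⇑Q ≤ Cfsg.isometryGroup F ⇑Q := by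
  rintro _ ⟨g, -, rfl⟩
  exact g.2

theorem conj_eichGL {g : GL ι F} (hg : g ∈ Cfsg.isometryGroup F ⇑Q) {u x : ι → F} (hu : Q u = 0)
    (hx : polarBilin Q u x = 0) :
    g * eichGL Q u x hu hx * g⁻¹ = eichGL Q ((g : Matrix ι ι F) *ᵥ u) ((g : Matrix ι ι F) *ᵥ x)
      (by rw [iso_quad hg, hu]) (by rw [iso_polar hg, hx]) := by
  refine Units.ext (Matrix.ext_of_mulVec_single fun j => ?_)
  rw [Units.val_mul, Units.val_mul, ← Matrix.mulVec_mulVec, ← Matrix.mulVec_mulVec]
  obtain ⟨z, hz⟩ : ∃ z, (g : Matrix ι ι F) *ᵥ z = Pi.single j 1 :=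
    ⟨((g⁻¹ : GL ι F) : Matrix ι ι F) *ᵥ Pi.single j 1, by
      rw [Matrix.mulVec_mulVec, ← Units.val_mul, mul_inv_cancel, Units.val_one, Matrix.one_mulVec]⟩
  rw [← hz, Matrix.mulVec_mulVec z, ← Units.val_mul, inv_mul_cancel, Units.val_one, Matrix.one_mulVec,
    eichGL_mulVec, eichGL_mulVec, iso_polar hg, iso_polar hg, iso_quad hg, Matrix.mulVec_sub, Matrix.mulVec_add,
    Matrix.mulVec_smul, Matrix.mulVec_smul]

variable (hN : (polarBilin Q).Nondegenerate)

include hN in
/-- The orthogonal of the orthogonal is the space. -/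
theorem exists_dual (W : Submodule F (ι → F)) {x : ι → F} (hx : x ∉ W) :
    ∃ z, (∀ w ∈ W, polarBilin Q z w = 0) ∧ polarBilin Q z x = 1 := by
  by_contra h
  push Not at h
  have hle : LinearMap.BilinForm.orthogonal (polarBilin Q) W ≤ LinearMap.ker (polarBilin Q x) := by
    intro z hz
    show polarBilin Q x z = 0
    by_contra hne
    refine h ((polarBilin Q z x)⁻¹ • z) (fun w hw => ?_) ?_
    · rw [map_smul, LinearMap.smul_apply, quad_polar_comm Q z w, hz w hw, smul_zero]
    · rw [map_smul, LinearMap.smul_apply, smul_eq_mul, inv_mul_cancel₀]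
      rw [quad_polar_comm]; exact hne
  refine hx ?_
  rw [← LinearMap.BilinForm.orthogonal_orthogonal (B := polarBilin Q) hN
    (fun a b hab => polar_symm Q a b hab) W]
  intro z hz
  show polarBilin Q z x = 0
  rw [quad_polar_comm]
  exact hle hz

include hN in
/-- A singular partner inside a subspace. -/
theorem exists_partner {w : ι → F} (hw : Q w = 0) {W : Submodule F (ι → F)} (hwW : w ∈ W) {z : ι → F} (hz : z ∈ W)
    (hwz : polarBilin Q w z ≠ 0) : ∃ a ∈ W, Q a = 0 ∧ polarBilin Q w a = 1 := by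
  set z' := (polarBilin Q w z)⁻¹ • z with hz'
  have h1 : polarBilin Q w z' = 1 := by rw [hz', map_smul, smul_eq_mul, inv_mul_cancel₀ hwz]
  have hz'W : z' ∈ W := W.smul_mem _ hz
  clear_value z'
  clear hz'
  refine ⟨z' - Q z' • w, W.sub_mem hz'W (W.smul_mem _ hwW), ?_, ?_⟩
  · rw [quad_sub, quad_smul, hw, map_smul, quad_polar_comm Q z' w, h1, smul_eq_mul]; ring
  · rw [map_sub, map_smul, polar_self_of_sing Q hw, h1, smul_zero, sub_zero]

include hN in
/-- A totally singular subspace has dimension at most half. -/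
theorem finrank_sing_le {U : Submodule F (ι → F)} (hU : ∀ u ∈ U, Q u = 0) :
    2 * Module.finrank F U ≤ Fintype.card ι := by
  have hle : U ≤ LinearMap.BilinForm.orthogonal (polarBilin Q) U := fun x hx y hy => by
    show polarBilin Q y x = 0
    have := hU (y + x) (U.add_mem hy hx)
    rwa [quad_add, hU y hy, hU x hx, zero_add, zero_add] at this
  have h1 := Submodule.finrank_mono hle
  rw [LinearMap.BilinForm.finrank_orthogonal hN, Module.finrank_fintype_fun_eq_card] at h1
  omega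

/-- Singular vectors exist in every subspace of dimension at least three. -/
theorem exists_singular [Finite F] (W : Submodule F (ι → F)) (hW : 3 ≤ Module.finrank F W) :
    ∃ u ∈ W, u ≠ 0 ∧ Q u = 0 := by
  haveI : Fintype F := Fintype.ofFinite F
  by_contra hno
  push Not at hno
  have hne : ∀ u ∈ W, u ≠ 0 → Q u ≠ 0 := hno
  -- a non-zero vector orthogonal to up to two others
  have key : ∀ x y : ι → F, ∀ S : Submodule F (ι → F), Module.finrank F S + 2 < Module.finrank F W + 1 →
      ∃ z ∈ W, polarBilin Q x z = 0 ∧ polarBilin Q y z = 0 ∧ (z ∉ S ∨ Module.finrank F S ≠ 0) ∧ z ≠ 0 := by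
    intro x y S hS
    let φ := ((polarBilin Q x).prod (polarBilin Q y)).domRestrict W
    have h1 := φ.finrank_range_add_finrank_ker
    have h2 : Module.finrank F (LinearMap.range φ) ≤ 2 := (Submodule.finrank_le _).trans (by simp)
    obtain ⟨z, hz, hz0⟩ := (Submodule.ne_bot_iff _).mp (fun hb => by rw [hb, finrank_bot] at h1; omega :
      LinearMap.ker φ ≠ ⊥)
    have hk := LinearMap.mem_ker.mp hz
    simp only [φ, LinearMap.domRestrict_apply, LinearMap.prod_apply, Function.prod_apply, Prod.mk_eq_zero] at hk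
    refine ⟨z, z.2, hk.1, hk.2, ?_, fun h => hz0 (Subtype.ext h)⟩
    rcases Nat.eq_zero_or_pos (Module.finrank F S) with h | h
    · left; intro hzS
      rw [Submodule.finrank_eq_zero.mp h, Submodule.mem_bot] at hzS
      exact hz0 (Subtype.ext hzS)
    · right; omega
  obtain ⟨x, hxW, hx0⟩ := (Submodule.ne_bot_iff W).mp (fun hb => by rw [hb, finrank_bot] at hW; omega)
  by_cases h2 : (2 : F) = 0
  · haveI : CharP F 2 := CharTwo.of_one_ne_zero_of_two_eq_zero one_ne_zero h2
    obtain ⟨y, hyW, hxy, hyx⟩ : ∃ y ∈ W, polarBilin Q x y = 0 ∧ y ∉ F ∙ x := by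
      by_contra hc
      push Not at hc
      let φ := (polarBilin Q x).domRestrict W
      have h1 := φ.finrank_range_add_finrank_ker
      have h2 : Module.finrank F (LinearMap.range φ) ≤ 1 := (Submodule.finrank_le _).trans (by simp)
      have h3 : Module.finrank F (LinearMap.ker φ) ≤ Module.finrank F (F ∙ x) := by
        rw [← Submodule.finrank_map_subtype_eq]
        refine Submodule.finrank_mono ?_
        rintro _ ⟨z, hz, rfl⟩
        exact hc z z.2 (LinearMap.mem_ker.mp hz)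
      have h4 := finrank_span_le_card (R := F) ({x} : Set (ι → F))
      simp only [Set.toFinset_singleton, Finset.card_singleton] at h4
      omega
    have hy0 : y ≠ 0 := fun h => hyx (h ▸ Submodule.zero_mem _)
    obtain ⟨t, ht⟩ := isSquare_of_charTwo' (Q x / Q y)
    refine hne (x + t • y) (W.add_mem hxW (W.smul_mem _ hyW)) (fun h => hyx ?_) ?_
    · rcases eq_or_ne t 0 with rfl | ht0
      · rw [zero_smul, add_zero] at h; exact absurd h hx0
      · refine Submodule.mem_span_singleton.mpr ⟨-t⁻¹, ?_⟩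
        rw [eq_neg_of_add_eq_zero_left h, neg_smul, smul_neg, neg_neg, smul_smul, inv_mul_cancel₀ ht0, one_smul]
    · have hQy := hne y hyW hy0
      rw [quad_add, quad_smul, map_smul, hxy, smul_zero, add_zero, ← ht, div_mul_cancel₀ _ hQy]
      linear_combination (Q x) * h2
  · obtain ⟨y, hyW, hxy, -, -, hy0⟩ := key x x ⊥ (by rw [finrank_bot]; omega)
    obtain ⟨z, hzW, hxz, hyz, -, hz0⟩ := key x y ⊥ (by rw [finrank_bot]; omega)
    have hodd : Fintype.card F % 2 = 1 := FiniteField.odd_card_of_char_ne_two fun h => h2 (by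
      haveI := ringChar.of_eq h
      exact CharTwo.two_eq_zero)
    have hQx := hne x hxW hx0
    have hQy := hne y hyW hy0
    have hQz := hne z hzW hz0
    obtain ⟨s, t, hst⟩ := FiniteField.exists_root_sum_quadratic (R := F)
      (f := Polynomial.C (Q x) * Polynomial.X ^ 2 + Polynomial.C (Q z))
      (g := Polynomial.C (Q y) * Polynomial.X ^ 2)
      (by rw [Polynomial.degree_add_C (by rw [Polynomial.degree_C_mul_X_pow 2 hQx]; norm_num),
        Polynomial.degree_C_mul_X_pow 2 hQx]; rfl)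
      (by rw [Polynomial.degree_C_mul_X_pow 2 hQy]; rfl) hodd
    simp only [Polynomial.eval_add, Polynomial.eval_mul, Polynomial.eval_C, Polynomial.eval_pow, Polynomial.eval_X] at hst
    refine hne (s • x + t • y + z) (W.add_mem (W.add_mem (W.smul_mem _ hxW) (W.smul_mem _ hyW)) hzW) (fun h => ?_) ?_
    · have h' := congrArg (polarBilin Q z) h
      rw [map_add, map_add, map_smul, map_smul, polar_symm Q x z hxz, polar_symm Q y z hyz, map_zero,
        quad_polar_self] at h'
      simp only [smul_zero, zero_add] at h'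
      exact mul_ne_zero h2 hQz h'
    · rw [quad_add, quad_add, quad_smul, quad_smul]
      simp only [map_add, map_smul, LinearMap.add_apply, LinearMap.smul_apply, smul_eq_mul, hxy, hxz, hyz, mul_zero,
        add_zero]
      linear_combination hst

include hN in
/-- Three hyperbolic pairs exist in dimension at least seven. -/
theorem exists_hypThree [Finite F] (hn : 7 ≤ Fintype.card ι) :
    ∃ e f e₂ f₂ e₃ f₃, Cfsg.Agent.Lib.Classical.HypThree Q e f e₂ f₂ e₃ f₃ := by
  -- a hyperbolic pair orthogonal to given non-degenerate pairs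
  have step : ∀ P : Submodule F (ι → F), 3 ≤ Module.finrank F P → (∀ u ∈ P, u ≠ 0 → ∃ z ∈ P, polarBilin Q u z ≠ 0) →
      ∃ e ∈ P, ∃ f ∈ P, Q e = 0 ∧ Q f = 0 ∧ polarBilin Q e f = 1 := by
    intro P hP hnd
    obtain ⟨e, he, he0, hQe⟩ := exists_singular (Q := Q) P hP
    obtain ⟨z, hz, hez⟩ := hnd e he he0
    obtain ⟨a, ha, hQa, hea⟩ := exists_partner hN hQe he hz hez
    exact ⟨e, he, a, ha, hQe, hQa, hea⟩
  let perp2 : (ι → F) → (ι → F) → Submodule F (ι → F) := fun e f =>
    LinearMap.ker ((polarBilin Q e).prod (polarBilin Q f))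
  have hperp : ∀ e f z, z ∈ perp2 e f ↔ polarBilin Q e z = 0 ∧ polarBilin Q f z = 0 := fun e f z => by
    simp [perp2, LinearMap.mem_ker, Prod.ext_iff]
  have hdim : ∀ (P : Submodule F (ι → F)) (e f : ι → F),
      Module.finrank F P ≤ Module.finrank F (P ⊓ perp2 e f : Submodule F (ι → F)) + 2 := by
    intro P e f
    let φ := ((polarBilin Q e).prod (polarBilin Q f)).domRestrict P
    have h1 := φ.finrank_range_add_finrank_ker
    have h2 : Module.finrank F (LinearMap.range φ) ≤ 2 := (Submodule.finrank_le _).trans (by simp)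
    have h3 : Module.finrank F (LinearMap.ker φ) ≤ Module.finrank F (P ⊓ perp2 e f : Submodule F (ι → F)) := by
      rw [← Submodule.finrank_map_subtype_eq]
      refine Submodule.finrank_mono ?_
      rintro _ ⟨z, hz, rfl⟩
      exact ⟨z.2, hz⟩
    omega
  have hsplit : ∀ (P : Submodule F (ι → F)) (e f : ι → F), e ∈ P → f ∈ P → Q e = 0 → Q f = 0 →
      polarBilin Q e f = 1 → (∀ u ∈ P, u ≠ 0 → ∃ z ∈ P, polarBilin Q u z ≠ 0) →
      ∀ u ∈ P ⊓ perp2 e f, u ≠ 0 → ∃ z ∈ P ⊓ perp2 e f, polarBilin Q u z ≠ 0 := by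
    intro P e f he hf hQe hQf hef hnd u hu hu0
    obtain ⟨z, hz, huz⟩ := hnd u hu.1 hu0
    obtain ⟨hue, huf⟩ := (hperp e f u).mp hu.2
    refine ⟨z - polarBilin Q f z • e - polarBilin Q e z • f,
      ⟨P.sub_mem (P.sub_mem hz (P.smul_mem _ he)) (P.smul_mem _ hf), (hperp e f _).mpr ⟨?_, ?_⟩⟩, ?_⟩
    · simp [map_sub, map_smul, polar_self_of_sing Q hQe, hef]
    · simp [map_sub, map_smul, polar_self_of_sing Q hQf, quad_polar_comm Q f e, hef]
    · simp only [map_sub, map_smul, polar_symm Q e u hue, polar_symm Q f u huf, smul_zero, sub_zero]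
      exact huz
  have htop : ∀ u ∈ (⊤ : Submodule F (ι → F)), u ≠ 0 → ∃ z ∈ (⊤ : Submodule F (ι → F)), polarBilin Q u z ≠ 0 := by
    intro u _ hu0
    by_contra hc
    push Not at hc
    exact hu0 (hN.1 u fun z => hc z trivial)
  have hfr : Module.finrank F (⊤ : Submodule F (ι → F)) = Fintype.card ι := by
    rw [finrank_top, Module.finrank_fintype_fun_eq_card]
  obtain ⟨e, -, f, -, hQe, hQf, hef⟩ := step ⊤ (by omega) htop
  set P₁ : Submodule F (ι → F) := ⊤ ⊓ perp2 e f
  have h1d : Module.finrank F (⊤ : Submodule F (ι → F)) ≤ Module.finrank F P₁ + 2 := hdim ⊤ e f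
  have h1n := hsplit ⊤ e f trivial trivial hQe hQf hef htop
  obtain ⟨e₂, he₂, f₂, hf₂, hQe₂, hQf₂, hef₂⟩ := step P₁ (by omega) h1n
  set P₂ : Submodule F (ι → F) := P₁ ⊓ perp2 e₂ f₂
  have h2d : Module.finrank F P₁ ≤ Module.finrank F P₂ + 2 := hdim P₁ e₂ f₂
  have h2n := hsplit P₁ e₂ f₂ he₂ hf₂ hQe₂ hQf₂ hef₂ h1n
  obtain ⟨e₃, he₃, f₃, hf₃, hQe₃, hQf₃, hef₃⟩ := step P₂ (by omega) h2n
  obtain ⟨a1, a2⟩ := (hperp e f e₂).mp he₂.2
  obtain ⟨a3, a4⟩ := (hperp e f f₂).mp hf₂.2
  obtain ⟨b1, b2⟩ := (hperp e f e₃).mp he₃.1.2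
  obtain ⟨b3, b4⟩ := (hperp e f f₃).mp hf₃.1.2
  obtain ⟨c1, c2⟩ := (hperp e₂ f₂ e₃).mp he₃.2
  obtain ⟨c3, c4⟩ := (hperp e₂ f₂ f₃).mp hf₃.2
  exact ⟨e, f, e₂, f₂, e₃, f₃,
    ⟨trivial, trivial, trivial, trivial, hQe, hQf, hQe₂, hQf₂, hef, hef₂, a1, a3, a2, a4, htop⟩,
    ⟨trivial, trivial, trivial, trivial, hQe, hQf, hQe₃, hQf₃, hef, hef₃, b1, b3, b2, b4, htop⟩,
    ⟨trivial, trivial, trivial, trivial, hQe₂, hQf₂, hQe₃, hQf₃, hef₂, hef₃, c1, c3, c2, c4, htop⟩⟩

include hN in
/-- The Eichler elements lie in `omegaGL`. -/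
theorem eichGL_mem_omega [Finite F] (hn : 7 ≤ Fintype.card ι) {u x : ι → F} (hu : Q u = 0)
    (hx : polarBilin Q u x = 0) : eichGL Q u x hu hx ∈ Cfsg.Geo.omegaGL ⇑Q := by
  obtain ⟨e, f, e₂, f₂, e₃, f₃, h⟩ := exists_hypThree hN hn
  refine ⟨(isometryEquiv Q).symm (eich Q u x hu hx), ?_, rfl⟩
  show _ ∈ commutator (Cfsg.isometryGroup F ⇑Q)
  rw [← Cfsg.Agent.Lib.Geometry.map_commutator_of_equiv (isometryEquiv Q).symm,
    ← Cfsg.Agent.Lib.Classical.eichGroup_eq_commutator h hN
      (Or.inr (by rw [Module.finrank_fintype_fun_eq_card]; omega))]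
  exact ⟨_, Cfsg.Agent.Lib.Classical.eich_mem Q hu hx trivial trivial, rfl⟩

variable (Q) in
/-- Every Eichler element with centre `u` lies in `K`. -/
def Root (K : Subgroup (GL ι F)) (u : ι → F) : Prop :=
  ∃ hu : Q u = 0, ∀ x (hx : polarBilin Q u x = 0), eichGL Q u x hu hx ∈ K

include hN in
/-- All roots give the whole of `omegaGL`. -/
theorem omega_le [Finite F] (hn : 7 ≤ Fintype.card ι) {K : Subgroup (GL ι F)} (h : ∀ u, Q u = 0 → Root Q K u) :
    Cfsg.Geo.omegaGL ⇑Q ≤ K := by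
  obtain ⟨e, f, e₂, f₂, e₃, f₃, h3⟩ := exists_hypThree hN hn
  rintro _ ⟨g, hg, rfl⟩
  have hg' : isometryEquiv Q g ∈ Cfsg.Agent.Lib.Classical.eichGroup Q ⊤ := by
    rw [Cfsg.Agent.Lib.Classical.eichGroup_eq_commutator h3 hN
      (Or.inr (by rw [Module.finrank_fintype_fun_eq_card]; omega)),
      ← Cfsg.Agent.Lib.Geometry.map_commutator_of_equiv (isometryEquiv Q)]
    exact ⟨g, hg, rfl⟩
  have hle : Cfsg.Agent.Lib.Classical.eichGroup Q ⊤ ≤ K.comap (toGL Q) := by
    refine (Subgroup.closure_le _).mpr ?_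
    rintro _ ⟨u, x, hu, hx, -, -, rfl⟩
    obtain ⟨hu', hr⟩ := h u hu
    exact hr x hx
  have := hle hg'
  rw [Subgroup.mem_comap] at this
  simpa [toGL] using this

variable {K : Subgroup (GL ι F)}

theorem Root.smul {u : ι → F} (h : Root Q K u) {c : F} (hc : c ≠ 0) : Root Q K (c • u) := by
  obtain ⟨hu, hr⟩ := h
  refine ⟨by rw [quad_smul, hu, mul_zero], fun x hx => ?_⟩
  have hx' : polarBilin Q u (c • x) = 0 := by
    rw [map_smul, LinearMap.smul_apply, smul_eq_mul] at hx
    rw [map_smul, smul_eq_mul, hx]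
  convert hr (c • x) hx' using 1
  refine Units.ext (Matrix.ext_of_mulVec_single fun j => ?_)
  rw [eichGL_mulVec, eichGL_mulVec, map_smul, map_smul, quad_smul, smul_eq_mul, smul_eq_mul]
  module

theorem Root.conj {u : ι → F} (h : Root Q K u) {g : GL ι F} (hgK : g ∈ K) (hg : g ∈ Cfsg.isometryGroup F ⇑Q) :
    Root Q K ((g : Matrix ι ι F) *ᵥ u) := by
  obtain ⟨hu, hr⟩ := h
  refine ⟨by rw [iso_quad hg, hu], fun x hx => ?_⟩
  obtain ⟨y, rfl⟩ : ∃ y, (g : Matrix ι ι F) *ᵥ y = x :=
    ⟨((g⁻¹ : GL ι F) : Matrix ι ι F) *ᵥ x, by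
      rw [Matrix.mulVec_mulVec, ← Units.val_mul, mul_inv_cancel, Units.val_one, Matrix.one_mulVec]⟩
  have hy : polarBilin Q u y = 0 := by rwa [iso_polar hg] at hx
  rw [← conj_eichGL hg hu hy]
  exact K.mul_mem (K.mul_mem hgK (hr y hy)) (K.inv_mem hgK)

/-- A root moves any partner to any other. -/
theorem Root.partner {u v w : ι → F} (hu : Root Q K u) (hv : Root Q K v) (huv : polarBilin Q u v ≠ 0)
    (hw : Q w = 0) (huw : polarBilin Q u w ≠ 0) : Root Q K w := by
  obtain ⟨hqu, hr⟩ := hu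
  set v' := (polarBilin Q u v)⁻¹ • v with hv'
  set w' := (polarBilin Q u w)⁻¹ • w with hw'
  have hv'r : Root Q K v' := hv.smul (inv_ne_zero huv)
  have h1 : polarBilin Q u v' = 1 := by rw [hv', map_smul, smul_eq_mul, inv_mul_cancel₀ huv]
  have h2 : polarBilin Q u w' = 1 := by rw [hw', map_smul, smul_eq_mul, inv_mul_cancel₀ huw]
  have hqv : Q v' = 0 := hv'r.1
  have hqw : Q w' = 0 := by rw [hw', quad_smul, hw, mul_zero]
  have hx : polarBilin Q u (w' - v') = 0 := by rw [map_sub, h1, h2, sub_self]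
  have hmem := hr _ hx
  have him : (eichGL Q u (w' - v') hqu hx : Matrix ι ι F) *ᵥ v' = w' := by
    rw [eichGL_mulVec, quad_polar_comm Q v' u, h1, one_smul, mul_one, map_sub, polar_self_of_sing Q hqv, sub_zero,
      quad_sub, hqw, hqv, zero_add, zero_sub, quad_polar_comm Q w' v', add_neg_cancel, zero_smul, sub_zero,
      add_sub_cancel]
  have := hv'r.conj hmem (toGL_mem_isometry Q _)
  rw [him] at this
  have h3 := this.smul huw
  rwa [hw', smul_smul, mul_inv_cancel₀ huw, one_smul] at h3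

include hN in
/-- Two non-orthogonal roots give all. -/
theorem Root.all {u v : ι → F} (hu : Root Q K u) (hv : Root Q K v) (huv : polarBilin Q u v ≠ 0) :
    ∀ z, Q z = 0 → Root Q K z := by
  intro z hz
  by_cases hz0 : z = 0
  · subst hz0
    refine ⟨map_zero Q, fun x hx => ?_⟩
    rw [show eichGL Q 0 x (map_zero Q) hx = 1 from Units.ext (Matrix.ext_of_mulVec_single fun j => by
      rw [eichGL_mulVec, Units.val_one, Matrix.one_mulVec]; simp)]
    exact K.one_mem
  by_cases hzu : polarBilin Q u z = 0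
  swap
  · exact hu.partner hv huv hz hzu
  -- a singular vector non-orthogonal to both
  have hu' : Root Q K u := hu
  obtain ⟨hqu, -⟩ := hu
  by_cases hzv : polarBilin Q v z = 0
  swap
  · exact hv.partner hu' (by rwa [quad_polar_comm]) hz hzv
  set v' := (polarBilin Q u v)⁻¹ • v with hv'
  have h1 : polarBilin Q u v' = 1 := by rw [hv', map_smul, smul_eq_mul, inv_mul_cancel₀ huv]
  have hzu' : z ∉ F ∙ u := fun h => by
    obtain ⟨c, rfl⟩ := Submodule.mem_span_singleton.mp h
    rw [map_smul, smul_eq_mul, quad_polar_comm Q v u] at hzv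
    rcases mul_eq_zero.mp hzv with h | h
    · exact hz0 (by rw [h, zero_smul])
    · exact huv h
  obtain ⟨x, hxu, hxz⟩ := exists_dual hN (F ∙ u) hzu'
  have hux : polarBilin Q u x = 0 := polar_symm Q x u (hxu u (Submodule.mem_span_singleton_self u))
  have hqv : Q v' = 0 := by rw [hv', quad_smul, hv.1, mul_zero]
  have hzv' : polarBilin Q z v' = 0 := by rw [hv', map_smul, quad_polar_comm Q z v, hzv, smul_zero]
  clear_value v'
  clear hv'
  set w := v' + x - (polarBilin Q v' x + Q x) • u with hw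
  have hqw : Q w = 0 := by
    rw [hw, quad_sub, quad_add, quad_smul, hqu, hqv, map_smul, map_add, LinearMap.add_apply, quad_polar_comm Q v' u,
      h1, quad_polar_comm Q x u, hux, smul_eq_mul]
    ring
  have huw : polarBilin Q u w = 1 := by
    rw [hw, map_sub, map_add, map_smul, h1, hux, polar_self_of_sing Q hqu, add_zero, smul_zero, sub_zero]
  have hzw : polarBilin Q z w = 1 := by
    rw [hw, map_sub, map_add, map_smul, quad_polar_comm Q z x, hxz, quad_polar_comm Q z u, hzu,
      hzv', zero_add, smul_zero, sub_zero]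
  have hwR : Root Q K w := hu'.partner hv huv hqw (by rw [huw]; exact one_ne_zero)
  exact hwR.partner hu' (by rw [quad_polar_comm, huw]; exact one_ne_zero) hz
    (by rw [quad_polar_comm, hzw]; exact one_ne_zero)

include hN in
/-- The stabiliser in `omegaGL` of a totally singular subspace is maximal, outside the submaximal exception. -/
theorem singular_stabiliser_maximal [Finite F] (hn : 7 ≤ Fintype.card ι) {W : Submodule F (ι → F)} (hW0 : W ≠ ⊥)
    (hW : ∀ w ∈ W, Q w = 0)
    (hdim : ∀ U U' : Submodule F (ι → F), (∀ u ∈ U, Q u = 0) → (∀ u ∈ U', Q u = 0) →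
      Fintype.card ι ≤ Module.finrank F U + Module.finrank F W + 1 →
      Module.finrank F U' = Module.finrank F W + 1 → False) :
    Cfsg.Geo.IsMaximalIn (Cfsg.Geo.omegaGL ⇑Q)
      (Cfsg.Geo.subspaceStabilizer W ⊓ Cfsg.Geo.omegaGL ⇑Q) := by
  have hWW : ∀ w ∈ W, ∀ w' ∈ W, polarBilin Q w w' = 0 := fun w hw w' hw' => by
    have := hW (w + w') (W.add_mem hw hw')
    rwa [quad_add, hW w hw, hW w' hw', zero_add, zero_add] at this
  have hfix : ∀ u x (hu : Q u = 0) (hx : polarBilin Q u x = 0),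
      (u ∈ W ∨ (∀ y ∈ W, polarBilin Q y x = 0)) → (∀ y ∈ W, polarBilin Q y u = 0) →
      eichGL Q u x hu hx ∈ Cfsg.Geo.subspaceStabilizer W ⊓ Cfsg.Geo.omegaGL ⇑Q := by
    intro u x hu hx hux huW
    have hmap : ∀ (u x : ι → F) (hu : Q u = 0) (hx : polarBilin Q u x = 0),
        (u ∈ W ∨ (∀ y ∈ W, polarBilin Q y x = 0)) → (∀ y ∈ W, polarBilin Q y u = 0) → ∀ y ∈ W,
        (eichGL Q u x hu hx : Matrix ι ι F) *ᵥ y ∈ W := by
      intro u x hu hx hux huW y hy
      rw [eichGL_mulVec, huW y hy, zero_smul, add_zero, mul_zero, add_zero]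
      rcases hux with h | h
      · exact W.sub_mem hy (W.smul_mem _ h)
      · rw [h y hy, zero_smul, sub_zero]; exact hy
    refine ⟨fun y => ⟨fun hy => hmap u x hu hx hux huW y hy, fun hy => ?_⟩, eichGL_mem_omega hN hn hu hx⟩
    have hx' : polarBilin Q u (-x) = 0 := by rw [map_neg, hx, neg_zero]
    have := hmap u (-x) hu hx' (hux.imp_right fun h z hz => by rw [map_neg, h z hz, neg_zero]) huW _ hy
    change ((eichGL Q u (-x) hu hx' : GL ι F) : Matrix ι ι F) *ᵥ ((eichGL Q u x hu hx : GL ι F) : Matrix ι ι F) *ᵥ y ∈ W at this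
    rwa [Matrix.mulVec_mulVec, ← Units.val_mul, show eichGL Q u (-x) hu hx' = (eichGL Q u x hu hx)⁻¹ by
      rw [eichGL, eichGL, ← map_inv, Cfsg.Agent.Lib.Classical.eich_inv], inv_mul_cancel, Units.val_one,
      Matrix.one_mulVec] at this
  obtain ⟨w₀, hw₀, hw₀0⟩ := (Submodule.ne_bot_iff W).mp hW0
  refine ⟨lt_of_le_of_ne inf_le_right ?_, ?_⟩
  · intro h
    obtain ⟨z, -, hz⟩ := exists_dual hN ⊥ (x := w₀) (by simpa using hw₀0)
    obtain ⟨a, -, hQa, hwa⟩ := exists_partner hN (hW w₀ hw₀) (W := ⊤) trivial (z := z) trivial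
      (by rw [quad_polar_comm, hz]; exact one_ne_zero)
    -- a non-singular vector orthogonal to the pair
    obtain ⟨x, hwx, hax, hQx⟩ : ∃ x, polarBilin Q w₀ x = 0 ∧ polarBilin Q a x = 0 ∧ Q x ≠ 0 := by
      by_contra hc
      push Not at hc
      let φ := (polarBilin Q w₀).prod (polarBilin Q a)
      have h1 := φ.finrank_range_add_finrank_ker
      have h2 : Module.finrank F (LinearMap.range φ) ≤ 2 := (Submodule.finrank_le _).trans (by simp)
      have h3 := finrank_sing_le hN (U := LinearMap.ker φ) fun u hu => by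
        simp only [φ, LinearMap.mem_ker, LinearMap.prod_apply, Function.prod_apply, Prod.mk_eq_zero] at hu
        exact hc u hu.1 hu.2
      rw [Module.finrank_fintype_fun_eq_card] at h1
      omega
    have hmem : eichGL Q a x hQa hax ∈ Cfsg.Geo.subspaceStabilizer W ⊓ Cfsg.Geo.omegaGL ⇑Q := by
      rw [h]; exact eichGL_mem_omega hN hn hQa hax
    have h1 : (eichGL Q a x hQa hax : Matrix ι ι F) *ᵥ w₀ ∈ W := (hmem.1 w₀).mp hw₀
    rw [eichGL_mulVec, hwa, one_smul, hwx, zero_add, mul_one, add_sub_assoc] at h1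
    have h2 := hW _ ((Submodule.add_mem_iff_right _ hw₀).mp h1)
    rw [quad_sub, quad_smul, hQa, map_smul, quad_polar_comm Q x a, hax, smul_zero, mul_zero, add_zero, sub_zero] at h2
    exact hQx h2
  intro M hle hMS
  by_cases hN' : M ≤ Cfsg.Geo.subspaceStabilizer W
  · exact Or.inl (le_antisymm (le_inf hN' hMS) hle)
  right
  refine le_antisymm hMS (omega_le hN hn ?_)
  obtain ⟨g, hgM, hg⟩ := SetLike.not_le_iff_exists.mp hN'
  have hgi := omegaGL_le_isometry (hMS hgM)
  have hroot : ∀ w ∈ W, Root Q M w := fun w hw =>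
    ⟨hW w hw, fun x hx => hle (hfix w x (hW w hw) hx (Or.inl hw) fun y hy => hWW y hy w hw)⟩
  obtain ⟨w₁, hw₁, hw₁'⟩ : ∃ w ∈ W, (g : Matrix ι ι F) *ᵥ w ∉ W := by
    by_contra hc
    push Not at hc
    have hinj : Function.Injective fun w : W => (⟨(g : Matrix ι ι F) *ᵥ w.1, hc w.1 w.2⟩ : W) := by
      intro x y hxy
      have := congrArg (fun z : W => ((g⁻¹ : GL ι F) : Matrix ι ι F) *ᵥ z.1) hxy
      simpa [Matrix.mulVec_mulVec, ← Units.val_mul] using this
    refine hg fun v => ⟨fun hv => hc v hv, fun hv => ?_⟩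
    obtain ⟨⟨w, hw⟩, hwe⟩ := (Finite.injective_iff_surjective.mp hinj) ⟨_, hv⟩
    have h2 := congrArg (fun z : W => ((g⁻¹ : GL ι F) : Matrix ι ι F) *ᵥ z.1) hwe
    simp [Matrix.mulVec_mulVec, ← Units.val_mul] at h2
    exact h2 ▸ hw
  set w' := (g : Matrix ι ι F) *ᵥ w₁ with hw'
  have hw'R : Root Q M w' := (hroot w₁ hw₁).conj hgM hgi
  by_cases hall : ∀ w ∈ W, polarBilin Q w' w = 0
  swap
  · push Not at hall
    obtain ⟨w, hw, hne⟩ := hall
    exact hw'R.all hN (hroot w hw) hne
  -- inside the perpendicular space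
  let Wp := LinearMap.BilinForm.orthogonal (polarBilin Q) W
  have hmemWp : ∀ z, z ∈ Wp ↔ ∀ y ∈ W, polarBilin Q y z = 0 := fun z => Iff.rfl
  have hw'p : w' ∈ Wp := (hmemWp _).mpr fun y hy => polar_symm Q _ _ (hall y hy)
  obtain ⟨z, hzW, hzw⟩ := exists_dual hN W hw₁'
  obtain ⟨a, ha, hQa, hwa⟩ := exists_partner hN hw'R.1 hw'p
    (show z ∈ Wp from (hmemWp _).mpr fun y hy => polar_symm Q _ _ (hzW y hy))
    (by rw [quad_polar_comm, hzw]; exact one_ne_zero)
  obtain ⟨x, hx, hax, hQx⟩ : ∃ x ∈ Wp, polarBilin Q a x = 0 ∧ Q x ≠ 0 := by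
    by_contra hc
    push Not at hc
    let φ := (polarBilin Q a).domRestrict Wp
    have h1 := φ.finrank_range_add_finrank_ker
    have h2 : Module.finrank F (LinearMap.range φ) ≤ 1 := (Submodule.finrank_le _).trans (by simp)
    have h3 : Module.finrank F Wp = Fintype.card ι - Module.finrank F W := by
      rw [LinearMap.BilinForm.finrank_orthogonal hN, Module.finrank_fintype_fun_eq_card]
    have h4 : Module.finrank F W ≤ Fintype.card ι := by
      rw [← Module.finrank_fintype_fun_eq_card F]; exact Submodule.finrank_le W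
    refine hdim ((LinearMap.ker φ).map Wp.subtype) (W ⊔ F ∙ w') ?_ ?_ ?_ ?_
    · rintro _ ⟨u, hu, rfl⟩
      exact hc _ u.2 (LinearMap.mem_ker.mp hu)
    · intro u hu
      obtain ⟨p, hp, q, hq, rfl⟩ := Submodule.mem_sup.mp hu
      obtain ⟨c, rfl⟩ := Submodule.mem_span_singleton.mp hq
      rw [quad_add, quad_smul, hW p hp, hw'R.1, map_smul, polar_symm Q _ _ (hall p hp), smul_zero]
      ring
    · rw [Submodule.finrank_map_subtype_eq]; omega
    · have h5 : W ⊓ F ∙ w' = ⊥ := (Submodule.eq_bot_iff _).mpr fun u hu => by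
        obtain ⟨c, hc'⟩ := Submodule.mem_span_singleton.mp hu.2
        rcases eq_or_ne c 0 with rfl | hc0
        · rw [← hc', zero_smul]
        · refine absurd ?_ hw₁'
          have h6 : c • w' ∈ W := hc' ▸ hu.1
          exact (Submodule.smul_mem_iff _ hc0).mp h6
      have h7 := Submodule.finrank_sup_add_finrank_inf_eq W (F ∙ w')
      rw [h5, finrank_bot, finrank_span_singleton (fun h => hw₁' (by rw [h]; exact W.zero_mem))] at h7
      omega
  have hmem := hle (hfix a x hQa hax (Or.inr ((hmemWp x).mp hx)) ((hmemWp a).mp ha))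
  have h2R := hw'R.conj hmem (toGL_mem_isometry Q _)
  refine hw'R.all hN h2R ?_
  rw [eichGL_mulVec, hwa, one_smul, map_sub, map_add, polar_self_of_sing Q hw'R.1, map_smul, hwa, smul_eq_mul,
    mul_one, mul_one, zero_add, sub_add_cancel_left]
  exact neg_ne_zero.mpr hQx

end Cfsg.Agent.Lib.MaxSub.Orth
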