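import Cfsg.Agent.Lib.MaxSub.Transvec

/-!
Vectors rational with respect to a subfield and a change of basis, and membership in `subfieldSubgroup`.
-/

set_option autoImplicit false

namespace Cfsg.Agent.Lib.MaxSub

open Matrix
open scoped MatrixGroups Matrix

variable {ι : Type} [Fintype ι] [DecidableEq ι] {F : Type*} [Field F] (F₀ : Subfield F) (P : GL ι F)

/-- The vectors with coordinates in `F₀` with respect to the columns of `P`. -/
def RatVec (x : ι → F) : Prop :=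
  ∀ i, (((P⁻¹ : GL ι F) : Matrix ι ι F) *ᵥ x) i ∈ F₀

theorem RatVec.zero : RatVec F₀ P (0 : ι → F) := fun i => by simp [Matrix.mulVec_zero]

variable {F₀ P}

theorem RatVec.add {x y : ι → F} (hx : RatVec F₀ P x) (hy : RatVec F₀ P y) : RatVec F₀ P (x + y) := fun i => by
  rw [Matrix.mulVec_add]; exact F₀.add_mem (hx i) (hy i)

theorem RatVec.sub {x y : ι → F} (hx : RatVec F₀ P x) (hy : RatVec F₀ P y) : RatVec F₀ P (x - y) := fun i => by
  rw [Matrix.mulVec_sub]; exact F₀.sub_mem (hx i) (hy i)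

theorem RatVec.smul {c : F} (hc : c ∈ F₀) {x : ι → F} (hx : RatVec F₀ P x) : RatVec F₀ P (c • x) := fun i => by
  rw [Matrix.mulVec_smul]; exact F₀.mul_mem hc (hx i)

theorem ratVec_mulVec (u : ι → F) : RatVec F₀ P ((P : Matrix ι ι F) *ᵥ u) ↔ ∀ i, u i ∈ F₀ := by
  simp only [RatVec, Matrix.mulVec_mulVec, ← Units.val_mul, inv_mul_cancel, Units.val_one, Matrix.one_mulVec]

theorem RatVec.eq_mulVec {x : ι → F} (hx : RatVec F₀ P x) :
    ∃ u : ι → F, (∀ i, u i ∈ F₀) ∧ x = (P : Matrix ι ι F) *ᵥ u :=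
  ⟨_, hx, by rw [Matrix.mulVec_mulVec, ← Units.val_mul, mul_inv_cancel, Units.val_one, Matrix.one_mulVec]⟩

/-- A rational vector that is a multiple of a non-zero rational vector is a rational multiple. -/
theorem RatVec.coeff_mem {c : F} {x : ι → F} (hx : RatVec F₀ P x) (hx0 : x ≠ 0) (hcx : RatVec F₀ P (c • x)) :
    c ∈ F₀ := by
  obtain ⟨u, hu, rfl⟩ := hx.eq_mulVec
  obtain ⟨i, hi⟩ : ∃ i, u i ≠ 0 := by
    by_contra h; push Not at h
    exact hx0 (by rw [show u = 0 from funext h, Matrix.mulVec_zero])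
  have h := hcx i
  rw [Matrix.mulVec_smul, Matrix.mulVec_mulVec, ← Units.val_mul, inv_mul_cancel, Units.val_one,
    Matrix.one_mulVec, Pi.smul_apply, smul_eq_mul] at h
  have := F₀.div_mem h (hu i)
  rwa [mul_div_cancel_right₀ _ hi] at this

/-- Conjugates of rational matrices and scalars. -/
theorem subfieldSubgroup_apply {g : GL ι F} (hg : g ∈ Cfsg.Geo.subfieldSubgroup F₀ P) :
    ∃ c : F, c ≠ 0 ∧ ∀ x, RatVec F₀ P x → ∃ y, RatVec F₀ P y ∧ (g : Matrix ι ι F) *ᵥ x = c • y := by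
  obtain ⟨h, hh, rfl⟩ := hg
  have hnorm : (Cfsg.Geo.scalars ι F).Normal := by
    refine ⟨?_⟩
    rintro _ ⟨u, rfl⟩ g
    refine ⟨u, ?_⟩
    rw [eq_mul_inv_iff_mul_eq]
    exact Units.ext ((Matrix.scalar_commute (u : F) (fun r => Commute.all _ r) (g : Matrix ι ι F)).eq)
  obtain ⟨_, ⟨h₀, rfl⟩, _, ⟨c, rfl⟩, rfl⟩ := (Subgroup.mem_sup_of_normal_right (ht := hnorm)).mp hh
  refine ⟨c, c.ne_zero, fun x hx => ?_⟩
  obtain ⟨u, hu, rfl⟩ := hx.eq_mulVec
  refine ⟨(P : Matrix ι ι F) *ᵥ ((h₀ : Matrix ι ι F₀).map F₀.subtype *ᵥ u), (ratVec_mulVec _).mpr fun i => ?_, ?_⟩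
  · exact sum_mem fun j _ => F₀.mul_mem (h₀.val i j).2 (hu j)
  · rw [MulEquiv.coe_toMonoidHom, MulAut.conj_apply, Units.val_mul, Units.val_mul, ← Matrix.mulVec_mulVec,
      Matrix.mulVec_mulVec u, ← Units.val_mul P⁻¹ P, inv_mul_cancel, Units.val_one, Matrix.one_mulVec,
      ← Matrix.mulVec_mulVec, Units.val_mul, ← Matrix.mulVec_mulVec, ← Matrix.mulVec_smul, ← Matrix.mulVec_smul]
    refine congrArg _ (congrArg _ ?_)
    show Matrix.scalar ι (c : F) *ᵥ u = (c : F) • u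
    rw [Matrix.scalar_apply, ← Matrix.smul_one_eq_diagonal, Matrix.smul_mulVec, Matrix.one_mulVec]

/-- A map preserving the rational vectors lies in the subfield subgroup. -/
theorem mem_subfieldSubgroup {g : GL ι F}
    (h : ∀ x, RatVec F₀ P x → RatVec F₀ P ((g : Matrix ι ι F) *ᵥ x)) :
    g ∈ Cfsg.Geo.subfieldSubgroup F₀ P := by
  set G := P⁻¹ * g * P with hG
  have hent : ∀ i j, (G : Matrix ι ι F) i j ∈ F₀ := fun i j => by
    have h1 := h _ ((ratVec_mulVec (Pi.single j 1)).mpr fun k => by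
      rw [Pi.single_apply]; split_ifs; exacts [F₀.one_mem, F₀.zero_mem]) i
    rw [Matrix.mulVec_mulVec, Matrix.mulVec_mulVec, ← Units.val_mul, ← Units.val_mul, Matrix.mulVec_single_one] at h1
    rw [hG]
    simpa [mul_assoc] using h1
  let A : Matrix ι ι F₀ := Matrix.of fun i j => ⟨(G : Matrix ι ι F) i j, hent i j⟩
  have hmap : A.map F₀.subtype = (G : Matrix ι ι F) := rfl
  have hdet : A.det ≠ 0 := by
    intro h0
    have h1 := RingHom.map_det F₀.subtype A
    rw [RingHom.mapMatrix_apply, hmap, h0, map_zero] at h1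
    exact (Matrix.isUnit_iff_isUnit_det _).mp G.isUnit |>.ne_zero h1.symm
  refine ⟨G, Subgroup.mem_sup_left ⟨Matrix.GeneralLinearGroup.mkOfDetNeZero A hdet, Units.ext hmap⟩, ?_⟩
  rw [MulEquiv.coe_toMonoidHom, MulAut.conj_apply, hG]
  group

/-- A map carrying every rational vector into a rational line lies in the subfield subgroup. -/
theorem mem_subfieldSubgroup_of_lines [Nonempty ι] {g : GL ι F}
    (h : ∀ x, RatVec F₀ P x → ∃ (c : F) (y : ι → F), RatVec F₀ P y ∧ (g : Matrix ι ι F) *ᵥ x = c • y) :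
    g ∈ Cfsg.Geo.subfieldSubgroup F₀ P := by
  classical
  let e : ι → ι → F := fun j => (P : Matrix ι ι F) *ᵥ Pi.single j 1
  have he : ∀ j, RatVec F₀ P (e j) := fun j => (ratVec_mulVec _).mpr fun k => by
    rw [Pi.single_apply]; split_ifs; exacts [F₀.one_mem, F₀.zero_mem]
  choose c y hy hgy using fun j => h _ (he j)
  have ginj : Function.Injective ((g : Matrix ι ι F).mulVec) :=
    Matrix.mulVec_injective_iff_isUnit.mpr g.isUnit
  have Pinj : Function.Injective ((P : Matrix ι ι F).mulVec) :=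
    Matrix.mulVec_injective_iff_isUnit.mpr P.isUnit
  have he0 : ∀ j, e j ≠ 0 := fun j h0 => by
    have := congrFun (Pinj (h0.trans (Matrix.mulVec_zero _).symm)) j
    simp at this
  have hc0 : ∀ j, c j ≠ 0 := fun j h0 => he0 j (ginj (by rw [hgy, h0, zero_smul, Matrix.mulVec_zero]))
  have hy0 : ∀ j, y j ≠ 0 := fun j h0 => he0 j (ginj (by rw [hgy, h0, smul_zero, Matrix.mulVec_zero]))
  obtain ⟨j₀⟩ := ‹Nonempty ι›
  have hratio : ∀ j, c j / c j₀ ∈ F₀ := by
    intro j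
    rcases eq_or_ne j j₀ with rfl | hj
    · rw [div_self (hc0 _)]; exact F₀.one_mem
    obtain ⟨μ, z, hz, hgz⟩ := h _ ((he j).add (he j₀))
    rw [Matrix.mulVec_add, hgy, hgy] at hgz
    obtain ⟨u, hu, hyu⟩ := (hy j).eq_mulVec
    obtain ⟨u₀, hu₀, hyu₀⟩ := (hy j₀).eq_mulVec
    obtain ⟨w, hw, hzw⟩ := hz.eq_mulVec
    rw [hyu, hyu₀, hzw, ← Matrix.mulVec_smul, ← Matrix.mulVec_smul, ← Matrix.mulVec_smul, ← Matrix.mulVec_add] at hgz
    have hlin := Pinj hgz
    let v : ι → F₀ := fun i => ⟨u i, hu i⟩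
    let v₀ : ι → F₀ := fun i => ⟨u₀ i, hu₀ i⟩
    have hind : ∀ a b : F₀, a • v + b • v₀ = 0 → a = 0 ∧ b = 0 := by
      intro a b hab
      have h1 : (a : F) • u + (b : F) • u₀ = 0 := funext fun i => congrArg Subtype.val (congrFun hab i)
      have h2 : ((a : F) / c j) • ((g : Matrix ι ι F) *ᵥ e j) + ((b : F) / c j₀) • ((g : Matrix ι ι F) *ᵥ e j₀) = 0 := by
        rw [hgy, hgy, smul_smul, smul_smul, div_mul_cancel₀ _ (hc0 _), div_mul_cancel₀ _ (hc0 _), hyu, hyu₀,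
          ← Matrix.mulVec_smul, ← Matrix.mulVec_smul, ← Matrix.mulVec_add, h1, Matrix.mulVec_zero]
      simp only [e, ← Matrix.mulVec_smul, ← Matrix.mulVec_add] at h2
      have h3 := ginj (h2.trans (Matrix.mulVec_zero _).symm)
      have h4 := Pinj (h3.trans (Matrix.mulVec_zero _).symm)
      have h5 := congrFun h4 j
      have h6 := congrFun h4 j₀
      simp [hj, hc0] at h5
      simp [hj.symm, hc0] at h6
      exact ⟨h5, h6⟩
    have hsep : ∀ (v v' : ι → F₀), (∀ a b : F₀, a • v + b • v' = 0 → a = 0 ∧ b = 0) → v ∉ (F₀ ∙ v') := by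
      intro v v' hi hv
      obtain ⟨a, ha⟩ := Submodule.mem_span_singleton.mp hv
      exact one_ne_zero (hi 1 (-a) (by rw [one_smul, neg_smul, ha, add_neg_cancel])).1
    obtain ⟨a, ha, hav⟩ := exists_functional _ (hsep v v₀ hind)
    obtain ⟨b, hb, hbv⟩ := exists_functional _ (hsep v₀ v fun a b hab => (hind b a (by rwa [add_comm])).symm)
    let toF : (ι → F₀) → (ι → F) := fun w i => (w i : F)
    have hd : ∀ a w : ι → F₀, toF a ⬝ᵥ toF w = ((a ⬝ᵥ w : F₀) : F) := fun a w => by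
      simp [toF, dotProduct]
    have h1 := congrArg (toF a ⬝ᵥ ·) hlin
    have h2 := congrArg (toF b ⬝ᵥ ·) hlin
    simp only [dotProduct_add, dotProduct_smul, smul_eq_mul] at h1 h2
    rw [show u = toF v from rfl, show u₀ = toF v₀ from rfl, show w = toF fun i => ⟨w i, hw i⟩ from rfl,
      hd, hd, hd, hav, ha v₀ (Submodule.mem_span_singleton_self _)] at h1
    rw [show u = toF v from rfl, show u₀ = toF v₀ from rfl, show w = toF fun i => ⟨w i, hw i⟩ from rfl,
      hd, hd, hd, hbv, hb v (Submodule.mem_span_singleton_self _)] at h2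
    simp only [ZeroMemClass.coe_zero, OneMemClass.coe_one, mul_one, mul_zero, add_zero, zero_add] at h1 h2
    have hμ : μ ≠ 0 := fun h0 => hc0 j (by rw [h1, h0, zero_mul])
    rw [h1, h2, mul_div_mul_left _ _ hμ]
    exact F₀.div_mem (SetLike.coe_mem _) (SetLike.coe_mem _)
  let S : GL ι F := Units.map (Matrix.scalar ι : F →+* Matrix ι ι F).toMonoidHom (Units.mk0 _ (hc0 j₀))
  have hS : ∀ x : ι → F, ((S⁻¹ * g : GL ι F) : Matrix ι ι F) *ᵥ x = (c j₀)⁻¹ • ((g : Matrix ι ι F) *ᵥ x) := by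
    intro x
    rw [Units.val_mul, ← Matrix.mulVec_mulVec]
    show Matrix.scalar ι (c j₀)⁻¹ *ᵥ _ = _
    rw [Matrix.scalar_apply, ← Matrix.smul_one_eq_diagonal, Matrix.smul_mulVec, Matrix.one_mulVec]
  have hN : S⁻¹ * g ∈ Cfsg.Geo.subfieldSubgroup F₀ P := by
    refine mem_subfieldSubgroup fun x hx => ?_
    obtain ⟨u, hu, rfl⟩ := hx.eq_mulVec
    have hsum : (P : Matrix ι ι F) *ᵥ u = ∑ j, u j • e j := by
      simp only [e, ← Matrix.mulVec_smul, ← Matrix.mulVec_sum]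
      rw [← pi_eq_sum_univ' u]
    rw [hS, hsum, Matrix.mulVec_sum, Finset.smul_sum]
    refine Finset.sum_induction _ (RatVec F₀ P) (fun _ _ => RatVec.add) (RatVec.zero F₀ P) fun j _ => ?_
    rw [Matrix.mulVec_smul, hgy, smul_smul, smul_smul,
      show (c j₀)⁻¹ * u j * c j = u j * (c j / c j₀) by ring]
    exact (hy j).smul (F₀.mul_mem (hu j) (hratio j))
  have hSN : S ∈ Cfsg.Geo.subfieldSubgroup F₀ P := by
    refine ⟨S, Subgroup.mem_sup_right ⟨_, rfl⟩, ?_⟩
    rw [MulEquiv.coe_toMonoidHom, MulAut.conj_apply, mul_inv_eq_iff_eq_mul]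
    exact Units.ext ((Matrix.scalar_commute (c j₀) (fun r => Commute.all _ r) (P : Matrix ι ι F)).eq.symm)
  have := mul_mem hSN hN
  rwa [mul_inv_cancel_left] at this

end Cfsg.Agent.Lib.MaxSub
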