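import Mathlib

/-!
Bounds on the lengths of subnormal series.
-/

set_option autoImplicit false

namespace Cfsg.Agent.Lib.MaxSub.CompLen

variable {G : Type*} [Group G]

open Classical in
/-- The number of strict steps among the first `l` of a sequence of subgroups. -/
noncomputable def steps (H : ℕ → Subgroup G) (l : ℕ) : ℕ :=
  ((Finset.range l).filter fun i => H i ≠ H (i + 1)).card

/-- A weakly increasing series, each term normal in the next, ending in the whole group. -/
def IsSeries (H : ℕ → Subgroup G) (l : ℕ) : Prop :=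
  (∀ i < l, H i ≤ H (i + 1) ∧ ((H i).subgroupOf (H (i + 1))).Normal) ∧ H l = ⊤

/-- Every subnormal series of `G` has at most `b` strict steps. -/
def LenLE (G : Type*) [Group G] (b : ℕ) : Prop :=
  ∀ (H : ℕ → Subgroup G) (l : ℕ), IsSeries H l → steps H l ≤ b

theorem LenLE.mono {a b : ℕ} (h : LenLE G a) (hab : a ≤ b) : LenLE G b := fun H l hH => (h H l hH).trans hab

theorem normal_map {G' : Type*} [Group G'] (φ : G →* G') {A B : Subgroup G} (hAB : A ≤ B)
    (h : (A.subgroupOf B).Normal) : ((A.map φ).subgroupOf (B.map φ)).Normal := by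
  refine ⟨?_⟩
  rintro ⟨_, a, ha, rfl⟩ hn ⟨_, b, hb, rfl⟩
  rw [Subgroup.mem_subgroupOf] at hn ⊢
  obtain ⟨a', ha', he⟩ := hn
  exact ⟨b * a' * b⁻¹, h.conj_mem ⟨a', hAB ha'⟩ ha' ⟨b, hb⟩, by simp [he]⟩

theorem normal_comap {G' : Type*} [Group G'] (φ : G' →* G) {A B : Subgroup G}
    (h : (A.subgroupOf B).Normal) : ((A.comap φ).subgroupOf (B.comap φ)).Normal := by
  refine ⟨fun n hn b => ?_⟩
  rw [Subgroup.mem_subgroupOf, Subgroup.mem_comap] at hn ⊢
  have := h.conj_mem ⟨φ n.1, n.2⟩ hn ⟨φ b.1, b.2⟩
  rw [Subgroup.mem_subgroupOf] at this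
  simpa using this

/-- Series lengths add up along a normal subgroup. -/
theorem lenLE_add {N : Subgroup G} [N.Normal] {a b : ℕ} (ha : LenLE N a) (hb : LenLE (G ⧸ N) b) :
    LenLE G (a + b) := by
  classical
  intro H l hH
  set H1 : ℕ → Subgroup N := fun i => (H i).comap N.subtype with hH1
  set H2 : ℕ → Subgroup (G ⧸ N) := fun i => (H i).map (QuotientGroup.mk' N) with hH2
  have h1 := ha H1 l ⟨fun i hi => ⟨Subgroup.comap_mono (hH.1 i hi).1, normal_comap _ (hH.1 i hi).2⟩, by
    simp [hH1, hH.2]⟩
  have h2 := hb H2 l ⟨fun i hi => ⟨Subgroup.map_mono (hH.1 i hi).1, normal_map _ (hH.1 i hi).1 (hH.1 i hi).2⟩, by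
    simp only [hH2, hH.2]; exact Subgroup.map_top_of_surjective _ (QuotientGroup.mk'_surjective N)⟩
  refine le_trans ?_ (Nat.add_le_add h1 h2)
  refine le_trans (Finset.card_le_card ?_) (Finset.card_union_le _ _)
  intro i hi
  rw [Finset.mem_filter] at hi
  rw [Finset.mem_union, Finset.mem_filter, Finset.mem_filter]
  by_contra hc
  push Not at hc
  obtain ⟨e1, e2⟩ := And.intro (hc.1 hi.1) (hc.2 hi.1)
  refine hi.2 (le_antisymm (hH.1 i (Finset.mem_range.mp hi.1)).1 fun x hx => ?_)
  have hx2 : QuotientGroup.mk' N x ∈ H2 (i + 1) := ⟨x, hx, rfl⟩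
  rw [← e2] at hx2
  obtain ⟨y, hy, hyx⟩ := hx2
  have hn : y⁻¹ * x ∈ N := QuotientGroup.eq.mp hyx
  have hx1 : (⟨y⁻¹ * x, hn⟩ : N) ∈ H1 (i + 1) :=
    (H (i + 1)).mul_mem ((H (i + 1)).inv_mem ((hH.1 i (Finset.mem_range.mp hi.1)).1 hy)) hx
  rw [← e1] at hx1
  have := (H i).mul_mem hy hx1
  simpa using this

theorem lenLE_of_surjective {G' : Type*} [Group G'] (φ : G →* G') (hφ : Function.Surjective φ) {b : ℕ}
    (h : LenLE G b) : LenLE G' b := by
  classical
  intro H l hH
  refine le_trans (le_of_eq ?_) (h (fun i => (H i).comap φ) l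
    ⟨fun i hi => ⟨Subgroup.comap_mono (hH.1 i hi).1, normal_comap _ (hH.1 i hi).2⟩, by simp [hH.2]⟩)
  unfold steps
  congr 1
  refine Finset.filter_congr fun i _ => ?_
  exact (Subgroup.comap_injective hφ).ne_iff.symm

theorem lenLE_subsingleton [Subsingleton G] : LenLE G 0 := by
  classical
  intro H l _
  have : ∀ i, H i = H (i + 1) := fun i => Subsingleton.elim _ _
  simp [steps, ← this]

theorem lenLE_simple (h : ∀ K : Subgroup G, K.Normal → K = ⊥ ∨ K = ⊤) : LenLE G 1 := by
  classical
  intro H l hH
  rw [steps]
  refine Finset.card_le_one.mpr ?_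
  have key : ∀ d, d ≤ l → H (l - d) = ⊥ ∨ H (l - d) = ⊤ := by
    intro d
    induction d with
    | zero => exact fun _ => Or.inr (by simpa using hH.2)
    | succ d ih =>
      intro hd
      have hi : l - (d + 1) < l := by omega
      have hi1 : l - (d + 1) + 1 = l - d := by omega
      obtain ⟨hle, hn⟩ := hH.1 _ hi
      rcases ih (by omega) with he | he
      · rw [hi1, he] at hle
        exact Or.inl (le_bot_iff.mp hle)
      · rw [hi1, he] at hn
        refine h _ ⟨fun x hx g => ?_⟩
        exact hn.conj_mem ⟨x, trivial⟩ hx ⟨g, trivial⟩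
  have hmono : ∀ i j, i ≤ j → j ≤ l → H i ≤ H j := by
    intro i j hij
    induction j, hij using Nat.le_induction with
    | base => exact fun _ => le_rfl
    | succ j _ ih => exact fun hj => (ih (by omega)).trans (hH.1 j (by omega)).1
  intro i hi j hj
  rw [Finset.mem_filter, Finset.mem_range] at hi hj
  have k : ∀ i < l, H i ≠ H (i + 1) → H i = ⊥ ∧ H (i + 1) = ⊤ := by
    intro i hi hne
    have hle := (hH.1 i hi).1
    have h0 := key (l - i) (by omega)
    have h1 := key (l - (i + 1)) (by omega)
    rw [show l - (l - i) = i by omega] at h0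
    rw [show l - (l - (i + 1)) = i + 1 by omega] at h1
    rcases h0 with h0 | h0
    · exact ⟨h0, h1.resolve_left fun h => hne (h0.trans h.symm)⟩
    · exact absurd (le_antisymm hle (h0 ▸ le_top)) hne
  obtain ⟨a0, a1⟩ := k i hi.1 hi.2
  obtain ⟨b0, b1⟩ := k j hj.1 hj.2
  by_contra hne
  rcases Nat.lt_or_ge i j with hlt | hge
  · have := hmono (i + 1) j hlt (by omega)
    rw [a1, b0] at this
    exact hi.2 (by rw [a0, a1]; exact le_antisymm bot_le this)
  · have := hmono (j + 1) i (by omega) (by omega)
    rw [b1, a0] at this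
    exact hj.2 (by rw [b0, b1]; exact le_antisymm bot_le this)

/-- A group generated by `k` commuting-normal simple subgroups has length at most `k`. -/
theorem lenLE_iSup_normal {G : Type*} [Group G] [Finite G] (s : List (Subgroup G)) (hn : ∀ T ∈ s, T.Normal)
    (hs : ∀ T ∈ s, ∀ K : Subgroup T, K.Normal → K = ⊥ ∨ K = ⊤) (htop : s.foldr (· ⊔ ·) ⊥ = ⊤) :
    LenLE G s.length := by
  generalize hk : s.length = k
  induction k generalizing G with
  | zero =>
    obtain rfl := List.length_eq_zero_iff.mp hk
    have : Subsingleton G := Subgroup.subsingleton_iff.mp (subsingleton_of_bot_eq_top htop)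
    exact lenLE_subsingleton
  | succ k ih =>
    obtain ⟨T, t, rfl⟩ := List.exists_cons_of_length_eq_add_one hk
    rw [List.length_cons] at hk
    haveI := hn T (List.mem_cons_self ..)
    have h1 : LenLE T 1 := lenLE_simple (hs T (List.mem_cons_self ..))
    have h2 : LenLE (G ⧸ T) k := by
      refine ih (t.map (Subgroup.map (QuotientGroup.mk' T))) ?_ ?_ ?_ (by rw [List.length_map]; omega)
      · intro S hS
        obtain ⟨S, hS', rfl⟩ := List.mem_map.mp hS
        exact (hn S (List.mem_cons_of_mem _ hS')).map _ (QuotientGroup.mk'_surjective T)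
      · intro S hS K hK
        obtain ⟨S, hS', rfl⟩ := List.mem_map.mp hS
        let φ := (QuotientGroup.mk' T).subgroupMap S
        have hφ : Function.Surjective φ := MonoidHom.subgroupMap_surjective _ S
        refine (hs S (List.mem_cons_of_mem _ hS') (K.comap φ) (hK.comap φ)).imp (fun h => ?_) (fun h => ?_)
        · rw [← Subgroup.map_comap_eq_self_of_surjective hφ K, h, Subgroup.map_bot]
        · rw [← Subgroup.map_comap_eq_self_of_surjective hφ K, h, Subgroup.map_top_of_surjective _ hφ]
      · have hfold : ∀ u : List (Subgroup G), (u.map (Subgroup.map (QuotientGroup.mk' T))).foldr (· ⊔ ·) ⊥ =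
            (u.foldr (· ⊔ ·) ⊥).map (QuotientGroup.mk' T) := by
          intro u
          induction u with
          | nil => simp
          | cons a u ihu => simp [ihu, Subgroup.map_sup]
        rw [hfold]
        have h3 := congrArg (Subgroup.map (QuotientGroup.mk' T)) htop
        rw [List.foldr_cons, Subgroup.map_sup, QuotientGroup.map_mk'_self, bot_sup_eq,
          Subgroup.map_top_of_surjective _ (QuotientGroup.mk'_surjective T)] at h3
        exact h3
    exact (lenLE_add h1 h2).mono (by omega)

/-- Two to the power of the length is at most the order. -/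
theorem exists_pow_le_card [Finite G] {H : ℕ → Subgroup G} {l : ℕ} (hH : IsSeries H l) :
    2 ^ steps H l ≤ Nat.card G := by
  classical
  have hmain : ∀ j ≤ l, 2 ^ steps H j ≤ Nat.card (H j) := by
    intro j
    induction j with
    | zero => intro _; simp [steps]; exact Nat.card_pos
    | succ j ih =>
      intro hj
      have hle := (hH.1 j (by omega)).1
      unfold steps at ih ⊢
      rw [Finset.range_add_one, Finset.filter_insert]
      split_ifs with hne
      · rw [Finset.card_insert_of_notMem (by simp), pow_succ]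
        obtain ⟨c, hc⟩ := Subgroup.card_dvd_of_le hle
        have hc2 : 2 ≤ c := by
          by_contra hlt
          interval_cases c
          · exact absurd hc (by rw [mul_zero]; exact Nat.card_pos.ne')
          · exact hne (Subgroup.eq_of_le_of_card_ge hle (by rw [hc, mul_one]))
        rw [hc]
        exact Nat.mul_le_mul (ih (by omega)) hc2
      · exact (ih (by omega)).trans (Nat.card_mono (Set.toFinite _) hle)
  have := hmain l le_rfl
  rw [hH.2] at this
  simpa using this

/-- The length is at most the number of prime factors of the order. -/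
theorem steps_le_factors [Finite G] {H : ℕ → Subgroup G} {l : ℕ} (hH : IsSeries H l) :
    steps H l ≤ (Nat.card G).primeFactorsList.length := by
  classical
  have hmain : ∀ j ≤ l, steps H j ≤ (Nat.card (H j)).primeFactorsList.length := by
    intro j
    induction j with
    | zero => intro _; simp [steps]
    | succ j ih =>
      intro hj
      have hle := (hH.1 j (by omega)).1
      obtain ⟨c, hc⟩ := Subgroup.card_dvd_of_le hle
      have hc0 : c ≠ 0 := fun h => Nat.card_pos.ne' (hc.trans (by rw [h, mul_zero]))
      have h2 : (Nat.card (H (j + 1))).primeFactorsList.length =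
          (Nat.card (H j)).primeFactorsList.length + c.primeFactorsList.length := by
        rw [hc, (Nat.perm_primeFactorsList_mul Nat.card_pos.ne' hc0).length_eq, List.length_append]
      unfold steps at ih ⊢
      rw [Finset.range_add_one, Finset.filter_insert]
      split_ifs with hne
      · rw [Finset.card_insert_of_notMem (by simp), h2]
        have hc1 : c ≠ 1 := fun h => hne (Subgroup.eq_of_le_of_card_ge hle (by rw [hc, h, mul_one]))
        have h3 : 0 < c.primeFactorsList.length := List.length_pos_iff.mpr fun h => by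
          rcases (Nat.primeFactorsList_eq_nil c).mp h with h | h
          · exact hc0 h
          · exact hc1 h
        have := ih (by omega)
        omega
      · have := ih (by omega)
        omega
  have := hmain l le_rfl
  rw [hH.2] at this
  simpa using this

end Cfsg.Agent.Lib.MaxSub.CompLen
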