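import Cfsg.Prelude.Def_GeometricClasses
import Mathlib

/-!
Dimension count for direct sum decompositions.
-/

set_option autoImplicit false

namespace Cfsg.Agent.Lib.MaxSub.DecompAux

variable {ι : Type} [Fintype ι] [DecidableEq ι] {F : Type*} [Field F]

theorem card_eq_mul {t m : ℕ} {D : Fin t → Submodule F (ι → F)} (hD : Cfsg.Geo.IsMDecomposition m D) :
    Fintype.card ι = t * m := by
  classical
  have h := DirectSum.isInternal_submodule_of_iSupIndep_of_iSup_eq_top hD.indep hD.iSup_eq_top
  have h1 := Module.finrank_eq_card_basis (h.collectedBasis fun i => Module.finBasis F (D i))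
  rw [Module.finrank_fintype_fun_eq_card] at h1
  simp [Fintype.card_sigma, hD.finrank_eq] at h1
  exact h1

end Cfsg.Agent.Lib.MaxSub.DecompAux
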