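import Cfsg.Agent.Lib.MaxSub.PrimeElem
import Mathlib

/-!
Which invariant flags exist for all determinant one maps with a scalar prime-th power.
-/

set_option autoImplicit false
set_option maxHeartbeats 1000000

namespace Cfsg.Agent.Lib.MaxSub.PrimeElemFlags

open Module Polynomial Cfsg.Agent.Lib.MaxSub.PrimeElem

variable {F : Type*} [Field F]

theorem conj_pow {V W : Type*} [AddCommGroup V] [Module F V] [AddCommGroup W] [Module F W] (e : V ≃ₗ[F] W)
    (y : End F V) (j : ℕ) : (e.conj y) ^ j = e.conj (y ^ j) := by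
  induction j with
  | zero => rw [pow_zero, pow_zero, End.one_eq_id, End.one_eq_id, LinearEquiv.conj_id]
  | succ j ih => rw [pow_succ, pow_succ, ih, End.mul_eq_comp, End.mul_eq_comp, LinearEquiv.conj_comp]

theorem prodMap_pow' {V W : Type*} [AddCommGroup V] [Module F V] [AddCommGroup W] [Module F W] (f : End F V)
    (g : End F W) (j : ℕ) : (f.prodMap g : End F (V × W)) ^ j = (f ^ j).prodMap (g ^ j) := by
  induction j with
  | zero => rw [pow_zero, pow_zero, pow_zero, LinearMap.prodMap_one]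
  | succ j ih => rw [pow_succ, pow_succ, pow_succ, ih, LinearMap.prodMap_mul]

theorem sl_iff {n r : ℕ} (P : End F (Fin n → F) → Prop) (hP : ∀ a : F, P (a • 1)) :
    (∀ x : Matrix.SpecialLinearGroup (Fin n) F,
      (∃ c : F, ((x ^ r : Matrix.SpecialLinearGroup (Fin n) F) : Matrix (Fin n) (Fin n) F) = c • (1 : Matrix (Fin n) (Fin n) F)) →
      (∀ c : F, (x : Matrix (Fin n) (Fin n) F) ≠ c • (1 : Matrix (Fin n) (Fin n) F)) →
      P (Matrix.toLin' (x : Matrix (Fin n) (Fin n) F))) ↔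
    (∀ y : End F (Fin n → F), ∀ c : F, y ^ r = c • 1 → LinearMap.det y = 1 → P y) := by
  have hone : Matrix.toLin' (1 : Matrix (Fin n) (Fin n) F) = (1 : End F (Fin n → F)) := by
    rw [Matrix.toLin'_one]; rfl
  constructor
  · intro h y c hy hdet
    set X := LinearMap.toMatrix' y with hX
    have hXy : Matrix.toLin' X = y := Matrix.toLin'_toMatrix' y
    have hXdet : X.det = 1 := by rw [← LinearMap.det_toLin', hXy, hdet]
    by_cases hs : ∃ a : F, X = a • 1
    · obtain ⟨a, ha⟩ := hs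
      rw [← hXy, ha, map_smul, hone]
      exact hP a
    · push Not at hs
      have := h ⟨X, hXdet⟩ ⟨c, by
        refine (Matrix.SpecialLinearGroup.coe_pow _ r).trans ?_
        apply Matrix.toLinAlgEquiv'.injective
        rw [map_pow, map_smul, map_one]
        show (Matrix.toLin' X) ^ r = c • 1
        rw [hXy, hy]⟩ hs
      rwa [show ((⟨X, hXdet⟩ : Matrix.SpecialLinearGroup (Fin n) F) : Matrix (Fin n) (Fin n) F) = X from rfl, hXy] at this
  · rintro h x ⟨c, hc⟩ -
    refine h _ c ?_ (by rw [LinearMap.det_toLin']; exact x.2)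
    rw [Matrix.SpecialLinearGroup.coe_pow] at hc
    have := congrArg (Matrix.toLinAlgEquiv' (R := F) (n := Fin n)) hc
    rw [map_pow, map_smul, map_one] at this
    exact this

section

variable {V : Type*} [AddCommGroup V] [Module F V] [FiniteDimensional F V]

theorem hasFlag_scalar (a : F) {k l : ℕ} (hkl : k ≤ l) (hl : l ≤ finrank F V) :
    HasFlag (a • (1 : End F V)) k l := by
  have h1 : ∀ v : V, v ∈ (⊤ : Submodule F V) → aeval (1 : End F V) (X - C (1 : F)) v = 0 := fun v _ => by simp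
  obtain ⟨-, h⟩ := uniform_flag (y := (1 : End F V)) (P := X - C 1) (irreducible_X_sub_C (1 : F)).squarefree
    (LinearMap.ext fun v => h1 v trivial) (d := 1) (fun g hg hd => by
      rw [natDegree_eq_of_degree_eq (degree_eq_degree_of_associated (hg.associated_of_dvd (irreducible_X_sub_C 1) hd)),
        natDegree_X_sub_C])
  have h2 := h k l hkl (by rwa [one_mul])
  rw [one_mul, one_mul] at h2
  rcases eq_or_ne a 0 with rfl | ha
  · obtain ⟨U, W, a1, a2, a3, -, -⟩ := h2
    exact ⟨U, W, a1, a2, a3, by simp, by simp⟩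
  · exact (hasFlag_smul ha).2 h2

variable {r : ℕ} [Fact r.Prime]

theorem sq (hr0 : (r : F) ≠ 0) {c : F} (hc : c ≠ 0) : Squarefree (X ^ r - C c) :=
  (separable_X_pow_sub_C c hr0 hc).squarefree

theorem aeval_eq_zero {y : End F V} {c : F} (hy : y ^ r = c • 1) : aeval y (X ^ r - C c) = 0 := by
  rw [map_sub, map_pow, aeval_X, aeval_C, hy, Algebra.algebraMap_eq_smul_one, sub_self]

theorem one_dvd_factors {i : ℕ} (hdeg : ∀ g : F[X], Irreducible g → g ∣ cyclotomic r F → g.natDegree = i)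
    (g : F[X]) (hg : Irreducible g) (hd : g ∣ X ^ r - C 1) : g.natDegree = i ∨ g.natDegree = 1 := by
  rw [map_one, ← cyclotomic_prime_mul_X_sub_one F r] at hd
  rcases hg.prime.dvd_or_dvd hd with h | h
  · exact Or.inl (hdeg g hg h)
  · refine Or.inr ?_
    rw [← map_one C] at h
    rw [natDegree_eq_of_degree_eq (degree_eq_degree_of_associated (hg.associated_of_dvd (irreducible_X_sub_C (1 : F)) h)),
      natDegree_X_sub_C]

/-- The splitting into the fixed space and the rest. -/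
theorem split (hr0 : (r : F) ≠ 0) {i : ℕ}
    (hdeg : ∀ g : F[X], Irreducible g → g ∣ cyclotomic r F → g.natDegree = i) {y : End F V} (hy : y ^ r = 1) :
    ∃ s : ℕ, finrank F (LinearMap.ker (y - 1)) + i * s = finrank F V ∧
      (∀ U W : Submodule F V, U.map y ≤ U → W.map y ≤ W → U ≤ W → ∃ a w β β', a ≤ w ∧
        w ≤ finrank F (LinearMap.ker (y - 1)) ∧ finrank F U = a + i * β ∧ finrank F W = w + i * β') ∧
      ∀ a w β β', a ≤ w → w ≤ finrank F (LinearMap.ker (y - 1)) → β ≤ β' → β' ≤ s →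
        HasFlag y (a + i * β) (w + i * β') := by
  have hy' : aeval y (X ^ r - C (1 : F)) = 0 := aeval_eq_zero (by rw [hy, one_smul])
  have hsq : Squarefree (X ^ r - C (1 : F)) := sq hr0 one_ne_zero
  set K := LinearMap.ker (aeval y (X - C (1 : F))) with hK
  set N := LinearMap.ker (aeval y (cyclotomic r F)) with hN
  have hKy : LinearMap.ker (y - 1) = K := by rw [hK]; simp
  rw [hKy]
  have hco : IsCoprime (X - C (1 : F)) (cyclotomic r F) :=
    (irreducible_X_sub_C 1).coprime_iff_not_dvd.2 fun h => by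
      rw [dvd_iff_isRoot, IsRoot, eval_one_cyclotomic_prime] at h
      exact hr0 h
  have hdisj : K ⊓ N = ⊥ := (disjoint_ker_aeval_of_isCoprime y hco).eq_bot
  have hsupr : K ⊔ N = ⊤ := by
    rw [hK, hN, sup_ker_aeval_eq_ker_aeval_mul_of_coprime y hco, mul_comm, map_one,
      cyclotomic_prime_mul_X_sub_one F r, ← map_one C, hy', LinearMap.ker_zero]
  have hsplit : ∀ U : Submodule F V, U.map y ≤ U →
      finrank F U = finrank F (U ⊓ K : Submodule F V) + finrank F (U ⊓ N : Submodule F V) := by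
    intro U hU
    have h1 := Submodule.finrank_sup_add_finrank_inf_eq (U ⊓ K) (U ⊓ N)
    have h2 : U ⊓ K ⊓ (U ⊓ N) = ⊥ :=
      le_bot_iff.1 ((inf_le_inf inf_le_right inf_le_right).trans hdisj.le)
    have h3 : U ⊓ K ⊔ U ⊓ N = U := by
      refine le_antisymm (sup_le inf_le_left inf_le_left) fun v hv => ?_
      obtain ⟨a, b, hab⟩ := hco
      have hprod : aeval y ((X - C (1 : F)) * cyclotomic r F) = 0 := by
        rw [mul_comm, map_one, cyclotomic_prime_mul_X_sub_one F r, ← map_one C]; exact hy'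
      have hz : ∀ P : F[X], (X - C (1 : F)) * cyclotomic r F ∣ P → aeval y P v = 0 := by
        rintro P ⟨Q, rfl⟩
        rw [map_mul, hprod, zero_mul]; rfl
      have hv' : aeval y (b * cyclotomic r F) v + aeval y (a * (X - C 1)) v = v := by
        rw [← LinearMap.add_apply, ← map_add, add_comm, hab, map_one]; rfl
      rw [← hv']
      refine Submodule.add_mem_sup ⟨aeval_mem y hU _ hv, ?_⟩ ⟨aeval_mem y hU _ hv, ?_⟩
      · show _ ∈ LinearMap.ker _
        rw [LinearMap.mem_ker, ← End.mul_apply, ← map_mul]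
        exact hz _ ⟨b, by ring⟩
      · show _ ∈ LinearMap.ker _
        rw [LinearMap.mem_ker, ← End.mul_apply, ← map_mul]
        exact hz _ ⟨a, by ring⟩
    rw [h2, h3, finrank_bot, add_zero] at h1
    exact h1
  have hNU : ∀ U : Submodule F V, U ≤ N → U.map y ≤ U → i ∣ finrank F U ∧
      ∀ β, i * β ≤ finrank F U → ∃ S : Submodule F V, S.map y ≤ S ∧ S ≤ U ∧ finrank F S = i * β :=
    fun U hUN hU => uniform hsq hy' (cyclotomic r F) (cyclotomic_ne_zero r F) hdeg _ U rfl hU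
      (fun v hv => hUN hv)
  have hKU : ∀ U : Submodule F V, U ≤ K → U.map y ≤ U →
      ∀ a, a ≤ finrank F U → ∃ S : Submodule F V, S.map y ≤ S ∧ S ≤ U ∧ finrank F S = a := by
    intro U hUK hU a ha
    obtain ⟨-, h⟩ := uniform hsq hy' (X - C (1 : F)) (X_sub_C_ne_zero 1) (d := 1) (fun g hg hd => by
      rw [natDegree_eq_of_degree_eq (degree_eq_degree_of_associated (hg.associated_of_dvd (irreducible_X_sub_C 1) hd)),
        natDegree_X_sub_C]) _ U rfl hU (fun v hv => hUK hv)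
    simpa using h a (by rwa [one_mul])
  have hKm : K.map y ≤ K := map_ker_le y _
  have hNm : N.map y ≤ N := map_ker_le y _
  obtain ⟨s, hs⟩ := (hNU N le_rfl hNm).1
  refine ⟨s, ?_, ?_, ?_⟩
  · have h1 := Submodule.finrank_sup_add_finrank_inf_eq K N
    rw [hsupr, hdisj, finrank_bot, add_zero, finrank_top, hs] at h1
    exact h1.symm
  · intro U W hU hW hUW
    obtain ⟨β, hβ⟩ := (hNU (U ⊓ N) inf_le_right ((Submodule.map_inf_le _).trans (inf_le_inf hU hNm))).1
    obtain ⟨β', hβ'⟩ := (hNU (W ⊓ N) inf_le_right ((Submodule.map_inf_le _).trans (inf_le_inf hW hNm))).1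
    exact ⟨finrank F (U ⊓ K : Submodule F V), finrank F (W ⊓ K : Submodule F V), β, β',
      Submodule.finrank_mono (inf_le_inf_right K hUW), Submodule.finrank_mono inf_le_right,
      by rw [hsplit U hU, hβ], by rw [hsplit W hW, hβ']⟩
  · intro a w β β' haw hw hββ hβs
    obtain ⟨A', hA', hA'K, hA'd⟩ := hKU K le_rfl hKm w hw
    obtain ⟨A, hA, hAA, hAd⟩ := hKU A' hA'K hA' a (hA'd.symm ▸ haw)
    obtain ⟨B', hB', hB'N, hB'd⟩ := (hNU N le_rfl hNm).2 β' (hs.symm ▸ Nat.mul_le_mul_left i hβs)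
    obtain ⟨B, hB, hBB, hBd⟩ := (hNU B' hB'N hB').2 β (hB'd.symm ▸ Nat.mul_le_mul_left i hββ)
    have hdim : ∀ S T : Submodule F V, S ≤ K → T ≤ N → finrank F (S ⊔ T : Submodule F V) = finrank F S + finrank F T := by
      intro S T hS hT
      have h1 := Submodule.finrank_sup_add_finrank_inf_eq S T
      rw [le_bot_iff.1 ((inf_le_inf hS hT).trans hdisj.le), finrank_bot, add_zero] at h1
      exact h1
    refine ⟨A ⊔ B, A' ⊔ B', sup_le_sup hAA hBB, ?_, ?_, ?_, ?_⟩
    · rw [hdim A B (hAA.trans hA'K) (hBB.trans hB'N), hAd, hBd]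
    · rw [hdim A' B' hA'K hB'N, hA'd, hB'd]
    · rw [Submodule.map_sup]; exact sup_le_sup hA hB
    · rw [Submodule.map_sup]; exact sup_le_sup hA' hB'

end

section

variable [Fintype F] {r : ℕ} [hr : Fact r.Prime] {p : ℕ} [Fact p.Prime] [CharP F p] {q : ℕ}

omit [Fintype F] in
theorem cast_ne_zero (hrp : r ≠ p) : (r : F) ≠ 0 := fun h =>
  hrp ((Nat.prime_dvd_prime_iff_eq Fact.out hr.out).1 ((CharP.cast_eq_zero_iff F p r).1 h)).symm

theorem deg_eq (hq : Fintype.card F = q) (hrp : r ≠ p) (g : F[X]) (hg : Irreducible g) (hd : g ∣ cyclotomic r F) :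
    g.natDegree = orderOf (q : ZMod r) := by
  obtain ⟨⟨f, hf⟩, -, hcard⟩ := FiniteField.card F p
  simp only [PNat.mk_coe] at hcard
  have hpr : p.Coprime r := (Nat.coprime_primes Fact.out hr.out).2 hrp.symm
  rw [natDegree_of_dvd_cyclotomic_of_irreducible (n := r) hcard hpr hd hg, ← orderOf_units, ← hq, hcard,
    ZMod.coe_unitOfCoprime]

theorem order_pos (hq : Fintype.card F = q) (hrp : r ≠ p) : 0 < orderOf (q : ZMod r) := by
  obtain ⟨g, hg, hd⟩ := WfDvdMonoid.exists_irreducible_factor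
    (not_isUnit_of_natDegree_pos (cyclotomic r F) (by rw [natDegree_cyclotomic]; exact Nat.totient_pos.2 hr.out.pos))
    (cyclotomic_ne_zero r F)
  rw [← deg_eq hq hrp g hg hd]
  exact hg.natDegree_pos

omit hr in
theorem card_sub_one (hq : Fintype.card F = q) : Nat.card Fˣ = q - 1 := by
  rw [Nat.card_units, Nat.card_eq_fintype_card, hq]

theorem order_eq_one_iff (hq : Fintype.card F = q) : orderOf (q : ZMod r) = 1 ↔ r ∣ q - 1 := by
  have : 1 ≤ q := hq ▸ Fintype.card_pos
  rw [orderOf_eq_one_iff, ← ZMod.natCast_eq_zero_iff, Nat.cast_sub this, Nat.cast_one, sub_eq_zero]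

theorem exists_root (hq : Fintype.card F = q) (hrp : r ≠ p) (hi : orderOf (q : ZMod r) ≠ 1) {c : F} (hc : c ≠ 0) :
    ∃ a : F, a ≠ 0 ∧ a ^ r = c := by
  have hnd : ¬ r ∣ q - 1 := fun h => hi ((order_eq_one_iff hq).2 h)
  have hco : (Nat.card Fˣ).Coprime r := by
    rw [card_sub_one hq]
    exact ((Nat.Prime.coprime_iff_not_dvd hr.out).2 hnd).symm
  obtain ⟨a, ha⟩ := (powCoprime hco).surjective (Units.mk0 c hc)
  exact ⟨a, a.ne_zero, by simpa using congrArg Units.val ha⟩

omit hr [Fintype F] in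
theorem scalar_ne_zero {n : ℕ} (hn : 0 < n) {y : End F (Fin n → F)} {c : F} (hr0 : 0 < r) (hy : y ^ r = c • 1)
    (hdet : LinearMap.det y = 1) : c ≠ 0 := by
  rintro rfl
  have h := congrArg LinearMap.det hy
  rw [map_pow, hdet, one_pow, LinearMap.det_smul, Module.finrank_fin_fun, zero_pow hn.ne', zero_mul] at h
  exact one_ne_zero h

omit [Fintype F] in
theorem root_scale {V : Type*} [AddCommGroup V] [Module F V] {y : End F V} {c a : F} (ha : a ≠ 0) (hac : a ^ r = c)
    (hy : y ^ r = c • 1) : (a⁻¹ • y) ^ r = 1 := by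
  rw [_root_.smul_pow, hy, inv_pow, hac, inv_smul_smul₀ (hac ▸ pow_ne_zero _ ha)]

/-- Sufficiency when `r ∣ q - 1`. -/
theorem flag_of_order_one (hq : Fintype.card F = q) (hrp : r ≠ p) (hi : orderOf (q : ZMod r) = 1) {n a b : ℕ}
    (hn : 0 < n) (hab : a ≤ b) (hbn : b ≤ n) {y : End F (Fin n → F)} {c : F} (hy : y ^ r = c • 1)
    (hdet : LinearMap.det y = 1)
    (h : (∀ z : F, z ^ r ≠ c) → ∀ k, n = r * k → ((-1) ^ (r + 1) * c) ^ k = 1 → r ∣ a ∧ r ∣ b) :
    HasFlag y a b := by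
  have hr0 : (r : F) ≠ 0 := cast_ne_zero hrp
  have hc : c ≠ 0 := scalar_ne_zero hn hr.out.pos hy hdet
  have hfr : finrank F (Fin n → F) = n := Module.finrank_fin_fun F
  by_cases hpow : ∃ z : F, z ^ r = c
  · obtain ⟨z, hz⟩ := hpow
    have hz0 : z ≠ 0 := fun h => hc (by rw [← hz, h, zero_pow hr.out.ne_zero])
    refine (hasFlag_smul (inv_ne_zero hz0)).1 ?_
    have h2 := root_scale hz0 hz hy
    obtain ⟨-, h3⟩ := uniform_flag (sq hr0 one_ne_zero) (aeval_eq_zero (c := (1 : F)) (by rw [h2, one_smul]))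
      (d := 1) (fun g hg hd => (one_dvd_factors (fun g hg hd => (deg_eq hq hrp g hg hd).trans hi) g hg hd).elim id id)
    simpa using h3 a b hab (by rwa [one_mul, hfr])
  · push Not at hpow
    have hirr : Irreducible (X ^ r - C c) := X_pow_sub_C_irreducible_of_prime hr.out hpow
    obtain ⟨h1, h3⟩ := uniform_flag (sq hr0 hc) (aeval_eq_zero hy) (d := r) (fun g hg hd => by
      rw [natDegree_eq_of_degree_eq (degree_eq_degree_of_associated (hg.associated_of_dvd hirr hd)),
        natDegree_X_pow_sub_C])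
    rw [hfr] at h1 h3
    obtain ⟨k, hk⟩ := h1
    have hd := det_eq r c hirr (sq hr0 hc) hr.out.pos k y (hfr.trans hk) (aeval_eq_zero hy)
    rw [hdet] at hd
    obtain ⟨⟨a', rfl⟩, ⟨b', rfl⟩⟩ := h hpow k hk hd.symm
    exact h3 a' b' (Nat.le_of_mul_le_mul_left hab hr.out.pos) hbn

/-- Sufficiency when `r ∤ q - 1`. -/
theorem flag_of_order_two (hq : Fintype.card F = q) (hrp : r ≠ p) (hi : orderOf (q : ZMod r) ≠ 1) {n a b : ℕ}
    (hn : 0 < n) {y : End F (Fin n → F)} {c : F} (hy : y ^ r = c • 1)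
    (hdet : LinearMap.det y = 1)
    (h : ∀ f s, f + orderOf (q : ZMod r) * s = n → ∃ a' w β β', a' ≤ w ∧ w ≤ f ∧ β ≤ β' ∧ β' ≤ s ∧
      a = a' + orderOf (q : ZMod r) * β ∧ b = w + orderOf (q : ZMod r) * β') :
    HasFlag y a b := by
  obtain ⟨z, hz0, hz⟩ := exists_root hq hrp hi (scalar_ne_zero hn hr.out.pos hy hdet)
  refine (hasFlag_smul (inv_ne_zero hz0)).1 ?_
  obtain ⟨s, h1, -, h3⟩ := split (cast_ne_zero hrp) (deg_eq hq hrp) (root_scale hz0 hz hy)
  rw [Module.finrank_fin_fun] at h1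
  obtain ⟨a', w, β, β', e1, e2, e3, e4, rfl, rfl⟩ := h _ s h1
  exact h3 a' w β β' e1 e2 e3 e4

/-- A map without flags when `r ∣ q - 1`. -/
theorem bad_of_order_one (hrp : r ≠ p) {n k : ℕ} (hk : n = r * k) {c : F} (hc : c ≠ 0) (hpow : ∀ z : F, z ^ r ≠ c)
    (hN : ((-1) ^ (r + 1) * c) ^ k = 1) :
    ∃ y : End F (Fin n → F), y ^ r = c • 1 ∧ LinearMap.det y = 1 ∧ ∀ a b, HasFlag y a b → r ∣ a := by
  have hirr : Irreducible (X ^ r - C c) := X_pow_sub_C_irreducible_of_prime hr.out hpow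
  have hr0 : (r : F) ≠ 0 := cast_ne_zero hrp
  have hm : (X ^ r - C c).Monic := monic_X_pow_sub_C c hr.out.ne_zero
  have := hm.finite_adjoinRoot
  let α : AdjoinRoot (X ^ r - C c) := AdjoinRoot.root _
  have hα : α ^ r = algebraMap F _ c := by
    have := AdjoinRoot.eval₂_root (X ^ r - C c)
    rw [eval₂_sub, eval₂_X_pow, eval₂_C, sub_eq_zero] at this
    exact this
  have hfr : finrank F (AdjoinRoot (X ^ r - C c)) = r := by
    rw [(AdjoinRoot.powerBasis hm.ne_zero).finrank, AdjoinRoot.powerBasis_dim, natDegree_X_pow_sub_C]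
  let W := Fin k → AdjoinRoot (X ^ r - C c)
  have hW : finrank F W = n := by
    rw [Module.finrank_pi_fintype, Finset.sum_const, hfr, Finset.card_univ, Fintype.card_fin, smul_eq_mul, hk, mul_comm]
  let y : End F W := Algebra.lsmul F F W α
  have hy : y ^ r = c • 1 := by
    rw [← map_pow, hα, AlgHom.commutes, Algebra.algebraMap_eq_smul_one]
  let e : W ≃ₗ[F] (Fin n → F) := LinearEquiv.ofFinrankEq _ _ (by rw [hW, Module.finrank_fin_fun])
  refine ⟨e.conj y, ?_, ?_, fun a b hflag => ?_⟩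
  · rw [conj_pow, hy, map_smul, End.one_eq_id, LinearEquiv.conj_id, ← End.one_eq_id]
  · rw [LinearEquiv.conj_apply, LinearMap.comp_assoc, LinearMap.det_conj,
      det_eq r c hirr (sq hr0 hc) hr.out.pos k y (hW.trans hk) (aeval_eq_zero hy), hN]
  · obtain ⟨U, -, -, hUd, -, hU, -⟩ := hasFlag_of_conj e hflag
    exact hUd ▸ (uniform (sq hr0 hc) (aeval_eq_zero hy) _ (sq hr0 hc).ne_zero
      (fun g hg hd => by rw [natDegree_eq_of_degree_eq (degree_eq_degree_of_associated (hg.associated_of_dvd hirr hd)),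
        natDegree_X_pow_sub_C]) _ U rfl hU (fun v _ => by rw [aeval_eq_zero hy]; rfl)).1

/-- A map with few flags when `r ∤ q - 1`. -/
theorem bad_of_order_two (hq : Fintype.card F = q) (hrp : r ≠ p) (hi : orderOf (q : ZMod r) ≠ 1) (n : ℕ) :
    ∃ y : End F (Fin n → F), y ^ r = (1 : F) • 1 ∧ LinearMap.det y = 1 ∧ ∀ a b, HasFlag y a b →
      ∃ a' w β β', a' ≤ w ∧ w ≤ n % orderOf (q : ZMod r) ∧ a = a' + orderOf (q : ZMod r) * β ∧
        b = w + orderOf (q : ZMod r) * β' := by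
  set i := orderOf (q : ZMod r) with hidef
  obtain ⟨g, hg, hgd⟩ := WfDvdMonoid.exists_irreducible_factor
    (not_isUnit_of_natDegree_pos (cyclotomic r F) (by rw [natDegree_cyclotomic]; exact Nat.totient_pos.2 hr.out.pos))
    (cyclotomic_ne_zero r F)
  have : Fact (Irreducible g) := ⟨hg⟩
  have hgi : g.natDegree = i := deg_eq hq hrp g hg hgd
  have : FiniteDimensional F (AdjoinRoot g) := (AdjoinRoot.powerBasis hg.ne_zero).finite
  have hfr : finrank F (AdjoinRoot g) = i := by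
    rw [(AdjoinRoot.powerBasis hg.ne_zero).finrank, AdjoinRoot.powerBasis_dim, hgi]
  let α : AdjoinRoot g := AdjoinRoot.root g
  have hcyc : aeval α (cyclotomic r F) = 0 := by
    obtain ⟨Q, hQ⟩ := hgd
    rw [hQ, map_mul, AdjoinRoot.aeval_eq, AdjoinRoot.mk_self, zero_mul]
  have hα : α ^ r = 1 := by
    have h := congrArg (aeval α) (cyclotomic_prime_mul_X_sub_one F r)
    rw [map_mul, hcyc, zero_mul, map_sub, map_pow, aeval_X, map_one] at h
    exact sub_eq_zero.1 h.symm
  have hα1 : α ≠ 1 := by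
    intro h
    rw [h, cyclotomic_prime, map_sum] at hcyc
    simp at hcyc
    exact cast_ne_zero hrp ((map_eq_zero (algebraMap F (AdjoinRoot g))).1 (by rw [map_natCast]; exact hcyc))
  let W := Fin (n / i) → AdjoinRoot g
  let T := Fin (n % i) → F
  let y : End F (W × T) := (Algebra.lsmul F F W α).prodMap (1 : End F T)
  have hWT : finrank F (W × T) = n := by
    rw [Module.finrank_prod, Module.finrank_fin_fun, Module.finrank_pi_fintype, Finset.sum_const, hfr, Finset.card_univ,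
      Fintype.card_fin, smul_eq_mul, mul_comm, Nat.div_add_mod]
  have hy : y ^ r = 1 := by
    rw [prodMap_pow', ← map_pow, hα, map_one, one_pow, LinearMap.prodMap_one]
  have hdet : LinearMap.det y = 1 := by
    have h1 : LinearMap.det y ^ r = 1 := by rw [← map_pow, hy, map_one]
    have h0 : LinearMap.det y ≠ 0 := fun h => by rw [h, zero_pow hr.out.ne_zero] at h1; exact zero_ne_one h1
    have hco : (Nat.card Fˣ).Coprime r := by
      rw [card_sub_one hq]
      exact ((Nat.Prime.coprime_iff_not_dvd hr.out).2 fun h => hi ((order_eq_one_iff hq).2 h)).symm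
    have h2 : Units.mk0 _ h0 = 1 := (powCoprime hco).injective (by
      ext; simp [h1])
    simpa using congrArg Units.val h2
  have hker : finrank F (LinearMap.ker (y - 1)) = n % i := by
    have hk : LinearMap.ker (y - 1) = LinearMap.range (LinearMap.inr F W T) := by
      refine le_antisymm ?_ ?_
      · intro v hv
        refine ⟨v.2, Prod.ext ?_ rfl⟩
        rw [LinearMap.mem_ker, LinearMap.sub_apply, End.one_apply] at hv
        have h1 : α • v.1 - v.1 = 0 := congrArg Prod.fst hv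
        show (0 : W) = v.1
        have h2 : (α - 1) • v.1 = 0 := by rw [sub_smul, one_smul]; exact h1
        exact ((smul_eq_zero.1 h2).resolve_left (sub_ne_zero.2 hα1)).symm
      · rintro _ ⟨t, rfl⟩
        simp [y]
    rw [hk, LinearMap.finrank_range_of_inj LinearMap.inr_injective, Module.finrank_fin_fun]
  let e : (W × T) ≃ₗ[F] (Fin n → F) := LinearEquiv.ofFinrankEq _ _ (by rw [hWT, Module.finrank_fin_fun])
  refine ⟨e.conj y, ?_, ?_, fun a b hflag => ?_⟩
  · rw [conj_pow, hy, one_smul, End.one_eq_id, LinearEquiv.conj_id, ← End.one_eq_id]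
  · rw [LinearEquiv.conj_apply, LinearMap.comp_assoc, LinearMap.det_conj, hdet]
  · obtain ⟨U, U', hUU, hUd, hUd', hU, hU'⟩ := hasFlag_of_conj e hflag
    obtain ⟨s, -, h2, -⟩ := split (cast_ne_zero hrp) (deg_eq hq hrp) hy
    rw [hker] at h2
    obtain ⟨a', w, β, β', e1, e2, e3, e4⟩ := h2 U U' hU hU' hUU
    exact ⟨a', w, β, β', e1, e2, hUd ▸ e3, hUd' ▸ e4⟩

/-- Arithmetic: determinant one twisted maps. -/
theorem cond_of_twist (hq : Fintype.card F = q) {n k : ℕ} (hn : 0 < n) (hk : n = r * k)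
    (hri : r ∣ q - 1) {c : F} (hpow : ∀ z : F, z ^ r ≠ c) (hN : ((-1) ^ (r + 1) * c) ^ k = 1) :
    ¬ (padicValNat r n ≤ padicValNat r (q - 1) ∧ (r = 2 → Even n → q % 4 = 1)) := by
  rintro ⟨hv, h4⟩
  have hq2 : 2 ≤ q := hq ▸ Fintype.one_lt_card
  have hk0 : k ≠ 0 := fun h => by rw [h, mul_zero] at hk; omega
  have hc : c ≠ 0 := fun h => hpow 0 (by rw [h, zero_pow hr.out.ne_zero])
  set N : F := (-1) ^ (r + 1) * c with hNdef
  have hN0 : N ≠ 0 := mul_ne_zero (pow_ne_zero _ (neg_ne_zero.2 one_ne_zero)) hc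
  have hNu : (Units.mk0 N hN0) ^ Nat.gcd k (q - 1) = 1 := by
    refine pow_gcd_eq_one.2 ⟨Units.ext (by simpa using hN), ?_⟩
    rw [← card_sub_one hq]; exact pow_card_eq_one'
  obtain ⟨e, he⟩ := Nat.gcd_dvd_right k (q - 1)
  set g := Nat.gcd k (q - 1) with hgdef
  have hg0 : g ≠ 0 := fun h => hk0 (Nat.eq_zero_of_gcd_eq_zero_left h)
  have he0 : e ≠ 0 := fun h => by rw [h, mul_zero] at he; omega
  have hre : r ∣ e := by
    by_contra hne
    have h1 : padicValNat r (q - 1) = padicValNat r g := by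
      rw [he, padicValNat.mul hg0 he0, padicValNat.eq_zero_of_not_dvd hne, add_zero]
    have h2 : padicValNat r g ≤ padicValNat r k :=
      (padicValNat_dvd_iff_le hk0).1 (pow_padicValNat_dvd.trans (Nat.gcd_dvd_left k (q - 1)))
    have h3 : padicValNat r n = 1 + padicValNat r k := by
      rw [hk, padicValNat.mul hr.out.ne_zero hk0, padicValNat.self hr.out.one_lt]
    omega
  obtain ⟨e', he'⟩ := hre
  obtain ⟨G, hG⟩ := IsCyclic.exists_generator (α := Fˣ)
  obtain ⟨j, hj⟩ := (mem_powers_iff_mem_zpowers.2 (hG (Units.mk0 N hN0)) : Units.mk0 N hN0 ∈ Submonoid.powers G)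
  change G ^ j = _ at hj
  rw [← hj, ← pow_mul, ← orderOf_dvd_iff_pow_eq_one, orderOf_eq_card_of_forall_mem_zpowers hG, card_sub_one hq, he,
    mul_comm j g] at hNu
  have hrj : r ∣ j := (dvd_mul_right r e').trans (he' ▸ Nat.dvd_of_mul_dvd_mul_left (Nat.pos_of_ne_zero hg0) hNu)
  obtain ⟨l, rfl⟩ := hrj
  have hNl : ((G ^ l : Fˣ) : F) ^ r = N := by
    rw [← Units.val_pow_eq_pow_val, ← pow_mul, mul_comm l r, hj]; rfl
  rcases hr.out.eq_two_or_odd with h2 | h2
  · subst h2
    have hsq : IsSquare (-1 : F) := FiniteField.isSquare_neg_one_iff.2 (by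
      rw [hq, h4 rfl (hk ▸ even_two_mul k)]; decide)
    obtain ⟨z, hz⟩ := hsq
    refine hpow (z * ((G ^ l : Fˣ) : F)) ?_
    rw [mul_pow, hNl, pow_two, ← hz, hNdef]
    ring
  · refine hpow ((G ^ l : Fˣ) : F) ?_
    rw [hNl, hNdef, Even.neg_one_pow (Nat.even_iff.2 (by omega)), one_mul]

/-- Arithmetic: twisted maps exist. -/
theorem twist_of_not_cond (hq : Fintype.card F = q) (hrp : r ≠ p) {n : ℕ} (hn : 0 < n) (hri : r ∣ q - 1)
    (h : ¬ (padicValNat r n ≤ padicValNat r (q - 1) ∧ (r = 2 → Even n → q % 4 = 1))) :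
    ∃ k, n = r * k ∧ ∃ c : F, c ≠ 0 ∧ (∀ z : F, z ^ r ≠ c) ∧ ((-1) ^ (r + 1) * c) ^ k = 1 := by
  have hq2 : 2 ≤ q := hq ▸ Fintype.one_lt_card
  have hrn : r ∣ n := by
    by_contra hne
    exact h ⟨by rw [padicValNat.eq_zero_of_not_dvd hne]; exact Nat.zero_le _, fun h2 he => absurd (h2 ▸ he.two_dvd) hne⟩
  obtain ⟨k, hk⟩ := hrn
  refine ⟨k, hk, ?_⟩
  have hk0 : k ≠ 0 := fun h => by rw [h, mul_zero] at hk; omega
  by_cases hspec : r = 2 ∧ q % 4 = 3
  · obtain ⟨rfl, hq4⟩ := hspec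
    refine ⟨-1, neg_ne_zero.2 one_ne_zero, fun z hz => ?_, by norm_num⟩
    exact (FiniteField.isSquare_neg_one_iff.1 ⟨z, by rw [← pow_two]; exact hz.symm⟩) (hq ▸ hq4)
  have h4 : r = 2 → q % 4 = 1 := fun h2 => by
    subst h2
    obtain ⟨d, hd⟩ := hri
    have : q % 4 ≠ 3 := fun h => hspec ⟨rfl, h⟩
    omega
  have hv : padicValNat r (q - 1) < padicValNat r n := by
    by_contra hle
    exact h ⟨not_lt.1 hle, fun h2 _ => h4 h2⟩
  rw [hk, padicValNat.mul hr.out.ne_zero hk0, padicValNat.self hr.out.one_lt] at hv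
  have hak : r ^ padicValNat r (q - 1) ∣ k := (padicValNat_dvd_iff_le hk0).2 (by omega)
  obtain ⟨e, he⟩ : r ^ padicValNat r (q - 1) ∣ q - 1 := pow_padicValNat_dvd
  have hne : ¬ r ∣ e := fun hd => pow_succ_padicValNat_not_dvd (p := r) (show q - 1 ≠ 0 by omega)
    (by
      have h1 := Nat.mul_dvd_mul_left (r ^ padicValNat r (q - 1)) hd
      rwa [← pow_succ, ← he] at h1)
  obtain ⟨G, hG⟩ := IsCyclic.exists_generator (α := Fˣ)
  have hordG : orderOf G = q - 1 := (orderOf_eq_card_of_forall_mem_zpowers hG).trans (card_sub_one hq)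
  have hNk : (G ^ e) ^ k = 1 := by
    obtain ⟨l, hl⟩ := hak
    rw [← pow_mul, ← orderOf_dvd_iff_pow_eq_one, hordG, he, hl]
    exact ⟨l, by ring⟩
  refine ⟨(-1) ^ (r + 1) * ((G ^ e : Fˣ) : F), mul_ne_zero (pow_ne_zero _ (neg_ne_zero.2 one_ne_zero)) (Units.ne_zero _),
    fun z hz => ?_, ?_⟩
  · obtain ⟨ε, hε⟩ : ∃ ε : F, ε ^ r = (-1) ^ (r + 1) := by
      rcases hr.out.eq_two_or_odd with h2 | h2
      · subst h2
        obtain ⟨s, hs⟩ := (FiniteField.isSquare_neg_one_iff (F := F)).2 (by rw [hq, h4 rfl]; decide)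
        exact ⟨s, by rw [pow_two, ← hs]; norm_num⟩
      · exact ⟨1, by rw [one_pow, Even.neg_one_pow (Nat.even_iff.2 (by omega))]⟩
    have hε2 : (ε * ε) ^ r = 1 := by rw [mul_pow, hε, ← mul_pow]; simp
    have hzne : ε * z ≠ 0 := by
      intro h0
      have h1 : (ε * z) ^ r = ((G ^ e : Fˣ) : F) := by rw [mul_pow, hz, hε, ← mul_assoc, ← mul_pow]; simp
      rw [h0, zero_pow hr.out.ne_zero] at h1
      exact Units.ne_zero _ h1.symm
    have h1 : (Units.mk0 _ hzne) ^ r = G ^ e := Units.ext (by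
      rw [Units.val_pow_eq_pow_val, Units.val_mk0, mul_pow, hz, hε, ← mul_assoc, ← mul_pow]; simp)
    obtain ⟨j, hj⟩ := (mem_powers_iff_mem_zpowers.2 (hG (Units.mk0 _ hzne)) : Units.mk0 _ hzne ∈ Submonoid.powers G)
    change G ^ j = _ at hj
    rw [← hj, ← pow_mul, pow_inj_mod, hordG] at h1
    have h2 : j * r ≡ e [MOD r] := Nat.ModEq.of_dvd hri h1
    exact hne (Nat.modEq_zero_iff_dvd.1 (h2.symm.trans (Nat.modEq_zero_iff_dvd.2 (dvd_mul_left r j))))
  · rw [← mul_assoc, ← mul_pow]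
    simp only [mul_neg, mul_one, neg_neg, one_pow, one_mul]
    rw [← Units.val_pow_eq_pow_val, hNk, Units.val_one]

end

end Cfsg.Agent.Lib.MaxSub.PrimeElemFlags
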