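import Cfsg.Agent.S5964
import Cfsg.Agent.Lib.Similar.Basic
import Cfsg.Agent.Lib.MaxSub.PrimeElemFlags
import Mathlib

/-!
Linear maps with a squarefree annihilating polynomial all of whose factors are defined over a subfield.
-/

set_option autoImplicit false
set_option maxHeartbeats 1000000

namespace Cfsg.Agent.Lib.MaxSub.Descend

open Module Polynomial Cfsg.Agent.Lib.Similar
open scoped MatrixGroups

variable {F : Type*} [Field F]

/-- The relative Frobenius of a subfield of a finite field. -/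
theorem exists_frob [Fintype F] (F₀ : Subfield F) {p : ℕ} [Fact p.Prime] [CharP F p] :
    ∃ φ : F →+* F, (∀ c, φ c = c ^ Nat.card F₀) ∧ ∀ c, φ c = c ↔ c ∈ F₀ := by
  classical
  letI : Fintype F₀ := Fintype.ofFinite F₀
  have : CharP F₀ p := (RingHom.charP_iff_charP F₀.subtype p).2 inferInstance
  obtain ⟨⟨f, hf⟩, -, hcard⟩ := FiniteField.card F₀ p
  simp only [PNat.mk_coe] at hcard
  refine ⟨iterateFrobenius F p f, fun c => ?_, fun c => ?_⟩
  · rw [iterateFrobenius_def, Nat.card_eq_fintype_card, hcard]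
  rw [iterateFrobenius_def, ← hcard]
  constructor
  · intro hc
    by_contra hne
    have h1 : 1 < Fintype.card F₀ := Fintype.one_lt_card
    set S := insert c ((Finset.univ : Finset F₀).map ⟨Subtype.val, Subtype.val_injective⟩) with hS
    have hsub : S.val ⊆ ((X : F[X]) ^ Fintype.card F₀ - X).roots := by
      intro b hb
      rw [mem_roots (FiniteField.X_pow_card_sub_X_ne_zero F h1), IsRoot, eval_sub, eval_pow, eval_X, sub_eq_zero]
      rcases Finset.mem_insert.1 (show b ∈ S from hb) with rfl | hb'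
      · exact hc
      · obtain ⟨e, -, rfl⟩ := Finset.mem_map.1 hb'
        exact congrArg Subtype.val (FiniteField.pow_card e)
    have h := card_le_degree_of_subset_roots hsub
    rw [hS, Finset.card_insert_of_notMem (by simpa using hne), Finset.card_map, Finset.card_univ,
      FiniteField.X_pow_card_sub_X_natDegree_eq F h1] at h
    omega
  · intro hc
    exact congrArg Subtype.val (FiniteField.pow_card (⟨c, hc⟩ : F₀))

/-- A polynomial fixed coefficientwise comes from the subfield. -/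
theorem exists_descent {F₀ : Subfield F} (g : F[X]) (hg : ∀ i, g.coeff i ∈ F₀) :
    ∃ g₀ : F₀[X], g₀.map F₀.subtype = g := by
  have h : g ∈ lifts F₀.subtype := (lifts_iff_coeff_lifts g).2 fun i => ⟨⟨_, hg i⟩, rfl⟩
  exact (mem_lifts g).1 h

section

variable {V : Type*} [AddCommGroup V] [Module F V] [FiniteDimensional F V]

/-- A basis of cyclic blocks with entries in the subfield. -/
theorem exists_block_basis (F₀ : Subfield F) {y : End F V} {P : F[X]} (hP : Squarefree P) (hy : aeval y P = 0)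
    (hdesc : ∀ g : F[X], Irreducible g → g.Monic → g ∣ P → ∃ g₀ : F₀[X], g₀.map F₀.subtype = g) :
    ∃ (ι : Type) (_ : Fintype ι) (e : ι → ℕ) (b : Basis (Σ i, Fin (e i)) F V),
      (∀ i, ∃ g : F[X], Irreducible g ∧ g.Monic ∧ g ∣ P ∧ e i = g.natDegree) ∧
      ∀ k l, b.repr (y (b k)) l ∈ F₀ ∧ (l.1 ≠ k.1 → b.repr (y (b k)) l = 0) := by
  classical
  obtain ⟨D⟩ := nonempty_decomp y
  let φ : V ≃ₗ[F] ((i : D.ι) → F[X] ⧸ Ideal.span {D.p i ^ D.e i}) :=
    (AEval'.of y).trans (D.equiv.restrictScalars F)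
  have hφ : ∀ v, φ (y v) = (X : F[X]) • φ v := fun v => by
    simp only [φ, LinearEquiv.trans_apply, LinearEquiv.restrictScalars_apply]
    rw [← map_smul, AEval'.X_smul_of]
  have hφg : ∀ (g : F[X]) v, φ (aeval y g v) = g • φ v := fun g => by
    induction g using Polynomial.induction_on with
    | C a => intro v; rw [aeval_C, Module.algebraMap_end_apply, map_smul]; exact (algebraMap_smul F[X] a (φ v)).symm
    | add a c ha hc => intro v; rw [map_add, LinearMap.add_apply, map_add, ha, hc]; exact (add_smul a c (φ v)).symm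
    | monomial j a ih =>
      intro v
      rw [pow_succ, ← mul_assoc, map_mul, End.mul_apply, aeval_X, ih, hφ, smul_smul]
  have hdvd : ∀ i, D.p i ^ D.e i ∣ P := by
    intro i
    have h := hφg P (φ.symm (Pi.single i 1))
    rw [hy, LinearMap.zero_apply, map_zero, LinearEquiv.apply_symm_apply] at h
    have h1 := (congrFun h i).symm
    rw [Pi.smul_apply, Pi.single_eq_same, Pi.zero_apply] at h1
    change Ideal.Quotient.mk _ (P * 1) = 0 at h1
    rwa [mul_one, Ideal.Quotient.eq_zero_iff_mem, Ideal.mem_span_singleton] at h1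
  have he : ∀ i, D.e i = 1 := by
    intro i
    have h1 := D.pos i
    by_contra hne
    exact (D.irr i).not_isUnit (hP (D.p i) ((dvd_of_eq (sq (D.p i)).symm).trans
      ((pow_dvd_pow _ (by omega)).trans (hdvd i))))
  let G : D.ι → F[X] := fun i => D.p i ^ D.e i
  have hG : ∀ i, Irreducible (G i) ∧ (G i).Monic ∧ G i ∣ P := fun i =>
    ⟨by show Irreducible (D.p i ^ D.e i); rw [he, pow_one]; exact D.irr i, (D.monic i).pow _, hdvd i⟩
  let PB : ∀ i, PowerBasis F (AdjoinRoot (D.p i ^ D.e i)) := fun i => AdjoinRoot.powerBasis' ((D.monic i).pow _)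
  let bi : ∀ i, Basis (Fin (G i).natDegree) F (F[X] ⧸ Ideal.span {D.p i ^ D.e i}) := fun i => (PB i).basis
  let b : Basis (Σ i, Fin (G i).natDegree) F V := (Pi.basis bi).map φ.symm
  refine ⟨D.ι, D.fin, fun i => (G i).natDegree, b, fun i => ⟨G i, (hG i).1, (hG i).2.1, (hG i).2.2, rfl⟩, ?_⟩
  rintro ⟨i, j⟩ ⟨i', j'⟩
  have hstep : φ (y (b ⟨i, j⟩)) =
      Pi.single i ((Ideal.Quotient.mk (Ideal.span {D.p i ^ D.e i}) ((X : F[X]) ^ ((j : ℕ) + 1)))) := by
    rw [hφ, Basis.map_apply, LinearEquiv.apply_symm_apply, Pi.basis_apply]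
    refine (Pi.single_smul (f := fun i => F[X] ⧸ Ideal.span {D.p i ^ D.e i}) i (X : F[X]) (bi i j)).symm.trans ?_
    congr 1
    rw [show bi i j = (Ideal.Quotient.mk (Ideal.span {D.p i ^ D.e i}) X) ^ (j : ℕ) from
      (PB i).basis_eq_pow j, ← map_pow, pow_succ']
    rfl
  have hrep : b.repr (y (b ⟨i, j⟩)) ⟨i', j'⟩ =
      (bi i').repr ((Pi.single i ((Ideal.Quotient.mk (Ideal.span {D.p i ^ D.e i}) ((X : F[X]) ^ ((j : ℕ) + 1)))) :
        (i : D.ι) → F[X] ⧸ Ideal.span {D.p i ^ D.e i}) i') j' := by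
    show ((Pi.basis bi).map φ.symm).repr (y (b ⟨i, j⟩)) ⟨i', j'⟩ = _
    rw [Basis.map_repr, LinearEquiv.trans_apply, LinearEquiv.symm_symm, hstep, Pi.basis_repr]
  rw [hrep]
  by_cases hii : i' = i
  · subst hii
    refine ⟨?_, fun h => absurd rfl h⟩
    rw [Pi.single_eq_same]
    obtain ⟨g₀, hg₀⟩ := hdesc _ (hG i').1 (hG i').2.1 (hG i').2.2
    have hm₀ : g₀.Monic := monic_of_injective F₀.subtype.injective (hg₀ ▸ (hG i').2.1)
    show (AdjoinRoot.modByMonicHom ((D.monic i').pow (D.e i'))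
      (AdjoinRoot.mk (D.p i' ^ D.e i') ((X : F[X]) ^ ((j : ℕ) + 1)))).coeff (j' : ℕ) ∈ F₀
    rw [AdjoinRoot.modByMonicHom_mk]
    show ((X : F[X]) ^ ((j : ℕ) + 1) %ₘ G i').coeff (j' : ℕ) ∈ F₀
    rw [← hg₀, ← map_X F₀.subtype, ← Polynomial.map_pow, ← Polynomial.map_modByMonic _ hm₀, coeff_map]
    exact SetLike.coe_mem _
  · rw [Pi.single_eq_of_ne hii]
    simp [F₀.zero_mem]

end

/-- Eigenbases of maps whose annihilating polynomial splits. -/
theorem exists_eigenbasis {n r : ℕ} [Fact r.Prime] (hr : ((r : F)) ≠ 0) {y : End F (Fin n → F)} (hy : y ^ r = 1)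
    (hsplit : ∀ g : F[X], Irreducible g → g ∣ X ^ r - C 1 → g.natDegree = 1) :
    ∃ (b : Basis (Fin n) F (Fin n → F)) (e : Fin n → F), ∀ j, e j ^ r = 1 ∧ y (b j) = e j • b j := by
  classical
  obtain ⟨ι, _, d, b, hd, hb⟩ := exists_block_basis (⊤ : Subfield F) (y := y) (P := X ^ r - C 1)
    (PrimeElemFlags.sq hr one_ne_zero) (PrimeElemFlags.aeval_eq_zero (by rw [hy, one_smul]))
    (fun g _ _ _ => exists_descent g fun i => Subfield.mem_top _)
  have h1 : ∀ i, d i = 1 := fun i => by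
    obtain ⟨g, hg, -, hgd, e⟩ := hd i
    rw [e, hsplit g hg hgd]
  have hcard : Fintype.card (Σ i, Fin (d i)) = n := by
    rw [← Module.finrank_eq_card_basis b, Module.finrank_fin_fun]
  let E := Fintype.equivFinOfCardEq hcard
  have hdiag : ∀ k, y (b k) = b.repr (y (b k)) k • b k := by
    intro k
    conv_lhs => rw [← b.sum_repr (y (b k))]
    refine Finset.sum_eq_single k (fun l _ hl => ?_) fun h => absurd (Finset.mem_univ k) h
    rw [(hb k l).2 fun hlk => hl ?_, zero_smul]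
    obtain ⟨i, j⟩ := k
    obtain ⟨i', j'⟩ := l
    obtain rfl : i' = i := hlk
    have := h1 i'
    congr 1
    ext
    omega
  refine ⟨b.reindex E, fun j => b.repr (y (b (E.symm j))) (E.symm j), fun j => ⟨?_, by
    rw [Basis.reindex_apply]; exact hdiag _⟩⟩
  set k := E.symm j
  set c := b.repr (y (b k)) k
  have hpow : ∀ m : ℕ, (y ^ m) (b k) = c ^ m • b k := fun m => by
    induction m with
    | zero => simp
    | succ m ih => rw [pow_succ', End.mul_apply, ih, map_smul, hdiag k, smul_smul, ← pow_succ]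
  have h := congrArg (fun v => b.repr v k) ((hpow r).symm.trans (by rw [hy, End.one_apply]))
  simpa using h

/-- Maps whose factors descend are conjugate into the subfield group when determinants can be corrected. -/
theorem mem_of_descends {n : ℕ} (hn : 0 < n) (F₀ : Subfield F) (x : Matrix.SpecialLinearGroup (Fin n) F) {a : F}
    (ha : a ≠ 0) {P : F[X]} (hP : Squarefree P)
    (hy : aeval (a⁻¹ • Matrix.toLin' (x : Matrix (Fin n) (Fin n) F)) P = 0)
    (hdesc : ∀ g : F[X], Irreducible g → g.Monic → g ∣ P → ∃ g₀ : F₀[X], g₀.map F₀.subtype = g)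
    (hscale : ∀ g : F[X], Irreducible g → g.Monic → g ∣ P → ∀ d : F, d ≠ 0 →
      ∃ μ ∈ F₀, ∃ τ : F, d = μ * τ ^ g.natDegree) :
    ∃ Q : Matrix.SpecialLinearGroup (Fin n) F, Q⁻¹ * x * Q ∈
      ((Cfsg.Geo.subfieldSubgroup F₀ 1).comap (Matrix.SpecialLinearGroup.toGL : Matrix.SpecialLinearGroup (Fin n) F →* GL (Fin n) F)) := by
  classical
  set y := a⁻¹ • Matrix.toLin' (x : Matrix (Fin n) (Fin n) F) with hydef
  obtain ⟨ι, _, e, b, he, hb⟩ := exists_block_basis F₀ hP hy hdesc
  have hcard : Fintype.card (Σ i, Fin (e i)) = n := by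
    rw [← Module.finrank_eq_card_basis b, Module.finrank_fin_fun]
  obtain ⟨i₀⟩ : Nonempty ι := by
    by_contra hem
    rw [not_nonempty_iff] at hem
    simp at hcard
    omega
  let E := Fintype.equivFinOfCardEq hcard
  set d := ((Pi.basisFun F (Fin n)).toMatrix (b.reindex E)).det with hd
  have hd0 : d ≠ 0 := by
    rw [hd, ← Basis.det_apply]; exact ((Pi.basisFun F (Fin n)).isUnit_det (b.reindex E)).ne_zero
  obtain ⟨g, hg, hgm, hgP, hge⟩ := he i₀
  obtain ⟨μ, hμ, τ, hdμ⟩ := hscale g hg hgm hgP d⁻¹ (inv_ne_zero hd0)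
  rw [← hge] at hdμ
  have hμ0 : μ ≠ 0 := fun h => inv_ne_zero hd0 (by rw [hdμ, h, zero_mul])
  have hτ0 : τ ≠ 0 := fun h => inv_ne_zero hd0 (by
    rw [hdμ, h, zero_pow (hge ▸ hg.natDegree_pos).ne', mul_zero])
  let l₀ : Σ i, Fin (e i) := ⟨i₀, ⟨0, hge ▸ hg.natDegree_pos⟩⟩
  let t : ι → F := fun i => if i = i₀ then τ else 1
  let m : (Σ i, Fin (e i)) → F := fun l => if l = l₀ then μ else 1
  have ht : ∀ i, t i ≠ 0 := fun i => by
    show (if i = i₀ then τ else 1) ≠ 0
    split_ifs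
    exacts [hτ0, one_ne_zero]
  have hm : ∀ l, m l ≠ 0 ∧ m l ∈ F₀ := fun l => by
    show (if l = l₀ then μ else 1) ≠ 0 ∧ (if l = l₀ then μ else 1) ∈ F₀
    split_ifs
    exacts [⟨hμ0, hμ⟩, ⟨one_ne_zero, F₀.one_mem⟩]
  let w : (Σ i, Fin (e i)) → Fˣ := fun l => Units.mk0 (t l.1 * m l) (mul_ne_zero (ht _) (hm l).1)
  have hw : ∀ l, b.unitsSMul w l = (t l.1 * m l) • b l := fun l => by
    rw [Basis.unitsSMul_apply]; rfl
  refine Cfsg.Agent.S5964.mem_of_basis F₀ x ha ((b.unitsSMul w).reindex E) ?_ fun j i => ?_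
  · have e1 : (Pi.basisFun F (Fin n)).toMatrix ((b.unitsSMul w).reindex E) =
        (Pi.basisFun F (Fin n)).toMatrix (b.reindex E) * Matrix.diagonal (fun j => t (E.symm j).1 * m (E.symm j)) := by
      ext i j
      rw [Matrix.mul_diagonal]
      simp only [Basis.toMatrix_apply, Basis.reindex_apply, hw, Pi.basisFun_repr, Pi.smul_apply, smul_eq_mul]
      ring
    rw [e1, Matrix.det_mul, Matrix.det_diagonal, E.symm.prod_comp (fun l => t l.1 * m l), ← hd,
      Finset.prod_mul_distrib]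
    have h1 : ∏ l : Σ i, Fin (e i), t l.1 = τ ^ e i₀ := by
      rw [Fintype.prod_sigma, Finset.prod_eq_single i₀ (fun i _ hi => by simp [t, hi])
        (fun h => absurd (Finset.mem_univ _) h)]
      simp [t]
    rw [h1, Finset.prod_ite_eq', if_pos (Finset.mem_univ _), mul_comm (τ ^ e i₀), ← hdμ, mul_inv_cancel₀ hd0]
  · rw [Basis.reindex_apply, Basis.repr_reindex_apply]
    set k := E.symm j
    set l := E.symm i
    rw [show a⁻¹ • Matrix.toLin' (x : Matrix (Fin n) (Fin n) F) (b.unitsSMul w k) = y (b.unitsSMul w k) from rfl,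
      hw, map_smul, map_smul, Finsupp.smul_apply, Basis.repr_unitsSMul]
    show (t k.1 * m k) • ((((w l)⁻¹ : Fˣ) : F) * b.repr (y (b k)) l) ∈ F₀
    rw [Units.val_inv_eq_inv_val, Units.val_mk0, smul_eq_mul]
    by_cases hlk : l.1 = k.1
    · rw [hlk, show t k.1 * m k * ((t k.1 * m l)⁻¹ * b.repr (y (b k)) l) = m k * (m l)⁻¹ * b.repr (y (b k)) l by
        have := ht k.1
        have := (hm l).1
        field_simp]
      exact F₀.mul_mem (F₀.mul_mem (hm k).2 (F₀.inv_mem (hm l).2)) (hb k l).1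
    · rw [(hb k l).2 hlk, mul_zero, mul_zero]
      exact F₀.zero_mem

end Cfsg.Agent.Lib.MaxSub.Descend
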