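import Mathlib

/-!
Eigenspaces of linear maps normalising a group with central commutators.
-/

set_option autoImplicit false
set_option maxHeartbeats 1000000
set_option linter.unusedSectionVars false

namespace Cfsg.Agent.Lib.MaxSub.ExtraEigen

open Module
open scoped _root_.Classical

variable {F : Type*} [Field F] {V : Type*} [AddCommGroup V] [Module F V] [FiniteDimensional F V]

/-- The eigenspace of `T` inside `U`. -/
noncomputable def eig (T : End F V) (U : Submodule F V) (c : F) : Submodule F V := U ⊓ End.eigenspace T c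

theorem mem_eig {T : End F V} {U : Submodule F V} {c : F} {v : V} : v ∈ eig T U c ↔ v ∈ U ∧ T v = c • v := by
  rw [eig, Submodule.mem_inf, End.mem_eigenspace_iff]

theorem sum_le {α : Type*} [Fintype α] {T : End F V} {U : Submodule F V} {f : α → F} (hf : Function.Injective f) :
    ∑ a, finrank F (eig T U (f a)) ≤ finrank F U := by
  have hind : iSupIndep fun a => eig T U (f a) :=
    (iSupIndep.comp (End.eigenspaces_iSupIndep T) hf).mono fun a => inf_le_right
  have key : ∀ s : Finset α, ∑ a ∈ s, finrank F (eig T U (f a)) = finrank F (s.sup fun a => eig T U (f a) : Submodule F V) := by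
    intro s
    induction s using Finset.induction with
    | empty => rw [Finset.sum_empty, Finset.sup_empty, finrank_bot]
    | insert a s ha ih =>
      rw [Finset.sum_insert ha, ih, Finset.sup_insert]
      have h := Submodule.finrank_sup_add_finrank_inf_eq (eig T U (f a)) (s.sup fun a => eig T U (f a))
      have hd : eig T U (f a) ⊓ (s.sup fun a => eig T U (f a)) = ⊥ := by
        refine disjoint_iff.1 ((hind a).mono_right ?_)
        exact Finset.sup_le fun b hb => le_iSup₂_of_le b (fun e => ha (e ▸ hb)) le_rfl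
      rw [hd, finrank_bot, add_zero] at h
      exact h.symm
  rw [key]
  exact Submodule.finrank_mono (Finset.sup_le fun a _ => inf_le_left)

theorem pow_injective {ζ : F} {r : ℕ} [Fact r.Prime] (hζ : ζ ^ r = 1) (h1 : ζ ≠ 1) :
    Function.Injective fun j : ZMod r => ζ ^ j.val := by
  have hprim : IsPrimitiveRoot ζ r := orderOf_eq_prime hζ h1 ▸ IsPrimitiveRoot.orderOf ζ
  intro a b h
  exact ZMod.val_injective r (hprim.pow_inj a.val_lt b.val_lt h)

theorem pow_val_succ {ζ : F} {r : ℕ} [Fact r.Prime] (hζ : ζ ^ r = 1) (j : ZMod r) :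
    ζ ^ (j + 1).val = ζ * ζ ^ j.val := by
  rw [ZMod.val_add, ← pow_eq_pow_mod _ hζ, pow_add, ZMod.val_one, pow_one, mul_comm]

/-- A map shifting eigenvalues cyclically. -/
theorem shift_bound {r : ℕ} [hr : Fact r.Prime] {U : Submodule F V} {T S : End F V} (hS : Function.Injective S)
    (hSU : ∀ u ∈ U, S u ∈ U) {κ : F} (hκ : κ ^ r = 1) (hκ1 : κ ≠ 1) (h : ∀ u ∈ U, T (S u) = κ • S (T u)) {c : F}
    (hc : c ≠ 0) : r * finrank F (eig T U c) ≤ finrank F U := by
  have hf : Function.Injective fun j : ZMod r => κ ^ j.val * c := fun a b e =>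
    pow_injective hκ hκ1 (mul_right_cancel₀ hc e)
  have hstep : ∀ k : ℕ, finrank F (eig T U c) ≤ finrank F (eig T U (κ ^ k * c)) := by
    intro k
    induction k with
    | zero => rw [pow_zero, one_mul]
    | succ k ih =>
      refine ih.trans ?_
      rw [(Submodule.equivMapOfInjective S hS (eig T U (κ ^ k * c))).finrank_eq]
      refine Submodule.finrank_mono ?_
      rintro _ ⟨u, hu, rfl⟩
      obtain ⟨hu1, hu2⟩ := mem_eig.1 hu
      refine mem_eig.2 ⟨hSU u hu1, ?_⟩
      rw [h u hu1, hu2, map_smul, smul_smul, pow_succ', mul_assoc]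
  refine le_trans ?_ (sum_le (T := T) (U := U) hf)
  calc r * finrank F (eig T U c) = ∑ _j : ZMod r, finrank F (eig T U c) := by simp
    _ ≤ _ := Finset.sum_le_sum fun j _ => hstep j.val

/-- A map of order dividing `r` is diagonalisable over a field with a primitive `r`-th root of unity. -/
theorem decomp {r : ℕ} [hr : Fact r.Prime] {ζ : F} (hζ : ζ ^ r = 1) (hζ1 : ζ ≠ 1) {B : End F V} {U : Submodule F V}
    (hBU : ∀ u ∈ U, B u ∈ U) (hB : ∀ u ∈ U, (B ^ r) u = u) :
    ∑ j : ZMod r, finrank F (eig B U (ζ ^ j.val)) = finrank F U := by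
  refine le_antisymm (sum_le (pow_injective hζ hζ1)) ?_
  have hprim : IsPrimitiveRoot ζ r := orderOf_eq_prime hζ hζ1 ▸ IsPrimitiveRoot.orderOf ζ
  have hζ0 : ζ ≠ 0 := hprim.ne_zero hr.out.ne_zero
  have hr0 : (r : F) ≠ 0 := by
    haveI : NeZero r := ⟨hr.out.ne_zero⟩
    exact (hprim.neZero').out
  let P : ZMod r → End F V := fun j => ∑ k ∈ Finset.range r, ((ζ⁻¹) ^ (j.val * k)) • B ^ k
  have hpow : ∀ k : ℕ, ∀ u ∈ U, (B ^ k) u ∈ U := fun k => by
    induction k with
    | zero => exact fun u hu => hu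
    | succ k ih => exact fun u hu => by rw [pow_succ', End.mul_apply]; exact hBU _ (ih u hu)
  have hP : ∀ j, ∀ u ∈ U, P j u ∈ eig B U (ζ ^ j.val) := by
    intro j u hu
    refine mem_eig.2 ⟨?_, ?_⟩
    · simp only [P, LinearMap.sum_apply, LinearMap.smul_apply]
      exact U.sum_mem fun k _ => U.smul_mem _ (hpow k u hu)
    · simp only [P, LinearMap.sum_apply, LinearMap.smul_apply, map_sum, map_smul, Finset.smul_sum, smul_smul]
      have e : ∀ k, ((ζ⁻¹) ^ (j.val * k)) • B ((B ^ k) u) =
          (ζ ^ j.val * (ζ⁻¹) ^ (j.val * (k + 1))) • (B ^ (k + 1)) u := by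
        intro k
        rw [← End.mul_apply, ← pow_succ', inv_pow, inv_pow, Nat.mul_succ, pow_add]
        congr 1
        field_simp
        rw [pow_add]
      rw [Finset.sum_congr rfl fun k _ => e k, ← sub_eq_zero, ← Finset.sum_sub_distrib,
        Finset.sum_range_sub fun k => (ζ ^ j.val * (ζ⁻¹) ^ (j.val * k)) • (B ^ k) u]
      rw [mul_comm j.val r, pow_mul, inv_pow, hζ, inv_one, one_pow, hB u hu, mul_zero, pow_zero, pow_zero,
        End.one_apply, sub_self]
  have hsum : ∀ u ∈ U, ∑ j, P j u = (r : F) • u := by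
    intro u hu
    simp only [P, LinearMap.sum_apply, LinearMap.smul_apply]
    rw [Finset.sum_comm, Finset.sum_eq_single 0]
    · simp [← Nat.cast_smul_eq_nsmul F]
    · intro k hk hk0
      rw [← Finset.sum_smul]
      have hne : ζ⁻¹ ^ k ≠ 1 := fun e => by
        rw [inv_pow, inv_eq_one] at e
        exact hk0 (Nat.eq_zero_of_dvd_of_lt ((hprim.pow_eq_one_iff_dvd k).1 e) (Finset.mem_range.1 hk))
      have hs : (∑ j : ZMod r, ζ⁻¹ ^ (j.val * k)) = 0 := by
        set w := ζ⁻¹ ^ k with hw
        have hwr : w ^ r = 1 := by rw [hw, ← pow_mul, mul_comm, pow_mul, inv_pow, hζ, inv_one, one_pow]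
        simp only [mul_comm _ k, pow_mul, ← hw]
        have h2 : w * ∑ j : ZMod r, w ^ j.val = ∑ j : ZMod r, w ^ j.val := by
          rw [Finset.mul_sum]
          simp only [← pow_val_succ hwr]
          exact Equiv.sum_comp (Equiv.addRight (1 : ZMod r)) fun j => w ^ j.val
        have h3 : (w - 1) * ∑ j : ZMod r, w ^ j.val = 0 := by rw [sub_one_mul, h2, sub_self]
        exact (mul_eq_zero.1 h3).resolve_left (sub_ne_zero.2 hne)
      rw [hs, zero_smul]
    · exact fun h => absurd (Finset.mem_range.2 hr.out.pos) h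
  have hle : U ≤ Finset.univ.sup fun j : ZMod r => eig B U (ζ ^ j.val) := fun u hu => by
    have h1 : (r : F) • u ∈ Finset.univ.sup fun j : ZMod r => eig B U (ζ ^ j.val) := by
      rw [← hsum u hu]
      exact Submodule.sum_mem _ fun j hj => Finset.le_sup (f := fun j : ZMod r => eig B U (ζ ^ j.val)) hj (hP j u hu)
    exact (Submodule.smul_mem_iff _ hr0).1 h1
  refine (Submodule.finrank_mono hle).trans ?_
  induction (Finset.univ : Finset (ZMod r)) using Finset.induction with
  | empty => simp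
  | insert a s ha ih =>
    rw [Finset.sum_insert ha, Finset.sup_insert]
    exact (Submodule.finrank_add_le_finrank_add_finrank _ _).trans (Nat.add_le_add_left ih _)

/-- The cyclic chain of eigenspaces. -/
theorem cycle_bound {r : ℕ} [hr : Fact r.Prime] (hr5 : 5 ≤ r) {η ν c : F} (hη : η ^ r = 1) (hη1 : η ≠ 1) (hc : c ≠ 0)
    {U : Submodule F V} {g B Y : End F V} (hgU : ∀ u ∈ U, g u ∈ U) (hBU : ∀ u ∈ U, B u ∈ U) (hYU : ∀ u ∈ U, Y u ∈ U)
    (hY : Function.Injective Y) (hBr : ∀ u ∈ U, (B ^ r) u = u) (hgB : ∀ u ∈ U, g (B u) = B (g u))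
    (hBY : ∀ u ∈ U, B (Y u) = η • Y (B u)) (hgY : ∀ u ∈ U, g (Y u) = ν • Y (B (g u))) :
    2 * finrank F (eig g U c) ≤ finrank F U := by
  set β : ZMod r → F := fun j => η ^ j.val with hβ
  have hβi : Function.Injective β := pow_injective hη hη1
  have hβs : ∀ j, β (j + 1) = η * β j := pow_val_succ hη
  have hW : ∀ u ∈ eig g U c, B u ∈ eig g U c := fun u hu => by
    obtain ⟨h1, h2⟩ := mem_eig.1 hu
    exact mem_eig.2 ⟨hBU u h1, by rw [hgB u h1, h2, map_smul]⟩
  let M : ZMod r → Submodule F V := fun j => eig B U (β j)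
  let D : ZMod r → Submodule F V := fun j => eig B (eig g U c) (β j)
  have hD : ∀ j, ∀ w ∈ D j, w ∈ U ∧ g w = c • w ∧ B w = β j • w := fun j w hw =>
    ⟨(mem_eig.1 (mem_eig.1 hw).1).1, (mem_eig.1 (mem_eig.1 hw).1).2, (mem_eig.1 hw).2⟩
  have hsumM : ∑ j, finrank F (M j) = finrank F U := decomp hη hη1 hBU hBr
  have hsumD : ∑ j, finrank F (D j) = finrank F (eig g U c) := decomp hη hη1 hW fun u hu => hBr u (mem_eig.1 hu).1
  have h1 : ∀ j, ∀ w ∈ D j, Y w ∈ M (j + 1) ∧ g (Y w) = (ν * β j * c) • Y w := fun j w hw => by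
    obtain ⟨hU, hg, hb⟩ := hD j w hw
    refine ⟨mem_eig.2 ⟨hYU w hU, by rw [hBY w hU, hb, map_smul, smul_smul, hβs]⟩, ?_⟩
    rw [hgY w hU, hg, map_smul, hb, smul_smul, map_smul, smul_smul]
    congr 1; ring
  have h2 : ∀ j, ∀ w ∈ D j, Y (Y w) ∈ M (j + 1 + 1) ∧ g (Y (Y w)) = (ν * ν * β j * β (j + 1) * c) • Y (Y w) := fun j w hw => by
    obtain ⟨hU, -, -⟩ := hD j w hw
    obtain ⟨hM, hg⟩ := h1 j w hw
    obtain ⟨hU1, hb⟩ := mem_eig.1 hM
    refine ⟨mem_eig.2 ⟨hYU _ hU1, by rw [hBY _ hU1, hb, map_smul, smul_smul, hβs (j + 1)]⟩, ?_⟩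
    rw [hgY _ hU1, hg, map_smul, hb, smul_smul, map_smul, smul_smul]
    congr 1; ring
  have pair : ∀ (i k : ZMod r) (S : End F V) (s : F), Function.Injective S → s ≠ 1 →
      (∀ w ∈ D i, S w ∈ M k ∧ g (S w) = (s * c) • S w) → finrank F (D i) + finrank F (D k) ≤ finrank F (M k) := by
    intro i k S s hS hs h
    have hdis : (D i).map S ⊓ D k = ⊥ := by
      rw [Submodule.eq_bot_iff]
      rintro _ ⟨⟨w, hw, rfl⟩, hk⟩
      have e := (hD k _ hk).2.1
      rw [(h w hw).2, ← sub_eq_zero, ← sub_smul, ← sub_one_mul] at e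
      exact (smul_eq_zero.1 e).resolve_left (mul_ne_zero (sub_ne_zero.2 hs) hc)
    have he := Submodule.finrank_sup_add_finrank_inf_eq ((D i).map S) (D k)
    rw [hdis, finrank_bot, add_zero, ← (Submodule.equivMapOfInjective S hS (D i)).finrank_eq] at he
    rw [← he]
    refine Submodule.finrank_mono (sup_le ?_ fun w hw => mem_eig.2 ⟨(hD k w hw).1, (hD k w hw).2.2⟩)
    rintro _ ⟨w, hw, rfl⟩
    exact (h w hw).1
  have hinj1 : ∀ i i', ν * β i = 1 → ν * β i' = 1 → i = i' := fun i i' e e' =>
    hβi (mul_left_cancel₀ (fun h0 : ν = 0 => by rw [h0, zero_mul] at e; exact zero_ne_one e) (e.trans e'.symm))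
  have hinj2 : ∀ i i', ν * ν * β i * β (i + 1) = 1 → ν * ν * β i' * β (i' + 1) = 1 → i = i' := fun i i' e e' => by
    rw [hβs] at e e'
    have hν : ν ≠ 0 := fun h0 => by rw [h0] at e; simp at e
    have hη0 : η ≠ 0 := fun h0 => by rw [h0] at e; simp at e
    have h : η ^ (i + i).val = η ^ (i' + i').val := by
      rw [ZMod.val_add, ZMod.val_add, ← pow_eq_pow_mod _ hη, ← pow_eq_pow_mod _ hη, pow_add, pow_add]
      refine mul_left_cancel₀ (mul_ne_zero (mul_ne_zero hν hν) hη0) ?_
      show ν * ν * η * (β i * β i) = ν * ν * η * (β i' * β i')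
      linear_combination e - e'
    have h' : i + i = i' + i' := hβi h
    have h2 : (2 : ZMod r) ≠ 0 := by
      intro h0
      have : ((2 : ℕ) : ZMod r) = 0 := by exact_mod_cast h0
      rw [ZMod.natCast_eq_zero_iff] at this
      exact absurd (Nat.le_of_dvd two_pos this) (by omega)
    refine mul_left_cancel₀ h2 ?_
    rw [two_mul, two_mul, h']
  obtain ⟨a, ha⟩ : ∃ a, ∀ i, i ≠ a → ν * β i ≠ 1 := by
    by_cases h : ∃ i, ν * β i = 1
    · exact ⟨h.choose, fun i hi e => hi (hinj1 _ _ e h.choose_spec)⟩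
    · exact ⟨0, fun i _ e => h ⟨i, e⟩⟩
  obtain ⟨e', he'⟩ : ∃ e', ∀ i, i ≠ e' → ν * ν * β i * β (i + 1) ≠ 1 := by
    by_cases h : ∃ i, ν * ν * β i * β (i + 1) = 1
    · exact ⟨h.choose, fun i hi e => hi (hinj2 _ _ e h.choose_spec)⟩
    · exact ⟨0, fun i _ e => h ⟨i, e⟩⟩
  have hsmall : ∀ k : ℕ, 0 < k → k < r → (k : ZMod r) ≠ 0 := fun k hk hkr h0 => by
    rw [ZMod.natCast_eq_zero_iff] at h0
    exact absurd (Nat.le_of_dvd hk h0) (by omega)
  have n1 : (1 : ZMod r) ≠ 0 := by simpa using hsmall 1 (by omega) (by omega)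
  have n2 : (2 : ZMod r) ≠ 0 := by simpa using hsmall 2 (by omega) (by omega)
  have n3 : (3 : ZMod r) ≠ 0 := by simpa using hsmall 3 (by omega) (by omega)
  obtain ⟨x, hxa, hx0, hx1⟩ : ∃ x : ZMod r, (x = a ∨ x + 2 = a) ∧ x ≠ e' ∧ x + 1 ≠ e' := by
    by_cases h : a = e' ∨ a + 1 = e'
    · refine ⟨a - 2, Or.inr (by ring), ?_, ?_⟩ <;> rcases h with h | h <;> intro e
      · exact n2 (by linear_combination h - e)
      · exact n3 (by linear_combination h - e)
      · exact n1 (by linear_combination h - e)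
      · exact n2 (by linear_combination h - e)
    · push Not at h
      exact ⟨a, Or.inl rfl, h.1, h.2⟩
  let π : Equiv.Perm (ZMod r) :=
    (Equiv.addRight (1 : ZMod r)).trans (Equiv.swap (x + 1) (x + 2) * Equiv.swap (x + 2) (x + 3))
  have hπ : ∀ i, finrank F (D i) + finrank F (D (π i)) ≤ finrank F (M (π i)) := by
    intro i
    by_cases hi0 : i = x
    · subst hi0
      have e : π i = i + 1 + 1 := by
        simp only [π, Equiv.trans_apply, Equiv.coe_addRight, Equiv.Perm.mul_apply]
        rw [Equiv.swap_apply_of_ne_of_ne (a := i + 2) (b := i + 3) (x := i + 1) (fun h => n1 (by linear_combination -h))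
          (fun h => n2 (by linear_combination -h)), Equiv.swap_apply_left]
        ring
      rw [e]
      exact pair i _ (Y * Y) _ (hY.comp hY) (he' i hx0) fun w hw => h2 i w hw
    by_cases hi1 : i = x + 1
    · subst hi1
      have e : π (x + 1) = x + 1 + 1 + 1 := by
        simp only [π, Equiv.trans_apply, Equiv.coe_addRight, Equiv.Perm.mul_apply]
        rw [show x + 1 + 1 = x + 2 by ring, Equiv.swap_apply_left, Equiv.swap_apply_of_ne_of_ne
          (fun h => n2 (by linear_combination h)) (fun h => n1 (by linear_combination h))]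
        ring
      rw [e]
      exact pair (x + 1) _ (Y * Y) _ (hY.comp hY) (he' _ hx1) fun w hw => h2 (x + 1) w hw
    by_cases hi2 : i = x + 2
    · subst hi2
      have e : π (x + 2) = x + 1 := by
        simp only [π, Equiv.trans_apply, Equiv.coe_addRight, Equiv.Perm.mul_apply]
        rw [show x + 2 + 1 = x + 3 by ring, Equiv.swap_apply_right, Equiv.swap_apply_right]
      have hne : x + 1 ≠ a := fun h => by
        rcases hxa with hxa | hxa
        · exact n1 (by linear_combination h - hxa)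
        · exact n1 (by linear_combination hxa - h)
      have h := pair (x + 1) (x + 1 + 1) Y _ hY (ha _ hne) fun w hw => h1 (x + 1) w hw
      rw [show x + 1 + 1 = x + 2 by ring] at h
      have h' : finrank F (M (x + 2)) ≤ finrank F (M (x + 1)) := by
        have hmono : ∀ j, finrank F (M j) ≤ finrank F (M (j + 1)) := fun j => by
          rw [(Submodule.equivMapOfInjective Y hY (M j)).finrank_eq]
          refine Submodule.finrank_mono ?_
          rintro _ ⟨w, hw, rfl⟩
          obtain ⟨hU, hb⟩ := mem_eig.1 hw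
          exact mem_eig.2 ⟨hYU w hU, by rw [hBY w hU, hb, map_smul, smul_smul, hβs]⟩
        have hk : ∀ k : ℕ, finrank F (M (x + 2)) ≤ finrank F (M (x + 2 + k)) := fun k => by
          induction k with
          | zero => rw [Nat.cast_zero, add_zero]
          | succ k ih =>
            rw [Nat.cast_succ, ← add_assoc]
            exact ih.trans (hmono _)
        refine (hk (r - 1)).trans (le_of_eq ?_)
        have e : x + 2 + ((r - 1 : ℕ) : ZMod r) = x + 1 := by
          rw [Nat.cast_sub (by omega), ZMod.natCast_self]; push_cast; ring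
        rw [e]
      rw [e]
      omega
    · have e : π i = i + 1 := by
        simp only [π, Equiv.trans_apply, Equiv.coe_addRight, Equiv.Perm.mul_apply]
        rw [Equiv.swap_apply_of_ne_of_ne (a := x + 2) (b := x + 3) (x := i + 1) (fun h => hi1 (by linear_combination h))
          (fun h => hi2 (by linear_combination h)), Equiv.swap_apply_of_ne_of_ne (a := x + 1) (b := x + 2) (x := i + 1)
          (fun h => hi0 (by linear_combination h)) (fun h => hi1 (by linear_combination h))]
      have hne : i ≠ a := fun h => by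
        rcases hxa with hxa | hxa
        · exact hi0 (h.trans hxa.symm)
        · exact hi2 (h.trans hxa.symm)
      rw [e]
      exact pair i _ Y _ hY (ha i hne) fun w hw => h1 i w hw
  have hfin := Finset.sum_le_sum (s := Finset.univ) fun i _ => hπ i
  rw [Finset.sum_add_distrib, Equiv.sum_comp π fun i => finrank F (D i), Equiv.sum_comp π fun i => finrank F (M i),
    hsumD, hsumM] at hfin
  omega

end Cfsg.Agent.Lib.MaxSub.ExtraEigen
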