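import Cfsg.Agent.Lib.MaxSub.ExtraEigen
import Mathlib

/-!
The eigenspace bounds for maps normalising a group with central commutators.
-/

set_option autoImplicit false
set_option maxHeartbeats 1000000
set_option linter.unusedSectionVars false

namespace Cfsg.Agent.Lib.MaxSub.ExtraEigen

open Module
open scoped _root_.Classical

/-- A representation with scalar commutators, and a map of finite order normalising it up to scalars. -/
structure Setup (F : Type*) [Field F] (V : Type*) [AddCommGroup V] [Module F V] (R : Type*) [Group R] (r ϖ : ℕ) where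
  ρ : R →* End F V
  χ : R → R → Fˣ
  comm : ∀ x y, ρ x * ρ y = (χ x y : F) • (ρ y * ρ x)
  scalar : ∀ x, (∀ y, χ x y = 1) → ∃ s : F, ρ x = s • 1
  cent : ∀ T : End F V, (∀ x, T * ρ x = ρ x * T) → ∃ s : F, T = s • 1
  root : ∀ x y, χ x y ^ r = 1
  expo : Odd r → ∀ x : R, ρ x ^ r = 1
  g : End F V
  f : R → R
  lam : R → F
  conj : ∀ x, g * ρ x = lam x • (ρ (f x) * g)
  gpow : g ^ ϖ = 1

namespace Setup

variable {F : Type*} [Field F] {V : Type*} [AddCommGroup V] [Module F V] [FiniteDimensional F V] [Nontrivial V]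
  {R : Type*} [Group R] {r ϖ : ℕ} [hr : Fact r.Prime] [hϖ : Fact ϖ.Prime] (S : Setup F V R r ϖ)

theorem rho_inj (x : R) : Function.Injective (S.ρ x) := fun u v h => by
  have h' := congrArg (S.ρ x⁻¹) h
  rwa [← End.mul_apply, ← End.mul_apply, ← map_mul, inv_mul_cancel, map_one] at h'

theorem rho_ne (x : R) : S.ρ x ≠ 0 := fun h => by
  obtain ⟨v, hv⟩ := exists_ne (0 : V)
  exact hv (S.rho_inj x (by rw [h]; rfl))

theorem g_inj : Function.Injective S.g := fun u v h => by
  obtain ⟨k, hk⟩ : ∃ k, ϖ = k + 1 := ⟨ϖ - 1, by have := hϖ.out.pos; omega⟩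
  have h' := congrArg (S.g ^ k) h
  rwa [← End.mul_apply, ← End.mul_apply, ← pow_succ, ← hk, S.gpow] at h'

theorem gcancel {A B : End F V} (h : A * S.g = B * S.g) : A = B := by
  obtain ⟨k, hk⟩ : ∃ k, ϖ = k + 1 := ⟨ϖ - 1, by have := hϖ.out.pos; omega⟩
  have h' := congrArg (· * S.g ^ k) h
  simpa only [mul_assoc, ← pow_succ', ← hk, S.gpow, mul_one] using h'

theorem smul_uniq {a b : F} {x : R} (h : a • S.ρ x = b • S.ρ x) : a = b :=
  smul_left_injective F (S.rho_ne x) h

/-- The commutator character, written additively. -/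
def L (x : R) : R → Additive Fˣ := fun y => Additive.ofMul (S.χ x y)

theorem chi_of_L {x y : R} (h : S.L x y = 0) : S.χ x y = 1 := h

theorem chi_mul (a b y : R) : S.χ (a * b) y = S.χ a y * S.χ b y := by
  refine Units.ext (S.smul_uniq (x := y * (a * b)) ?_)
  rw [map_mul, map_mul, Units.val_mul, ← map_mul, ← S.comm (a * b) y, map_mul, mul_assoc, S.comm b y, mul_smul_comm,
    ← mul_assoc, S.comm a y, smul_mul_assoc, smul_smul, mul_assoc, mul_comm (S.χ b y : F)]

theorem chi_self (x : R) : S.χ x x = 1 := by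
  refine Units.ext (S.smul_uniq (x := x * x) ?_)
  rw [map_mul, Units.val_one, one_smul, ← S.comm x x]

theorem L_mul (a b : R) : S.L (a * b) = S.L a + S.L b := funext fun y => by
  show Additive.ofMul (S.χ (a * b) y) = _
  rw [S.chi_mul]; rfl

theorem L_one : S.L 1 = 0 := by
  have h := S.L_mul 1 1
  rw [one_mul] at h
  exact left_eq_add.1 h

theorem L_inv (a : R) : S.L a⁻¹ = -S.L a := by
  have h := S.L_mul a⁻¹ a
  rw [inv_mul_cancel, S.L_one] at h
  exact eq_neg_of_add_eq_zero_left h.symm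

theorem L_self (x : R) : S.L x x = 0 := S.chi_self x

theorem L_skew (x y : R) : S.L x y = -S.L y x := by
  have h : S.χ x y * S.χ y x = 1 := by
    refine Units.ext (S.smul_uniq (x := x * y) ?_)
    rw [map_mul, Units.val_mul, Units.val_one, one_smul, ← smul_smul, ← S.comm y x, ← S.comm x y]
  exact eq_neg_of_add_eq_zero_left h

theorem L_mulr (x a b : R) : S.L x (a * b) = S.L x a + S.L x b := by
  rw [S.L_skew x (a * b), S.L_mul, Pi.add_apply, neg_add, ← S.L_skew, ← S.L_skew]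

theorem L_invr (x a : R) : S.L x a⁻¹ = -S.L x a := by
  rw [S.L_skew x a⁻¹, S.L_inv, Pi.neg_apply, ← S.L_skew]

theorem L_root (x : R) : r • S.L x = 0 := funext fun y => S.root x y

theorem L_of_smul {a b : R} {s : F} (h : S.ρ a = s • S.ρ b) : S.L a = S.L b := funext fun y => by
  have hs : s ≠ 0 := fun e => S.rho_ne a (by rw [h, e, zero_smul])
  refine congrArg Additive.ofMul (Units.ext (S.smul_uniq (x := y * a) ?_))
  rw [map_mul, ← S.comm a y, h, smul_mul_assoc, S.comm b y, mul_smul_comm, smul_comm]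

theorem scalar_of_L {a b : R} (h : S.L a = S.L b) : ∃ s : F, S.ρ a = s • S.ρ b := by
  obtain ⟨s, hs⟩ := S.scalar (b⁻¹ * a) fun y => S.chi_of_L (by
    rw [S.L_mul, S.L_inv, Pi.add_apply, Pi.neg_apply, h, neg_add_cancel])
  refine ⟨s, ?_⟩
  have e := congrArg (S.ρ b * ·) hs
  rw [← map_mul, mul_inv_cancel_left, mul_smul_comm, mul_one] at e
  exact e

theorem lam_ne (x : R) : S.lam x ≠ 0 := fun e => by
  have h := S.conj x
  rw [e, zero_smul] at h
  obtain ⟨v, hv⟩ := exists_ne (0 : V)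
  exact hv (S.rho_inj x (S.g_inj (by rw [map_zero, map_zero, ← End.mul_apply, h, LinearMap.zero_apply])))

theorem L_f_f (a b : R) : S.L (S.f a) (S.f b) = S.L a b := by
  have hab : S.g * (S.ρ a * S.ρ b) = (S.lam a * S.lam b) • (S.ρ (S.f a) * S.ρ (S.f b) * S.g) := by
    rw [← mul_assoc, S.conj, smul_mul_assoc, mul_assoc, S.conj, mul_smul_comm, smul_smul, mul_assoc]
  have hba : S.g * (S.ρ b * S.ρ a) = (S.lam a * S.lam b) • (S.ρ (S.f b) * S.ρ (S.f a) * S.g) := by
    rw [← mul_assoc, S.conj, smul_mul_assoc, mul_assoc, S.conj, mul_smul_comm, smul_smul, mul_assoc, mul_comm (S.lam b)]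
  rw [S.comm a b, mul_smul_comm, hba, smul_comm, S.comm (S.f a) (S.f b), smul_mul_assoc] at hab
  have h1 := smul_right_injective (End F V) (mul_ne_zero (S.lam_ne a) (S.lam_ne b)) hab
  have h2 : (S.χ a b : F) • S.ρ (S.f b * S.f a) = (S.χ (S.f a) (S.f b) : F) • S.ρ (S.f b * S.f a) := S.gcancel (by
    rw [smul_mul_assoc, smul_mul_assoc, map_mul]; exact h1)
  exact congrArg Additive.ofMul (Units.ext (S.smul_uniq h2).symm)

theorem conj_iterate (k : ℕ) (x : R) : ∃ Λ : F, Λ ≠ 0 ∧ S.g ^ k * S.ρ x = Λ • (S.ρ (S.f^[k] x) * S.g ^ k) := by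
  induction k with
  | zero => exact ⟨1, one_ne_zero, by rw [pow_zero, one_mul, mul_one, one_smul]; rfl⟩
  | succ k ih =>
    obtain ⟨Λ, hΛ, h⟩ := ih
    refine ⟨Λ * S.lam (S.f^[k] x), mul_ne_zero hΛ (S.lam_ne _), ?_⟩
    rw [pow_succ', mul_assoc, h, mul_smul_comm, ← mul_assoc, S.conj, smul_mul_assoc, smul_smul,
      Function.iterate_succ_apply', mul_assoc]

theorem period (x : R) : S.L (S.f^[ϖ] x) = S.L x := by
  obtain ⟨Λ, -, h⟩ := S.conj_iterate ϖ x
  rw [S.gpow, one_mul, mul_one] at h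
  exact (S.L_of_smul h).symm

theorem surj (z : R) : ∃ w, S.L (S.f w) = S.L z := by
  refine ⟨S.f^[ϖ - 1] z, ?_⟩
  rw [← Function.iterate_succ_apply' S.f, show (ϖ - 1).succ = ϖ from by have := hϖ.out.pos; omega, S.period]

theorem L_f (a z w : R) (h : S.L (S.f w) = S.L z) : S.L (S.f a) z = S.L a w := by
  rw [S.L_skew (S.f a) z, ← h, S.L_f_f, ← S.L_skew]

theorem congr_f {a b : R} (h : S.L a = S.L b) : S.L (S.f a) = S.L (S.f b) := funext fun z => by
  obtain ⟨w, hw⟩ := S.surj z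
  rw [S.L_f a z w hw, S.L_f b z w hw, h]

theorem L_f_mul (a b : R) : S.L (S.f (a * b)) = S.L (S.f a) + S.L (S.f b) := funext fun z => by
  obtain ⟨w, hw⟩ := S.surj z
  rw [Pi.add_apply, S.L_f _ z w hw, S.L_f a z w hw, S.L_f b z w hw, S.L_mul, Pi.add_apply]

theorem L_f_inv (a : R) : S.L (S.f a⁻¹) = -S.L (S.f a) := funext fun z => by
  obtain ⟨w, hw⟩ := S.surj z
  rw [Pi.neg_apply, S.L_f _ z w hw, S.L_f a z w hw, S.L_inv, Pi.neg_apply]

theorem congr_iterate (k : ℕ) {a b : R} (h : S.L a = S.L b) : S.L (S.f^[k] a) = S.L (S.f^[k] b) := by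
  induction k with
  | zero => exact h
  | succ k ih => rw [Function.iterate_succ_apply', Function.iterate_succ_apply']; exact S.congr_f ih

theorem L_f2_mul (a b : R) : S.L (S.f (S.f (a * b))) = S.L (S.f (S.f a)) + S.L (S.f (S.f b)) := by
  rw [S.congr_f (b := S.f a * S.f b) (by rw [S.L_f_mul, S.L_mul]), S.L_f_mul]

theorem kpow {T A : End F V} {κ : F} (h : T * A = κ • (A * T)) (k : ℕ) : T * A ^ k = κ ^ k • (A ^ k * T) := by
  induction k with
  | zero => simp
  | succ k ih =>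
    rw [pow_succ, ← mul_assoc, ih, smul_mul_assoc, mul_assoc, h, mul_smul_comm, smul_smul, ← mul_assoc, pow_succ κ]

theorem kappa_pow {x : R} {κ : F} (h : S.g * S.ρ x = κ • (S.ρ x * S.g)) : κ ^ r = 1 := by
  obtain ⟨s, hs⟩ := S.scalar (x ^ r) fun y => S.chi_of_L (by
    have e : ∀ k : ℕ, S.L (x ^ k) = k • S.L x := fun k => by
      induction k with
      | zero => rw [pow_zero, S.L_one, zero_smul]
      | succ k ih => rw [pow_succ, S.L_mul, ih, succ_nsmul]
    rw [e, S.L_root]; rfl)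
  have hk := kpow h r
  rw [← map_pow, hs, mul_smul_comm, mul_one, smul_mul_assoc, one_mul, smul_smul] at hk
  have hs0 : s ≠ 0 := fun e => S.rho_ne (x ^ r) (by rw [hs, e, zero_smul])
  have hg : S.g ≠ 0 := fun e => by
    obtain ⟨v, hv⟩ := exists_ne (0 : V)
    exact hv (S.g_inj (by rw [e]; rfl))
  have := smul_left_injective F hg hk
  exact mul_right_cancel₀ hs0 (by rw [one_mul]; exact this.symm)

/-- `r` divides the dimension as soon as the commutator character is non-trivial. -/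
theorem dvd_finrank {x y : R} (h : S.χ x y ≠ 1) : r ∣ finrank F V := by
  have h0 : LinearMap.det (S.ρ x) * LinearMap.det (S.ρ y) ≠ 0 := by
    have hd : ∀ z, LinearMap.det (S.ρ z) ≠ 0 := fun z e => by
      have := congrArg LinearMap.det (show S.ρ z * S.ρ z⁻¹ = 1 by rw [← map_mul, mul_inv_cancel, map_one])
      rw [map_mul, e, zero_mul, map_one] at this
      exact zero_ne_one this
    exact mul_ne_zero (hd x) (hd y)
  have hd := congrArg LinearMap.det (S.comm x y)
  rw [LinearMap.det_smul, map_mul, map_mul, mul_comm (LinearMap.det (S.ρ y))] at hd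
  have h1 : (S.χ x y : F) ^ finrank F V = 1 := mul_right_cancel₀ h0 (by rw [one_mul]; exact hd.symm)
  have h2 : orderOf (S.χ x y) = r := orderOf_eq_prime (S.root x y) h
  rw [← h2]
  exact orderOf_dvd_of_pow_eq_one (Units.ext (by simpa using h1))

theorem noncentral_bound {u : R} {z : R} (h : S.χ u z ≠ 1) {s : F} (hs : s ≠ 0) :
    r * finrank F (eig (S.ρ u) ⊤ s) ≤ finrank F V := by
  have := shift_bound (r := r) (U := ⊤) (T := S.ρ u) (S.rho_inj z) (fun _ _ => Submodule.mem_top)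
    (κ := (S.χ u z : F)) (by rw [← Units.val_pow_eq_pow_val, S.root, Units.val_one]) (by simpa using h)
    (fun v _ => by rw [← End.mul_apply, S.comm, LinearMap.smul_apply, End.mul_apply]) hs
  rwa [finrank_top] at this

/-- The vectors that `y` keeps inside an eigenspace. -/
noncomputable def K (y : R) (c : F) : Submodule F V := eig S.g ⊤ c ⊓ (eig S.g ⊤ c).comap (S.ρ y)

theorem K_count (y : R) (c : F) : 2 * finrank F (eig S.g ⊤ c) ≤ finrank F V + finrank F (S.K y c) := by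
  have h := Submodule.finrank_sup_add_finrank_inf_eq (eig S.g ⊤ c) ((eig S.g ⊤ c).comap (S.ρ y))
  have hb : Function.Bijective (S.ρ y) := ⟨S.rho_inj y, LinearMap.injective_iff_surjective.1 (S.rho_inj y)⟩
  have he : finrank F ((eig S.g ⊤ c).comap (S.ρ y) : Submodule F V) = finrank F (eig S.g ⊤ c) := by
    rw [(Submodule.equivMapOfInjective (S.ρ y) hb.1 _).finrank_eq, Submodule.map_comap_eq_of_surjective hb.2]
  have hle := Submodule.finrank_le (eig S.g ⊤ c ⊔ (eig S.g ⊤ c).comap (S.ρ y))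
  rw [he] at h
  show _ ≤ _ + finrank F (eig S.g ⊤ c ⊓ _ : Submodule F V)
  omega

theorem K_spec {c : F} (hc : c ≠ 0) (y : R) (k : ℕ) :
    ∃ s : F, s ≠ 0 ∧ ∀ w ∈ S.K y c, S.ρ (y⁻¹ * S.f^[k] y) w = s • w := by
  obtain ⟨Λ, hΛ, h⟩ := S.conj_iterate k y
  refine ⟨Λ⁻¹, inv_ne_zero hΛ, fun w hw => ?_⟩
  obtain ⟨h1, h2⟩ := hw
  have hpow : ∀ u ∈ eig S.g ⊤ c, (S.g ^ k) u = c ^ k • u := fun u hu => by
    clear h
    induction k with
    | zero => simp
    | succ k ih => rw [pow_succ', End.mul_apply, ih, map_smul, (mem_eig.1 hu).2, smul_smul, ← pow_succ]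
  have e := LinearMap.congr_fun h w
  rw [End.mul_apply, hpow _ h2, LinearMap.smul_apply, End.mul_apply, hpow _ h1, map_smul, smul_smul, mul_comm Λ,
    ← smul_smul] at e
  have e2 : S.ρ y w = Λ • S.ρ (S.f^[k] y) w := smul_right_injective V (pow_ne_zero k hc) e
  have e3 : S.ρ (S.f^[k] y) w = Λ⁻¹ • S.ρ y w := by rw [e2, inv_smul_smul₀ hΛ]
  rw [map_mul, End.mul_apply, e3, map_smul, ← End.mul_apply, ← map_mul, inv_mul_cancel, map_one, End.one_apply]

theorem half_of_noncommuting {c : F} (hc : c ≠ 0) {y : R}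
    (h : S.χ (y⁻¹ * S.f y) (y⁻¹ * S.f (S.f y)) ≠ 1) : 2 * finrank F (eig S.g ⊤ c) ≤ finrank F V := by
  obtain ⟨s₁, -, h1⟩ := S.K_spec hc y 1
  obtain ⟨s₂, -, h2⟩ := S.K_spec hc y 2
  have hK : S.K y c = ⊥ := by
    rw [Submodule.eq_bot_iff]
    intro w hw
    have h1w : S.ρ (y⁻¹ * S.f y) w = s₁ • w := h1 w hw
    have h2w : S.ρ (y⁻¹ * S.f (S.f y)) w = s₂ • w := h2 w hw
    have e := LinearMap.congr_fun (S.comm (y⁻¹ * S.f y) (y⁻¹ * S.f (S.f y))) w
    rw [End.mul_apply, LinearMap.smul_apply, End.mul_apply, h2w, map_smul, h1w, map_smul, h2w, smul_smul, smul_smul,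
      smul_smul] at e
    by_contra hw0
    refine h (Units.ext ?_)
    have e2 := smul_left_injective F hw0 e
    have hs1 : s₁ ≠ 0 := fun e => hw0 (S.rho_inj (y⁻¹ * S.f y) (by rw [h1w, e, zero_smul, map_zero]))
    have hs2 : s₂ ≠ 0 := fun e => hw0 (S.rho_inj (y⁻¹ * S.f (S.f y)) (by rw [h2w, e, zero_smul, map_zero]))
    have e3 : (S.χ (y⁻¹ * S.f y) (y⁻¹ * S.f (S.f y)) : F) * (s₁ * s₂) = 1 * (s₁ * s₂) := by linear_combination -e2
    exact mul_right_cancel₀ (mul_ne_zero hs1 hs2) e3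
  have := S.K_count y c
  rw [hK, finrank_bot] at this
  omega

/-- The general bound for a moved class. -/
theorem bound_moved {c : F} (hc : c ≠ 0) {y : R} (hy : S.L (S.f y) ≠ S.L y) :
    r * (2 * finrank F (eig S.g ⊤ c)) ≤ (r + 1) * finrank F V := by
  obtain ⟨z, hz⟩ : ∃ z, S.χ (y⁻¹ * S.f y) z ≠ 1 := by
    by_contra hne
    push Not at hne
    apply hy
    have h0 : S.L (y⁻¹ * S.f y) = 0 := funext fun z => hne z
    rw [S.L_mul, S.L_inv] at h0
    exact (neg_add_eq_zero.1 h0).symm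
  obtain ⟨s, hs, h1⟩ := S.K_spec hc y 1
  have hle : S.K y c ≤ eig (S.ρ (y⁻¹ * S.f y)) ⊤ s := fun w hw => mem_eig.2 ⟨Submodule.mem_top, h1 w hw⟩
  have h2 := Nat.mul_le_mul_left r ((S.K_count y c).trans (Nat.add_le_add_left (Submodule.finrank_mono hle) _))
  have h3 := S.noncentral_bound hz hs
  rw [mul_add] at h2
  rw [add_mul, one_mul]
  omega

/-- The bound when all classes are fixed. -/
theorem half_of_trivial (hg : ∀ a : F, S.g ≠ a • 1) (h : ∀ x, S.L (S.f x) = S.L x) {c : F} (hc : c ≠ 0) :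
    2 * finrank F (eig S.g ⊤ c) ≤ finrank F V ∧ r ∣ finrank F V := by
  obtain ⟨x, κ, hx, hκ⟩ : ∃ (x : R) (κ : F), S.g * S.ρ x = κ • (S.ρ x * S.g) ∧ κ ≠ 1 := by
    by_contra hne
    push Not at hne
    obtain ⟨a, ha⟩ := S.cent S.g fun x => by
      obtain ⟨s, hs⟩ := S.scalar_of_L (h x)
      have e := S.conj x
      rw [hs, smul_mul_assoc, smul_smul] at e
      rwa [hne x _ e, one_smul] at e
    exact hg a ha
  have hb := shift_bound (r := r) (U := ⊤) (T := S.g) (S.rho_inj x) (fun _ _ => Submodule.mem_top) (S.kappa_pow hx) hκ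
    (fun v _ => by rw [← End.mul_apply, hx, LinearMap.smul_apply, End.mul_apply]) hc
  rw [finrank_top] at hb
  refine ⟨(Nat.mul_le_mul_right _ hr.out.two_le).trans hb, ?_⟩
  obtain ⟨y, hy⟩ : ∃ y, S.χ x y ≠ 1 := by
    by_contra hne
    push Not at hne
    obtain ⟨s, hs⟩ := S.scalar x hne
    have hs0 : s ≠ 0 := fun e => S.rho_ne x (by rw [hs, e, zero_smul])
    rw [hs, mul_smul_comm, mul_one, smul_mul_assoc, one_mul, smul_smul] at hx
    have hg0 : S.g ≠ 0 := fun e => hg 0 (by rw [e, zero_smul])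
    exact hκ (mul_right_cancel₀ hs0 (by rw [one_mul]; exact (smul_left_injective F hg0 hx).symm))
  exact S.dvd_finrank hy

theorem fixed_of_two {u : R} (hodd : Odd ϖ) (h : S.L (S.f (S.f u)) = S.L u) : S.L (S.f u) = S.L u := by
  have e : ∀ k : ℕ, S.L (S.f^[2 * k + 1] u) = S.L (S.f u) := fun k => by
    induction k with
    | zero => rfl
    | succ k ih =>
      rw [show 2 * (k + 1) + 1 = (2 * k + 1) + 2 by ring, Function.iterate_add_apply]
      refine (S.congr_iterate (2 * k + 1) (a := S.f^[2] u) (b := u) h).trans ih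
  obtain ⟨k, hk⟩ := hodd
  rw [← e k, ← hk, S.period]

/-- A fixed class `u` with `f x = x + u` vanishes in coprime order. -/
theorem drop_eq_zero (hne : ϖ ≠ r) {u x : R} (hu : S.L (S.f u) = S.L u) (hx : S.L (S.f x) = S.L x + S.L u) : S.L u = 0 := by
  have e : ∀ k : ℕ, S.L (S.f^[k] x) = S.L x + k • S.L u := fun k => by
    induction k with
    | zero => simp
    | succ k ih =>
      rw [Function.iterate_succ_apply]
      have h1 : S.L (S.f^[k] (S.f x)) = S.L (S.f^[k] (x * u)) := S.congr_iterate k (by rw [hx, S.L_mul])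
      have hm : ∀ j, S.L (S.f^[j] (x * u)) = S.L (S.f^[j] x) + S.L u := fun j => by
        induction j with
        | zero => exact S.L_mul x u
        | succ j ihj =>
          rw [Function.iterate_succ_apply', Function.iterate_succ_apply',
            S.congr_f (b := S.f^[j] x * u) (by rw [ihj, S.L_mul]), S.L_f_mul, hu]
      rw [h1, hm, ih, succ_nsmul]
      abel
  have h1 := e ϖ
  rw [S.period] at h1
  have h2 : ϖ • S.L u = 0 := left_eq_add.1 h1
  have hd1 := addOrderOf_dvd_of_nsmul_eq_zero h2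
  have hd2 := addOrderOf_dvd_of_nsmul_eq_zero (S.L_root u)
  have : addOrderOf (S.L u) = 1 :=
    Nat.eq_one_of_dvd_coprimes ((Nat.coprime_primes hϖ.out hr.out).2 hne) hd1 hd2
  exact AddMonoid.addOrderOf_eq_one_iff.1 this

/-- The difference of a class and its image. -/
def ψ (x : R) : R := x⁻¹ * S.f x

theorem L_psi (x : R) : S.L (S.ψ x) = S.L (S.f x) - S.L x := by
  rw [ψ, S.L_mul, S.L_inv, neg_add_eq_sub]

theorem L_f_psi (x : R) : S.L (S.f (S.ψ x)) = S.L (S.f (S.f x)) - S.L (S.f x) := by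
  rw [ψ, S.L_f_mul, S.L_f_inv, neg_add_eq_sub]

/-- When the differences commute, the third difference of every class vanishes. -/
theorem third_zero (hodd : Odd ϖ) (H : ∀ y : R, S.χ (y⁻¹ * S.f y) (y⁻¹ * S.f (S.f y)) = 1) (w : R) :
    S.L (S.f w) = S.L w ∨ (Odd r ∧ S.L (S.ψ (S.ψ (S.ψ w))) = 0) := by
  have E : ∀ y, S.L y (S.f (S.f y)) = S.L y (S.f y) + S.L y (S.f y) := fun y => by
    have e : S.L (y⁻¹ * S.f y) (y⁻¹ * S.f (S.f y)) = 0 := H y
    rw [S.L_mul, S.L_inv, Pi.add_apply, Pi.neg_apply, S.L_mulr, S.L_mulr, S.L_invr, S.L_invr, S.L_self,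
      S.L_skew (S.f y) y, S.L_f_f] at e
    rw [← sub_eq_zero, ← neg_eq_zero, ← e]
    abel
  have hr2 : ∀ a b x : R, S.L x (S.f (a * b)) = S.L x (S.f a) + S.L x (S.f b) := fun a b x => by
    rw [S.L_skew x, S.L_f_mul, Pi.add_apply, neg_add, ← S.L_skew, ← S.L_skew]
  have hr3 : ∀ a b x : R, S.L x (S.f (S.f (a * b))) = S.L x (S.f (S.f a)) + S.L x (S.f (S.f b)) := fun a b x => by
    rw [S.L_skew x, S.L_f2_mul, Pi.add_apply, neg_add, ← S.L_skew, ← S.L_skew]
  have P : ∀ y z, S.L y (S.f (S.f z)) + S.L z (S.f (S.f y)) =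
      S.L y (S.f z) + S.L z (S.f y) + (S.L y (S.f z) + S.L z (S.f y)) := fun y z => by
    have e := E (y * z)
    rw [S.L_mul, Pi.add_apply, Pi.add_apply, hr3, hr3, hr2, hr2, E y, E z] at e
    rw [← sub_eq_zero] at e ⊢
    rw [← e]
    abel
  have Q : ∀ v, S.L (S.f (S.f (S.f (S.f v)))) - S.L v =
      (S.L (S.f (S.f (S.f v))) - S.L (S.f v)) + (S.L (S.f (S.f (S.f v))) - S.L (S.f v)) := fun v => funext fun y => by
    have e := P y (S.f (S.f v))
    rw [S.L_f_f (S.f v) (S.f y), S.L_f_f v y, S.L_f_f (S.f v) y, S.L_skew y (S.f (S.f (S.f (S.f v)))),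
      S.L_skew y (S.f (S.f (S.f v)))] at e
    simp only [Pi.add_apply, Pi.sub_apply]
    rw [← sub_eq_zero] at e ⊢
    rw [← neg_eq_zero, ← e]
    abel
  rcases hr.out.eq_two_or_odd' with h2 | h2
  · left
    subst h2
    have h4 : S.L (S.f (S.f (S.f (S.f w)))) = S.L w := by
      have e2 : ∀ v, S.L v + S.L v = 0 := fun v => by rw [← two_nsmul]; exact S.L_root v
      have e := Q w
      rw [sub_add_sub_comm, e2, e2, sub_zero, sub_eq_zero] at e
      exact e
    have e : ∀ j : ℕ, S.L (S.f^[4 * j] w) = S.L w := fun j => by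
      induction j with
      | zero => rfl
      | succ j ih =>
        rw [Nat.mul_succ, Function.iterate_add_apply]
        exact (S.congr_iterate (4 * j) (a := S.f^[4] w) (b := w) h4).trans ih
    have e' : ∀ j : ℕ, S.L (S.f^[ϖ * j] w) = S.L w := fun j => by
      induction j with
      | zero => rfl
      | succ j ih =>
        rw [Nat.mul_succ, Function.iterate_add_apply]
        exact (S.congr_iterate (ϖ * j) (S.period w)).trans ih
    obtain ⟨k, hk⟩ := hodd
    rcases Nat.even_or_odd k with ⟨l, rfl⟩ | ⟨l, rfl⟩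
    · have h := (congrArg (fun n => S.L (S.f^[n] w)) (show ϖ * 1 = 4 * l + 1 by omega)).symm.trans (e' 1)
      rw [Function.iterate_succ_apply', S.congr_f (e l)] at h
      exact h
    · have h := (congrArg (fun n => S.L (S.f^[n] w)) (show ϖ * 3 = 4 * (3 * l + 2) + 1 by omega)).symm.trans (e' 3)
      rw [Function.iterate_succ_apply', S.congr_f (e (3 * l + 2))] at h
      exact h
  · right
    refine ⟨h2, ?_⟩
    set D := S.ψ (S.ψ (S.ψ w)) with hD
    have hffpsi : S.L (S.f (S.f (S.ψ w))) = S.L (S.f (S.f (S.f w))) - S.L (S.f (S.f w)) := by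
      rw [ψ, S.L_f2_mul, S.congr_f (b := (S.f w)⁻¹) (by rw [S.L_f_inv, S.L_inv]), S.L_f_inv, neg_add_eq_sub]
    have h1 : S.L D = S.L (S.f (S.f (S.f w))) - 3 • S.L (S.f (S.f w)) + 3 • S.L (S.f w) - S.L w := by
      rw [hD, S.L_psi, S.L_f_psi, S.L_psi, hffpsi, S.L_f_psi, S.L_psi]
      abel
    have h1' : S.L (S.f D) = S.L (S.f (S.f (S.f (S.f w)))) - 3 • S.L (S.f (S.f (S.f w))) + 3 • S.L (S.f (S.f w)) - S.L (S.f w) := by
      have e : S.L D = S.L (S.f (S.f (S.f w)) * (S.f (S.f w))⁻¹ * (S.f (S.f w))⁻¹ * (S.f (S.f w))⁻¹ *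
          S.f w * S.f w * S.f w * w⁻¹) := by
        rw [h1]; simp only [S.L_mul, S.L_inv]; abel
      rw [S.congr_f e]
      simp only [S.L_f_mul, S.L_f_inv]
      abel
    have hneg : S.L (S.f D) = -S.L D := by
      have e := Q w
      rw [← sub_eq_zero] at e ⊢
      rw [← e, h1, h1']
      abel
    have hff : S.L (S.f (S.f D)) = S.L D := by
      rw [S.congr_f (b := D⁻¹) (by rw [hneg, S.L_inv]), S.L_f_inv, hneg, neg_neg]
    have hfix := S.fixed_of_two hodd hff
    have h20 : 2 • S.L D = 0 := by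
      rw [two_nsmul]
      nth_rw 1 [← hfix]
      rw [hneg, neg_add_cancel]
    have hd1 := addOrderOf_dvd_of_nsmul_eq_zero h20
    have hd2 := addOrderOf_dvd_of_nsmul_eq_zero (S.L_root D)
    exact AddMonoid.addOrderOf_eq_one_iff.1
      (Nat.eq_one_of_dvd_coprimes (Nat.coprime_two_left.2 h2) hd1 hd2)

theorem moved_pairing (hodd : Odd ϖ) {x : R} (hx : S.L (S.f x) ≠ S.L x) : ∃ y, S.L y (S.f y) ≠ 0 := by
  by_contra hne
  push Not at hne
  apply hx
  have hr2 : ∀ a b x : R, S.L x (S.f (a * b)) = S.L x (S.f a) + S.L x (S.f b) := fun a b x => by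
    rw [S.L_skew x, S.L_f_mul, Pi.add_apply, neg_add, ← S.L_skew, ← S.L_skew]
  refine S.fixed_of_two hodd (funext fun y => ?_)
  have e := hne (y * S.f x)
  rw [S.L_mul, Pi.add_apply, hr2, hr2, hne y, hne (S.f x), zero_add, add_zero, S.L_f_f, S.L_skew y (S.f (S.f x))] at e
  exact neg_add_eq_zero.1 e

theorem half_of_unipotent (hr5 : 5 ≤ r) {c : F} (hc : c ≠ 0) {y : R}
    (h3 : S.L (S.ψ (S.ψ (S.ψ y))) = 0) (hH : S.χ (y⁻¹ * S.f y) (y⁻¹ * S.f (S.f y)) = 1)
    (hE : S.L y (S.f (S.f y)) = S.L y (S.f y) + S.L y (S.f y)) (hy : S.L y (S.f y) ≠ 0) :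
    2 * finrank F (eig S.g ⊤ c) ≤ finrank F V := by
  have hodd : Odd r := hr.out.eq_two_or_odd'.resolve_left (by omega)
  set m := S.ψ y with hm
  set a := S.ψ m with ha
  have hfy : S.f y = y * m := (mul_inv_cancel_left y (S.f y)).symm
  have hfm : S.f m = m * a := (mul_inv_cancel_left m (S.f m)).symm
  have hfa : S.L (S.f a) = S.L a := by
    have e : S.L (S.f a) - S.L a = 0 := by rw [← S.L_psi]; exact h3
    exact sub_eq_zero.1 e
  have hfmL : S.L (S.f m) = S.L (S.f (S.f y)) - S.L (S.f y) := S.L_f_psi y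
  have hmy : S.L m y ≠ 0 := by
    rw [hm, S.L_psi, Pi.sub_apply, S.L_self, sub_zero, S.L_skew]
    exact neg_ne_zero.2 hy
  have hma : S.L m a = 0 := by
    have e : S.L m (y⁻¹ * S.f (S.f y)) = 0 := hH
    rw [S.L_mulr, S.L_invr] at e
    have e1 : S.L m (S.f y) = S.L m y := by rw [hfy, S.L_mulr, S.L_self, add_zero]
    rw [ha, S.L_skew, S.L_psi, Pi.sub_apply, S.L_self, sub_zero, hfmL, Pi.sub_apply, neg_sub, S.L_skew (S.f y) m,
      S.L_skew (S.f (S.f y)) m, e1, ← e]
    abel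
  have hya : S.L y a = 0 := by
    rw [S.L_skew, ha, S.L_psi, Pi.sub_apply, hfmL, Pi.sub_apply, hm, S.L_psi, Pi.sub_apply, S.L_self,
      S.L_skew (S.f (S.f y)) y, S.L_skew (S.f y) y, hE]
    abel
  have comm' : ∀ u v : R, S.L u v = 0 → ∀ w, S.ρ u (S.ρ v w) = S.ρ v (S.ρ u w) := fun u v h w => by
    have e := LinearMap.congr_fun (S.comm u v) w
    rw [show S.χ u v = 1 from h, Units.val_one, one_smul] at e
    exact e
  obtain ⟨s, hs⟩ := S.scalar_of_L hfa
  have hga : S.g * S.ρ a = (S.lam a * s) • (S.ρ a * S.g) := by rw [S.conj, hs, smul_mul_assoc, smul_smul]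
  by_cases hμ : S.lam a * s = 1
  swap
  · have hb := shift_bound (r := r) (U := ⊤) (T := S.g) (S.rho_inj a) (fun _ _ => Submodule.mem_top) (S.kappa_pow hga) hμ
      (fun v _ => by rw [← End.mul_apply, hga, LinearMap.smul_apply, End.mul_apply]) hc
    rw [finrank_top] at hb
    exact (Nat.mul_le_mul_right _ hr.out.two_le).trans hb
  rw [hμ, one_smul] at hga
  have hgA : ∀ v, S.g (S.ρ a v) = S.ρ a (S.g v) := fun v => LinearMap.congr_fun hga v
  set η : F := (S.χ m y : F) with hη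
  have hηr : η ^ r = 1 := by rw [hη, ← Units.val_pow_eq_pow_val, S.root, Units.val_one]
  have hη1 : η ≠ 1 := fun e => hmy (by
    show Additive.ofMul (S.χ m y) = 0
    rw [Units.val_eq_one.1 e]; rfl)
  have hAr : ∀ v, (S.ρ a ^ r) v = v := fun v => by rw [S.expo hodd]; rfl
  have hW : ∀ u ∈ eig S.g ⊤ c, S.ρ a u ∈ eig S.g ⊤ c := fun u hu =>
    mem_eig.2 ⟨Submodule.mem_top, by rw [hgA, (mem_eig.1 hu).2, map_smul]⟩
  have htop := decomp hηr hη1 (B := S.ρ a) (U := ⊤) (fun _ _ => Submodule.mem_top) fun v _ => hAr v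
  rw [finrank_top] at htop
  rw [← decomp hηr hη1 (B := S.ρ a) (U := eig S.g ⊤ c) hW (fun v _ => hAr v), ← htop, Finset.mul_sum]
  refine Finset.sum_le_sum fun j _ => ?_
  set E := eig (S.ρ a) ⊤ (η ^ j.val) with hE'
  have hcomm : eig (S.ρ a) (eig S.g ⊤ c) (η ^ j.val) = eig S.g E c := by
    ext v
    simp only [hE', mem_eig, Submodule.mem_top, true_and]
    exact and_comm
  rw [hcomm]
  have hinv : ∀ T : End F V, (∀ v, S.ρ a (T v) = T (S.ρ a v)) → ∀ u ∈ E, T u ∈ E := fun T hT u hu =>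
    mem_eig.2 ⟨Submodule.mem_top, by rw [hT, (mem_eig.1 hu).2, map_smul]⟩
  have hgE := hinv S.g fun v => (hgA v).symm
  have hBE := hinv (S.ρ m) fun v => (comm' m a hma v).symm
  have hYE := hinv (S.ρ y) fun v => (comm' y a hya v).symm
  have hgB : ∀ u ∈ E, S.g (S.ρ m u) = (S.lam m * η ^ j.val) • S.ρ m (S.g u) := fun u hu => by
    rw [← End.mul_apply, S.conj, LinearMap.smul_apply, End.mul_apply, hfm, map_mul, End.mul_apply,
      (mem_eig.1 (hgE u hu)).2, map_smul, smul_smul]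
  have hBr : ∀ u ∈ E, (S.ρ m ^ r) u = u := fun u _ => by rw [S.expo hodd]; rfl
  by_cases hκ : S.lam m * η ^ j.val = 1
  · refine cycle_bound hr5 hηr hη1 hc (U := E) (B := S.ρ m) (Y := S.ρ y) (ν := S.lam y) hgE hBE hYE (S.rho_inj y) hBr
      (fun u hu => by rw [hgB u hu, hκ, one_smul]) (fun u _ => ?_) (fun u _ => ?_)
    · exact LinearMap.congr_fun (S.comm m y) u
    · rw [← End.mul_apply, S.conj, LinearMap.smul_apply, End.mul_apply, hfy, map_mul, End.mul_apply]
  · by_cases hE0 : E = ⊥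
    · have : finrank F (eig S.g E c) ≤ finrank F E := Submodule.finrank_mono inf_le_left
      rw [hE0, finrank_bot] at this ⊢
      omega
    have hκr : (S.lam m * η ^ j.val) ^ r = 1 := by
      obtain ⟨u, hu, hu0⟩ := (Submodule.ne_bot_iff E).1 hE0
      have key : ∀ k : ℕ, (S.ρ m ^ k) u ∈ E ∧
          S.g ((S.ρ m ^ k) u) = (S.lam m * η ^ j.val) ^ k • (S.ρ m ^ k) (S.g u) := fun k => by
        induction k with
        | zero => exact ⟨hu, by rw [pow_zero, pow_zero, one_smul, End.one_apply, End.one_apply]⟩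
        | succ k ih =>
          refine ⟨by rw [pow_succ', End.mul_apply]; exact hBE _ ih.1, ?_⟩
          rw [pow_succ', End.mul_apply, hgB _ ih.1, ih.2, map_smul, smul_smul, ← End.mul_apply, ← pow_succ']
      have e := (key r).2
      rw [S.expo hodd, End.one_apply, End.one_apply] at e
      have hg0 : S.g u ≠ 0 := fun e => hu0 (S.g_inj (by rw [e, map_zero]))
      exact smul_left_injective F hg0 (show _ • S.g u = (1 : F) • S.g u by rw [one_smul, ← e])
    exact (Nat.mul_le_mul_right _ hr.out.two_le).trans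
      (shift_bound (r := r) (U := E) (T := S.g) (S.rho_inj m) hBE hκr hκ hgB hc)

/-- The main bounds. -/
theorem main (hg : ∀ a : F, S.g ≠ a • 1) {c : F} (hc : c ≠ 0) :
    (ϖ = 2 → 4 * finrank F (eig S.g ⊤ c) ≤ 3 * finrank F V) ∧
    (ϖ = 3 → 3 * finrank F (eig S.g ⊤ c) ≤ 2 * finrank F V) ∧
    (3 < ϖ → 2 * finrank F (eig S.g ⊤ c) ≤ finrank F V) ∧
    (ϖ = 3 → ¬ 3 ∣ finrank F V → 2 * finrank F (eig S.g ⊤ c) ≤ finrank F V) := by
  have key : 2 * finrank F (eig S.g ⊤ c) ≤ finrank F V ∨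
      (r * (2 * finrank F (eig S.g ⊤ c)) ≤ (r + 1) * finrank F V ∧ r ∣ finrank F V ∧ (ϖ = 2 ∨ (ϖ = 3 ∧ r = 3))) := by
    by_cases h : ∀ x, S.L (S.f x) = S.L x
    · exact Or.inl (S.half_of_trivial hg h hc).1
    push Not at h
    obtain ⟨x, hx⟩ := h
    have hb := S.bound_moved hc hx
    have hdvd : r ∣ finrank F V := by
      by_contra hnd
      apply hx
      have h1 : ∀ u v, S.χ u v = 1 := fun u v => by_contra fun hne => hnd (S.dvd_finrank hne)
      funext z
      exact congrArg Additive.ofMul ((h1 _ _).trans (h1 _ _).symm)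
    rcases hϖ.out.eq_two_or_odd' with h2 | hodd
    · exact Or.inr ⟨hb, hdvd, Or.inl h2⟩
    by_cases hH : ∀ y : R, S.χ (y⁻¹ * S.f y) (y⁻¹ * S.f (S.f y)) = 1
    swap
    · push Not at hH
      obtain ⟨y, hy⟩ := hH
      exact Or.inl (S.half_of_noncommuting hc hy)
    obtain ⟨y, hy⟩ := S.moved_pairing hodd hx
    have hmoved : S.L (S.f y) ≠ S.L y := fun e => hy (by rw [S.L_skew, e, S.L_self, neg_zero])
    obtain ⟨hr', h3⟩ := (S.third_zero hodd hH y).resolve_left hmoved
    by_cases hne : ϖ = r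
    swap
    · exfalso
      have dz : ∀ x, S.L (S.ψ (S.ψ x)) = 0 → S.L (S.ψ x) = 0 := fun x e => by
        refine S.drop_eq_zero hne (u := S.ψ x) (x := x) ?_ (by rw [S.L_psi]; abel)
        rw [← sub_eq_zero, ← S.L_psi]; exact e
      exact hmoved (sub_eq_zero.1 ((S.L_psi y).symm.trans (dz y (dz (S.ψ y) h3))))
    rcases Nat.lt_or_ge r 5 with h5 | h5
    · refine Or.inr ⟨hb, hdvd, Or.inr ?_⟩
      have := hr.out.two_le
      obtain ⟨k, hk⟩ := hr'
      omega
    · refine Or.inl (S.half_of_unipotent h5 hc h3 (hH y) ?_ hy)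
      have e : S.L (y⁻¹ * S.f y) (y⁻¹ * S.f (S.f y)) = 0 := hH y
      rw [S.L_mul, S.L_inv, Pi.add_apply, Pi.neg_apply, S.L_mulr, S.L_mulr, S.L_invr, S.L_invr, S.L_self,
        S.L_skew (S.f y) y, S.L_f_f] at e
      rw [← sub_eq_zero, ← neg_eq_zero, ← e]
      abel
  have hle : finrank F (eig S.g ⊤ c) ≤ finrank F V := Submodule.finrank_le _
  rcases key with k | ⟨k, hd, hcase⟩
  · refine ⟨fun _ => by omega, fun _ => by omega, fun _ => k, fun _ _ => k⟩
  refine ⟨fun _ => ?_, fun h3 => ?_, fun h => by omega, fun h3 hn => absurd hd ?_⟩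
  · have := Nat.mul_le_mul_left 2 k
    have h2 := hr.out.two_le
    nlinarith
  · obtain ⟨-, rfl⟩ := hcase.resolve_left (by omega)
    omega
  · obtain ⟨-, rfl⟩ := hcase.resolve_left (by omega)
    exact hn

end Setup

end Cfsg.Agent.Lib.MaxSub.ExtraEigen
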