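import Cfsg.Prelude.Def_GeometricClasses
import Mathlib

/-!
The extraspecial group of order `27` and exponent `3` in dimension three: standard form, normalizer elements,
centralizer.
-/

set_option autoImplicit false
set_option maxHeartbeats 1000000

namespace Cfsg.Agent.Lib.MaxSub.Heisenberg

open Matrix

variable {F : Type*} [Field F]

/-- A diagonal matrix with unit entries. -/
def diagU (d : Fin 3 → Fˣ) : GL (Fin 3) F :=
  ⟨Matrix.diagonal fun i => (d i : F), Matrix.diagonal fun i => ((d i)⁻¹ : Fˣ),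
    by rw [Matrix.diagonal_mul_diagonal, ← Matrix.diagonal_one]; congr 1; funext i; exact Units.mul_inv _,
    by rw [Matrix.diagonal_mul_diagonal, ← Matrix.diagonal_one]; congr 1; funext i; exact Units.inv_mul _⟩

theorem diagU_val (d : Fin 3 → Fˣ) : (diagU d : Matrix (Fin 3) (Fin 3) F) = Matrix.diagonal fun i => (d i : F) := rfl

theorem diagU_mul (d e : Fin 3 → Fˣ) : diagU (F := F) (d * e) = diagU d * diagU e := by
  refine Units.ext ?_
  rw [Units.val_mul, diagU_val, diagU_val, diagU_val, Matrix.diagonal_mul_diagonal]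
  rfl

theorem diagU_one : diagU (F := F) 1 = 1 := by
  refine Units.ext ?_
  rw [diagU_val, Units.val_one, ← Matrix.diagonal_one]
  rfl

theorem diagU_pow (d : Fin 3 → Fˣ) (k : ℕ) : diagU (F := F) (d ^ k) = diagU d ^ k := by
  induction k with
  | zero => rw [pow_zero, pow_zero, diagU_one]
  | succ k ih => rw [pow_succ, pow_succ, diagU_mul, ih]

theorem diagU_inv (d : Fin 3 → Fˣ) : (diagU (F := F) d)⁻¹ = diagU d⁻¹ := by
  rw [inv_eq_iff_mul_eq_one, ← diagU_mul, mul_inv_cancel, diagU_one]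

/-- A scalar matrix. -/
abbrev scal (c : Fˣ) : GL (Fin 3) F := diagU fun _ => c

theorem scal_val (c : Fˣ) : (scal c : Matrix (Fin 3) (Fin 3) F) = (c : F) • 1 := by
  rw [diagU_val]
  ext i j
  by_cases h : i = j <;> simp [h, Matrix.one_apply]

theorem scal_comm (c : Fˣ) (g : GL (Fin 3) F) : scal c * g = g * scal c := by
  refine Units.ext ?_
  rw [Units.val_mul, Units.val_mul, scal_val, Matrix.smul_mul, Matrix.mul_smul, one_mul, mul_one]

variable (F) in
/-- The cyclic permutation matrix. -/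
def cyc : GL (Fin 3) F :=
  ⟨Matrix.of fun i j => if i = j + 1 then 1 else 0, Matrix.of fun i j => if j = i + 1 then 1 else 0,
    by ext i j; fin_cases i <;> fin_cases j <;> simp [Matrix.mul_apply, Fin.sum_univ_three],
    by ext i j; fin_cases i <;> fin_cases j <;> simp [Matrix.mul_apply, Fin.sum_univ_three]⟩

theorem diagU_mul_cyc (d : Fin 3 → Fˣ) : diagU d * cyc F = cyc F * diagU fun i => d (i + 1) := by
  refine Units.ext ?_
  rw [Units.val_mul, Units.val_mul, diagU_val, diagU_val]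
  ext i j
  fin_cases i <;> fin_cases j <;> simp [cyc, Matrix.mul_apply, Fin.sum_univ_three, Matrix.diagonal]

theorem cyc_det : (Matrix.GeneralLinearGroup.det (cyc F) : F) = 1 := by
  rw [Matrix.GeneralLinearGroup.val_det_apply]
  simp [cyc, Matrix.det_fin_three]

/-- The permutation matrix fixing `0` and exchanging `1` and `2`, negated. -/
def flip' : GL (Fin 3) F :=
  ⟨!![-1, 0, 0; 0, 0, -1; 0, -1, 0], !![-1, 0, 0; 0, 0, -1; 0, -1, 0],
    by ext i j; fin_cases i <;> fin_cases j <;> simp [Matrix.mul_apply, Fin.sum_univ_three],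
    by ext i j; fin_cases i <;> fin_cases j <;> simp [Matrix.mul_apply, Fin.sum_univ_three]⟩

theorem flip'_mul_self : (flip' : GL (Fin 3) F) * flip' = 1 := Units.ext (flip' : GL (Fin 3) F).val_inv

theorem flip'_diagU (d : Fin 3 → Fˣ) :
    (flip' : GL (Fin 3) F) * diagU d = diagU ![d 0, d 2, d 1] * flip' := by
  refine Units.ext ?_
  rw [Units.val_mul, Units.val_mul, diagU_val, diagU_val]
  ext i j
  fin_cases i <;> fin_cases j <;> simp [flip', Matrix.mul_apply, Fin.sum_univ_three, Matrix.diagonal]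

theorem flip'_cyc : (flip' : GL (Fin 3) F) * cyc F = (cyc F)⁻¹ * flip' := by
  refine Units.ext ?_
  rw [Units.val_mul, Units.val_mul]
  show _ = (Matrix.of fun i j : Fin 3 => if j = i + 1 then (1 : F) else 0) * _
  ext i j
  fin_cases i <;> fin_cases j <;> simp [flip', cyc, Matrix.mul_apply, Fin.sum_univ_three]

variable (w : Fˣ)

/-- The diagonal generator. -/
abbrev clock : GL (Fin 3) F := diagU ![1, w, w ^ 2]

/-- The standard extraspecial group. -/
def std : Subgroup (GL (Fin 3) F) := Subgroup.closure {scal w, clock w, cyc F}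

theorem scal_mem : scal w ∈ std w := Subgroup.subset_closure (by simp)
theorem clock_mem : clock w ∈ std w := Subgroup.subset_closure (by simp)
theorem cyc_mem : cyc F ∈ std w := Subgroup.subset_closure (by simp)

variable {w}

section
variable (hw : (w : F) ^ 2 + (w : F) + 1 = 0) (h3 : (3 : F) ≠ 0)

include hw

theorem w_cube : w ^ 3 = 1 := Units.ext (by
  rw [Units.val_pow_eq_pow_val, Units.val_one]
  linear_combination ((w : F) - 1) * hw)

theorem eq_pow_of_cube {e : Fˣ} (he : e ^ 3 = 1) : ∃ i : ℕ, i < 3 ∧ e = w ^ i := by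
  have h : ((e : F) - 1) * (((e : F) - w) * ((e : F) - (w : F) ^ 2)) = 0 := by
    have he' : (e : F) ^ 3 = 1 := by rw [← Units.val_pow_eq_pow_val, he, Units.val_one]
    have hw3 : (w : F) ^ 3 = 1 := by linear_combination ((w : F) - 1) * hw
    linear_combination he' - ((e : F) ^ 2 - (e : F) * w) * hw - hw3
  rcases mul_eq_zero.1 h with h | h
  · exact ⟨0, by norm_num, Units.ext (by rw [pow_zero, Units.val_one]; linear_combination h)⟩
  rcases mul_eq_zero.1 h with h | h
  · exact ⟨1, by norm_num, Units.ext (by rw [pow_one]; linear_combination h)⟩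
  · exact ⟨2, by norm_num, Units.ext (by rw [Units.val_pow_eq_pow_val]; linear_combination h)⟩

theorem diag_mem {e : Fin 3 → Fˣ} (h0 : e 0 ^ 3 = 1) (h1 : e 1 ^ 3 = 1) (hprod : e 1 * e 1 = e 0 * e 2) :
    diagU e ∈ std w := by
  obtain ⟨i, -, hi⟩ := eq_pow_of_cube hw h0
  obtain ⟨j, -, hj⟩ := eq_pow_of_cube hw (e := e 1 * (e 0)⁻¹) (by rw [mul_pow, inv_pow, h0, h1, inv_one, mul_one])
  have h : e = (fun _ => w) ^ i * (![1, w, w ^ 2]) ^ j := by
    have e1 : e 1 = w ^ i * w ^ j := by rw [← hj, ← hi, mul_comm, inv_mul_cancel_right]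
    funext k
    fin_cases k
    · simp [hi]
    · simp [e1]
    · show e 2 = w ^ i * (w ^ 2) ^ j
      refine mul_left_cancel (a := e 0) ?_
      rw [← hprod, hi, e1, ← pow_mul, mul_mul_mul_comm, ← pow_add, ← pow_add, ← mul_assoc, ← pow_add, two_mul]
      simp [pow_add, mul_assoc]
  rw [h, diagU_mul, diagU_pow, diagU_pow]
  exact mul_mem (pow_mem (scal_mem w) i) (pow_mem (clock_mem w) j)

theorem diag_mem_normalizer_gen {d : Fin 3 → Fˣ} (hd : ∀ i, d i ^ 3 = 1) :
    diagU d * scal w * (diagU d)⁻¹ ∈ std w ∧ diagU d * clock w * (diagU d)⁻¹ ∈ std w ∧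
      diagU d * cyc F * (diagU d)⁻¹ ∈ std w := by
  refine ⟨?_, ?_, ?_⟩
  · rw [← scal_comm, mul_inv_cancel_right]; exact scal_mem w
  · rw [← diagU_mul, mul_comm, diagU_mul, mul_inv_cancel_right]; exact clock_mem w
  · rw [diagU_mul_cyc, diagU_inv, mul_assoc, ← diagU_mul]
    have h3' : ∀ i, (((fun i => d (i + 1)) * d⁻¹ : Fin 3 → Fˣ) i) ^ 3 = 1 := fun i => by
      show (d (i + 1) * (d i)⁻¹) ^ 3 = 1
      rw [mul_pow, inv_pow, hd, hd, inv_one, mul_one]
    refine mul_mem (cyc_mem w) (diag_mem hw (h3' 0) (h3' 1) ?_)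
    set a := (d 0 : Fˣ)
    set b := (d 1 : Fˣ)
    set c := (d 2 : Fˣ)
    show c * b⁻¹ * (c * b⁻¹) = b * a⁻¹ * (a * c⁻¹)
    rw [mul_assoc b, inv_mul_cancel_left]
    have hb : (b : F) ^ 3 = 1 := by rw [← Units.val_pow_eq_pow_val, hd 1, Units.val_one]
    have hc : (c : F) ^ 3 = 1 := by rw [← Units.val_pow_eq_pow_val, hd 2, Units.val_one]
    refine Units.ext ?_
    simp only [Units.val_mul, Units.val_inv_eq_inv_val]
    field_simp
    linear_combination hc - hb

include h3

theorem clock_cyc_ne : clock w * cyc F ≠ cyc F * clock w := by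
  intro h
  have hh : w = 1 := by
    have h' := congrArg (fun g : GL (Fin 3) F => (g : Matrix (Fin 3) (Fin 3) F) 1 0) h
    simp [clock, cyc, diagU, Matrix.mul_apply, Fin.sum_univ_three, Matrix.diagonal] at h'
    exact Units.ext (by simpa using h')
  have h1 : (3 : F) = 0 := by
    rw [hh, Units.val_one] at hw
    linear_combination hw
  exact h3 h1

theorem w_ne_one : (w : F) ≠ 1 := fun h => h3 (by rw [h] at hw; linear_combination hw)

theorem centralizer_scalar {y : GL (Fin 3) F} (hA : y * clock w = clock w * y) (hB : y * cyc F = cyc F * y) :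
    ∃ c : F, (y : Matrix (Fin 3) (Fin 3) F) = c • 1 := by
  have h1 := w_ne_one hw h3
  have hw3 : (w : F) ^ 3 = 1 := by linear_combination ((w : F) - 1) * hw
  have h2 : (w : F) ^ 2 ≠ 1 := fun h => h1 (by linear_combination hw3 - (w : F) * h)
  have h12 : (w : F) ^ 2 ≠ w := fun h => h1 (mul_left_cancel₀ w.ne_zero (by rw [mul_one, ← sq, h]))
  have eA : ∀ i j, (y : Matrix (Fin 3) (Fin 3) F) i j * (![1, w, w ^ 2] j : Fˣ) =
      ((![1, w, w ^ 2] i : Fˣ) : F) * (y : Matrix (Fin 3) (Fin 3) F) i j := fun i j => by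
    have := congrArg (fun g : GL (Fin 3) F => (g : Matrix (Fin 3) (Fin 3) F) i j) hA
    simpa [clock, diagU, Matrix.mul_diagonal, Matrix.diagonal_mul] using this
  have hoff : ∀ i j, ((![1, w, w ^ 2] i : Fˣ) : F) ≠ (![1, w, w ^ 2] j : Fˣ) → (y : Matrix (Fin 3) (Fin 3) F) i j = 0 := by
    intro i j hne
    have := eA i j
    have h0 : (((![1, w, w ^ 2] j : Fˣ) : F) - (![1, w, w ^ 2] i : Fˣ)) * (y : Matrix (Fin 3) (Fin 3) F) i j = 0 := by
      linear_combination this
    exact (mul_eq_zero.1 h0).resolve_left (sub_ne_zero.2 hne.symm)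
  have eB : ∀ i j, (y : Matrix (Fin 3) (Fin 3) F) i (j + 1) = (y : Matrix (Fin 3) (Fin 3) F) (i - 1) j := fun i j => by
    have := congrArg (fun g : GL (Fin 3) F => (g : Matrix (Fin 3) (Fin 3) F) i j) hB
    fin_cases i <;> fin_cases j <;> simpa [cyc, Matrix.mul_apply, Fin.sum_univ_three, show (-1 : Fin 3) = 2 from by decide] using this
  refine ⟨(y : Matrix (Fin 3) (Fin 3) F) 0 0, ?_⟩
  have d1 := eB 1 0
  have d2 := eB 2 1
  norm_num at d1 d2
  ext i j
  fin_cases i <;> fin_cases j <;> simp [Matrix.one_apply] <;>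
    first
      | exact d1.symm
      | exact d1
      | exact d2.symm.trans d1.symm
      | exact d2.trans d1
      | (rw [d1, d2])
      | (rw [← d1, ← d2])
      | (apply hoff; simp [h1, h1.symm, h2, h2.symm, h12, h12.symm])

end

/-- Conjugation preserves a finite closure when it preserves the generators. -/
theorem mem_normalizer_of [Finite F] {n : GL (Fin 3) F}
    (h : n * scal w * n⁻¹ ∈ std w ∧ n * clock w * n⁻¹ ∈ std w ∧ n * cyc F * n⁻¹ ∈ std w) :
    ∀ g, g ∈ std w ↔ n * g * n⁻¹ ∈ std w := by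
  have hle : (std w).map (MulAut.conj n).toMonoidHom ≤ std w := by
    rw [std, MonoidHom.map_closure, Subgroup.closure_le]
    rintro _ ⟨g, hg, rfl⟩
    rcases hg with rfl | rfl | rfl
    · exact h.1
    · exact h.2.1
    · exact h.2.2
  have he : (std w).map (MulAut.conj n).toMonoidHom = std w :=
    Subgroup.eq_of_le_of_card_ge hle
      (Nat.card_congr ((std w).equivMapOfInjective _ (MulAut.conj n).injective).toEquiv).le
  intro g
  constructor
  · intro hg
    rw [← he]
    exact ⟨g, hg, rfl⟩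
  · intro hg
    rw [← he] at hg
    obtain ⟨g', hg', e⟩ := hg
    rwa [← (MulAut.conj n).injective e]

theorem flip'_gen [Finite F] (hw : (w : F) ^ 2 + (w : F) + 1 = 0) :
    (flip' : GL (Fin 3) F) * scal w * flip'⁻¹ ∈ std w ∧ flip' * clock w * flip'⁻¹ ∈ std w ∧
      flip' * cyc F * flip'⁻¹ ∈ std w := by
  refine ⟨?_, ?_, ?_⟩
  · rw [← scal_comm, mul_inv_cancel_right]; exact scal_mem w
  · rw [flip'_diagU, mul_inv_cancel_right]
    refine diag_mem hw ?_ ?_ ?_
    · show (1 : Fˣ) ^ 3 = 1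
      exact one_pow 3
    · show (w ^ 2) ^ 3 = 1
      rw [← pow_mul, pow_mul', w_cube hw, one_pow]
    · show w ^ 2 * w ^ 2 = 1 * w
      rw [← pow_add, one_mul, show 2 + 2 = 3 + 1 from rfl, pow_succ, w_cube hw, one_mul]
  · rw [flip'_cyc, mul_inv_cancel_right]
    exact inv_mem (cyc_mem w)

/-- Groups of order dividing `9` are commutative. -/
theorem commute_of_card_dvd_nine {G : Type*} [Group G] (h : Nat.card G ∣ 3 ^ 2) (a b : G) : a * b = b * a := by
  haveI : Fact (Nat.Prime 3) := ⟨Nat.prime_three⟩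
  obtain ⟨k, hk, e⟩ := (Nat.dvd_prime_pow Nat.prime_three).1 h
  interval_cases k
  · haveI : Subsingleton G := (Nat.card_eq_one_iff_unique.1 (by simpa using e)).1
    exact Subsingleton.elim _ _
  · haveI : IsCyclic G := isCyclic_of_prime_card (p := 3) (by simpa using e)
    letI := IsCyclic.commGroup (α := G)
    exact mul_comm a b
  · exact (IsPGroup.isMulCommutative_of_card_eq_prime_sq e).is_comm.comm a b

/-- The standard form of a non-abelian group of order `27` and exponent `3`. -/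
theorem exists_conj [Finite F] (hw : (w : F) ^ 2 + (w : F) + 1 = 0) (h3 : (3 : F) ≠ 0)
    (R : Subgroup (GL (Fin 3) F)) (hR : Nat.card R = 27) (hRe : Monoid.exponent R = 3)
    (hRna : ¬ IsMulCommutative R) : ∃ g : GL (Fin 3) F, ∀ x, x ∈ R ↔ g⁻¹ * x * g ∈ std w := by
  classical
  haveI : Fact (Nat.Prime 3) := ⟨Nat.prime_three⟩
  have hw3 : (w : F) ^ 3 = 1 := by linear_combination ((w : F) - 1) * hw
  have h1 := w_ne_one hw h3
  -- non-commuting elements with central commutator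
  obtain ⟨a, b, hab⟩ : ∃ a b : R, a * b ≠ b * a := by
    by_contra hc
    push Not at hc
    exact hRna ⟨⟨hc⟩⟩
  haveI : Nontrivial R := ⟨⟨a * b, b * a, hab⟩⟩
  have hp : IsPGroup 3 R := IsPGroup.of_card (n := 3) (by rw [hR]; rfl)
  haveI := hp.center_nontrivial
  set c := a * b * a⁻¹ * b⁻¹ with hc
  have hcZ : c ∈ Subgroup.center R := by
    have hcard : Nat.card (R ⧸ Subgroup.center R) ∣ 3 ^ 2 := by
      have h := (Subgroup.center R).card_eq_card_quotient_mul_card_subgroup
      rw [hR] at h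
      obtain ⟨k, hk, e⟩ := (Nat.dvd_prime_pow Nat.prime_three).1
        (show Nat.card (Subgroup.center R) ∣ 3 ^ 3 from ⟨_, h.trans (mul_comm _ _)⟩)
      have hk0 : k ≠ 0 := by
        rintro rfl
        have := Finite.one_lt_card (α := Subgroup.center R)
        rw [e] at this
        simp at this
      refine ⟨3 ^ (k - 1), ?_⟩
      rw [e, show k = (k - 1) + 1 by omega, pow_succ] at h
      linarith
    have h : (QuotientGroup.mk c : R ⧸ Subgroup.center R) = 1 := by
      rw [hc, QuotientGroup.mk_mul, QuotientGroup.mk_mul, QuotientGroup.mk_mul, QuotientGroup.mk_inv,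
        QuotientGroup.mk_inv, commute_of_card_dvd_nine hcard (QuotientGroup.mk a) (QuotientGroup.mk b)]
      group
    exact (QuotientGroup.eq_one_iff c).1 h
  have hpow : ∀ x : R, x ^ 3 = 1 := fun x => by
    have := Monoid.pow_exponent_eq_one x
    rwa [hRe] at this
  have hc1 : c ≠ 1 := fun h => hab (by
    have h' : a * b = c * (b * a) := by rw [hc]; group
    rw [h', h, one_mul])
  set A := ((a : GL (Fin 3) F) : Matrix (Fin 3) (Fin 3) F) with hA
  set B := ((b : GL (Fin 3) F) : Matrix (Fin 3) (Fin 3) F) with hB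
  set C := ((c : GL (Fin 3) F) : Matrix (Fin 3) (Fin 3) F) with hC
  have hcomm : ∀ x : R, x * c = c * x := fun x => Subgroup.mem_center_iff.1 hcZ x
  have toM : ∀ x y : R, x = y → ((x : GL (Fin 3) F) : Matrix (Fin 3) (Fin 3) F) = ((y : GL (Fin 3) F) : Matrix (Fin 3) (Fin 3) F) :=
    fun x y h => by rw [h]
  have hAB : ∀ v, A *ᵥ (B *ᵥ v) = C *ᵥ (B *ᵥ (A *ᵥ v)) := fun v => by
    have := toM (a * b) (c * (b * a)) (by rw [hc]; group)
    simp only [Subgroup.coe_mul, Units.val_mul] at this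
    rw [Matrix.mulVec_mulVec, hA, hB, this, Matrix.mulVec_mulVec, Matrix.mulVec_mulVec, mul_assoc]
  have hCA : ∀ v, C *ᵥ (A *ᵥ v) = A *ᵥ (C *ᵥ v) := fun v => by
    have := toM (a * c) (c * a) (hcomm a)
    simp only [Subgroup.coe_mul, Units.val_mul] at this
    rw [Matrix.mulVec_mulVec, Matrix.mulVec_mulVec, this]
  have hCB : ∀ v, C *ᵥ (B *ᵥ v) = B *ᵥ (C *ᵥ v) := fun v => by
    have := toM (b * c) (c * b) (hcomm b)
    simp only [Subgroup.coe_mul, Units.val_mul] at this
    rw [Matrix.mulVec_mulVec, Matrix.mulVec_mulVec, this]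
  have cube : ∀ (x : R) v, ((x : GL (Fin 3) F) : Matrix (Fin 3) (Fin 3) F) *ᵥ (((x : GL (Fin 3) F) : Matrix (Fin 3) (Fin 3) F) *ᵥ
      (((x : GL (Fin 3) F) : Matrix (Fin 3) (Fin 3) F) *ᵥ v)) = v := fun x v => by
    have := toM (x * (x * x)) 1 (by rw [← pow_two, ← pow_succ', hpow])
    simp only [Subgroup.coe_mul, Units.val_mul, Subgroup.coe_one, Units.val_one] at this
    rw [Matrix.mulVec_mulVec, Matrix.mulVec_mulVec, mul_assoc, this, Matrix.one_mulVec]
  -- an eigenvector of `c` for a primitive cube root of unity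
  obtain ⟨l, hl, w0, hw0, hCw0⟩ : ∃ l : Fˣ, (l : F) ^ 2 + l + 1 = 0 ∧ ∃ w0 : Fin 3 → F, w0 ≠ 0 ∧ C *ᵥ w0 = (l : F) • w0 := by
    obtain ⟨v0, hv0⟩ : ∃ v0, C *ᵥ v0 ≠ v0 := by
      by_contra hne
      push Not at hne
      refine hc1 (Subtype.ext (Units.ext ?_))
      show C = ((1 : GL (Fin 3) F) : Matrix (Fin 3) (Fin 3) F)
      exact Matrix.ext_of_mulVec_single fun i => by rw [Units.val_one, Matrix.one_mulVec]; exact hne _
    set u := C *ᵥ v0 - v0 with hu
    have hu3 : C *ᵥ (C *ᵥ u) = -(C *ᵥ u) - u := by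
      rw [hu]; simp only [Matrix.mulVec_sub]; rw [cube c v0]; abel
    by_cases h : C *ᵥ u = (w : F) • u
    · exact ⟨w, hw, u, sub_ne_zero.2 hv0, h⟩
    · refine ⟨w ^ 2, by rw [Units.val_pow_eq_pow_val]; linear_combination hw + (w : F) * hw3, C *ᵥ u - (w : F) • u,
        sub_ne_zero.2 h, ?_⟩
      rw [Matrix.mulVec_sub, Matrix.mulVec_smul, hu3, Units.val_pow_eq_pow_val]
      linear_combination (norm := module) (-hw) • (C *ᵥ u) + hw3 • u
  have hl3 : (l : F) ^ 3 = 1 := by linear_combination ((l : F) - 1) * hl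
  -- an eigenvector of `a` in that eigenspace
  obtain ⟨μ, hμ, v, hv, hCv, hAv⟩ : ∃ μ : Fˣ, μ ^ 3 = 1 ∧ ∃ v : Fin 3 → F, v ≠ 0 ∧ C *ᵥ v = (l : F) • v ∧ A *ᵥ v = (μ : F) • v := by
    let s : F → (Fin 3 → F) := fun m => w0 + m ^ 2 • (A *ᵥ w0) + m • (A *ᵥ (A *ᵥ w0))
    have hs : ∀ m : Fˣ, m ^ 3 = 1 → s m ≠ 0 → ∃ μ : Fˣ, μ ^ 3 = 1 ∧ ∃ v : Fin 3 → F, v ≠ 0 ∧ C *ᵥ v = (l : F) • v ∧ A *ᵥ v = (μ : F) • v := by
      intro m hm hne
      have hm3 : (m : F) ^ 3 = 1 := by rw [← Units.val_pow_eq_pow_val, hm, Units.val_one]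
      refine ⟨m, hm, s m, hne, ?_, ?_⟩
      · simp only [s, Matrix.mulVec_add, Matrix.mulVec_smul, hCA, hCw0]
        module
      · simp only [s, Matrix.mulVec_add, Matrix.mulVec_smul]
        rw [cube a w0]
        linear_combination (norm := module) (-hm3) • (A *ᵥ w0)
    have hsum : s 1 + s (w : F) + s ((w : F) ^ 2) = (3 : F) • w0 := by
      simp only [s]
      linear_combination (norm := module) (hw + (w : F) * hw3) • (A *ᵥ w0) + hw • (A *ᵥ (A *ᵥ w0))
    by_cases e1 : s 1 = 0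
    · by_cases e2 : s (w : F) = 0
      · refine hs (w ^ 2) (by rw [← pow_mul, pow_mul', w_cube hw, one_pow]) fun e3 => hw0 ?_
        rw [Units.val_pow_eq_pow_val] at e3
        rw [e1, e2, e3, add_zero, add_zero] at hsum
        exact (smul_eq_zero.1 hsum.symm).resolve_left h3
      · exact hs w (w_cube hw) e2
    · exact hs 1 (one_pow 3) (by simpa using e1)
  -- the new basis
  have hv1 : B *ᵥ v ≠ 0 := fun h => hv (by rw [← cube b v, h, Matrix.mulVec_zero, Matrix.mulVec_zero])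
  have hv2 : B *ᵥ (B *ᵥ v) ≠ 0 := fun h => hv (by rw [← cube b v, h, Matrix.mulVec_zero])
  have a1 : A *ᵥ (B *ᵥ v) = ((μ : F) * l) • (B *ᵥ v) := by
    rw [hAB, hAv, Matrix.mulVec_smul, Matrix.mulVec_smul, hCB, hCv, Matrix.mulVec_smul, smul_smul]
  have c1 : C *ᵥ (B *ᵥ v) = (l : F) • (B *ᵥ v) := by rw [hCB, hCv, Matrix.mulVec_smul]
  have c2 : C *ᵥ (B *ᵥ (B *ᵥ v)) = (l : F) • (B *ᵥ (B *ᵥ v)) := by rw [hCB, c1, Matrix.mulVec_smul]
  have a2 : A *ᵥ (B *ᵥ (B *ᵥ v)) = ((μ : F) * l * l) • (B *ᵥ (B *ᵥ v)) := by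
    rw [hAB, a1, Matrix.mulVec_smul, Matrix.mulVec_smul, c2, smul_smul]
  let P : Matrix (Fin 3) (Fin 3) F := Matrix.of fun i j => ![v, B *ᵥ v, B *ᵥ (B *ᵥ v)] j i
  have hP : ∀ x : Fin 3 → F, P *ᵥ x = x 0 • v + x 1 • (B *ᵥ v) + x 2 • (B *ᵥ (B *ᵥ v)) := fun x => by
    funext i
    simp [P, Matrix.mulVec, dotProduct, Fin.sum_univ_three, mul_comm]
  have hdet : P.det ≠ 0 := by
    intro h
    obtain ⟨x, hx0, hx⟩ := Matrix.exists_mulVec_eq_zero_iff.2 h
    rw [hP] at hx
    have e1 : x 0 • v + ((l : F) * x 1) • (B *ᵥ v) + ((l : F) * l * x 2) • (B *ᵥ (B *ᵥ v)) = 0 := by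
      have := congrArg (fun y => A *ᵥ y) hx
      simp only [Matrix.mulVec_add, Matrix.mulVec_smul, Matrix.mulVec_zero, hAv, a1, a2] at this
      refine smul_right_injective _ μ.ne_zero (?_ : (μ : F) • _ = (μ : F) • _)
      rw [smul_zero, ← this]
      module
    have e2 : x 0 • v + ((l : F) * l * x 1) • (B *ᵥ v) + ((l : F) * x 2) • (B *ᵥ (B *ᵥ v)) = 0 := by
      have := congrArg (fun y => A *ᵥ y) e1
      simp only [Matrix.mulVec_add, Matrix.mulVec_smul, Matrix.mulVec_zero, hAv, a1, a2] at this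
      refine smul_right_injective _ μ.ne_zero (?_ : (μ : F) • _ = (μ : F) • _)
      rw [smul_zero, ← this]
      linear_combination (norm := module) (-((μ : F) * l * x 2) * hl3) • (B *ᵥ (B *ᵥ v))
    have f0 : ((3 : F) * x 0) • v = 0 := by
      linear_combination (norm := module) hx + e1 + e2 - (x 1 * hl) • (B *ᵥ v) - (x 2 * hl) • (B *ᵥ (B *ᵥ v))
    have f1 : ((3 : F) * x 1) • (B *ᵥ v) = 0 := by
      linear_combination (norm := module) hx + ((l : F) * l) • e1 + (l : F) • e2 - (x 0 * hl) • v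
        - (2 * x 1 * hl3) • (B *ᵥ v) - (x 2 * hl + ((l : F) * x 2) * hl3) • (B *ᵥ (B *ᵥ v))
    have f2 : ((3 : F) * x 2) • (B *ᵥ (B *ᵥ v)) = 0 := by
      linear_combination (norm := module) hx + (l : F) • e1 + ((l : F) * l) • e2 - (x 0 * hl) • v
        - (x 1 * hl + ((l : F) * x 1) * hl3) • (B *ᵥ v) - (2 * x 2 * hl3) • (B *ᵥ (B *ᵥ v))
    refine hx0 (funext fun j => ?_)
    fin_cases j
    · simpa [h3, hv] using f0
    · simpa [h3, hv1] using f1
    · exact (mul_eq_zero.1 ((smul_eq_zero.1 f2).resolve_right hv2)).resolve_left h3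
  set g : GL (Fin 3) F := Matrix.GeneralLinearGroup.mkOfDetNeZero P hdet with hg
  have hgP : (g : Matrix (Fin 3) (Fin 3) F) = P := rfl
  set R' := R.map (MulAut.conj g⁻¹).toMonoidHom with hR'
  have hmem : ∀ x, x ∈ R' ↔ g * x * g⁻¹ ∈ R := fun x => by
    constructor
    · rintro ⟨y, hy, rfl⟩
      simpa [mul_assoc] using hy
    · intro h
      exact ⟨_, h, by simp [mul_assoc]⟩
  have hgen : ∀ (x : R) (M : GL (Fin 3) F),
      (∀ j, ((x : GL (Fin 3) F) : Matrix (Fin 3) (Fin 3) F) *ᵥ (P *ᵥ Pi.single j 1) =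
        P *ᵥ ((M : Matrix (Fin 3) (Fin 3) F) *ᵥ Pi.single j 1)) → M ∈ R' := by
    intro x M h
    have e : (x : GL (Fin 3) F) * g = g * M := by
      refine Units.ext (Matrix.ext_of_mulVec_single fun j => ?_)
      rw [Units.val_mul, Units.val_mul, hgP, ← Matrix.mulVec_mulVec, ← Matrix.mulVec_mulVec]
      exact h j
    rw [hmem, ← e, mul_inv_cancel_right]
    exact x.2
  have hD : diagU ![μ, μ * l, μ * l * l] ∈ R' := by
    refine hgen a _ fun j => ?_
    rw [hP, hP, diagU_val, Matrix.mulVec_add, Matrix.mulVec_add, Matrix.mulVec_smul, Matrix.mulVec_smul, Matrix.mulVec_smul,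
      ← hA, hAv, a1, a2]
    fin_cases j <;> simp [Matrix.mulVec_diagonal]
  have hS : scal l ∈ R' := by
    refine hgen c _ fun j => ?_
    rw [hP, hP, diagU_val, Matrix.mulVec_add, Matrix.mulVec_add, Matrix.mulVec_smul, Matrix.mulVec_smul, Matrix.mulVec_smul,
      ← hC, hCv, c1, c2]
    fin_cases j <;> simp [Matrix.mulVec_diagonal]
  have hY : cyc F ∈ R' := by
    refine hgen b _ fun j => ?_
    rw [hP, hP, Matrix.mulVec_add, Matrix.mulVec_add, Matrix.mulVec_smul, Matrix.mulVec_smul, Matrix.mulVec_smul,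
      ← hB, cube b v]
    fin_cases j <;> simp [cyc]
  obtain ⟨i, -, hi⟩ := eq_pow_of_cube hw hμ
  have hlw : l = w ∨ l = w ^ 2 := by
    obtain ⟨k, hk, e⟩ := eq_pow_of_cube hw (e := l) (Units.ext (by rw [Units.val_pow_eq_pow_val, hl3, Units.val_one]))
    interval_cases k
    · exfalso
      rw [pow_zero] at e
      rw [e, Units.val_one] at hl
      exact h3 (by linear_combination hl)
    · exact Or.inl (by rw [e, pow_one])
    · exact Or.inr e
  have hw4 : w ^ 4 = w := by rw [show 4 = 3 + 1 from rfl, pow_succ, w_cube hw, one_mul]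
  have hSw : scal w ∈ R' := by
    rcases hlw with rfl | rfl
    · exact hS
    · have := pow_mem hS 2
      rwa [← diagU_pow, show ((fun _ : Fin 3 => w ^ 2) ^ 2) = fun _ => w from funext fun _ => by
        show (w ^ 2) ^ 2 = w
        rw [← pow_mul]; exact hw4] at this
  have hclock : clock w ∈ R' := by
    have h : diagU ![1, l, l * l] ∈ R' := by
      have h' := mul_mem (inv_mem (pow_mem hSw i)) hD
      rwa [← diagU_pow, diagU_inv, ← diagU_mul, show ((fun _ : Fin 3 => w) ^ i)⁻¹ * ![μ, μ * l, μ * l * l] = ![1, l, l * l] by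
        funext j; fin_cases j <;> simp [hi, mul_assoc]] at h'
    rcases hlw with rfl | rfl
    · rwa [← pow_two] at h
    · have := pow_mem h 2
      rwa [← diagU_pow, show ![1, w ^ 2, w ^ 2 * w ^ 2] ^ 2 = ![1, w, w ^ 2] by
        funext j
        fin_cases j
        · simp
        · show (w ^ 2) ^ 2 = w
          rw [← pow_mul]; exact hw4
        · show (w ^ 2 * w ^ 2) ^ 2 = w ^ 2
          rw [← pow_add, hw4]] at this
  have hle : std w ≤ R' := by
    rw [std, Subgroup.closure_le]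
    rintro x (rfl | rfl | rfl)
    exacts [hSw, hclock, hY]
  have hcardR' : Nat.card R' = 27 := by
    rw [hR', ← Nat.card_congr (R.equivMapOfInjective _ (MulAut.conj g⁻¹).injective).toEquiv, hR]
  have hcard : Nat.card R' ≤ Nat.card (std w) := by
    rw [hcardR']
    obtain ⟨k, hk, e⟩ := (Nat.dvd_prime_pow Nat.prime_three).1
      (show Nat.card (std w) ∣ 3 ^ 3 by have := Subgroup.card_dvd_of_le hle; rwa [hcardR'] at this)
    by_cases hk3 : k = 3
    · rw [e, hk3]; norm_num
    · exfalso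
      have hd : Nat.card (std w) ∣ 3 ^ 2 := e ▸ Nat.pow_dvd_pow 3 (by omega)
      exact clock_cyc_ne hw h3 (congrArg Subtype.val
        (commute_of_card_dvd_nine hd ⟨clock w, clock_mem w⟩ ⟨cyc F, cyc_mem w⟩))
  have he : std w = R' := Subgroup.eq_of_le_of_card_ge hle hcard
  exact ⟨g, fun x => by rw [he, hmem]; simp [mul_assoc]⟩

end Cfsg.Agent.Lib.MaxSub.Heisenberg
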