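import Cfsg.Agent.Lib.MaxSub.IsoDecomp
import Cfsg.Agent.Lib.MaxSub.DecompAux
import Mathlib

/-!
Invariant decompositions and cyclic families of lines for linear maps of prime order.
-/

set_option autoImplicit false
set_option maxHeartbeats 1000000
set_option linter.unusedSectionVars false

namespace Cfsg.Agent.Lib.MaxSub.LinDecomp

open Module Polynomial Cfsg.Agent.Lib.MaxSub
open scoped _root_.Classical

variable {ι : Type} [Fintype ι] [DecidableEq ι] {F : Type*} [Field F] {X : End F (ι → F)}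

/-- Complements inside an invariant subspace. -/
theorem split_in {P : F[X]} (hP : Squarefree P) (hy : aeval X P = 0) {U L : Submodule F (ι → F)} (hU : U.map X ≤ U)
    (hL : L.map X ≤ L) (hLU : L ≤ U) :
    ∃ C : Submodule F (ι → F), C ≤ U ∧ C.map X ≤ C ∧ L ⊔ C = U ∧ L ⊓ C = ⊥ ∧ finrank F L + finrank F C = finrank F U := by
  obtain ⟨C, hC, hLC⟩ := PrimeElem.exists_compl hP hy hL
  have hd : L ⊓ (U ⊓ C) = ⊥ := le_bot_iff.1 ((inf_le_inf le_rfl inf_le_right).trans hLC.inf_eq_bot.le)
  have hs : L ⊔ U ⊓ C = U := by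
    rw [inf_comm U C, ← sup_inf_assoc_of_le C hLU, hLC.sup_eq_top, top_inf_eq]
  refine ⟨U ⊓ C, inf_le_left, IsoDecomp.inf_inv hU hC, hs, hd, ?_⟩
  have h := Submodule.finrank_sup_add_finrank_inf_eq L (U ⊓ C)
  rw [hd, hs, finrank_bot, add_zero] at h
  exact h.symm

/-- Spanning families of small subspaces are decompositions. -/
theorem good_of_sup {t a : ℕ} (ht : 2 ≤ t) (ha : 0 < a) (hn : Fintype.card ι = a * t) {D : Fin t → Submodule F (ι → F)}
    (hle : ∀ j, finrank F (D j) ≤ a) (htop : iSup D = ⊤) : Cfsg.Geo.IsMDecomposition a D := by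
  have htop' : (Finset.univ : Finset (Fin t)).sup D = ⊤ := by
    rw [eq_top_iff, ← htop]
    exact iSup_le fun j => Finset.le_sup (f := D) (Finset.mem_univ j)
  have hkey : ∀ j, finrank F (D j) = a ∧ Disjoint (D j) ((Finset.univ.erase j).sup D) := by
    intro j
    have h1 : finrank F ((Finset.univ.erase j).sup D : Submodule F (ι → F)) ≤ (t - 1) * a := by
      refine (InvBlocks.finrank_finset_sup_le _ _).trans ((Finset.sum_le_card_nsmul _ _ _ fun i _ => hle i).trans (le_of_eq ?_))
      rw [smul_eq_mul, Finset.card_erase_of_mem (Finset.mem_univ j), Finset.card_univ, Fintype.card_fin]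
    have h2 : D j ⊔ (Finset.univ.erase j).sup D = ⊤ := by
      rw [← Finset.sup_insert, Finset.insert_erase (Finset.mem_univ j), htop']
    have h3 := Submodule.finrank_sup_add_finrank_inf_eq (D j) ((Finset.univ.erase j).sup D)
    rw [h2, finrank_top, Module.finrank_fintype_fun_eq_card, hn] at h3
    have h4 := hle j
    have h5 : a * t = (t - 1) * a + a := by
      conv_lhs => rw [show t = (t - 1) + 1 by omega]
      ring
    refine ⟨by omega, disjoint_iff.2 (Submodule.finrank_eq_zero.1 (by omega))⟩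
  refine ⟨ht, ha, fun j => (hkey j).1, fun j => ?_, htop⟩
  refine Disjoint.mono_right ?_ (hkey j).2
  exact iSup₂_le fun i hi => Finset.le_sup (f := D) (Finset.mem_erase.2 ⟨hi, Finset.mem_univ i⟩)

/-- Cutting off invariant pieces one by one. -/
theorem recurse {a : ℕ} (Q : ℕ → Submodule F (ι → F) → Prop)
    (step : ∀ (k : ℕ) (U : Submodule F (ι → F)), U.map X ≤ U → finrank F U = a * (k + 1) → Q (k + 1) U →
      ∃ L C : Submodule F (ι → F), L ≤ U ∧ C ≤ U ∧ L.map X ≤ L ∧ C.map X ≤ C ∧ L ⊔ C = U ∧ finrank F L = a ∧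
        finrank F C = a * k ∧ Q k C) :
    ∀ (k : ℕ) (U : Submodule F (ι → F)), U.map X ≤ U → finrank F U = a * k → Q k U →
      ∃ D : Fin k → Submodule F (ι → F), (∀ j, (D j).map X ≤ D j ∧ finrank F (D j) = a) ∧ iSup D = U := by
  intro k
  induction k with
  | zero =>
    intro U _ hU _
    rw [mul_zero, Submodule.finrank_eq_zero] at hU
    exact ⟨Fin.elim0, fun j => j.elim0, by rw [hU, iSup_of_empty]⟩
  | succ k ih =>
    intro U hU hUd hQ
    obtain ⟨L, C, hLU, hCU, hL, hC, hsup, hLd, hCd, hQC⟩ := step k U hU hUd hQ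
    obtain ⟨D, hD, hDs⟩ := ih C hC hCd hQC
    refine ⟨Fin.cons L D, fun j => ?_, ?_⟩
    · induction j using Fin.cases with
      | zero => exact ⟨by simpa using hL, hLd⟩
      | succ j => exact ⟨by simpa using (hD j).1, (hD j).2⟩
    · refine le_antisymm (iSup_le fun j => ?_) ?_
      · induction j using Fin.cases with
        | zero => simpa using hLU
        | succ j => simpa using le_trans (le_iSup D j) (hDs.le.trans hCU)
      · rw [← hsup, ← hDs]
        refine sup_le ?_ (iSup_le fun j => ?_)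
        · exact le_iSup_of_le 0 (by simp)
        · exact le_iSup_of_le j.succ (by simp)

/-- A generating family of cyclic orbits when all irreducible factors have degree `r`. -/
theorem exists_generators {P : F[X]} (hPi : Irreducible P) (hPm : P.Monic) (hy : aeval X P = 0) {r : ℕ}
    (hPd : P.natDegree = r) :
    ∀ (k : ℕ) (U : Submodule F (ι → F)), U.map X ≤ U → finrank F U = r * k →
      ∃ v : Fin k → (ι → F), Submodule.span F (Set.range fun w : Fin k × Fin r => (X ^ (w.2 : ℕ)) (v w.1)) = U := by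
  have hr0 : 0 < r := hPd ▸ hPi.natDegree_pos
  intro k
  induction k with
  | zero =>
    intro U _ hU
    rw [mul_zero, Submodule.finrank_eq_zero] at hU
    exact ⟨Fin.elim0, by rw [hU, Set.range_eq_empty]; exact Submodule.span_empty⟩
  | succ k ih =>
    intro U hU hUd
    have hne : U ≠ ⊥ := fun e => by rw [e, finrank_bot, Nat.mul_succ] at hUd; omega
    obtain ⟨v, hv, hv0⟩ := (Submodule.ne_bot_iff U).1 hne
    set S := Submodule.span F (Set.range fun j : Fin r => (X ^ (j : ℕ)) v) with hSdef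
    have hmem : ∀ j : ℕ, (X ^ j) v ∈ U := fun j => by
      have h := PrimeElem.aeval_mem X hU (Polynomial.X ^ j) hv
      rwa [map_pow, aeval_X] at h
    have hSU : S ≤ U := Submodule.span_le.2 (by rintro _ ⟨j, rfl⟩; exact hmem j)
    have hPv : (X ^ r) v ∈ S := by
      have h1 : aeval X P v = 0 := by rw [hy]; rfl
      rw [aeval_eq_sum_range, hPd, Finset.sum_range_succ, LinearMap.add_apply, LinearMap.sum_apply] at h1
      rw [show P.coeff r = 1 from hPd ▸ hPm.coeff_natDegree, one_smul] at h1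
      rw [eq_neg_of_add_eq_zero_right h1]
      refine S.neg_mem (S.sum_mem fun j hj => ?_)
      rw [LinearMap.smul_apply]
      exact S.smul_mem _ (Submodule.subset_span ⟨⟨j, Finset.mem_range.1 hj⟩, rfl⟩)
    have hS : S.map X ≤ S := by
      rw [hSdef, Submodule.map_span, Submodule.span_le]
      rintro _ ⟨_, ⟨j, rfl⟩, rfl⟩
      have e : X ((X ^ (j : ℕ)) v) = (X ^ ((j : ℕ) + 1)) v := by rw [pow_succ', End.mul_apply]
      rw [SetLike.mem_coe, e]
      rcases eq_or_lt_of_le (Nat.succ_le_of_lt j.2) with h | h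
      · rw [show (j : ℕ) + 1 = r from h]; exact hPv
      · exact Submodule.subset_span ⟨⟨(j : ℕ) + 1, h⟩, rfl⟩
    have hSd : finrank F S = r := by
      refine le_antisymm ((finrank_range_le_card _).trans (le_of_eq (Fintype.card_fin r))) ?_
      have hvS : v ∈ S := Submodule.subset_span ⟨⟨0, hr0⟩, rfl⟩
      obtain ⟨S', hS', hS'S, hS'd⟩ := PrimeElem.exists_cyclic X hPi hPm hS hvS hv0 (by rw [hy]; rfl)
      rw [← hPd, ← hS'd]
      exact Submodule.finrank_mono hS'S
    obtain ⟨C, hCU, hC, hsup, -, hdim⟩ := split_in hPi.squarefree hy hU hS hSU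
    obtain ⟨w, hw⟩ := ih C hC (by rw [hSd, hUd, Nat.mul_succ] at hdim; omega)
    refine ⟨Fin.cons v w, le_antisymm (Submodule.span_le.2 ?_) ?_⟩
    · rintro _ ⟨⟨i, j⟩, rfl⟩
      rw [SetLike.mem_coe]
      induction i using Fin.cases with
      | zero => simpa using hmem j
      | succ i =>
        have h : (X ^ (j : ℕ)) (w i) ∈ C := hw ▸ Submodule.subset_span ⟨(i, j), rfl⟩
        simpa using hCU h
    · rw [← hsup, ← hw, hSdef]
      refine sup_le (Submodule.span_le.2 ?_) (Submodule.span_le.2 ?_)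
      · rintro _ ⟨j, rfl⟩
        exact Submodule.subset_span ⟨(0, j), by simp⟩
      · rintro _ ⟨⟨i, j⟩, rfl⟩
        exact Submodule.subset_span ⟨(i.succ, j), by simp⟩

variable [Fintype F] {p : ℕ} [Fact p.Prime] [CharP F p] {r : ℕ} [hr : Fact r.Prime]

/-- Moved invariant subspaces. -/
theorem moved_sub (hrp : r ≠ p) {c : ℕ} (hc : orderOf ((Fintype.card F : ℕ) : ZMod r) = c) (hX : X ^ r = 1)
    {U : Submodule F (ι → F)} (hU : U.map X ≤ U) (hUm : U ≤ IsoDecomp.moved X r) :
    c ∣ finrank F U ∧ ∀ b, c * b ≤ finrank F U → ∃ S : Submodule F (ι → F), S.map X ≤ S ∧ S ≤ U ∧ finrank F S = c * b :=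
  PrimeElem.uniform (PrimeElemFlags.sq (PrimeElemFlags.cast_ne_zero hrp) one_ne_zero)
    (PrimeElemFlags.aeval_eq_zero (by rw [hX, one_smul])) (cyclotomic r F) (cyclotomic_ne_zero r F)
    (fun g hg hd => (PrimeElemFlags.deg_eq rfl hrp g hg hd).trans hc) _ U rfl hU fun v hv => hUm hv

/-- Subspaces of the fixed space. -/
theorem fixed_sub {U : Submodule F (ι → F)} (hU : U ≤ IsoDecomp.fixed X) {b : ℕ} (hb : b ≤ finrank F U) :
    ∃ S : Submodule F (ι → F), S.map X ≤ S ∧ S ≤ U ∧ finrank F S = b := by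
  obtain ⟨S, hS⟩ : ∃ S : Submodule F U, finrank F S = b := by
    let B := Module.finBasis F U
    refine ⟨Submodule.span F (Set.range fun j : Fin b => B (Fin.castLE hb j)), ?_⟩
    rw [finrank_span_eq_card, Fintype.card_fin]
    exact B.linearIndependent.comp _ (Fin.castLE_injective hb)
  refine ⟨S.map U.subtype, IsoDecomp.fixed_inv ((Submodule.map_subtype_le U S).trans hU), Submodule.map_subtype_le U S, ?_⟩
  rw [← (Submodule.equivMapOfInjective _ U.subtype_injective S).finrank_eq, hS]

/-- A decomposition with summands fixed by `X`. -/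
theorem exists_invariant (hrp : r ≠ p) {c : ℕ} (hc : orderOf ((Fintype.card F : ℕ) : ZMod r) = c) {a : ℕ} (hca : c ≤ a)
    (hX : X ^ r = 1) (t : ℕ) (U : Submodule F (ι → F)) (hU : U.map X ≤ U) (hUd : finrank F U = a * t)
    (hUm : finrank F (U ⊓ IsoDecomp.moved X r : Submodule F (ι → F)) ≤ c * (t * (a / c))) :
    ∃ D : Fin t → Submodule F (ι → F), (∀ j, (D j).map X ≤ D j ∧ finrank F (D j) = a) ∧ iSup D = U := by
  have hr0 : (r : F) ≠ 0 := PrimeElemFlags.cast_ne_zero hrp
  have hc0 : 0 < c := hc ▸ PrimeElemFlags.order_pos rfl hrp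
  refine recurse (fun k W => finrank F (W ⊓ IsoDecomp.moved X r : Submodule F (ι → F)) ≤ c * (k * (a / c))) ?_ t U hU hUd hUm
  intro k W hW hWd hle
  have hMi := IsoDecomp.inf_inv hW (IsoDecomp.moved_inv (r := r))
  obtain ⟨⟨s, hs⟩, hsub⟩ := moved_sub hrp hc hX hMi inf_le_right
  rw [hs] at hle
  have hs' : s ≤ (k + 1) * (a / c) := Nat.le_of_mul_le_mul_left hle hc0
  set j := min s (a / c) with hj
  have hja : c * j ≤ a := (Nat.mul_le_mul_left c (min_le_right _ _)).trans (Nat.mul_div_le a c)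
  have hsum := (IsoDecomp.decompose hr0 hX hW).2
  rw [hs, hWd] at hsum
  have hcs : c * s + a ≤ c * j + a * (k + 1) := by
    rcases Nat.le_total s (a / c) with h' | h'
    · rw [hj, min_eq_left h', Nat.mul_succ]; omega
    · rw [hj, min_eq_right h']
      have h1 : c * (a / c) ≤ a := Nat.mul_div_le a c
      have h2 : c * s ≤ c * (a / c) * k + c * (a / c) := by
        refine (Nat.mul_le_mul_left c hs').trans (le_of_eq ?_); ring
      have h3 : c * (a / c) * k ≤ a * k := Nat.mul_le_mul_right k h1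
      rw [Nat.mul_succ]; omega
  obtain ⟨A, hA, hAU, hAd⟩ := hsub j (by rw [hs]; exact Nat.mul_le_mul_left c (min_le_left _ _))
  obtain ⟨B, hB, hBU, hBd⟩ := fixed_sub (X := X) (U := W ⊓ IsoDecomp.fixed X) inf_le_right (b := a - c * j) (by omega)
  have hAB : finrank F (A ⊔ B : Submodule F (ι → F)) = a := by
    have h := Submodule.finrank_sup_add_finrank_inf_eq A B
    rw [le_bot_iff.1 ((inf_le_inf (hAU.trans inf_le_right) (hBU.trans inf_le_right)).trans
      (inf_comm (IsoDecomp.moved X r) (IsoDecomp.fixed X) ▸ IsoDecomp.pow_moved hr0 hX).le), finrank_bot, add_zero] at h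
    omega
  have hLU : A ⊔ B ≤ W := sup_le (hAU.trans inf_le_left) (hBU.trans inf_le_left)
  obtain ⟨C, hCU, hC, hsup, hdisj, hdim⟩ := split_in (PrimeElemFlags.sq hr0 one_ne_zero)
    (PrimeElemFlags.aeval_eq_zero (by rw [hX, one_smul])) hW (IsoDecomp.sup_inv hA hB) hLU
  have hCd : finrank F C = a * k := by rw [hAB, hWd, Nat.mul_succ] at hdim; omega
  refine ⟨A ⊔ B, C, hLU, hCU, IsoDecomp.sup_inv hA hB, hC, hsup, hAB, hCd, ?_⟩
  show finrank F (C ⊓ IsoDecomp.moved X r : Submodule F (ι → F)) ≤ c * (k * (a / c))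
  have h1 : finrank F (C ⊓ IsoDecomp.moved X r : Submodule F (ι → F)) + c * j ≤ c * s := by
    rw [← hs, ← hAd]
    have h2 := Submodule.finrank_sup_add_finrank_inf_eq (C ⊓ IsoDecomp.moved X r) A
    rw [le_bot_iff.1 ((inf_le_inf inf_le_left le_sup_left).trans ((inf_comm C (A ⊔ B)).trans hdisj).le), finrank_bot,
      add_zero] at h2
    rw [← h2]
    exact Submodule.finrank_mono (sup_le (inf_le_inf_right _ hCU) hAU)
  rcases Nat.le_total s (a / c) with h' | h'
  · rw [hj, min_eq_left h'] at h1; omega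
  · rw [hj, min_eq_right h'] at h1
    have h2 : c * s ≤ c * (k * (a / c)) + c * (a / c) := by
      refine (Nat.mul_le_mul_left c hs').trans (le_of_eq ?_); ring
    omega

/-- Cyclically permuted lines when the moved pieces have dimension `r - 1`. -/
theorem exists_lines (hrp : r ≠ p) (hc : orderOf ((Fintype.card F : ℕ) : ZMod r) = r - 1) (hX : X ^ r = 1) :
    ∀ (N : ℕ) (U : Submodule F (ι → F)), finrank F U = N → U.map X ≤ U →
      finrank F (U ⊓ IsoDecomp.moved X r : Submodule F (ι → F)) ≤ (r - 1) * finrank F (U ⊓ IsoDecomp.fixed X : Submodule F (ι → F)) →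
      ∃ 𝓛, InvBlocks.Pieces X 1 U 𝓛 := by
  have hr0 : (r : F) ≠ 0 := PrimeElemFlags.cast_ne_zero hrp
  have hrpos := hr.out.pos
  intro N
  induction N using Nat.strong_induction_on with
  | _ N ih =>
    intro U hN hU hle
    have hMi := IsoDecomp.inf_inv hU (IsoDecomp.moved_inv (r := r))
    by_cases hM : U ⊓ IsoDecomp.moved X r = ⊥
    · have hUf : U ≤ IsoDecomp.fixed X := by
        rw [← (IsoDecomp.decompose hr0 hX hU).1, hM, sup_bot_eq]; exact inf_le_right
      obtain ⟨𝓛, h𝓛⟩ : ∃ 𝓛, InvBlocks.Pieces (LinearMap.id : (ι → F) →ₗ[F] (ι → F)) 1 U 𝓛 :=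
        InvBlocks.exists_lines _ one_ne_zero (fun v => by simp) _ U rfl (fun v hv => hv)
      refine ⟨𝓛, h𝓛.1, fun L hL => ⟨(h𝓛.2.1 L hL).1, (h𝓛.2.1 L hL).2.1, ?_⟩, h𝓛.2.2⟩
      have e : L.map X = L := by
        refine Submodule.eq_of_le_of_finrank_le (IsoDecomp.fixed_inv ((h𝓛.2.1 L hL).1.trans hUf)) ?_
        rw [(Submodule.equivMapOfInjective X (IsoDecomp.inj hX hrpos) L).finrank_eq]
      rw [e]; exact hL
    obtain ⟨⟨s, hs⟩, hsub⟩ := moved_sub hrp hc hX hMi inf_le_right
    have hs0 : 0 < s := Nat.pos_of_ne_zero fun e => hM (Submodule.finrank_eq_zero.1 (by rw [hs, e, mul_zero]))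
    have hr1 : 0 < r - 1 := by have := hr.out.two_le; omega
    obtain ⟨S, hS, hSU, hSd⟩ := hsub 1 (by rw [hs]; exact Nat.mul_le_mul_left _ hs0)
    rw [mul_one] at hSd
    rw [hs] at hle
    have hf : U ⊓ IsoDecomp.fixed X ≠ ⊥ := fun e => by
      rw [e, finrank_bot, mul_zero] at hle
      have := Nat.mul_pos hr1 hs0
      omega
    obtain ⟨u, hu, hu0⟩ := (Submodule.ne_bot_iff _).1 hf
    obtain ⟨w, hw, hw0⟩ := (Submodule.ne_bot_iff S).1 (fun e => by rw [e, finrank_bot] at hSd; omega)
    set v := u + w with hv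
    set L := Submodule.span F (Set.range fun j : Fin r => (X ^ (j : ℕ)) v) with hL
    have hXu : ∀ j : ℕ, (X ^ j) u = u := fun j => by
      induction j with
      | zero => rfl
      | succ j ih => rw [pow_succ, End.mul_apply, IsoDecomp.mem_fixed.1 hu.2, ih]
    have hsum0 : ∑ j ∈ Finset.range r, (X ^ j) w = 0 := by
      have h3 : aeval X (cyclotomic r F) w = 0 := (hSU hw).2
      rw [cyclotomic_prime, map_sum, LinearMap.sum_apply] at h3
      simpa using h3
    have hjv : ∀ j : ℕ, (X ^ j) v ∈ L := fun j => by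
      rw [pow_eq_pow_mod j hX]
      exact Submodule.subset_span ⟨⟨j % r, Nat.mod_lt _ hrpos⟩, rfl⟩
    have huL : u ∈ L := by
      have h1 : ∑ j ∈ Finset.range r, (X ^ j) v ∈ L := L.sum_mem fun j _ => hjv j
      simp only [hv, map_add, Finset.sum_add_distrib, hXu, hsum0, add_zero, Finset.sum_const, Finset.card_range] at h1
      rw [← Nat.cast_smul_eq_nsmul F] at h1
      exact (Submodule.smul_mem_iff L hr0).1 h1
    have hLi : L.map X ≤ L := by
      rw [hL, Submodule.map_span, Submodule.span_le]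
      rintro _ ⟨_, ⟨j, rfl⟩, rfl⟩
      rw [SetLike.mem_coe, ← End.mul_apply, ← pow_succ', ← hL]
      exact hjv _
    have hSL : S ≤ L := by
      have hwL : w ∈ L := by
        have e : w = (X ^ 0) v - u := by simp [hv]
        rw [e]; exact L.sub_mem (hjv 0) huL
      have h0 : S ⊓ L ≠ ⊥ := (Submodule.ne_bot_iff _).2 ⟨w, ⟨hw, hwL⟩, hw0⟩
      obtain ⟨⟨b, hb⟩, -⟩ := moved_sub hrp hc hX (IsoDecomp.inf_inv hS hLi) (inf_le_left.trans (hSU.trans inf_le_right))
      have hb0 : 0 < b := Nat.pos_of_ne_zero fun e => h0 (Submodule.finrank_eq_zero.1 (by rw [hb, e, mul_zero]))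
      have : S ⊓ L = S := Submodule.eq_of_le_of_finrank_le inf_le_left
        (by rw [hb, hSd]; exact Nat.le_mul_of_pos_right _ hb0)
      exact this ▸ inf_le_right
    have hLU : L ≤ U := by
      refine Submodule.span_le.2 ?_
      rintro _ ⟨j, rfl⟩
      have h := PrimeElem.aeval_mem X hU (Polynomial.X ^ (j : ℕ)) (U.add_mem hu.1 (hSU hw).1)
      rwa [map_pow, aeval_X] at h
    have hLm : r - 1 ≤ finrank F (L ⊓ IsoDecomp.moved X r : Submodule F (ι → F)) :=
      hSd ▸ Submodule.finrank_mono (le_inf hSL (hSU.trans inf_le_right))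
    have hLf : 1 ≤ finrank F (L ⊓ IsoDecomp.fixed X : Submodule F (ι → F)) :=
      Nat.pos_of_ne_zero fun e => hu0 ((Submodule.mem_bot F).1 (Submodule.finrank_eq_zero.1 e ▸ ⟨huL, hu.2⟩))
    have hLle : finrank F L ≤ r := (finrank_range_le_card _).trans (le_of_eq (Fintype.card_fin r))
    have hLdec := (IsoDecomp.decompose hr0 hX hLi).2
    obtain ⟨C, hCU, hC, hsup, hdisj, hdim⟩ := split_in (PrimeElemFlags.sq hr0 one_ne_zero)
      (PrimeElemFlags.aeval_eq_zero (by rw [hX, one_smul])) hU hLi hLU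
    have hUdec := (IsoDecomp.decompose hr0 hX hU).2
    have hCdec := (IsoDecomp.decompose hr0 hX hC).2
    have hle2 : ∀ T : Submodule F (ι → F),
        finrank F (L ⊓ T : Submodule F (ι → F)) + finrank F (C ⊓ T : Submodule F (ι → F)) ≤
          finrank F (U ⊓ T : Submodule F (ι → F)) := fun T => by
      have h2 := Submodule.finrank_sup_add_finrank_inf_eq (L ⊓ T) (C ⊓ T)
      rw [le_bot_iff.1 ((inf_le_inf inf_le_left inf_le_left).trans hdisj.le), finrank_bot, add_zero] at h2
      rw [← h2]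
      exact Submodule.finrank_mono (sup_le (inf_le_inf_right _ hLU) (inf_le_inf_right _ hCU))
    have e1 := hle2 (IsoDecomp.fixed X)
    have e2 := hle2 (IsoDecomp.moved X r)
    rw [hs] at e2 hUdec
    obtain ⟨𝓛', h'⟩ := ih _ (by omega) C rfl hC (by
      have h1 : finrank F (C ⊓ IsoDecomp.moved X r : Submodule F (ι → F)) + (r - 1) = (r - 1) * s := by omega
      have h2 : finrank F (C ⊓ IsoDecomp.fixed X : Submodule F (ι → F)) + 1 =
          finrank F (U ⊓ IsoDecomp.fixed X : Submodule F (ι → F)) := by omega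
      rw [← h2, Nat.mul_succ] at hle
      omega)
    let g : Fin r → Submodule F (ι → F) := fun j => F ∙ (X ^ (j : ℕ)) v
    have hLd : finrank F L = r := by omega
    have hli : LinearIndependent F fun j : Fin r => (X ^ (j : ℕ)) v :=
      linearIndependent_iff_card_eq_finrank_span.2 (by rw [Fintype.card_fin]; exact hLd.symm)
    have hgi : Function.Injective g := fun i j hij => by
      by_contra hne
      have h1 : (X ^ (i : ℕ)) v ∈ F ∙ (X ^ (j : ℕ)) v := by
        have h := Submodule.mem_span_singleton_self (R := F) ((X ^ (i : ℕ)) v)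
        rwa [show (F ∙ (X ^ (i : ℕ)) v) = g j from hij] at h
      refine hli.notMem_span_image (s := {j}) (x := i) (by simpa using hne) ?_
      simpa using h1
    have hP : InvBlocks.Pieces X 1 L (Finset.univ.image g) := by
      refine ⟨by rw [Finset.card_image_of_injective _ hgi, Finset.card_univ, Fintype.card_fin, mul_one, hLd], fun K hK => ?_, ?_⟩
      · obtain ⟨j, -, rfl⟩ := Finset.mem_image.1 hK
        refine ⟨(Submodule.span_singleton_le_iff_mem _ _).2 (hjv _), finrank_span_singleton (hli.ne_zero j), ?_⟩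
        refine Finset.mem_image.2 ⟨⟨((j : ℕ) + 1) % r, Nat.mod_lt _ hrpos⟩, Finset.mem_univ _, ?_⟩
        show (F ∙ (X ^ (((j : ℕ) + 1) % r)) v) = (F ∙ (X ^ (j : ℕ)) v).map X
        rw [Submodule.map_span, Set.image_singleton, ← pow_eq_pow_mod _ hX, pow_succ', End.mul_apply]
      · refine le_antisymm (Finset.sup_le fun K hK => ?_) ?_
        · obtain ⟨j, -, rfl⟩ := Finset.mem_image.1 hK
          exact (Submodule.span_singleton_le_iff_mem _ _).2 (hjv _)
        · rw [hL, Submodule.span_le]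
          rintro _ ⟨j, rfl⟩
          exact Finset.le_sup (f := id) (Finset.mem_image_of_mem g (Finset.mem_univ j)) (Submodule.mem_span_singleton_self _)
    exact ⟨_, (InvBlocks.pieces_union one_pos hsup hdim hP h').1⟩

end Cfsg.Agent.Lib.MaxSub.LinDecomp
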