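import Mathlib
import Cfsg.Prelude.Def_GeometricClasses
import Cfsg.Agent.Lib.Classical.LinearSimple

/-!
Transvections `x ↦ x + (a ⬝ᵥ x) • v` as matrices, the set of those lying in a given subgroup of `GL`,
and the criterion for a subgroup to contain the special linear group.
-/

set_option autoImplicit false

namespace Cfsg.Agent.Lib.MaxSub

open Matrix
open scoped MatrixGroups Matrix

variable {ι : Type} [Fintype ι] [DecidableEq ι] {F : Type*} [Field F]

/-- The matrix of `x ↦ x + (a ⬝ᵥ x) • v`. -/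
def tvMat (v a : ι → F) : Matrix ι ι F := 1 + Matrix.vecMulVec v a

theorem tvMat_mulVec (v a x : ι → F) : tvMat v a *ᵥ x = x + (a ⬝ᵥ x) • v := by
  rw [tvMat, Matrix.add_mulVec, Matrix.one_mulVec, Matrix.vecMulVec_mulVec]
  simp

theorem eq_of_mulVec_eq {A B : Matrix ι ι F} (h : ∀ x, A *ᵥ x = B *ᵥ x) : A = B :=
  Matrix.ext_of_mulVec_single fun j => h _

theorem tvMat_mul {v a b : ι → F} (h : a ⬝ᵥ v = 0) : tvMat v a * tvMat v b = tvMat v (a + b) :=
  eq_of_mulVec_eq fun x => by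
    rw [← Matrix.mulVec_mulVec, tvMat_mulVec, tvMat_mulVec, tvMat_mulVec, dotProduct_add,
      dotProduct_smul, h, smul_zero, add_zero, add_dotProduct, add_smul]
    abel

theorem tvMat_zero_right (v : ι → F) : tvMat v 0 = 1 :=
  eq_of_mulVec_eq fun x => by simp [tvMat_mulVec]

theorem tvMat_smul (c : F) (v a : ι → F) : tvMat (c • v) a = tvMat v (c • a) :=
  eq_of_mulVec_eq fun x => by simp [tvMat_mulVec, smul_smul, mul_comm]

/-- The transvection `x ↦ x + (a ⬝ᵥ x) • v` as an element of `GL`. -/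
def tv (v a : ι → F) (h : a ⬝ᵥ v = 0) : GL ι F where
  val := tvMat v a
  inv := tvMat v (-a)
  val_inv := by rw [tvMat_mul h, add_neg_cancel, tvMat_zero_right]
  inv_val := by rw [tvMat_mul (by rw [neg_dotProduct, h, neg_zero]), neg_add_cancel, tvMat_zero_right]

theorem tv_mulVec (v a : ι → F) (h : a ⬝ᵥ v = 0) (x : ι → F) :
    (tv v a h : Matrix ι ι F) *ᵥ x = x + (a ⬝ᵥ x) • v := tvMat_mulVec v a x

theorem tv_inv (v a : ι → F) (h : a ⬝ᵥ v = 0) :
    (tv v a h)⁻¹ = tv v (-a) (by rw [neg_dotProduct, h, neg_zero]) := Units.ext rfl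

theorem tv_mem_specialLinear (v a : ι → F) (h : a ⬝ᵥ v = 0) :
    tv v a h ∈ Cfsg.Geo.specialLinear ι F := by
  refine MonoidHom.mem_ker.mpr (Units.ext ?_)
  show (tvMat v a).det = 1
  rw [tvMat, Matrix.vecMulVec_eq Unit, Matrix.det_one_add_replicateCol_mul_replicateRow, h, add_zero]

theorem mem_subspaceStabilizer {g : GL ι F} {W : Submodule F (ι → F)}
    (h : ∀ w ∈ W, (g : Matrix ι ι F) *ᵥ w ∈ W) : g ∈ Cfsg.Geo.subspaceStabilizer W := by
  have hbij : Function.Injective fun w : W => (⟨(g : Matrix ι ι F) *ᵥ w.1, h w.1 w.2⟩ : W) := by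
    intro x y hxy
    have := congrArg (fun z : W => ((g⁻¹ : GL ι F) : Matrix ι ι F) *ᵥ z.1) hxy
    simpa [Matrix.mulVec_mulVec, ← Units.val_mul] using this
  let L : W →ₗ[F] W :=
    { toFun := fun w => ⟨(g : Matrix ι ι F) *ᵥ w.1, h w.1 w.2⟩
      map_add' := fun x y => Subtype.ext (Matrix.mulVec_add _ _ _)
      map_smul' := fun c x => Subtype.ext (Matrix.mulVec_smul _ _ _) }
  have hs : Function.Surjective L := LinearMap.injective_iff_surjective.mp hbij
  intro v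
  refine ⟨fun hv => h v hv, fun hv => ?_⟩
  obtain ⟨w, hw⟩ := hs ⟨_, hv⟩
  have h2 : (g : Matrix ι ι F) *ᵥ w.1 = (g : Matrix ι ι F) *ᵥ v := congrArg Subtype.val hw
  have h3 := congrArg (fun z => ((g⁻¹ : GL ι F) : Matrix ι ι F) *ᵥ z) h2
  simp [Matrix.mulVec_mulVec, ← Units.val_mul] at h3
  exact h3 ▸ w.2

theorem subspaceStabilizer_apply {g : GL ι F} {W : Submodule F (ι → F)}
    (h : g ∈ Cfsg.Geo.subspaceStabilizer W) {w : ι → F} (hw : w ∈ W) :
    (g : Matrix ι ι F) *ᵥ w ∈ W := (h w).mp hw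

/-- `InK K v a`: the transvection with centre `v` and functional `a` lies in `K`. -/
def InK (K : Subgroup (GL ι F)) (v a : ι → F) : Prop :=
  ∃ h : a ⬝ᵥ v = 0, tv v a h ∈ K

variable {K : Subgroup (GL ι F)}

theorem InK.dot {v a : ι → F} (h : InK K v a) : a ⬝ᵥ v = 0 := h.1

theorem InK.zero (v : ι → F) : InK K v 0 := by
  refine ⟨zero_dotProduct v, ?_⟩
  rw [show tv v 0 (zero_dotProduct v) = 1 from Units.ext (tvMat_zero_right v)]
  exact K.one_mem

theorem InK.add {v a b : ι → F} (ha : InK K v a) (hb : InK K v b) : InK K v (a + b) := by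
  obtain ⟨h1, hk1⟩ := ha
  obtain ⟨h2, hk2⟩ := hb
  refine ⟨by rw [add_dotProduct, h1, h2, add_zero], ?_⟩
  have := K.mul_mem hk1 hk2
  rwa [show tv v a h1 * tv v b h2 = tv v (a + b) (by rw [add_dotProduct, h1, h2, add_zero]) from
    Units.ext (tvMat_mul h1)] at this

theorem InK.neg {v a : ι → F} (ha : InK K v a) : InK K v (-a) :=
  ⟨by rw [neg_dotProduct, ha.1, neg_zero], tv_inv v a ha.1 ▸ K.inv_mem ha.2⟩

theorem InK.sub {v a b : ι → F} (ha : InK K v a) (hb : InK K v b) : InK K v (a - b) :=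
  sub_eq_add_neg a b ▸ ha.add hb.neg

theorem InK.of_smul {c : F} {v a : ι → F} (h : InK K (c • v) a) : InK K v (c • a) := by
  obtain ⟨h1, hk⟩ := h
  have h2 : (c • a) ⬝ᵥ v = 0 := by rw [smul_dotProduct, ← dotProduct_smul]; exact h1
  refine ⟨h2, ?_⟩
  rwa [show tv (c • v) a h1 = tv v (c • a) h2 from Units.ext (tvMat_smul c v a)] at hk

theorem InK.smul {c : F} {v a : ι → F} (h : InK K v (c • a)) (hc : c ≠ 0) : InK K (c • v) a := by
  obtain ⟨h1, hk⟩ := h
  have h0 : a ⬝ᵥ v = 0 := (mul_eq_zero.mp (by simpa [smul_dotProduct] using h1)).resolve_left hc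
  have h2 : a ⬝ᵥ (c • v) = 0 := by rw [dotProduct_smul, h0, smul_zero]
  refine ⟨h2, ?_⟩
  rwa [show tv (c • v) a h2 = tv v (c • a) h1 from Units.ext (tvMat_smul c v a)]

/-- Conjugation carries the transvection `(v, a)` to `(g v, a ∘ g⁻¹)`. -/
theorem InK.conj {v a : ι → F} (h : InK K v a) {g : GL ι F} (hg : g ∈ K) :
    InK K ((g : Matrix ι ι F) *ᵥ v) (a ᵥ* ((g⁻¹ : GL ι F) : Matrix ι ι F)) := by
  obtain ⟨h1, hk⟩ := h
  have h2 : (a ᵥ* ((g⁻¹ : GL ι F) : Matrix ι ι F)) ⬝ᵥ ((g : Matrix ι ι F) *ᵥ v) = 0 := by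
    rw [← Matrix.dotProduct_mulVec, Matrix.mulVec_mulVec, ← Units.val_mul, inv_mul_cancel, Units.val_one,
      Matrix.one_mulVec, h1]
  refine ⟨h2, ?_⟩
  have : g * tv v a h1 * g⁻¹ = tv ((g : Matrix ι ι F) *ᵥ v) (a ᵥ* ((g⁻¹ : GL ι F) : Matrix ι ι F)) h2 :=
    Units.ext (eq_of_mulVec_eq fun x => by
      rw [Units.val_mul, Units.val_mul, ← Matrix.mulVec_mulVec, ← Matrix.mulVec_mulVec, tv_mulVec, tv_mulVec,
        ← Matrix.dotProduct_mulVec, Matrix.mulVec_add, Matrix.mulVec_smul, Matrix.mulVec_mulVec,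
        ← Units.val_mul, mul_inv_cancel, Units.val_one, Matrix.one_mulVec])
  exact this ▸ K.mul_mem (K.mul_mem hg hk) (K.inv_mem hg)

/-- All transvections with centre `v` lie in `K`. -/
def FullAt (K : Subgroup (GL ι F)) (v : ι → F) : Prop := ∀ a : ι → F, a ⬝ᵥ v = 0 → InK K v a

theorem FullAt.conj {v : ι → F} (h : FullAt K v) {g : GL ι F} (hg : g ∈ K) :
    FullAt K ((g : Matrix ι ι F) *ᵥ v) := by
  intro a ha
  have h' := (h (a ᵥ* (g : Matrix ι ι F)) (by rw [← Matrix.dotProduct_mulVec, ha])).conj hg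
  rwa [Matrix.vecMul_vecMul, ← Units.val_mul, mul_inv_cancel, Units.val_one, Matrix.vecMul_one] at h'

theorem FullAt.smul {v : ι → F} (h : FullAt K v) (c : F) : FullAt K (c • v) := by
  intro a ha
  rcases eq_or_ne c 0 with rfl | hc
  · have h0 : InK K v 0 := InK.zero v
    refine ⟨ha, ?_⟩
    rw [show tv ((0 : F) • v) a ha = 1 from
      Units.ext (eq_of_mulVec_eq fun x => by simp [tv_mulVec])]
    exact K.one_mem
  · exact (h _ (by rw [smul_dotProduct, ← dotProduct_smul, ha])).smul hc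

/-- The vector of a linear functional. -/
def toVec (φ : (ι → F) →ₗ[F] F) : ι → F := fun j => φ (Pi.single j 1)

theorem toVec_dot (φ : (ι → F) →ₗ[F] F) (x : ι → F) : toVec φ ⬝ᵥ x = φ x := by
  conv_rhs => rw [pi_eq_sum_univ' x, map_sum]
  simp [dotProduct, toVec, mul_comm]

theorem exists_functional (W : Submodule F (ι → F)) {x : ι → F} (hx : x ∉ W) :
    ∃ a : ι → F, (∀ w ∈ W, a ⬝ᵥ w = 0) ∧ a ⬝ᵥ x = 1 := by
  obtain ⟨φ, hφx, hφ⟩ := Submodule.exists_le_ker_of_notMem hx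
  refine ⟨(φ x)⁻¹ • toVec φ, fun w hw => ?_, ?_⟩
  · rw [smul_dotProduct, toVec_dot, LinearMap.mem_ker.mp (hφ hw), smul_zero]
  · rw [smul_dotProduct, toVec_dot, smul_eq_mul, inv_mul_cancel₀ hφx]

/-- A subgroup containing every transvection contains the special linear group. -/
theorem specialLinear_le_of_fullAt (h : ∀ v, FullAt K v) : Cfsg.Geo.specialLinear ι F ≤ K := by
  have htop : K.comap (Matrix.SpecialLinearGroup.toGL : Matrix.SpecialLinearGroup ι F →* GL ι F) = ⊤ := by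
    refine Cfsg.Agent.Lib.Classical.SL_eq_top_of_transvection_mem fun i j hij b => ?_
    have hd : (Pi.single j b : ι → F) ⬝ᵥ Pi.single i 1 = 0 := by simp [hij.symm]
    obtain ⟨h1, hk⟩ := h (Pi.single i 1) (Pi.single j b) hd
    show Matrix.SpecialLinearGroup.toGL _ ∈ K
    convert hk using 1
    refine Units.ext ?_
    show (1 : Matrix ι ι F) + Matrix.single i j b = 1 + Matrix.vecMulVec _ _
    rw [Matrix.vecMulVec_eq Unit]
    congr 1
    ext p q
    by_cases hp : p = i <;> by_cases hq : q = j <;>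
      simp [Matrix.single, Matrix.mul_apply, hp, hq, Ne.symm]
  intro g hg
  have hrange : g ∈ (Matrix.SpecialLinearGroup.toGL : Matrix.SpecialLinearGroup ι F →* GL ι F).range := by
    refine ⟨⟨(g : Matrix ι ι F), congrArg Units.val (MonoidHom.mem_ker.mp hg)⟩, Units.ext rfl⟩
  obtain ⟨s, rfl⟩ := hrange
  have : s ∈ K.comap (Matrix.SpecialLinearGroup.toGL : Matrix.SpecialLinearGroup ι F →* GL ι F) := by
    rw [htop]; trivial
  exact this

end Cfsg.Agent.Lib.MaxSub
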