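import Mathlib
import Cfsg.Agent.Lib.MaxSub.Transvec
import Cfsg.Agent.Lib.Geometry.WittHermitian
import Cfsg.Agent.Lib.Geometry.HermBasis

/-!
Hermitian forms on coordinate space: transvections, isotropic vectors, special isometries.
-/

set_option autoImplicit false

namespace Cfsg.Agent.Lib.MaxSub

open Matrix
open scoped MatrixGroups Matrix

/-- A non-degenerate Hermitian form, semilinear in the first variable. -/
structure HermF (ι : Type) (F : Type*) [Fintype ι] [DecidableEq ι] [Field F] where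
  σ : F →+* F
  σ_ne : σ ≠ RingHom.id F
  invol : ∀ a : F, σ (σ a) = a
  B : (ι → F) →ₛₗ[σ] (ι → F) →ₗ[F] F
  symm : B.IsSymm
  nondeg : B.Nondegenerate

namespace HermF

variable {ι : Type} [Fintype ι] [DecidableEq ι] {F : Type*} [Field F] (f : HermF ι F)

theorem herm (u v : ι → F) : f.σ (f.B u v) = f.B v u := f.symm.eq u v

theorem eq_zero_comm {u v : ι → F} (h : f.B u v = 0) : f.B v u = 0 := by
  rw [← f.herm, h, map_zero]

theorem σ_eq_zero {a : F} : f.σ a = 0 ↔ a = 0 := map_eq_zero f.σ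

theorem exists_moved : ∃ a : F, f.σ a ≠ a := by
  by_contra h
  push Not at h
  exact f.σ_ne (RingHom.ext h)

theorem exists_trace_zero : ∃ c : F, c ≠ 0 ∧ c + f.σ c = 0 := by
  obtain ⟨a, ha⟩ := f.exists_moved
  exact ⟨a - f.σ a, sub_ne_zero.mpr (Ne.symm ha), by rw [map_sub, f.invol]; ring⟩

theorem exists_trace {s : F} (hs : f.σ s = s) : ∃ d : F, d + f.σ d = s := by
  obtain ⟨d, hd⟩ := Geometry.exists_add_conj_eq f.σ_ne f.invol hs
  exact ⟨d, by rw [add_comm]; exact hd⟩

/-- The vector of the functional `B w`. -/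
def psi (w : ι → F) : ι → F := toVec (f.B w)

theorem psi_dot (w x : ι → F) : f.psi w ⬝ᵥ x = f.B w x := toVec_dot _ x

theorem psi_smul (c : F) (w : ι → F) : f.psi (c • w) = f.σ c • f.psi w :=
  funext fun j => LinearMap.congr_fun (f.B.map_smulₛₗ c w) _

theorem psi_add (u w : ι → F) : f.psi (u + w) = f.psi u + f.psi w :=
  funext fun j => LinearMap.congr_fun (f.B.map_add u w) _

theorem psi_zero : f.psi 0 = 0 := funext fun j => by simp [psi, toVec]

theorem psi_injective : Function.Injective f.psi := fun u v h => by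
  rw [← sub_eq_zero]
  exact f.nondeg.1 _ fun x => by
    rw [map_sub, LinearMap.sub_apply, ← f.psi_dot, ← f.psi_dot, h, sub_self]

theorem psi_surjective (a : ι → F) : ∃ v, f.psi v = a := by
  obtain ⟨u, hu⟩ := Geometry.exists_sesq_eq_functional f.B f.invol f.symm f.nondeg
    (LinearMap.mk (AddHom.mk (fun x => a ⬝ᵥ x) (dotProduct_add a)) (fun c x => dotProduct_smul c a x))
  exact ⟨u, dotProduct_eq _ _ fun x => (f.psi_dot u x).trans (hu x)⟩

theorem exists_perp_eq_one (W : Submodule F (ι → F)) {x : ι → F} (hx : x ∉ W) :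
    ∃ u, (∀ z ∈ W, f.B u z = 0) ∧ f.B u x = 1 :=
  Geometry.exists_sesq_perp_apply_eq_one f.B f.invol f.symm f.nondeg W hx

/-- Vectors orthogonal to all of `S`. -/
def perp (S : Submodule F (ι → F)) : Submodule F (ι → F) where
  carrier := {x | ∀ w ∈ S, f.B w x = 0}
  add_mem' {a b} ha hb w hw := by rw [map_add, ha w hw, hb w hw, add_zero]
  zero_mem' w _ := map_zero _
  smul_mem' c a ha w hw := by rw [map_smul, ha w hw, smul_zero]

theorem mem_perp {S : Submodule F (ι → F)} {x : ι → F} : x ∈ f.perp S ↔ ∀ w ∈ S, f.B w x = 0 := Iff.rfl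

theorem mem_perp_span {v x : ι → F} : x ∈ f.perp (F ∙ v) ↔ f.B v x = 0 := by
  refine ⟨fun h => h v (Submodule.mem_span_singleton_self v), fun h w hw => ?_⟩
  obtain ⟨c, rfl⟩ := Submodule.mem_span_singleton.mp hw
  rw [LinearMap.map_smulₛₗ, LinearMap.smul_apply, h, smul_zero]

theorem perp_perp_le (S : Submodule F (ι → F)) : f.perp (f.perp S) ≤ S := by
  intro x hx
  by_contra h
  obtain ⟨u, hu, hu1⟩ := f.exists_perp_eq_one S h
  exact one_ne_zero (hu1.symm.trans (hx u fun z hz => f.eq_zero_comm (hu z hz)))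

theorem finrank_perp_ge (S : Submodule F (ι → F)) :
    Fintype.card ι ≤ Module.finrank F (f.perp S) + Module.finrank F S := by
  let b := Module.finBasis F S
  let T : (ι → F) →ₗ[F] (Fin (Module.finrank F S) → F) := LinearMap.pi fun i => f.B (b i)
  have hker : LinearMap.ker T ≤ f.perp S := by
    intro x hx w hw
    rw [LinearMap.mem_ker] at hx
    have hw' : (⟨w, hw⟩ : S) = ∑ i, b.repr ⟨w, hw⟩ i • b i := (b.sum_repr _).symm
    have := congrArg Subtype.val hw'
    simp only [Submodule.coe_sum, Submodule.coe_smul] at this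
    rw [this, map_sum, LinearMap.sum_apply]
    refine Finset.sum_eq_zero fun i _ => ?_
    rw [LinearMap.map_smulₛₗ, LinearMap.smul_apply,
      show f.B (b i) x = 0 from congrFun hx i, smul_zero]
  have h1 := T.finrank_range_add_finrank_ker
  have h2 := Submodule.finrank_le (LinearMap.range T)
  have h3 := Submodule.finrank_mono hker
  rw [Module.finrank_fintype_fun_eq_card] at h1
  rw [Module.finrank_fintype_fun_eq_card, Fintype.card_fin] at h2
  omega

theorem finrank_radical_le (S : Submodule F (ι → F)) :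
    Module.finrank F (f.perp S ⊓ f.perp (f.perp S) : Submodule F (ι → F)) ≤ Module.finrank F S :=
  Submodule.finrank_mono (inf_le_right.trans (f.perp_perp_le S))

/-- Isotropy. -/
def Iso (w : ι → F) : Prop := f.B w w = 0

theorem Iso.smul {f : HermF ι F} {w : ι → F} (h : f.Iso w) (c : F) : f.Iso (c • w) := by
  have h' : f.B w w = 0 := h
  show f.B (c • w) (c • w) = 0
  simp [LinearMap.map_smulₛₗ, h']

theorem iso_zero : f.Iso 0 := by simp [Iso]

theorem exists_iso_combination [Finite F] {x y : ι → F} (hx : ¬ f.Iso x) (hy : ¬ f.Iso y)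
    (hxy : f.B x y = 0) : ∃ a : F, a ≠ 0 ∧ f.Iso (x + a • y) := by
  obtain ⟨a, ha⟩ := Geometry.exists_mul_conj_eq f.σ_ne f.invol
    (s := -(f.B x x / f.B y y)) (by rw [map_neg, map_div₀, f.herm, f.herm])
  have hy' : f.B y y ≠ 0 := hy
  refine ⟨a, fun h0 => ?_, ?_⟩
  · subst h0
    simp at ha
    rcases ha with h | h
    · exact hx h
    · exact hy h
  · show f.B (x + a • y) (x + a • y) = 0
    simp only [map_add, LinearMap.map_smulₛₗ, LinearMap.add_apply, LinearMap.smul_apply, map_smul, smul_eq_mul,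
      hxy, f.eq_zero_comm hxy]
    linear_combination (f.B y y) * ha - mul_inv_cancel₀ hy' * f.B x x

theorem exists_hyperbolic [Finite F] (S : Submodule F (ι → F))
    (hS : 2 * Module.finrank F S + 2 ≤ Fintype.card ι) :
    ∃ e ∈ f.perp S, ∃ e' ∈ f.perp S, f.Iso e ∧ f.Iso e' ∧ f.B e e' = 1 := by
  set X := f.perp S with hX
  set R := X ⊓ f.perp X with hR
  obtain ⟨C, hC⟩ := Submodule.exists_isCompl R
  set Y := X ⊓ C with hY
  have hXY : X ≤ R ⊔ Y := by
    rw [hY, inf_comm, ← sup_inf_assoc_of_le C (inf_le_left : R ≤ X), hC.sup_eq_top, top_inf_eq]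
  have hYdim : 2 ≤ Module.finrank F Y := by
    have h1 := Submodule.finrank_mono hXY
    have h2 := Submodule.finrank_sup_add_finrank_inf_eq R Y
    have h3 := f.finrank_perp_ge S
    have h4 := f.finrank_radical_le S
    rw [← hX] at h3 h4
    rw [← hR] at h4
    omega
  have hYnd : ∀ y ∈ Y, (∀ z ∈ Y, f.B z y = 0) → y = 0 := by
    intro y hy hyz
    have : y ∈ R := ⟨hy.1, fun w hw => by
      obtain ⟨r, hr, z, hz, rfl⟩ := Submodule.mem_sup.mp (hXY hw)
      rw [map_add, LinearMap.add_apply, hyz z hz, add_zero]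
      exact f.eq_zero_comm (hr.2 y hy.1)⟩
    exact (Submodule.mem_bot F).mp (hC.inf_eq_bot ▸ (⟨this, hy.2⟩ : y ∈ R ⊓ C))
  obtain ⟨e, heY, he0, he⟩ : ∃ e ∈ Y, e ≠ 0 ∧ f.Iso e := by
    obtain ⟨x, hx, hx0⟩ := (Submodule.ne_bot_iff Y).mp fun h => by
      rw [h, finrank_bot] at hYdim; omega
    by_cases hix : f.Iso x
    · exact ⟨x, hx, hx0, hix⟩
    obtain ⟨y, hy, hy0⟩ := (Submodule.ne_bot_iff (Y ⊓ f.perp (F ∙ x))).mp fun h => by
      have h1 := Submodule.finrank_sup_add_finrank_inf_eq Y (f.perp (F ∙ x))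
      rw [h, finrank_bot] at h1
      have h2 := f.finrank_perp_ge (F ∙ x)
      rw [finrank_span_singleton hx0] at h2
      have h3 := Submodule.finrank_le (Y ⊔ f.perp (F ∙ x))
      rw [Module.finrank_fintype_fun_eq_card] at h3
      omega
    by_cases hiy : f.Iso y
    · exact ⟨y, hy.1, hy0, hiy⟩
    have hxy : f.B x y = 0 := f.mem_perp_span.mp hy.2
    obtain ⟨a, _, hia⟩ := f.exists_iso_combination hix hiy hxy
    refine ⟨x + a • y, Y.add_mem hx (Y.smul_mem a hy.1), fun h => ?_, hia⟩
    have h' := congrArg (f.B x) h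
    rw [map_add, map_smul, hxy, smul_zero, add_zero, map_zero] at h'
    exact hix h'
  obtain ⟨z, hz, hez⟩ : ∃ z ∈ Y, f.B e z ≠ 0 := by
    by_contra h
    push Not at h
    exact he0 (hYnd e heY fun z hz => f.eq_zero_comm (h z hz))
  set z' := (f.B e z)⁻¹ • z with hz'
  have hez' : f.B e z' = 1 := by rw [hz', map_smul, smul_eq_mul, inv_mul_cancel₀ hez]
  obtain ⟨d, hd⟩ := f.exists_trace (f.herm z' z')
  have he' : f.B e e = 0 := he
  refine ⟨e, heY.1, z' - d • e, X.sub_mem (X.smul_mem _ hz.1) (X.smul_mem _ heY.1), he, ?_, ?_⟩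
  · show f.B (z' - d • e) (z' - d • e) = 0
    simp only [map_sub, LinearMap.map_smulₛₗ, LinearMap.sub_apply, LinearMap.smul_apply, map_smul, smul_eq_mul,
      he', hez', show f.B z' e = 1 by rw [← f.herm e z', hez', map_one]]
    linear_combination -hd
  · rw [map_sub, map_smul (f.B e) d e, he', hez', smul_zero, sub_zero]

/-- The orthogonal space of a small subspace is spanned by its isotropic vectors. -/
theorem perp_le_span_iso [Finite F] (S : Submodule F (ι → F))
    (hS : 2 * Module.finrank F S + 2 ≤ Fintype.card ι) :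
    f.perp S ≤ Submodule.span F {w | w ∈ f.perp S ∧ f.Iso w} := by
  obtain ⟨e, heS, e', he'S, he, he', hee'⟩ := f.exists_hyperbolic S hS
  intro x hx
  have hee : f.B e e = 0 := he
  have he'e' : f.B e' e' = 0 := he'
  have he'e : f.B e' e = 1 := by rw [← f.herm e e', hee', map_one]
  set y := x - f.B e' x • e - f.B e x • e' with hy
  have hyS : y ∈ f.perp S := sub_mem (sub_mem hx (Submodule.smul_mem _ _ heS)) (Submodule.smul_mem _ _ he'S)
  have hye : f.B e y = 0 := by simp [hy, map_sub, hee, hee']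
  have hye' : f.B e' y = 0 := by simp [hy, map_sub, he'e', he'e]
  obtain ⟨d, hd⟩ := f.exists_trace (s := - f.B y y) (by rw [map_neg, f.herm])
  have hiso : f.Iso (y + d • e + e') := by
    show f.B _ _ = 0
    simp only [map_add, LinearMap.map_smulₛₗ, LinearMap.add_apply, LinearMap.smul_apply, map_smul, smul_eq_mul,
      hee, hee', he'e, he'e', hye, hye', f.eq_zero_comm hye, f.eq_zero_comm hye']
    linear_combination hd
  have hdecomp : x = (y + d • e + e') + ((f.B e' x - d) • e + (f.B e x - 1) • e') := by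
    rw [hy]; module
  rw [hdecomp]
  refine add_mem (Submodule.subset_span ⟨?_, hiso⟩) (add_mem (Submodule.smul_mem _ _ (Submodule.subset_span ⟨heS, he⟩))
    (Submodule.smul_mem _ _ (Submodule.subset_span ⟨he'S, he'⟩)))
  exact add_mem (add_mem hyS (Submodule.smul_mem _ _ heS)) he'S

/-- A functional not vanishing on `S⊥` does not vanish on its isotropic vectors. -/
theorem exists_iso_dot_ne_zero [Finite F] (S : Submodule F (ι → F))
    (hS : 2 * Module.finrank F S + 2 ≤ Fintype.card ι) {a x : ι → F} (hx : x ∈ f.perp S) (hax : a ⬝ᵥ x ≠ 0) :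
    ∃ w ∈ f.perp S, f.Iso w ∧ a ⬝ᵥ w ≠ 0 := by
  by_contra h
  push Not at h
  refine hax ?_
  have hle : ∀ y ∈ Submodule.span F {w | w ∈ f.perp S ∧ f.Iso w}, a ⬝ᵥ y = 0 := by
    intro y hy
    induction hy using Submodule.span_induction with
    | mem w hw => exact h w hw.1 hw.2
    | zero => exact dotProduct_zero a
    | add p q _ _ hp hq => rw [dotProduct_add, hp, hq, add_zero]
    | smul c p _ hp => rw [dotProduct_smul, hp, smul_zero]
  exact hle x (f.perp_le_span_iso S hS hx)

theorem iso_dot {w : ι → F} (hw : f.Iso w) (c : F) : (c • f.psi w) ⬝ᵥ w = 0 := by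
  rw [smul_dotProduct, f.psi_dot, show f.B w w = 0 from hw, smul_zero]

/-- The unitary transvection `x ↦ x + c B(w, x) w`. -/
def trans (w : ι → F) (hw : f.Iso w) (c : F) : GL ι F := tv w (c • f.psi w) (f.iso_dot hw c)

theorem trans_mulVec (w : ι → F) (hw : f.Iso w) (c : F) (x : ι → F) :
    (f.trans w hw c : Matrix ι ι F) *ᵥ x = x + (c * f.B w x) • w := by
  rw [trans, tv_mulVec, smul_dotProduct, f.psi_dot, smul_eq_mul]

/-- Isometries. -/
def Preserves (g : GL ι F) : Prop :=
  ∀ u v, f.B ((g : Matrix ι ι F) *ᵥ u) ((g : Matrix ι ι F) *ᵥ v) = f.B u v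

theorem trans_preserves (w : ι → F) (hw : f.Iso w) {c : F} (hc : c + f.σ c = 0) :
    f.Preserves (f.trans w hw c) := fun u v => by
  have hw' : f.B w w = 0 := hw
  simp only [f.trans_mulVec, map_add, LinearMap.map_smulₛₗ, LinearMap.add_apply, LinearMap.smul_apply, map_smul,
    smul_eq_mul, map_mul, hw', f.herm]
  linear_combination (f.B u w * f.B w v) * hc

/-- The map `x ↦ x + (δ - 1) B(a, x) / B(a, a) • a`. -/
theorem exists_quasi {a : ι → F} (ha : ¬ f.Iso a) {δ : F} (hδ : f.σ δ * δ = 1) :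
    ∃ g : GL ι F, f.Preserves g ∧ (g : Matrix ι ι F).det = δ ∧
      ∀ x, f.B a x = 0 → (g : Matrix ι ι F) *ᵥ x = x := by
  have ha' : f.B a a ≠ 0 := ha
  set k := (δ - 1) / f.B a a with hk
  set A : Matrix ι ι F := 1 + Matrix.vecMulVec a (k • f.psi a) with hA
  have hdet : A.det = δ := by
    rw [hA, Matrix.vecMulVec_eq Unit, Matrix.det_one_add_replicateCol_mul_replicateRow, smul_dotProduct, f.psi_dot,
      smul_eq_mul, hk]
    field_simp
    ring
  have happ : ∀ x, A *ᵥ x = x + (k * f.B a x) • a := fun x => by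
    rw [hA, Matrix.add_mulVec, Matrix.one_mulVec, Matrix.vecMulVec_mulVec, smul_dotProduct, f.psi_dot,
      op_smul_eq_smul, smul_eq_mul]
  have hδ0 : δ ≠ 0 := fun h => by rw [h, mul_zero] at hδ; exact zero_ne_one hδ
  refine ⟨Matrix.GeneralLinearGroup.mkOfDetNeZero A (by rw [hdet]; exact hδ0), fun u v => ?_, hdet, fun x hx => ?_⟩
  · show f.B (A *ᵥ u) (A *ᵥ v) = _
    simp only [happ, map_add, LinearMap.map_smulₛₗ, LinearMap.add_apply, LinearMap.smul_apply, map_smul,
      smul_eq_mul, map_mul, f.herm]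
    have h1 : f.σ k + k + f.σ k * k * f.B a a = 0 := by
      rw [hk, map_div₀, map_sub, map_one, f.herm]
      field_simp
      linear_combination hδ
    linear_combination (f.B u a * f.B a v) * h1
  · show A *ᵥ x = x
    rw [happ, hx, mul_zero, zero_smul, add_zero]

/-- Determinants of isometries have norm one. -/
theorem det_norm {g : GL ι F} (hg : f.Preserves g) :
    f.σ (g : Matrix ι ι F).det * (g : Matrix ι ι F).det = 1 := by
  set J : Matrix ι ι F := Matrix.of fun i j => f.B (Pi.single i 1) (Pi.single j 1) with hJ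
  set G : Matrix ι ι F := (g : Matrix ι ι F) with hG
  have hBJ : ∀ x y, f.B x y = ∑ i, ∑ j, f.σ (x i) * (J i j * y j) := by
    intro x y
    conv_lhs => rw [pi_eq_sum_univ' x, map_sum, LinearMap.sum_apply]
    refine Finset.sum_congr rfl fun i _ => ?_
    rw [LinearMap.map_smulₛₗ, LinearMap.smul_apply, ← Finset.mul_sum]
    congr 1
    conv_lhs => rw [pi_eq_sum_univ' y, map_sum]
    refine Finset.sum_congr rfl fun j _ => ?_
    rw [map_smul, smul_eq_mul, mul_comm]
    rfl
  have heq : (G.map f.σ)ᵀ * J * G = J := by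
    ext i j
    calc ((G.map f.σ)ᵀ * J * G) i j = f.B (G *ᵥ Pi.single i 1) (G *ᵥ Pi.single j 1) := by
          rw [hBJ, Matrix.mul_apply]
          simp only [Matrix.mul_apply, Finset.sum_mul, Matrix.transpose_apply, Matrix.map_apply,
            Matrix.mulVec_single_one, Matrix.col_apply]
          rw [Finset.sum_comm]
          exact Finset.sum_congr rfl fun l _ => Finset.sum_congr rfl fun k _ => mul_assoc _ _ _
      _ = J i j := hg _ _
  have hJ0 : J.det ≠ 0 := by
    intro h
    obtain ⟨y, hy, hJy⟩ := Matrix.exists_mulVec_eq_zero_iff.mpr h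
    refine hy (f.nondeg.2 y fun x => ?_)
    rw [hBJ]
    refine Finset.sum_eq_zero fun i _ => ?_
    rw [← Finset.mul_sum]
    exact mul_eq_zero_of_right _ (congrFun hJy i)
  have h1 := congrArg Matrix.det heq
  rw [Matrix.det_mul, Matrix.det_mul, Matrix.det_transpose, show (G.map f.σ).det = f.σ G.det from
    (RingHom.map_det f.σ G).symm] at h1
  refine mul_right_cancel₀ hJ0 ?_
  rw [one_mul]
  linear_combination h1

/-- Witt's theorem inside the special linear group. -/
theorem witt_special [Finite F] (X : Submodule F (ι → F)) (φ : X →ₗ[F] (ι → F)) (hinj : Function.Injective φ)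
    (hφ : ∀ x x' : X, f.B (φ x) (φ x') = f.B (x : ι → F) (x' : ι → F))
    (a : ι → F) (ha : ¬ f.Iso a) (hax : ∀ x : X, f.B a (φ x) = 0) :
    ∃ g : GL ι F, f.Preserves g ∧ g ∈ Cfsg.Geo.specialLinear ι F ∧
      ∀ x : X, (g : Matrix ι ι F) *ᵥ (x : ι → F) = φ x := by
  obtain ⟨e, he, hex⟩ := Geometry.witt_hermitian f.B f.σ_ne f.invol f.symm f.nondeg X φ hinj hφ
  let g₀ : GL ι F := Matrix.GeneralLinearGroup.toLin.symm
    ((LinearMap.GeneralLinearGroup.generalLinearEquiv F (ι → F)).symm e)
  have hg₀ : ∀ x, (g₀ : Matrix ι ι F) *ᵥ x = e x := fun x => LinearMap.toMatrix'_mulVec _ x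
  have hpres : f.Preserves g₀ := fun u v => by rw [hg₀, hg₀, he]
  obtain ⟨q, hq, hqdet, hqfix⟩ := f.exists_quasi ha (δ := f.σ (g₀ : Matrix ι ι F).det)
    (by rw [f.invol, mul_comm]; exact f.det_norm hpres)
  refine ⟨q * g₀, fun u v => ?_, MonoidHom.mem_ker.mpr (Units.ext ?_), fun x => ?_⟩
  · rw [Units.val_mul, ← Matrix.mulVec_mulVec, ← Matrix.mulVec_mulVec, hq, hpres]
  · show ((q * g₀ : GL ι F) : Matrix ι ι F).det = 1
    rw [Units.val_mul, Matrix.det_mul, hqdet]
    exact f.det_norm hpres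
  · rw [Units.val_mul, ← Matrix.mulVec_mulVec, hg₀, hex, hqfix _ (hax x)]

theorem exists_aniso_perp [Finite F] (S : Submodule F (ι → F))
    (hS : 2 * Module.finrank F S + 2 ≤ Fintype.card ι) : ∃ a, ¬ f.Iso a ∧ ∀ x ∈ S, f.B a x = 0 := by
  obtain ⟨e, heS, e', he'S, he, he', hee'⟩ := f.exists_hyperbolic S hS
  obtain ⟨c, hc, -⟩ := f.exists_trace_zero
  obtain ⟨d, hd⟩ : ∃ d : F, d + f.σ d ≠ 0 := by
    obtain ⟨d, hd⟩ := f.exists_trace (map_one f.σ)
    exact ⟨d, by rw [hd]; exact one_ne_zero⟩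
  refine ⟨d • e + e', fun h => hd ?_, fun x hx =>
    f.eq_zero_comm ((f.perp S).add_mem ((f.perp S).smul_mem d heS) he'S x hx)⟩
  have h' : f.B (d • e + e') (d • e + e') = 0 := h
  simp only [map_add, LinearMap.map_smulₛₗ, LinearMap.add_apply, LinearMap.smul_apply, map_smul, smul_eq_mul,
    show f.B e e = 0 from he, show f.B e' e' = 0 from he', hee',
    show f.B e' e = 1 by rw [← f.herm e e', hee', map_one]] at h'
  linear_combination h'

/-- Moving an isotropic vector. -/
theorem exists_special_map_one [Finite F] (hn : 4 ≤ Fintype.card ι) {v v' : ι → F} (hv : f.Iso v) (hv' : f.Iso v')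
    (hv0 : v ≠ 0) (hv'0 : v' ≠ 0) :
    ∃ g : GL ι F, f.Preserves g ∧ g ∈ Cfsg.Geo.specialLinear ι F ∧ (g : Matrix ι ι F) *ᵥ v = v' := by
  classical
  let e := LinearEquiv.toSpanNonzeroSingleton F (ι → F) v hv0
  let φ : (F ∙ v) →ₗ[F] (ι → F) := (LinearMap.toSpanSingleton F (ι → F) v').comp e.symm.toLinearMap
  have hcoe : ∀ x : (F ∙ v), (x : ι → F) = e.symm x • v := fun x => by
    conv_lhs => rw [← e.apply_symm_apply x]
    rfl
  obtain ⟨a, ha, hax⟩ := f.exists_aniso_perp (F ∙ v') (by rw [finrank_span_singleton hv'0]; omega)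
  obtain ⟨g, hg1, hg2, hg3⟩ := f.witt_special (F ∙ v) φ
    (fun x y h => e.symm.injective (smul_left_injective F hv'0 h))
    (fun x y => by
      show f.B (e.symm x • v') (e.symm y • v') = _
      rw [hcoe x, hcoe y]
      simp [LinearMap.map_smulₛₗ, show f.B v v = 0 from hv, show f.B v' v' = 0 from hv'])
    a ha (fun x => hax _ (Submodule.smul_mem _ _ (Submodule.mem_span_singleton_self v')))
  refine ⟨g, hg1, hg2, (hg3 ⟨v, Submodule.mem_span_singleton_self v⟩).trans ?_⟩
  show e.symm ⟨v, _⟩ • v' = v'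
  rw [show e.symm ⟨v, Submodule.mem_span_singleton_self v⟩ = (1 : F) from
    e.injective (by rw [e.apply_symm_apply]; exact Subtype.ext (one_smul F v).symm), one_smul]

/-- Moving an orthogonal pair of isotropic vectors. -/
theorem exists_special_map_two [Finite F] (hn : 6 ≤ Fintype.card ι) {v u v' u' : ι → F}
    (hv : f.Iso v) (hu : f.Iso u) (hvu : f.B v u = 0) (hind : LinearIndependent F ![v, u])
    (hv' : f.Iso v') (hu' : f.Iso u') (hvu' : f.B v' u' = 0) (hind' : LinearIndependent F ![v', u']) :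
    ∃ g : GL ι F, f.Preserves g ∧ g ∈ Cfsg.Geo.specialLinear ι F ∧
      (g : Matrix ι ι F) *ᵥ v = v' ∧ (g : Matrix ι ι F) *ᵥ u = u' := by
  classical
  let b := Module.Basis.span hind
  let φ : Submodule.span F (Set.range ![v, u]) →ₗ[F] (ι → F) := b.constr F ![v', u']
  have hφ : ∀ i, φ (b i) = ![v', u'] i := fun i => b.constr_basis F _ i
  have hb : ∀ i, ((b i : Submodule.span F (Set.range ![v, u])) : ι → F) = ![v, u] i := fun i =>
    congrArg Subtype.val (Module.Basis.span_apply hind i)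
  have hdim : Module.finrank F (Submodule.span F (Set.range ![v', u'])) = 2 := by
    rw [finrank_span_eq_card hind', Fintype.card_fin]
  obtain ⟨a, ha, hax⟩ := f.exists_aniso_perp (Submodule.span F (Set.range ![v', u'])) (by rw [hdim]; omega)
  have hsum : ∀ x, φ x = ∑ i, b.repr x i • ![v', u'] i := fun x => by
    conv_lhs => rw [← b.sum_repr x]
    simp only [map_sum, map_smul, hφ]
  have hxsum : ∀ x : Submodule.span F (Set.range ![v, u]), (x : ι → F) = ∑ i, b.repr x i • ![v, u] i := fun x => by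
    conv_lhs => rw [← b.sum_repr x]
    simp only [Submodule.coe_sum, Submodule.coe_smul, hb]
  obtain ⟨g, hg1, hg2, hg3⟩ := f.witt_special _ φ
    (by
      rw [← LinearMap.ker_eq_bot, eq_bot_iff]
      intro x hx
      rw [LinearMap.mem_ker, hsum] at hx
      have := Fintype.linearIndependent_iff.mp hind' _ hx
      exact (Submodule.mem_bot F).mpr (b.repr.injective (Finsupp.ext fun i => by simp [this i])))
    (fun x y => by
      rw [hsum, hsum, hxsum x, hxsum y]
      have : ∀ i j, f.B (![v', u'] i) (![v', u'] j) = f.B (![v, u] i) (![v, u] j) := by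
        intro i j
        fin_cases i <;> fin_cases j <;>
          simp [show f.B v v = 0 from hv, show f.B u u = 0 from hu, show f.B v' v' = 0 from hv',
            show f.B u' u' = 0 from hu', hvu, hvu', f.eq_zero_comm hvu, f.eq_zero_comm hvu']
      simp only [map_sum, LinearMap.sum_apply, LinearMap.map_smulₛₗ, LinearMap.smul_apply, map_smul, this])
    a ha (fun x => hax _ (by
      rw [hsum]
      exact Submodule.sum_mem _ fun i _ => Submodule.smul_mem _ _ (Submodule.subset_span ⟨i, rfl⟩)))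
  refine ⟨g, hg1, hg2, ?_, ?_⟩
  · rw [show v = ((b 0 : Submodule.span F (Set.range ![v, u])) : ι → F) from (hb 0).symm, hg3, hφ]; rfl
  · rw [show u = ((b 1 : Submodule.span F (Set.range ![v, u])) : ι → F) from (hb 1).symm, hg3, hφ]; rfl

theorem psi_vecMul_inv {g : GL ι F} (hg : f.Preserves g) (u : ι → F) :
    f.psi u ᵥ* ((g⁻¹ : GL ι F) : Matrix ι ι F) = f.psi ((g : Matrix ι ι F) *ᵥ u) := by
  refine dotProduct_eq _ _ fun x => ?_
  rw [← Matrix.dotProduct_mulVec, f.psi_dot, f.psi_dot, ← hg, Matrix.mulVec_mulVec x, ← Units.val_mul,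
    mul_inv_cancel, Units.val_one, Matrix.one_mulVec]

end HermF

variable {ι : Type} [Fintype ι] [DecidableEq ι] {F : Type*} [Field F] {K : Subgroup (GL ι F)}

theorem FullAt.zero (K : Subgroup (GL ι F)) : FullAt K (0 : ι → F) := fun a ha => by
  refine ⟨ha, ?_⟩
  rw [show tv (0 : ι → F) a ha = 1 from Units.ext (eq_of_mulVec_eq fun x => by simp [tv_mulVec])]
  exact K.one_mem

theorem FullAt.add {v w : ι → F} (hv : FullAt K v) (hw : FullAt K w) : FullAt K (v + w) := by
  rcases eq_or_ne v 0 with rfl | hv0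
  · rwa [zero_add]
  by_cases h : w ∈ F ∙ v
  · obtain ⟨c, rfl⟩ := Submodule.mem_span_singleton.mp h
    have := hv.smul (1 + c)
    rwa [add_smul, one_smul] at this
  · obtain ⟨a, ha, haw⟩ := exists_functional (F ∙ v) h
    obtain ⟨h1, hk⟩ := hv a (ha v (Submodule.mem_span_singleton_self v))
    have := hw.conj hk
    rwa [tv_mulVec, haw, one_smul, add_comm] at this

theorem FullAt.of_mem_span {S : Set (ι → F)} (hS : ∀ s ∈ S, FullAt K s) {x : ι → F}
    (hx : x ∈ Submodule.span F S) : FullAt K x := by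
  induction hx using Submodule.span_induction with
  | mem s hs => exact hS s hs
  | zero => exact FullAt.zero K
  | add a b _ _ ha hb => exact ha.add hb
  | smul c a _ ha => exact ha.smul c

/-- Shrinking a transvection against another whose centre it fixes. -/
theorem InK.commutator {v a w b : ι → F} (h1 : InK K v a) (h2 : InK K w b) (hfix : b ⬝ᵥ v = 0) :
    InK K v ((a ⬝ᵥ w) • b) := by
  obtain ⟨hw, hk⟩ := h2
  have h3 := h1.conj hk
  rw [tv_mulVec, hfix, zero_smul, add_zero, tv_inv] at h3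
  convert h1.sub h3 using 1
  refine dotProduct_eq _ _ fun x => ?_
  rw [sub_dotProduct, ← Matrix.dotProduct_mulVec, tv_mulVec, dotProduct_add, dotProduct_smul, neg_dotProduct,
    smul_dotProduct, smul_eq_mul, smul_eq_mul]
  ring

end Cfsg.Agent.Lib.MaxSub
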