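import Cfsg.Agent.Lib.MaxSub.IsoDecomp
import Cfsg.Agent.Lib.MaxSub.LinDecomp
import Cfsg.Agent.Lib.MaxSub.Unitary
import Mathlib

/-!
Isometries of Hermitian forms: splitting, fixed and moved parts, totally isotropic invariant subspaces.
-/

set_option autoImplicit false
set_option maxHeartbeats 1000000
set_option linter.unusedSectionVars false

namespace Cfsg.Agent.Lib.MaxSub.HermDecomp

open Module Polynomial Cfsg.Agent.Lib.MaxSub
open Cfsg.Agent.Lib.MaxSub.IsoDecomp (fixed moved mem_fixed inf_inv sup_inv fixed_inv decompose pow_moved moved_inv map_eq)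
open scoped _root_.Classical

variable {ι : Type} [Fintype ι] [DecidableEq ι] {F : Type*} [Field F] (f : HermF ι F) {X : End F (ι → F)}

/-- Non-degeneracy on a subspace. -/
def Nd (U : Submodule F (ι → F)) : Prop := ∀ v ∈ U, v ≠ 0 → ∃ x ∈ U, f.B v x ≠ 0

theorem smul_left (a : F) (u v : ι → F) : f.B (a • u) v = f.σ a * f.B u v := by
  rw [LinearMap.map_smulₛₗ, LinearMap.smul_apply, smul_eq_mul]

theorem perp_anti {S T : Submodule F (ι → F)} (h : S ≤ T) : f.perp T ≤ f.perp S := fun _ hx w hw => hx w (h hw)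

theorem nd_top : Nd f ⊤ := fun v _ hv => by
  by_contra hc
  push Not at hc
  exact hv (f.nondeg.1 v fun y => hc y Submodule.mem_top)

theorem nd_bot : Nd f ⊥ := fun _ ha ha0 => absurd ((Submodule.mem_bot F).1 ha) ha0

/-- Two subspaces separated by the form. -/
theorem finrank_le_of_sep {S C : Submodule F (ι → F)}
    (h : ∀ s ∈ S, (∀ c ∈ C, f.B c s = 0) → s = 0) : finrank F S ≤ finrank F C := by
  let b := Module.finBasis F C
  let φ : S →ₗ[F] (Fin (finrank F C) → F) :=
    { toFun := fun s j => f.B (b j : ι → F) (s : ι → F)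
      map_add' := fun x y => funext fun j => by simp
      map_smul' := fun a x => funext fun j => by simp }
  have hinj : Function.Injective φ := (injective_iff_map_eq_zero φ).2 fun s hs => by
    refine Subtype.ext (h s s.2 fun c hc => ?_)
    have e : c = ∑ j, b.repr ⟨c, hc⟩ j • (b j : ι → F) := by
      refine (congrArg Subtype.val (b.sum_repr ⟨c, hc⟩)).symm.trans ?_
      rw [Submodule.coe_sum]
      rfl
    rw [e, map_sum, LinearMap.sum_apply]
    refine Finset.sum_eq_zero fun j _ => ?_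
    rw [smul_left, show f.B (b j : ι → F) s = 0 from congrFun hs j, mul_zero]
  have := LinearMap.finrank_le_finrank_of_injective hinj
  rwa [Module.finrank_fin_fun] at this

section General

variable {U L : Submodule F (ι → F)}

/-- A non-degenerate subspace splits off. -/
theorem split_off (hU : Nd f U) (hL : Nd f L) (hLU : L ≤ U) :
    L ⊔ (U ⊓ f.perp L) = U ∧ Nd f (U ⊓ f.perp L) ∧
      finrank F L + finrank F (U ⊓ f.perp L : Submodule F (ι → F)) = finrank F U := by
  have hdisj : L ⊓ (U ⊓ f.perp L) = ⊥ := by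
    rw [Submodule.eq_bot_iff]
    rintro v ⟨hv, -, hv'⟩
    by_contra h0
    obtain ⟨x, hx, hvx⟩ := hL v hv h0
    exact hvx (f.eq_zero_comm (hv' x hx))
  let b := Module.finBasis F L
  let φ : U →ₗ[F] (Fin (finrank F L) → F) :=
    { toFun := fun u j => f.B (b j : ι → F) (u : ι → F)
      map_add' := fun x y => funext fun j => by simp
      map_smul' := fun a x => funext fun j => by simp }
  have hker : LinearMap.ker φ = (f.perp L).comap U.subtype := by
    ext u
    rw [LinearMap.mem_ker, Submodule.mem_comap, f.mem_perp]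
    refine ⟨fun h w hw => ?_, fun h => funext fun j => h _ (b j).2⟩
    have e : w = ∑ j, b.repr ⟨w, hw⟩ j • (b j : ι → F) := by
      refine (congrArg Subtype.val (b.sum_repr ⟨w, hw⟩)).symm.trans ?_
      rw [Submodule.coe_sum]
      rfl
    rw [e, map_sum, LinearMap.sum_apply]
    refine Finset.sum_eq_zero fun j _ => ?_
    rw [smul_left, show f.B (b j : ι → F) (U.subtype u) = 0 from congrFun h j, mul_zero]
  have h1 := φ.finrank_range_add_finrank_ker
  have h2 : finrank F (LinearMap.range φ) ≤ finrank F L :=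
    (Submodule.finrank_le _).trans (le_of_eq (Module.finrank_fin_fun F))
  have h3 : finrank F (LinearMap.ker φ) = finrank F (U ⊓ f.perp L : Submodule F (ι → F)) := by
    rw [hker, ← Submodule.map_comap_subtype U (f.perp L)]
    exact (Submodule.equivMapOfInjective _ U.subtype_injective _).finrank_eq
  have h4 := Submodule.finrank_sup_add_finrank_inf_eq L (U ⊓ f.perp L)
  rw [hdisj, finrank_bot, add_zero] at h4
  have hle : L ⊔ (U ⊓ f.perp L) ≤ U := sup_le hLU inf_le_left
  have h5 := Submodule.finrank_mono hle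
  have hsup : L ⊔ (U ⊓ f.perp L) = U := Submodule.eq_of_le_of_finrank_le hle (by omega)
  refine ⟨hsup, fun a ha ha0 => ?_, by rw [hsup] at h4; omega⟩
  by_contra hc
  push Not at hc
  obtain ⟨x, hx, hax⟩ := hU a ha.1 ha0
  obtain ⟨l, hl, w, hw, rfl⟩ := Submodule.mem_sup.1 (hsup.symm ▸ hx : x ∈ L ⊔ (U ⊓ f.perp L))
  exact hax (by rw [map_add, f.eq_zero_comm (ha.2 l hl), hc w hw, add_zero])

end General

theorem perp_inv {n : ℕ} (hX : X ^ n = 1) (hn : 0 < n) (hiso : ∀ u v, f.B (X u) (X v) = f.B u v)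
    {U : Submodule F (ι → F)} (hU : U.map X ≤ U) : (f.perp U).map X ≤ f.perp U := by
  rintro _ ⟨w, hw, rfl⟩ u hu
  obtain ⟨u', hu', rfl⟩ := (map_eq hX hn hU).symm ▸ hu
  rw [hiso]
  exact hw u' hu'

/-- A totally isotropic invariant subspace lies in a hyperbolic invariant one. -/
theorem extend {P : F[X]} (hP : Squarefree P) (hy : aeval X P = 0) {U S : Submodule F (ι → F)} (hU : Nd f U)
    (hUi : U.map X ≤ U) (hS : S.map X ≤ S) (hSU : S ≤ U) (hti : S ≤ f.perp S) (hperp : (f.perp S).map X ≤ f.perp S) :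
    ∃ L, S ≤ L ∧ L ≤ U ∧ Nd f L ∧ L.map X ≤ L ∧ finrank F L = 2 * finrank F S := by
  have hWi := inf_inv hUi hperp
  obtain ⟨C, hCU, hC, hsup, hdisj, -⟩ := LinDecomp.split_in hP hy hUi hWi inf_le_left
  have hC0 : ∀ c ∈ C, (∀ s ∈ S, f.B s c = 0) → c = 0 := fun c hc h => by
    have : c ∈ (U ⊓ f.perp S) ⊓ C := ⟨⟨hCU hc, h⟩, hc⟩
    rw [hdisj] at this
    exact (Submodule.mem_bot F).1 this
  have hS0 : ∀ s ∈ S, (∀ c ∈ C, f.B c s = 0) → s = 0 := fun s hs h => by
    by_contra h0
    obtain ⟨x, hx, hsx⟩ := hU s (hSU hs) h0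
    obtain ⟨w, hw, c, hc, rfl⟩ := Submodule.mem_sup.1 (hsup.symm ▸ hx : x ∈ (U ⊓ f.perp S) ⊔ C)
    exact hsx (by rw [map_add, hw.2 s hs, f.eq_zero_comm (h c hc), add_zero])
  have h1 := finrank_le_of_sep f hC0
  have h2 := finrank_le_of_sep f hS0
  refine ⟨S ⊔ C, le_sup_left, sup_le hSU hCU, fun v hv hv0 => ?_, sup_inv hS hC, ?_⟩
  · obtain ⟨s, hs, c, hc, rfl⟩ := Submodule.mem_sup.1 hv
    by_cases hc0 : c = 0
    · subst hc0
      rw [add_zero] at hv0 ⊢
      by_contra hne
      push Not at hne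
      exact hv0 (hS0 s hs fun c hc => f.eq_zero_comm (hne c (Submodule.mem_sup_right hc)))
    · by_contra hne
      push Not at hne
      refine hc0 (hC0 c hc fun s' hs' => ?_)
      have e := hne s' (Submodule.mem_sup_left hs')
      rw [map_add, LinearMap.add_apply, hti hs' s hs, zero_add] at e
      exact f.eq_zero_comm e
  · have h4 := Submodule.finrank_sup_add_finrank_inf_eq S C
    have hd : S ⊓ C = ⊥ := le_bot_iff.1 ((le_inf (le_inf (inf_le_left.trans hSU) (inf_le_left.trans hti)) inf_le_right).trans hdisj.le)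
    rw [hd, finrank_bot, add_zero] at h4
    omega

/-- A totally isotropic subspace has at most half the dimension. -/
theorem ti_half {U W : Submodule F (ι → F)} (hU : Nd f U) (hWU : W ≤ U) (hW : W ≤ f.perp W) :
    2 * finrank F W ≤ finrank F U := by
  have h1 : ∀ S : Submodule F (ι → F), S.map (1 : End F (ι → F)) ≤ S := fun S => le_of_eq (Submodule.map_id S)
  obtain ⟨L, -, hLU, -, -, hLd⟩ := extend f (X := 1) (P := Polynomial.X - C (1 : F)) (irreducible_X_sub_C 1).squarefree
    (by simp) hU (h1 U) (h1 W) hWU hW (h1 _)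
  exact hLd ▸ Submodule.finrank_mono hLU

/-- The sum of two orthogonal totally isotropic subspaces. -/
theorem ti_sup {A B : Submodule F (ι → F)} (hA : A ≤ f.perp A) (hB : B ≤ f.perp B)
    (hAB : ∀ a ∈ A, ∀ b ∈ B, f.B a b = 0) : A ⊔ B ≤ f.perp (A ⊔ B) := by
  intro v hv u hu
  obtain ⟨a, ha, b, hb, rfl⟩ := Submodule.mem_sup.1 hv
  obtain ⟨a', ha', b', hb', rfl⟩ := Submodule.mem_sup.1 hu
  simp only [map_add, LinearMap.add_apply, hA ha a' ha', hB hb b' hb', f.eq_zero_comm (hAB a ha b' hb'),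
    hAB a' ha' b hb, add_zero]

/-- Repeatedly splitting off totally isotropic pieces. -/
theorem exists_ti_mul {n : ℕ} (hn : 0 < n) (hX : X ^ n = 1) (hiso : ∀ u v, f.B (X u) (X v) = f.B u v) {P : F[X]}
    (hP : Squarefree P) (hy : aeval X P = 0) {i D : ℕ} {M : Submodule F (ι → F)}
    (H : ∀ U ≤ M, Nd f U → U.map X ≤ U → D ≤ finrank F U → ∃ S ≤ U, S.map X ≤ S ∧ S ≤ f.perp S ∧ finrank F S = i) :
    ∀ (j : ℕ) (U : Submodule F (ι → F)), U ≤ M → Nd f U → U.map X ≤ U → (0 < j → D + 2 * i * (j - 1) ≤ finrank F U) →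
      ∃ W ≤ U, W.map X ≤ W ∧ W ≤ f.perp W ∧ finrank F W = i * j := by
  intro j
  induction j with
  | zero => exact fun U _ _ _ _ => ⟨⊥, bot_le, by simp, bot_le, by simp⟩
  | succ j ih =>
    intro U hUM hU hUi hle
    have hle' := hle j.succ_pos
    rw [Nat.add_sub_cancel] at hle'
    obtain ⟨S, hSU, hS, hti, hSd⟩ := H U hUM hU hUi (by omega)
    obtain ⟨L, hSL, hLU, hL, hLi, hLd⟩ := extend f hP hy hU hUi hS hSU hti (perp_inv f hX hn hiso hS)
    obtain ⟨-, hR, hdim⟩ := split_off f hU hL hLU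
    obtain ⟨W, hWR, hW, hWti, hWd⟩ := ih _ (inf_le_left.trans hUM) hR
      (inf_inv hUi (perp_inv f hX hn hiso hLi)) (fun hj => by
        rw [hLd, hSd] at hdim
        have e : 2 * i * j = 2 * i * (j - 1) + 2 * i := by
          conv_lhs => rw [show j = j - 1 + 1 by omega, Nat.mul_succ]
        omega)
    have hWS : ∀ w ∈ W, ∀ s ∈ S, f.B s w = 0 := fun w hw s hs => (hWR hw).2 s (hSL hs)
    refine ⟨S ⊔ W, sup_le hSU (hWR.trans inf_le_left), sup_inv hS hW,
      ti_sup f hti hWti fun s hs w hw => hWS w hw s hs, ?_⟩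
    have hd : S ⊓ W = ⊥ := by
      rw [Submodule.eq_bot_iff]
      rintro v ⟨hv, hv'⟩
      by_contra h0
      obtain ⟨x, hx, hvx⟩ := hL v (hSL hv) h0
      exact hvx (f.eq_zero_comm ((hWR hv').2 x hx))
    have h4 := Submodule.finrank_sup_add_finrank_inf_eq S W
    rw [hd, finrank_bot, add_zero] at h4
    rw [h4, hSd, hWd, Nat.mul_succ, add_comm]

/-- The fixed field of the conjugation. -/
noncomputable def base : Subfield F := RingHom.eqLocusField f.σ (RingHom.id F)

/-- A common zero of few quadratic forms `v ↦ trace (C * B (T v) v)`. -/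
theorem exists_zero [Fintype F] {p : ℕ} [Fact p.Prime] [CharP F p] {n : ℕ} (C : Fin n → F) (T : Fin n → End F (ι → F))
    {U : Submodule F (ι → F)} (h : n < finrank F U) :
    ∃ v ∈ U, v ≠ 0 ∧ ∀ j, C j * f.B (T j v) v + f.σ (C j * f.B (T j v) v) = 0 := by
  haveI : CharP (base f) p :=
    (RingHom.charP_iff (base f).subtype (base f).subtype.injective p).2 inferInstance
  haveI : Fintype (base f) := Fintype.ofFinite _
  have h2 : 2 ≤ finrank (base f) F := by
    by_contra hlt
    have h1 : finrank (base f) F = 1 := by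
      have := Module.finrank_pos (R := base f) (M := F)
      omega
    obtain ⟨a, ha⟩ := f.exists_moved
    obtain ⟨x, hx⟩ := (finrank_eq_one_iff_of_nonzero' (1 : F) one_ne_zero).1 h1 a
    refine ha ?_
    rw [← hx, Subfield.smul_def, smul_eq_mul, mul_one]
    exact x.2
  let U' : Submodule (base f) (ι → F) := U.restrictScalars (base f)
  have hdim : 2 * finrank F U ≤ finrank (base f) U' := by
    have e := Module.finrank_mul_finrank (base f) F U
    have e' : finrank (base f) U' = finrank (base f) U := rfl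
    rw [e', ← e]
    exact Nat.mul_le_mul_right _ h2
  let b := Module.finBasis (base f) U'
  set g : Fin n → (ι → F) → (ι → F) → F := fun j u v => C j * f.B (T j u) v + f.σ (C j * f.B (T j u) v) with hg
  have hgK : ∀ j u v, g j u v ∈ base f := fun j u v => by
    show f.σ (g j u v) = g j u v
    simp only [hg, map_add, f.invol]
    rw [add_comm]
  let P : Fin n → MvPolynomial (Fin (finrank (base f) U')) (base f) := fun j =>
    ∑ a, ∑ c, MvPolynomial.C (⟨_, hgK j (b a : ι → F) (b c : ι → F)⟩ : base f) * (MvPolynomial.X a * MvPolynomial.X c)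
  have hdeg : ∀ j, (P j).totalDegree ≤ 2 := fun j => by
    refine MvPolynomial.totalDegree_finsetSum_le fun a _ => MvPolynomial.totalDegree_finsetSum_le fun c _ => ?_
    refine (MvPolynomial.totalDegree_mul _ _).trans ?_
    rw [MvPolynomial.totalDegree_C, zero_add]
    exact (MvPolynomial.totalDegree_mul _ _).trans (by simp [MvPolynomial.totalDegree_X])
  have hlt : (∑ j, (P j).totalDegree) < Fintype.card (Fin (finrank (base f) U')) := by
    refine lt_of_le_of_lt (Finset.sum_le_card_nsmul _ _ 2 fun j _ => hdeg j) ?_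
    rw [Finset.card_univ, Fintype.card_fin, Fintype.card_fin, smul_eq_mul]
    omega
  have hdvd := char_dvd_card_solutions_of_fintype_sum_lt p hlt
  have h0 : ∀ j, MvPolynomial.eval (0 : Fin (finrank (base f) U') → base f) (P j) = 0 := fun j => by simp [P, map_sum]
  haveI : Nontrivial {x : Fin (finrank (base f) U') → base f // ∀ j, MvPolynomial.eval x (P j) = 0} := by
    rw [← Fintype.one_lt_card_iff_nontrivial]
    have hp := (Fact.out : p.Prime).two_le
    have hpos : 0 < Fintype.card {x : Fin (finrank (base f) U') → base f // ∀ j, MvPolynomial.eval x (P j) = 0} :=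
      Fintype.card_pos_iff.2 ⟨⟨0, h0⟩⟩
    have := Nat.le_of_dvd hpos (by convert hdvd)
    omega
  obtain ⟨⟨x, hx⟩, hne⟩ := exists_ne (⟨0, h0⟩ : {x : Fin (finrank (base f) U') → base f // ∀ j, MvPolynomial.eval x (P j) = 0})
  have hv : ((∑ a, x a • b a : U') : ι → F) = ∑ a, (x a : F) • (b a : ι → F) := by
    simp [Submodule.coe_sum, Subfield.smul_def]
    rfl
  refine ⟨((∑ a, x a • b a : U') : ι → F), (∑ a, x a • b a : U').2, fun e => hne (Subtype.ext ?_), fun j => ?_⟩
  · funext a
    have e' : (∑ a, x a • b a : U') = 0 := Subtype.ext e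
    exact Fintype.linearIndependent_iff.1 b.linearIndependent x e' a
  · have hxj := congrArg (fun y : base f => (y : F)) (hx j)
    simp only [P, map_sum, map_mul, MvPolynomial.eval_C, MvPolynomial.eval_X, AddSubmonoidClass.coe_finsetSum,
      MulMemClass.coe_mul, ZeroMemClass.coe_zero] at hxj
    refine Eq.trans ?_ hxj
    rw [hv]
    simp only [hg, map_sum, map_smul, LinearMap.sum_apply, LinearMap.smul_apply, smul_left, smul_eq_mul, Finset.mul_sum,
      map_mul, ← Finset.sum_add_distrib]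
    rw [Finset.sum_comm]
    refine Finset.sum_congr rfl fun a _ => Finset.sum_congr rfl fun c _ => ?_
    have key : ∀ y : base f, f.σ (y : F) = (y : F) := fun y => y.2
    simp only [key]
    ring

theorem exists_half : ∃ d : F, d + f.σ d = 1 := f.exists_trace (map_one f.σ)

/-- An isotropic vector in a space of dimension two. -/
theorem exists_iso_vec [Fintype F] {p : ℕ} [Fact p.Prime] [CharP F p] {U : Submodule F (ι → F)} (h : 2 ≤ finrank F U) :
    ∃ v ∈ U, v ≠ 0 ∧ f.B v v = 0 := by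
  obtain ⟨d, hd⟩ := exists_half f
  obtain ⟨v, hv, hv0, hvq⟩ := exists_zero f (p := p) (fun _ : Fin 1 => d) (fun _ => 1) (U := U) (by omega)
  refine ⟨v, hv, hv0, ?_⟩
  have e := hvq 0
  rw [map_mul, End.one_apply, f.herm, ← add_mul, hd, one_mul] at e
  exact e

/-- Totally isotropic subspaces of a non-degenerate space of eigenvectors. -/
theorem exists_ti_fixed [Fintype F] {p : ℕ} [Fact p.Prime] [CharP F p] {n : ℕ} (hn : 0 < n) (hX : X ^ n = 1)
    (hiso : ∀ u v, f.B (X u) (X v) = f.B u v) {P : F[X]}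
    (hP : Squarefree P) (hy : aeval X P = 0) {a : F} {U : Submodule F (ι → F)} (hU : Nd f U) (hUa : ∀ v ∈ U, X v = a • v)
    {e : ℕ} (he : 2 * e ≤ finrank F U) : ∃ W ≤ U, W.map X ≤ W ∧ W ≤ f.perp W ∧ finrank F W = e := by
  have hinv : ∀ S ≤ U, S.map X ≤ S := fun S hS => by
    rintro _ ⟨v, hv, rfl⟩
    rw [hUa v (hS hv)]
    exact S.smul_mem _ hv
  obtain ⟨W, h1, h2, h3, h4⟩ := exists_ti_mul f hn hX hiso hP hy (i := 1) (D := 2) (M := U) (fun U' hU' _ _ hd => by
    obtain ⟨v, hv, hv0, hvv⟩ := exists_iso_vec f (p := p) hd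
    have hsle : (F ∙ v) ≤ U' := (Submodule.span_singleton_le_iff_mem _ _).2 hv
    refine ⟨F ∙ v, hsle, hinv _ (hsle.trans hU'), fun x hx w hw => ?_, finrank_span_singleton hv0⟩
    obtain ⟨α, rfl⟩ := Submodule.mem_span_singleton.1 hx
    obtain ⟨β, rfl⟩ := Submodule.mem_span_singleton.1 hw
    simp [smul_left, hvv]) e U le_rfl hU (hinv U le_rfl) (fun h0 => by omega)
  exact ⟨W, h1, h2, h3, by rw [h4, one_mul]⟩


theorem orth {r : ℕ} [Fact r.Prime] (hr0 : (r : F) ≠ 0) (hiso : ∀ u v, f.B (X u) (X v) = f.B u v) {a b : (ι → F)}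
    (ha : a ∈ fixed X) (hb : b ∈ moved X r) : f.B a b = 0 := by
  have h1 := mem_fixed.1 ha
  have hj : ∀ j : ℕ, f.B a ((X ^ j) b) = f.B a b := fun j => by
    induction j with
    | zero => rfl
    | succ j ih => rw [pow_succ', End.mul_apply]; nth_rw 1 [← h1]; rw [hiso, ih]
  have h3 : aeval X (cyclotomic r F) b = 0 := hb
  rw [cyclotomic_prime, map_sum, LinearMap.sum_apply] at h3
  have h4 := congrArg (f.B a) h3
  simp only [map_pow, aeval_X, map_sum, hj, map_zero, Finset.sum_const, Finset.card_range, nsmul_eq_mul] at h4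
  exact (mul_eq_zero.1 h4).resolve_left hr0

theorem nd_parts {r : ℕ} [Fact r.Prime] (hr0 : (r : F) ≠ 0) (hX : X ^ r = 1)
    (hiso : ∀ u v, f.B (X u) (X v) = f.B u v) {U : Submodule F (ι → F)}
    (hU : Nd f U) (hUi : U.map X ≤ U) : Nd f (U ⊓ fixed X) ∧ Nd f (U ⊓ moved X r) := by
  have hdec := (decompose hr0 hX hUi).1
  constructor <;> intro v hv hv0 <;> obtain ⟨x, hx, hvx⟩ := hU v hv.1 hv0 <;>
    obtain ⟨a, ha, b, hb, rfl⟩ := Submodule.mem_sup.1 (hdec.symm ▸ hx : x ∈ (U ⊓ fixed X) ⊔ (U ⊓ moved X r))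
  · exact ⟨a, ha, by rwa [map_add, orth f hr0 hiso hv.2 hb.2, add_zero] at hvx⟩
  · exact ⟨b, hb, by rwa [map_add, f.eq_zero_comm (orth f hr0 hiso ha.2 hv.2), zero_add] at hvx⟩

end Cfsg.Agent.Lib.MaxSub.HermDecomp
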