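import Cfsg.Agent.Lib.MaxSub.IsoElem
import Cfsg.Agent.Lib.MaxSub.LinDecomp
import Mathlib

/-!
Symplectic elements of prime order with prescribed multiplicities of self-reciprocal factors.
-/

set_option autoImplicit false
set_option maxHeartbeats 1000000
set_option linter.unusedSectionVars false

namespace Cfsg.Agent.Lib.MaxSub.IsoTIElem

open Matrix Polynomial Module Cfsg.Agent.Lib.MaxSub
open scoped _root_.Classical

variable {F : Type*} [Field F]

local notation "Mat" d => Matrix (Fin d ⊕ Fin d) (Fin d ⊕ Fin d) F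

/-- Two symplectic matrices side by side, with the ranks of all polynomials in them. -/
theorem exists_sum {e k : ℕ} {y : Mat e} (hy : y ∈ Matrix.symplecticGroup (Fin e) F) {z : Mat k}
    (hz : z ∈ Matrix.symplecticGroup (Fin k) F) :
    ∃ w : Mat (e + k), w ∈ Matrix.symplecticGroup (Fin (e + k)) F ∧ (∀ r : ℕ, y ^ r = 1 → z ^ r = 1 → w ^ r = 1) ∧
      ∀ P : F[X], (aeval w P).rank = (aeval y P).rank + (aeval z P).rank := by
  let E : (Fin (e + k) ⊕ Fin (e + k)) ≃ (Fin e ⊕ Fin e) ⊕ (Fin k ⊕ Fin k) :=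
    ((finSumFinEquiv.symm).sumCongr (finSumFinEquiv.symm)).trans (Equiv.sumSumSumComm _ _ _ _)
  let Re := Matrix.reindexAlgEquiv F F E.symm
  have hJ : Matrix.J (Fin (e + k)) F = Re (Matrix.fromBlocks (Matrix.J (Fin e) F) 0 0 (Matrix.J (Fin k) F)) := by
    have h : ∀ a b, Matrix.J (Fin (e + k)) F (E.symm a) (E.symm b) =
        Matrix.fromBlocks (Matrix.J (Fin e) F) 0 0 (Matrix.J (Fin k) F) a b := by
      rintro ((i | i) | (i | i)) ((j | j) | (j | j)) <;>
        simp [E, Matrix.J, Matrix.one_apply, Fin.ext_iff] <;> (try omega)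
    ext a b
    simpa [Re, Matrix.reindexAlgEquiv_apply] using h (E a) (E b)
  have hT : ∀ M, (Re M)ᵀ = Re Mᵀ := fun M => Matrix.transpose_reindex _ _ M
  refine ⟨Re (Matrix.fromBlocks y 0 0 z), ?_, fun r hyr hzr => ?_, fun P => ?_⟩
  · rw [SymplecticGroup.mem_iff', hT, hJ, ← map_mul, ← map_mul, Matrix.fromBlocks_transpose,
      Matrix.fromBlocks_multiply, Matrix.fromBlocks_multiply]
    simp [SymplecticGroup.mem_iff'.1 hy, SymplecticGroup.mem_iff'.1 hz]
  · rw [← map_pow, Matrix.fromBlocks_diagonal_pow, hyr, hzr, Matrix.fromBlocks_one, map_one]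
  · rw [show aeval (Re (Matrix.fromBlocks y 0 0 z)) P = Re (aeval (Matrix.fromBlocks y 0 0 z) P) from
      Polynomial.aeval_algHom_apply Re.toAlgHom _ P, SympPrimeElem.aeval_fromBlocks]
    refine (Matrix.rank_reindex _ _ _).trans ?_
    rw [UnipotentOrth.rank_fromBlocks]

variable [Fintype F] {p : ℕ} [Fact p.Prime] [CharP F p] {r : ℕ} [hr : Fact r.Prime]

/-- The monic irreducible factors of the cyclotomic polynomial. -/
noncomputable def factors (r : ℕ) (F : Type*) [Field F] : Finset F[X] :=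
  (UniqueFactorizationMonoid.normalizedFactors (cyclotomic r F)).toFinset

theorem mem_factors {g : F[X]} : g ∈ factors r F ↔ Irreducible g ∧ g.Monic ∧ g ∣ cyclotomic r F := by
  rw [factors, Multiset.mem_toFinset, Polynomial.mem_normalizedFactors_iff (cyclotomic_ne_zero r F)]

theorem coprime_of_ne {g g' : F[X]} (hg : g ∈ factors r F) (hg' : g' ∈ factors r F) (h : g ≠ g') : IsCoprime g g' := by
  obtain ⟨h1, h2, -⟩ := mem_factors.1 hg
  obtain ⟨h1', h2', -⟩ := mem_factors.1 hg'
  exact h1.coprime_iff_not_dvd.2 fun hd => h (eq_of_monic_of_associated h2 h2' (h1.associated_of_dvd h1' hd))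

theorem card_factors (hrp : r ≠ p) {i : ℕ} (hi : orderOf ((Fintype.card F : ℕ) : ZMod r) = i) :
    (factors r F).card * i = r - 1 := by
  have hr0 : (r : F) ≠ 0 := PrimeElemFlags.cast_ne_zero hrp
  set Φ := cyclotomic r F with hΦ
  have hsq : Squarefree Φ := (PrimeElemFlags.sq hr0 one_ne_zero).squarefree_of_dvd
    ⟨Polynomial.X - 1, by rw [hΦ, map_one, cyclotomic_prime_mul_X_sub_one]⟩
  have hnd := (UniqueFactorizationMonoid.squarefree_iff_nodup_normalizedFactors (cyclotomic_ne_zero r F)).1 hsq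
  have h1 : (∏ g ∈ factors r F, g).natDegree = r - 1 := by
    have h2 : (factors r F).val = UniqueFactorizationMonoid.normalizedFactors Φ := by
      rw [factors, Multiset.toFinset_val, Multiset.dedup_eq_self.2 hnd]
    rw [Finset.prod_eq_multiset_prod, Multiset.map_id', h2,
      natDegree_eq_of_degree_eq (degree_eq_degree_of_associated (UniqueFactorizationMonoid.prod_normalizedFactors (cyclotomic_ne_zero r F))),
      natDegree_cyclotomic, Nat.totient_prime hr.out]
  rw [natDegree_prod _ _ fun g hg => (mem_factors.1 hg).1.ne_zero] at h1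
  rw [← h1, Finset.sum_congr rfl fun g hg => (PrimeElemFlags.deg_eq rfl hrp g (mem_factors.1 hg).1 (mem_factors.1 hg).2.2).trans hi,
    Finset.sum_const, smul_eq_mul]

/-- One block killed by a given factor. -/
theorem exists_block (hrp : r ≠ p) {e : ℕ} (hi : orderOf ((Fintype.card F : ℕ) : ZMod r) = e + e) {g : F[X]}
    (hg : g ∈ factors r F) : ∃ y : Mat e, y ∈ Matrix.symplecticGroup (Fin e) F ∧ y ^ r = 1 ∧ aeval y g = 0 := by
  obtain ⟨hgi, hgm, hgd⟩ := mem_factors.1 hg
  have hr0 : (r : F) ≠ 0 := PrimeElemFlags.cast_ne_zero hrp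
  have he0 : 0 < e + e := hi ▸ PrimeElemFlags.order_pos rfl hrp
  obtain ⟨x, hx, hxr, hrk⟩ := SympPrimeElem.exists_even (d := e) hrp hi ⟨e, rfl⟩ (by omega)
  set y : Mat e := (x : Mat e)
  set Y := Matrix.toLin' y
  have hYr : Y ^ r = 1 := SympPrimeElem.pow_toLin hxr
  have hfix : IsoDecomp.fixed Y = ⊥ := by
    have h := SympPrimeElem.finrank_range_matrix y
    rw [hrk, Fintype.card_sum, Fintype.card_fin] at h
    exact Submodule.finrank_eq_zero.1 (Nat.add_left_cancel (h.trans (add_zero _).symm))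
  have hM : IsoDecomp.moved Y r = ⊤ := by
    have h := (IsoDecomp.decompose hr0 hYr (U := ⊤) le_top).1
    simpa [hfix] using h
  obtain ⟨v, -, hv0⟩ := (Submodule.ne_bot_iff (⊤ : Submodule F (Fin e ⊕ Fin e → F))).1 fun h => by
    have := congrArg (fun S : Submodule F (Fin e ⊕ Fin e → F) => finrank F S) h
    simp at this; omega
  obtain ⟨g₀, hg₀, hg₀m, hg₀d, w, -, hw0, hgw⟩ := PrimeElem.exists_factor Y (U := ⊤) le_top _ (cyclotomic_ne_zero r F) v
    Submodule.mem_top hv0 (show v ∈ IsoDecomp.moved Y r from hM ▸ Submodule.mem_top)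
  have hyg₀ : aeval y g₀ = 0 := by
    obtain ⟨⟨b, hb⟩, -⟩ := LinDecomp.moved_sub hrp hi hYr (U := LinearMap.ker (aeval Y g₀)) (PrimeElem.map_ker_le Y g₀)
      (hM ▸ le_top)
    have hb0 : 0 < b := Nat.pos_of_ne_zero fun h0 => by
      rw [h0, mul_zero, Submodule.finrank_eq_zero] at hb
      exact hw0 ((Submodule.mem_bot F).1 (hb ▸ hgw))
    have htop : LinearMap.ker (aeval Y g₀) = ⊤ := Submodule.eq_top_of_finrank_eq (by
      have h1 := Submodule.finrank_le (LinearMap.ker (aeval Y g₀))
      rw [Module.finrank_fintype_fun_eq_card, Fintype.card_sum, Fintype.card_fin] at h1 ⊢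
      have := Nat.le_mul_of_pos_right (e + e) hb0
      omega)
    apply Matrix.toLinAlgEquiv'.injective
    rw [map_zero, ← AlgEquiv.coe_toAlgHom, ← Polynomial.aeval_algHom_apply]
    exact LinearMap.ker_eq_top.1 htop
  have : Fact (Irreducible g₀) := ⟨hg₀⟩
  have : FiniteDimensional F (AdjoinRoot g₀) := (AdjoinRoot.powerBasis hg₀.ne_zero).finite
  have : Finite (AdjoinRoot g₀) := Module.finite_of_finite F
  set α : AdjoinRoot g₀ := AdjoinRoot.root g₀
  have hcyc : aeval α (cyclotomic r F) = 0 := by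
    obtain ⟨Q, hQ⟩ := hg₀d
    rw [hQ, map_mul, AdjoinRoot.aeval_eq, AdjoinRoot.mk_self, zero_mul]
  haveI : NeZero (r : AdjoinRoot g₀) := ⟨fun h => hr0 ((map_eq_zero (algebraMap F (AdjoinRoot g₀))).1 (by rw [map_natCast]; exact h))⟩
  have hprim : IsPrimitiveRoot α r := by
    rw [← isRoot_cyclotomic_iff, IsRoot, ← map_cyclotomic r (algebraMap F (AdjoinRoot g₀)), eval_map_algebraMap]
    exact hcyc
  obtain ⟨β, hβ⟩ : ∃ β : AdjoinRoot g₀, aeval β g = 0 := by
    have hd : g.natDegree ∣ finrank F (AdjoinRoot g₀) := by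
      rw [(AdjoinRoot.powerBasis hg₀.ne_zero).finrank, AdjoinRoot.powerBasis_dim,
        (PrimeElemFlags.deg_eq rfl hrp g hgi hgd), (PrimeElemFlags.deg_eq rfl hrp g₀ hg₀ hg₀d)]
    have : Fact (Irreducible g) := ⟨hgi⟩
    have : FiniteDimensional F (AdjoinRoot g) := (AdjoinRoot.powerBasis hgi.ne_zero).finite
    have : Finite (AdjoinRoot g) := Module.finite_of_finite F
    obtain ⟨φ⟩ := (FiniteField.nonempty_algHom_iff_finrank_dvd (F := F) (K := AdjoinRoot g) (L := AdjoinRoot g₀)).2
      (by rwa [(AdjoinRoot.powerBasis hgi.ne_zero).finrank, AdjoinRoot.powerBasis_dim])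
    exact ⟨φ (AdjoinRoot.root g), by
      rw [Polynomial.aeval_algHom_apply, AdjoinRoot.aeval_eq, AdjoinRoot.mk_self, map_zero]⟩
  have hβr : β ^ r = 1 := by
    obtain ⟨Q, hQ⟩ := hgd
    have h := congrArg (aeval β) (cyclotomic_prime_mul_X_sub_one F r)
    rw [map_mul, hQ, map_mul, hβ, zero_mul, zero_mul, map_sub, map_pow, aeval_X, map_one] at h
    exact sub_eq_zero.1 h.symm
  obtain ⟨k, -, hk⟩ := hprim.eq_pow_of_pow_eq_one hβr
  obtain ⟨Q, hQ⟩ : g₀ ∣ g.comp (Polynomial.X ^ k) := by
    rw [← AdjoinRoot.mk_eq_zero, ← AdjoinRoot.aeval_eq, aeval_comp, map_pow, aeval_X]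
    show aeval (α ^ k) g = 0
    rw [hk, hβ]
  refine ⟨y ^ k, pow_mem (SympPrimeElem.mem_spGL_iff_mat.1 hx) k, by rw [← pow_mul, mul_comm, pow_mul, hxr, one_pow], ?_⟩
  have h : aeval y (g.comp (Polynomial.X ^ k)) = aeval (y ^ k) g := by rw [aeval_comp, map_pow, aeval_X]
  rw [← h, hQ, map_mul, hyg₀, zero_mul]

/-- An element whose factors have prescribed multiplicities. -/
theorem exists_multi (hrp : r ≠ p) {e : ℕ} (hi : orderOf ((Fintype.card F : ℕ) : ZMod r) = e + e) :
    ∀ l : List F[X], (∀ g ∈ l, g ∈ factors r F) → ∃ w : Mat (e * l.length),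
      w ∈ Matrix.symplecticGroup (Fin (e * l.length)) F ∧ w ^ r = 1 ∧
      (∀ g ∈ factors r F, (aeval w g).rank + (e + e) * l.count g = 2 * (e * l.length)) ∧
      (w - 1).rank = 2 * (e * l.length) := by
  intro l
  induction l with
  | nil =>
    intro _
    refine ⟨1, one_mem _, one_pow _, fun g _ => ?_, ?_⟩
    · have h1 := Matrix.rank_le_card_width (aeval (1 : Mat (e * ([] : List F[X]).length)) g)
      simp at h1 ⊢
      exact h1
    · simp
  | cons a l ih =>
    intro hl
    have ha : a ∈ factors r F := hl a (List.mem_cons_self ..)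
    obtain ⟨w, hw, hwr, hwg, hw1⟩ := ih fun g hg => hl g (List.mem_cons_of_mem a hg)
    obtain ⟨y, hy, hyr, hya⟩ := exists_block hrp hi ha
    have hunit : ∀ P : F[X], IsCoprime P a → (aeval y P).rank = e + e := fun P hP => by
      obtain ⟨u, v, huv⟩ := hP
      have h := congrArg (aeval y) huv
      rw [map_add, map_mul, map_mul, hya, mul_zero, add_zero, map_one] at h
      rw [Matrix.rank_of_isUnit _ ((Matrix.isUnit_iff_isUnit_det _).2 (Matrix.isUnit_det_of_left_inverse h)),
        Fintype.card_sum, Fintype.card_fin]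
    obtain ⟨v, hv, hvr, hvP⟩ := exists_sum hw hy
    have hje : e * l.length + e = e * (a :: l).length := by rw [List.length_cons, Nat.mul_succ]
    rw [← hje]
    refine ⟨v, hv, hvr r hwr hyr, fun g hg => ?_, ?_⟩
    · rw [hvP, List.count_cons]
      have h0 := hwg g hg
      by_cases hga : a = g
      · subst hga
        rw [hya, Matrix.rank_zero, beq_self_eq_true, if_pos rfl, Nat.mul_succ]
        omega
      · rw [hunit g (coprime_of_ne hg ha (Ne.symm hga)), beq_eq_false_iff_ne.2 hga, if_neg Bool.false_ne_true, add_zero]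
        omega
    · have h := hvP (Polynomial.X - C 1)
      rw [map_sub, map_sub, map_sub, aeval_X, aeval_X, aeval_X, aeval_C, aeval_C, aeval_C, map_one, map_one, map_one] at h
      have hco : IsCoprime (Polynomial.X - C (1 : F)) a := by
        refine (irreducible_X_sub_C 1).coprime_iff_not_dvd.2 fun hd => ?_
        have := hd.trans (mem_factors.1 ha).2.2
        rw [dvd_iff_isRoot, IsRoot, eval_one_cyclotomic_prime] at this
        exact PrimeElemFlags.cast_ne_zero hrp this
      have h2 := hunit _ hco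
      rw [map_sub, aeval_X, aeval_C, map_one] at h2
      rw [h, h2, hw1]
      ring

/-- An element with prescribed multiplicities in a space of given dimension. -/
theorem exists_element (hrp : r ≠ p) {e : ℕ} (hi : orderOf ((Fintype.card F : ℕ) : ZMod r) = e + e) {d : ℕ} (l : List F[X])
    (hl : ∀ g ∈ l, g ∈ factors r F) (hd : e * l.length ≤ d) :
    ∃ x : Mat d, x ∈ Matrix.symplecticGroup (Fin d) F ∧ x ^ r = 1 ∧ (x - 1).rank = 2 * (e * l.length) ∧
      ∀ g ∈ factors r F, (aeval x g).rank + (e + e) * l.count g = 2 * d := by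
  obtain ⟨w, hw, hwr, hwg, hw1⟩ := exists_multi hrp hi l hl
  have hsum := exists_sum hw (one_mem (Matrix.symplecticGroup (Fin (d - e * l.length)) F))
  have hds : e * l.length + (d - e * l.length) = d := by omega
  rw [hds] at hsum
  obtain ⟨v, hv, hvr, hvP⟩ := hsum
  refine ⟨v, hv, hvr r hwr (one_pow _), ?_, fun g hg => ?_⟩
  · have h := hvP (Polynomial.X - C 1)
    simp only [map_sub, aeval_X, map_one, sub_self, Matrix.rank_zero, add_zero] at h
    rw [h, hw1]
  · have h1 : (aeval (1 : Mat (d - e * l.length)) g) = (g.eval 1) • 1 := by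
      rw [← Algebra.algebraMap_eq_smul_one, ← Polynomial.aeval_algebraMap_apply_eq_algebraMap_eval, map_one]
    have hne : g.eval 1 ≠ 0 := fun h0 => by
      obtain ⟨Q, hQ⟩ := (mem_factors.1 hg).2.2
      have h := congrArg (eval (1 : F)) hQ
      rw [eval_one_cyclotomic_prime, eval_mul, h0, zero_mul] at h
      exact PrimeElemFlags.cast_ne_zero hrp h
    have hu : IsUnit ((g.eval 1) • (1 : Mat (d - e * l.length))) := by
      rw [← Algebra.algebraMap_eq_smul_one]; exact (IsUnit.mk0 _ hne).map _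
    rw [hvP, h1, Matrix.rank_of_isUnit _ hu, Fintype.card_sum, Fintype.card_fin]
    have := hwg g hg
    omega

end Cfsg.Agent.Lib.MaxSub.IsoTIElem
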