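import Cfsg.Agent.Lib.MaxSub.Unitary
import Cfsg.Agent.Lib.Geometry.UnitaryBasic

/-!
Centres of unitary transvections in a subgroup, and the standard Hermitian form.
-/

set_option autoImplicit false

namespace Cfsg.Agent.Lib.MaxSub

open Matrix
open scoped MatrixGroups Matrix

namespace HermF

variable {ι : Type} [Fintype ι] [DecidableEq ι] {F : Type*} [Field F] (f : HermF ι F) {K : Subgroup (GL ι F)}

theorem Preserves.mul {f : HermF ι F} {g g' : GL ι F} (hg : f.Preserves g) (hg' : f.Preserves g') :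
    f.Preserves (g * g') := fun u v => by
  rw [Units.val_mul, ← Matrix.mulVec_mulVec, ← Matrix.mulVec_mulVec, hg, hg']

theorem Preserves.inv {f : HermF ι F} {g : GL ι F} (hg : f.Preserves g) : f.Preserves g⁻¹ := fun u v => by
  rw [← hg, Matrix.mulVec_mulVec, Matrix.mulVec_mulVec, ← Units.val_mul, mul_inv_cancel, Units.val_one,
    Matrix.one_mulVec, Matrix.one_mulVec]

theorem iso_mulVec {g : GL ι F} (hg : f.Preserves g) {w : ι → F} :
    f.Iso ((g : Matrix ι ι F) *ᵥ w) ↔ f.Iso w := by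
  show f.B _ _ = 0 ↔ f.B _ _ = 0
  rw [hg]

theorem conj_trans {g : GL ι F} (hg : f.Preserves g) (w : ι → F) (hw : f.Iso w) (c : F) :
    g * f.trans w hw c * g⁻¹ = f.trans ((g : Matrix ι ι F) *ᵥ w) ((f.iso_mulVec hg).mpr hw) c :=
  Units.ext (eq_of_mulVec_eq fun x => by
    rw [Units.val_mul, Units.val_mul, ← Matrix.mulVec_mulVec, ← Matrix.mulVec_mulVec, f.trans_mulVec, f.trans_mulVec,
      Matrix.mulVec_add, Matrix.mulVec_smul, Matrix.mulVec_mulVec x, ← Units.val_mul, mul_inv_cancel, Units.val_one,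
      Matrix.one_mulVec, ← hg w, Matrix.mulVec_mulVec x, ← Units.val_mul, mul_inv_cancel, Units.val_one,
      Matrix.one_mulVec])

/-- All unitary transvections with centre `w` lie in `K`. -/
def Ctr (K : Subgroup (GL ι F)) (w : ι → F) : Prop :=
  ∃ hw : f.Iso w, ∀ c, c + f.σ c = 0 → f.trans w hw c ∈ K

theorem Ctr.zero (K : Subgroup (GL ι F)) : f.Ctr K 0 :=
  ⟨f.iso_zero, fun c _ => by
    rw [show f.trans 0 f.iso_zero c = 1 from Units.ext (eq_of_mulVec_eq fun x => by simp [f.trans_mulVec])]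
    exact K.one_mem⟩

theorem Ctr.smul {f : HermF ι F} {w : ι → F} (h : f.Ctr K w) (a : F) : f.Ctr K (a • w) := by
  obtain ⟨hw, hc⟩ := h
  refine ⟨HermF.Iso.smul hw a, fun c hct => ?_⟩
  rw [show f.trans (a • w) (HermF.Iso.smul hw a) c = f.trans w hw (c * (f.σ a * a)) from
    Units.ext (eq_of_mulVec_eq fun x => by
      simp only [f.trans_mulVec, LinearMap.map_smulₛₗ, LinearMap.smul_apply, smul_smul, smul_eq_mul]
      congr 2; ring)]
  exact hc _ (by
    rw [map_mul, map_mul, f.invol, mul_comm a (f.σ a)]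
    linear_combination (f.σ a * a) * hct)

theorem Ctr.of_conj {f : HermF ι F} {w : ι → F} (h : f.Ctr K w) {g : GL ι F} (hgK : g ∈ K) (hg : f.Preserves g) :
    f.Ctr K ((g : Matrix ι ι F) *ᵥ w) := by
  obtain ⟨hw, hc⟩ := h
  exact ⟨(f.iso_mulVec hg).mpr hw, fun c hct => f.conj_trans hg w hw c ▸ K.mul_mem (K.mul_mem hgK (hc c hct)) (K.inv_mem hgK)⟩

/-- The isotropic vectors on the line through two non-orthogonal centres are centres. -/
theorem Ctr.add {f : HermF ι F} {u w : ι → F} (hu : f.Ctr K u) (hw : f.Ctr K w) (huw : f.B u w ≠ 0)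
    (hiso : f.Iso (u + w)) : f.Ctr K (u + w) := by
  obtain ⟨hwi, hwc⟩ := hw
  have hui := hu.1
  have hwu : f.B w u ≠ 0 := fun e => huw (f.eq_zero_comm e)
  have h1 : f.B u w + f.B w u = 0 := by
    have := hiso
    unfold Iso at this
    simp only [map_add, LinearMap.add_apply, show f.B u u = 0 from hui, show f.B w w = 0 from hwi] at this
    linear_combination this
  have hc : (f.B w u)⁻¹ + f.σ (f.B w u)⁻¹ = 0 := by
    rw [map_inv₀, f.herm]
    field_simp
    linear_combination h1
  have h2 := hu.of_conj (hwc _ hc) (f.trans_preserves w hwi hc)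
  rwa [f.trans_mulVec, inv_mul_cancel₀ hwu, one_smul] at h2

/-- A space containing a hyperbolic pair is spanned by its isotropic vectors. -/
theorem le_span_iso_of_pair (X : Submodule F (ι → F)) {e e' : ι → F} (heX : e ∈ X) (he'X : e' ∈ X)
    (he : f.Iso e) (he' : f.Iso e') (hee' : f.B e e' = 1) :
    X ≤ Submodule.span F {w | w ∈ X ∧ f.Iso w} := by
  intro x hx
  have hee : f.B e e = 0 := he
  have he'e' : f.B e' e' = 0 := he'
  have he'e : f.B e' e = 1 := by rw [← f.herm e e', hee', map_one]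
  set y := x - f.B e' x • e - f.B e x • e' with hy
  have hyX : y ∈ X := sub_mem (sub_mem hx (X.smul_mem _ heX)) (X.smul_mem _ he'X)
  have hye : f.B e y = 0 := by simp [hy, map_sub, hee, hee']
  have hye' : f.B e' y = 0 := by simp [hy, map_sub, he'e', he'e]
  obtain ⟨d, hd⟩ := f.exists_trace (s := - f.B y y) (by rw [map_neg, f.herm])
  have hiso : f.Iso (y + d • e + e') := by
    show f.B _ _ = 0
    simp only [map_add, LinearMap.map_smulₛₗ, LinearMap.add_apply, LinearMap.smul_apply, map_smul, smul_eq_mul,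
      hee, hee', he'e, he'e', hye, hye', f.eq_zero_comm hye, f.eq_zero_comm hye']
    linear_combination hd
  have hdecomp : x = (y + d • e + e') + ((f.B e' x - d) • e + (f.B e x - 1) • e') := by
    rw [hy]; module
  rw [hdecomp]
  exact add_mem (Submodule.subset_span ⟨add_mem (add_mem hyX (X.smul_mem _ heX)) he'X, hiso⟩)
    (add_mem (Submodule.smul_mem _ _ (Submodule.subset_span ⟨heX, he⟩))
      (Submodule.smul_mem _ _ (Submodule.subset_span ⟨he'X, he'⟩)))

/-- The isotropic partner of a non-orthogonal isotropic vector inside a subspace. -/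
theorem exists_partner {X : Submodule F (ι → F)} {e z : ι → F} (heX : e ∈ X) (hzX : z ∈ X) (he : f.Iso e)
    (hez : f.B e z ≠ 0) : ∃ e' ∈ X, f.Iso e' ∧ f.B e e' = 1 := by
  set z' := (f.B e z)⁻¹ • z with hz'
  have hez' : f.B e z' = 1 := by rw [hz', map_smul, smul_eq_mul, inv_mul_cancel₀ hez]
  obtain ⟨d, hd⟩ := f.exists_trace (f.herm z' z')
  have he0 : f.B e e = 0 := he
  refine ⟨z' - d • e, X.sub_mem (X.smul_mem _ hzX) (X.smul_mem _ heX), ?_, ?_⟩
  · show f.B (z' - d • e) (z' - d • e) = 0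
    simp only [map_sub, LinearMap.map_smulₛₗ, LinearMap.sub_apply, LinearMap.smul_apply, map_smul, smul_eq_mul,
      he0, hez', show f.B z' e = 1 by rw [← f.herm e z', hez', map_one]]
    linear_combination -hd
  · rw [map_sub, map_smul (f.B e) d e, he0, hez', smul_zero, sub_zero]

/-- Scaling a hyperbolic pair, with prescribed determinant of norm one. -/
theorem exists_scale {e e' : ι → F} (he : f.Iso e) (he' : f.Iso e') (hee' : f.B e e' = 1) {δ : F}
    (hδ : f.σ δ * δ = 1) :
    ∃ (g : GL ι F) (s s' : F), f.Preserves g ∧ (g : Matrix ι ι F).det = δ ∧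
      ∀ x, (g : Matrix ι ι F) *ᵥ x = x + (s * f.B e' x) • e + (s' * f.B e x) • e' := by
  obtain ⟨a, ha⟩ : ∃ a : F, a + δ * f.σ a ≠ 0 := by
    by_contra h
    push Not at h
    have h1 := h 1
    rw [map_one, mul_one] at h1
    refine f.σ_ne (RingHom.ext fun a => ?_)
    show f.σ a = a
    linear_combination (f.σ a) * h1 - h a
  set t := a + δ * f.σ a with ht
  have hst : δ * f.σ t = t := by
    rw [ht, map_add, map_mul, f.invol]
    linear_combination a * hδ
  have hst0 : f.σ t ≠ 0 := fun h => ha (f.σ_eq_zero.mp h)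
  set A₁ : Matrix ι ι F := 1 + Matrix.vecMulVec e ((t - 1) • f.psi e') with hA₁
  set A₂ : Matrix ι ι F := 1 + Matrix.vecMulVec e' (((f.σ t)⁻¹ - 1) • f.psi e) with hA₂
  have he'e : f.B e' e = 1 := by rw [← f.herm e e', hee', map_one]
  have hee : f.B e e = 0 := he
  have he'e' : f.B e' e' = 0 := he'
  have hdet : (A₁ * A₂).det = δ := by
    rw [Matrix.det_mul, hA₁, hA₂, Matrix.vecMulVec_eq Unit, Matrix.vecMulVec_eq Unit,
      Matrix.det_one_add_replicateCol_mul_replicateRow, Matrix.det_one_add_replicateCol_mul_replicateRow,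
      smul_dotProduct, smul_dotProduct, f.psi_dot, f.psi_dot, he'e, hee', smul_eq_mul, smul_eq_mul]
    field_simp
    linear_combination -hst
  have happ : ∀ x, (A₁ * A₂) *ᵥ x = x + ((t - 1) * f.B e' x) • e + (((f.σ t)⁻¹ - 1) * f.B e x) • e' := fun x => by
    rw [← Matrix.mulVec_mulVec, hA₁, hA₂]
    simp only [Matrix.add_mulVec, Matrix.one_mulVec, Matrix.vecMulVec_mulVec, smul_dotProduct, f.psi_dot,
      op_smul_eq_smul, smul_eq_mul, dotProduct_add, dotProduct_smul, map_add, map_smul, he'e', mul_zero, add_zero,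
      smul_zero, zero_smul]
    abel
  have hδ0 : δ ≠ 0 := fun h => by rw [h, mul_zero] at hδ; exact zero_ne_one hδ
  refine ⟨Matrix.GeneralLinearGroup.mkOfDetNeZero (A₁ * A₂) (by rw [hdet]; exact hδ0), t - 1, (f.σ t)⁻¹ - 1,
    fun u v => ?_, hdet, fun x => happ x⟩
  show f.B ((A₁ * A₂) *ᵥ u) ((A₁ * A₂) *ᵥ v) = _
  simp only [happ, map_add, LinearMap.map_smulₛₗ, LinearMap.add_apply, LinearMap.smul_apply, map_smul,
    smul_eq_mul, map_mul, map_sub, map_one, map_inv₀, f.invol, f.herm, hee, he'e', hee', he'e]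
  field_simp
  ring

end HermF

section standard

variable {F : Type*} [Field F] [Fintype F] {n q : ℕ}

/-- The standard Hermitian form. -/
noncomputable def stdHerm (n : ℕ) (hF : Fintype.card F = q ^ 2) : HermF (Fin n) F where
  σ := Geometry.frobQ hF
  σ_ne := Geometry.frobQ_ne_id hF
  invol := Geometry.frobQ_frobQ hF
  B := Geometry.hermBilin n hF
  symm := Geometry.hermBilin_isSymm hF
  nondeg := Geometry.hermBilin_nondegenerate hF

theorem stdHerm_apply (hF : Fintype.card F = q ^ 2) (u v : Fin n → F) :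
    (stdHerm n hF).B u v = Cfsg.hermForm n F q v u := rfl

theorem stdHerm_iso (hF : Fintype.card F = q ^ 2) {w : Fin n → F} :
    (stdHerm n hF).Iso w ↔ Cfsg.hermForm n F q w w = 0 := Iff.rfl

theorem mem_GU_iff' (hF : Fintype.card F = q ^ 2) {g : GL (Fin n) F} :
    g ∈ Cfsg.GU n F q ↔ (stdHerm n hF).Preserves g :=
  ⟨fun h u v => h v u, fun h u v => h v u⟩

theorem mem_suGL (hF : Fintype.card F = q ^ 2) {g : GL (Fin n) F} (hg : (stdHerm n hF).Preserves g)
    (hd : g ∈ Cfsg.Geo.specialLinear (Fin n) F) : g ∈ Cfsg.GU n F q ⊓ Cfsg.Geo.specialLinear (Fin n) F :=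
  ⟨(mem_GU_iff' hF).mpr hg, hd⟩

/-- A subgroup containing every unitary transvection contains the special unitary group. -/
theorem suGL_le (hF : Fintype.card F = q ^ 2) (hn : 4 ≤ n) {K : Subgroup (GL (Fin n) F)}
    (h : ∀ w, (stdHerm n hF).Iso w → (stdHerm n hF).Ctr K w) :
    Cfsg.GU n F q ⊓ Cfsg.Geo.specialLinear (Fin n) F ≤ K := by
  intro g hg
  let s : Matrix.SpecialLinearGroup (Fin n) F := ⟨(g : Matrix (Fin n) (Fin n) F), congrArg Units.val (MonoidHom.mem_ker.mp hg.2)⟩
  let A : Cfsg.SU n F q := ⟨s, hg.1⟩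
  let ψ : Cfsg.SU n F q →* GL (Fin n) F := (Matrix.SpecialLinearGroup.toGL).comp (Cfsg.SU n F q).subtype
  have htop : (⊤ : Subgroup (Cfsg.SU n F q)) ≤ K.comap ψ := by
    rw [← Geometry.closure_unitaryTransvections_eq_top hF (by omega) (by omega), Subgroup.closure_le]
    rintro B ⟨v, c, hv, hB⟩
    rcases eq_or_ne v 0 with rfl | hv0
    · have : ψ B = 1 := Units.ext (by
        show (B.1 : Matrix (Fin n) (Fin n) F) = 1
        rw [hB]; simp [Cfsg.unitaryTransvection])
      show ψ B ∈ K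
      rw [this]; exact K.one_mem
    have hvi : (stdHerm n hF).Iso v := hv
    have happ : ∀ x, (B.1 : Matrix (Fin n) (Fin n) F) *ᵥ x = x + (c * (stdHerm n hF).B v x) • v := fun x => by
      rw [hB, Geometry.unitaryTransvection_mulVec]; rfl
    obtain ⟨y, -, hy⟩ := (stdHerm n hF).exists_perp_eq_one ⊥ (x := v) (by simpa using hv0)
    have hy' : (stdHerm n hF).B v y = 1 := by rw [← (stdHerm n hF).herm y v, hy, map_one]
    have hc : c + (stdHerm n hF).σ c = 0 := by
      have h1 : (stdHerm n hF).B ((B.1 : Matrix (Fin n) (Fin n) F) *ᵥ y) ((B.1 : Matrix (Fin n) (Fin n) F) *ᵥ y)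
          = (stdHerm n hF).B y y := B.2 y y
      rw [happ] at h1
      simp only [map_add, LinearMap.map_smulₛₗ, LinearMap.add_apply, LinearMap.smul_apply, map_smul, smul_eq_mul,
        hy, hy', show (stdHerm n hF).B v v = 0 from hvi, mul_one, mul_zero, add_zero] at h1
      linear_combination h1
    obtain ⟨hw, hcc⟩ := h v hvi
    show ψ B ∈ K
    rw [show ψ B = (stdHerm n hF).trans v hw c from Units.ext (eq_of_mulVec_eq fun x => by
      rw [HermF.trans_mulVec]; exact happ x)]
    exact hcc c hc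
  have hA : ψ A ∈ K := htop (Subgroup.mem_top A)
  rwa [show ψ A = g from Units.ext rfl] at hA

end standard

end Cfsg.Agent.Lib.MaxSub
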