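import Cfsg.Agent.Lib.MaxSub.HermMoved
import Cfsg.Agent.Lib.MaxSub.IsoTIElem
import Cfsg.Agent.Lib.MaxSub.UnitaryStd
import Cfsg.Agent.Lib.Classical.HermCard
import Cfsg.Agent.Lib.Geometry.UnitaryDet
import Mathlib

/-!
Unitary maps of prime order with prescribed moved parts.
-/

set_option autoImplicit false
set_option maxHeartbeats 1000000
set_option linter.unusedSectionVars false

namespace Cfsg.Agent.Lib.MaxSub.HermElem

open Matrix Polynomial Module Cfsg.Agent.Lib.MaxSub
open Cfsg.Agent.Lib.MaxSub.IsoDecomp (fixed moved mem_fixed decompose)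
open Cfsg.Agent.Lib.MaxSub.IsoTIElem (factors mem_factors)
open scoped _root_.Classical

variable {F : Type*} [Field F] {q : ℕ}

/-- Preserving the standard Hermitian form. -/
def Isom (q : ℕ) {n : ℕ} (y : End F (Fin n → F)) : Prop :=
  ∀ u v, Cfsg.hermForm n F q (y u) (y v) = Cfsg.hermForm n F q u v

theorem isom_one {n : ℕ} : Isom q (1 : End F (Fin n → F)) := fun _ _ => rfl

/-- Evaluation of a polynomial in a direct sum. -/
theorem aeval_prodMap {V W : Type*} [AddCommGroup V] [Module F V] [AddCommGroup W] [Module F W] (y : End F V)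
    (z : End F W) (P : F[X]) : aeval (y.prodMap z : End F (V × W)) P = (aeval y P).prodMap (aeval z P) := by
  induction P using Polynomial.induction_on with
  | C a => apply LinearMap.ext; rintro ⟨v, w⟩; simp [Algebra.algebraMap_eq_smul_one]
  | add A B hA hB => rw [map_add, map_add, map_add, hA, hB]; rfl
  | monomial j a ih =>
    rw [pow_succ, ← mul_assoc, map_mul, map_mul (aeval y), map_mul (aeval z), aeval_X, aeval_X, aeval_X, ih,
      LinearMap.prodMap_mul]

/-- Two unitary maps side by side. -/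
theorem exists_sum {e k : ℕ} {y : End F (Fin e → F)} (hy : Isom q y) {z : End F (Fin k → F)} (hz : Isom q z) :
    ∃ w : End F (Fin (e + k) → F), Isom q w ∧ (∀ r : ℕ, y ^ r = 1 → z ^ r = 1 → w ^ r = 1) ∧
      (LinearMap.det w = LinearMap.det y * LinearMap.det z) ∧
      ∀ P : F[X], finrank F (LinearMap.ker (aeval w P)) =
        finrank F (LinearMap.ker (aeval y P)) + finrank F (LinearMap.ker (aeval z P)) := by
  let E : ((Fin e → F) × (Fin k → F)) ≃ₗ[F] (Fin (e + k) → F) :=
    (LinearEquiv.sumArrowLequivProdArrow (Fin e) (Fin k) F F).symm.trans (LinearEquiv.funCongrLeft F F finSumFinEquiv.symm)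
  have hE : ∀ a b, (∀ i : Fin e, E (a, b) (Fin.castAdd k i) = a i) ∧ ∀ i : Fin k, E (a, b) (Fin.natAdd e i) = b i :=
    fun a b => ⟨fun i => by simp [E, LinearEquiv.funCongrLeft_apply, LinearMap.funLeft_apply],
      fun i => by simp [E, LinearEquiv.funCongrLeft_apply, LinearMap.funLeft_apply]⟩
  have hform : ∀ a b a' b', Cfsg.hermForm (e + k) F q (E (a, b)) (E (a', b')) =
      Cfsg.hermForm e F q a a' + Cfsg.hermForm k F q b b' := fun a b a' b' => by
    simp only [Cfsg.hermForm, Fin.sum_univ_add, (hE _ _).1, (hE _ _).2]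
  refine ⟨E.conjAlgEquiv F (y.prodMap z), fun u v => ?_, fun r hyr hzr => ?_, ?_, fun P => ?_⟩
  · obtain ⟨⟨a, b⟩, rfl⟩ := E.surjective u
    obtain ⟨⟨a', b'⟩, rfl⟩ := E.surjective v
    simp only [LinearEquiv.conjAlgEquiv_apply, LinearMap.comp_apply, LinearEquiv.coe_coe, LinearEquiv.symm_apply_apply,
      LinearMap.prodMap_apply, hform]
    rw [hy, hz]
  · rw [← map_pow, PrimeElemFlags.prodMap_pow', hyr, hzr, LinearMap.prodMap_one, map_one]
  · rw [LinearEquiv.conjAlgEquiv_apply, LinearMap.det_conj, LinearMap.det_prodMap]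
  · rw [show aeval (E.conjAlgEquiv F (y.prodMap z)) P = E.conjAlgEquiv F (aeval (y.prodMap z : End F _) P) from
      Polynomial.aeval_algHom_apply (E.conjAlgEquiv F).toAlgHom _ P, aeval_prodMap]
    have hker : LinearMap.ker (E.conjAlgEquiv F ((aeval y P).prodMap (aeval z P))) =
        ((LinearMap.ker (aeval y P)).prod (LinearMap.ker (aeval z P))).map E.toLinearMap := by
      rw [← LinearMap.ker_prodMap, LinearEquiv.conjAlgEquiv_apply, LinearMap.ker_comp, LinearEquiv.ker,
        Submodule.comap_bot, LinearMap.ker_comp, Submodule.map_equiv_eq_comap_symm]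
    set S := LinearMap.ker (aeval y P)
    set T := LinearMap.ker (aeval z P)
    let e' : (S.prod T) ≃ₗ[F] S × T :=
      { toFun := fun x => (⟨x.1.1, x.2.1⟩, ⟨x.1.2, x.2.2⟩)
        map_add' := fun x y => rfl
        map_smul' := fun a x => rfl
        invFun := fun x => ⟨(x.1.1, x.2.1), ⟨x.1.2, x.2.2⟩⟩
        left_inv := fun x => rfl
        right_inv := fun x => rfl }
    rw [hker, LinearEquiv.finrank_map_eq, e'.finrank_eq, Module.finrank_prod]

variable [Fintype F]

theorem isom_B {n : ℕ} (hF : Fintype.card F = q ^ 2) {y : End F (Fin n → F)} :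
    Isom q y ↔ ∀ u v, (stdHerm n hF).B (y u) (y v) = (stdHerm n hF).B u v :=
  ⟨fun h u v => h v u, fun h u v => h v u⟩

theorem σ_pow {n : ℕ} (hF : Fintype.card F = q ^ 2) (a : F) : (stdHerm n hF).σ a = a ^ q := rfl

theorem ker_sub_one {n : ℕ} (y : End F (Fin n → F)) :
    LinearMap.ker (aeval y (Polynomial.X - C (1 : F))) = fixed y := by
  simp [IsoDecomp.fixed]

theorem exists_matrix {n : ℕ} (hF : Fintype.card F = q ^ 2) {y : End F (Fin n → F)} (hy : Isom q y) :
    ∃ g : GL (Fin n) F, g ∈ Cfsg.GU n F q ∧ Matrix.toLin' (g : Matrix (Fin n) (Fin n) F) = y := by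
  have hinj : Function.Injective y := by
    refine (injective_iff_map_eq_zero y).2 fun v hv => (stdHerm n hF).nondeg.1 v fun w => ?_
    rw [← (isom_B hF).1 hy, hv, map_zero, LinearMap.zero_apply]
  have hdet : (LinearMap.toMatrix' y).det ≠ 0 := by
    rw [LinearMap.det_toMatrix']
    exact (LinearEquiv.ofInjectiveEndo y hinj).isUnit_det'.ne_zero
  refine ⟨Matrix.GeneralLinearGroup.mkOfDetNeZero _ hdet, fun u v => ?_, Matrix.toLin'_toMatrix' y⟩
  show Cfsg.hermForm n F q (LinearMap.toMatrix' y *ᵥ u) (LinearMap.toMatrix' y *ᵥ v) = _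
  rw [LinearMap.toMatrix'_mulVec, LinearMap.toMatrix'_mulVec]
  exact hy u v

/-- The determinant has norm one. -/
theorem det_norm {n : ℕ} (hF : Fintype.card F = q ^ 2) {y : End F (Fin n → F)} (hy : Isom q y) :
    LinearMap.det y ^ (q + 1) = 1 := by
  obtain ⟨g, hg, rfl⟩ := exists_matrix hF hy
  have h := congrArg Units.val (MonoidHom.mem_ker.1 (Geometry.det_mem_normOneUnits hF ⟨g, hg⟩))
  rw [LinearMap.det_toLin']
  simpa using h

variable {p : ℕ} [Fact p.Prime] [CharP F p] {r : ℕ} [hr : Fact r.Prime]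

theorem not_dvd_succ (hc : orderOf (-(q : ZMod r)) ≠ 1) : ¬ r ∣ q + 1 := fun h => hc <| by
  rw [orderOf_eq_one_iff, neg_eq_iff_add_eq_zero, ← Nat.cast_one, ← Nat.cast_add, ZMod.natCast_eq_zero_iff]
  exact h

theorem det_one {n : ℕ} (hF : Fintype.card F = q ^ 2) (hc : orderOf (-(q : ZMod r)) ≠ 1)
    {y : End F (Fin n → F)} (hy : Isom q y) (hyr : y ^ r = 1) : LinearMap.det y = 1 := by
  have h1 : LinearMap.det y ^ r = 1 := by rw [← map_pow, hyr, map_one]
  have h2 := pow_gcd_eq_one.2 ⟨h1, det_norm hF hy⟩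
  rwa [(hr.out.coprime_iff_not_dvd.2 (not_dvd_succ hc)).gcd_eq_one, pow_one] at h2

/-- One block without fixed vectors. -/
theorem exists_atom (hF : Fintype.card F = q ^ 2) (hrp : r ≠ p) (hr2 : r ≠ 2) {b c : ℕ}
    (hb : orderOf ((Fintype.card F : ℕ) : ZMod r) = b) (hc : orderOf (-(q : ZMod r)) = c) :
    ∃ y : End F (Fin c → F), Isom q y ∧ y ^ r = 1 ∧ fixed y = ⊥ := by
  have hb0 : 0 < b := hb ▸ PrimeElemFlags.order_pos rfl hrp
  have hc0 : 0 < c := by rcases HermMoved.order_rel hF hb hc with ⟨-, h⟩ | ⟨-, h⟩ <;> omega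
  have hq2 : 2 ≤ q := Classical.two_le_q hF
  have hpow : (-(q : ZMod r)) ^ c = 1 := hc ▸ pow_orderOf_eq_one _
  have hdvd : r ∣ Nat.card (Cfsg.GU c F q) := by
    rw [Classical.card_GU hF]
    refine dvd_mul_of_dvd_right (dvd_trans ?_ (Finset.dvd_prod_of_mem _ (Finset.mem_range.2 (show c - 1 < c by omega)))) _
    rw [show c - 1 + 1 = c by omega, ← ZMod.natCast_eq_zero_iff]
    rcases Nat.even_or_odd c with hev | hodd
    · rw [if_neg (Nat.not_even_iff_odd.2 (Nat.Even.sub_odd hc0 hev odd_one)), Nat.cast_sub (Nat.one_le_pow _ _ (by omega)),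
        Nat.cast_pow, Nat.cast_one, ← hev.neg_pow, hpow, sub_self]
    · rw [if_pos (Nat.Odd.sub_odd hodd odd_one), Nat.cast_add, Nat.cast_pow, Nat.cast_one]
      rw [hodd.neg_pow] at hpow
      linear_combination -hpow
  obtain ⟨g, hg⟩ := exists_prime_orderOf_dvd_card' r hdvd
  set y := Matrix.toLin' ((g : GL (Fin c) F) : Matrix (Fin c) (Fin c) F) with hy
  have hiso : Isom q y := fun u v => by rw [hy, Matrix.toLin'_apply, Matrix.toLin'_apply]; exact g.2 u v
  have hgr : (g : GL (Fin c) F) ^ r = 1 := by rw [← SubmonoidClass.coe_pow, ← hg, pow_orderOf_eq_one]; rfl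
  have hyr : y ^ r = 1 := by
    rw [hy, ← Matrix.toLin'_pow, ← Units.val_pow_eq_pow_val, hgr, Units.val_one, Matrix.toLin'_one]
    rfl
  refine ⟨y, hiso, hyr, ?_⟩
  have hr0 : (r : F) ≠ 0 := PrimeElemFlags.cast_ne_zero hrp
  have hnd := (HermDecomp.nd_parts (stdHerm c hF) hr0 hyr ((isom_B hF).1 hiso) (HermDecomp.nd_top _)
    (le_top : (⊤ : Submodule F (Fin c → F)).map y ≤ ⊤)).2
  rw [top_inf_eq] at hnd
  have hdv := HermMoved.dvd_nd (stdHerm c hF) hF (σ_pow hF) hrp hr2 hb hc hyr ((isom_B hF).1 hiso) _ rfl hnd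
    IsoDecomp.moved_inv le_rfl
  have hsum := (decompose hr0 hyr (U := (⊤ : Submodule F (Fin c → F))) le_top).2
  rw [top_inf_eq, top_inf_eq, finrank_top, Module.finrank_fin_fun] at hsum
  obtain ⟨t, ht⟩ := hdv
  rcases Nat.eq_zero_or_pos t with rfl | ht0
  · exfalso
    rw [mul_zero] at ht
    have htop : fixed y = ⊤ := Submodule.eq_top_of_finrank_eq (by rw [Module.finrank_fin_fun]; omega)
    have h1 : g = 1 := by
      refine Subtype.ext (Units.ext (Matrix.toLin'.injective (LinearMap.ext fun v => ?_)))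
      rw [← hy, mem_fixed.1 (htop ▸ Submodule.mem_top : v ∈ fixed y)]
      simp
    rw [h1, orderOf_one] at hg
    exact hr.out.one_lt.ne hg
  · have := Nat.le_mul_of_pos_right c ht0
    exact Submodule.finrank_eq_zero.1 (by omega)

/-- Copies of the block. -/
theorem exists_copies (hF : Fintype.card F = q ^ 2) (hrp : r ≠ p) (hr2 : r ≠ 2) {b c : ℕ}
    (hb : orderOf ((Fintype.card F : ℕ) : ZMod r) = b) (hc : orderOf (-(q : ZMod r)) = c) :
    ∀ s : ℕ, ∃ y : End F (Fin (c * s) → F), Isom q y ∧ y ^ r = 1 ∧ fixed y = ⊥ := by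
  intro s
  induction s with
  | zero =>
    refine ⟨1, isom_one, one_pow _, ?_⟩
    rw [Submodule.eq_bot_iff]
    intro v _
    funext i
    exact (Fin.cast (by rw [mul_zero]) i : Fin 0).elim0
  | succ s ih =>
    obtain ⟨y, hy, hyr, hy1⟩ := ih
    obtain ⟨z, hz, hzr, hz1⟩ := exists_atom hF hrp hr2 hb hc
    rw [Nat.mul_succ]
    obtain ⟨w, hw, hwr, -, hwP⟩ := exists_sum hy hz
    refine ⟨w, hw, hwr r hyr hzr, Submodule.finrank_eq_zero.1 ?_⟩
    rw [← ker_sub_one, hwP, ker_sub_one, ker_sub_one, hy1, hz1, finrank_bot, finrank_bot]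

/-- One block killed by a given factor. -/
theorem exists_block (hF : Fintype.card F = q ^ 2) (hrp : r ≠ p) (hr2 : r ≠ 2) {b : ℕ}
    (hb : orderOf ((Fintype.card F : ℕ) : ZMod r) = b) (hodd : Odd (orderOf (-(q : ZMod r)))) {g : F[X]}
    (hg : g ∈ factors r F) : ∃ y : End F (Fin b → F), Isom q y ∧ y ^ r = 1 ∧ aeval y g = 0 ∧
      (b = 1 → LinearMap.det y = -g.coeff 0) := by
  obtain ⟨hgi, hgm, hgd⟩ := mem_factors.1 hg
  suffices H : ∃ y : End F (Fin b → F), Isom q y ∧ y ^ r = 1 ∧ aeval y g = 0 by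
    obtain ⟨y, h1, h2, h3⟩ := H
    refine ⟨y, h1, h2, h3, fun hb1 => ?_⟩
    have hg1 : g = Polynomial.X + C (g.coeff 0) :=
      hgm.eq_X_add_C ((PrimeElemFlags.deg_eq rfl hrp g hgi hgd).trans (hb.trans hb1))
    rw [hg1, map_add, aeval_X, aeval_C, Algebra.algebraMap_eq_smul_one] at h3
    rw [eq_neg_of_add_eq_zero_left h3, ← neg_smul, LinearMap.det_smul, map_one, mul_one, Module.finrank_fin_fun, hb1,
      pow_one]
  have hr0 : (r : F) ≠ 0 := PrimeElemFlags.cast_ne_zero hrp
  have hb0 : 0 < b := hb ▸ PrimeElemFlags.order_pos rfl hrp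
  have hcb : orderOf (-(q : ZMod r)) = b := by
    rcases HermMoved.order_rel hF hb rfl with ⟨-, h⟩ | ⟨h, -⟩
    · exact h
    · exact absurd hodd (Nat.not_odd_iff_even.2 h)
  obtain ⟨Y, hY, hYr, hfix⟩ := exists_atom hF hrp hr2 hb hcb
  have hM : moved Y r = ⊤ := by
    have h := (decompose hr0 hYr (U := ⊤) le_top).1
    simpa [hfix] using h
  obtain ⟨v, -, hv0⟩ := (Submodule.ne_bot_iff (⊤ : Submodule F (Fin b → F))).1 fun h => by
    have := congrArg (fun S : Submodule F (Fin b → F) => finrank F S) h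
    simp at this; omega
  obtain ⟨g₀, hg₀, hg₀m, hg₀d, w, -, hw0, hgw⟩ := PrimeElem.exists_factor Y (U := ⊤) le_top _ (cyclotomic_ne_zero r F) v
    Submodule.mem_top hv0 (show v ∈ moved Y r from hM ▸ Submodule.mem_top)
  have hyg₀ : aeval Y g₀ = 0 := by
    obtain ⟨⟨t, ht⟩, -⟩ := LinDecomp.moved_sub hrp hb hYr (U := LinearMap.ker (aeval Y g₀)) (PrimeElem.map_ker_le Y g₀)
      (hM ▸ le_top)
    have ht0 : 0 < t := Nat.pos_of_ne_zero fun h0 => by
      rw [h0, mul_zero, Submodule.finrank_eq_zero] at ht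
      exact hw0 ((Submodule.mem_bot F).1 (ht ▸ hgw))
    exact LinearMap.ker_eq_top.1 (Submodule.eq_top_of_finrank_eq (by
      have h1 := Submodule.finrank_le (LinearMap.ker (aeval Y g₀))
      rw [Module.finrank_fin_fun] at h1 ⊢
      have := Nat.le_mul_of_pos_right b ht0
      omega))
  have : Fact (Irreducible g₀) := ⟨hg₀⟩
  have : FiniteDimensional F (AdjoinRoot g₀) := (AdjoinRoot.powerBasis hg₀.ne_zero).finite
  have : Finite (AdjoinRoot g₀) := Module.finite_of_finite F
  set α : AdjoinRoot g₀ := AdjoinRoot.root g₀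
  have hcyc : aeval α (cyclotomic r F) = 0 := by
    obtain ⟨Q, hQ⟩ := hg₀d
    rw [hQ, map_mul, AdjoinRoot.aeval_eq, AdjoinRoot.mk_self, zero_mul]
  haveI : NeZero (r : AdjoinRoot g₀) :=
    ⟨fun h => hr0 ((map_eq_zero (algebraMap F (AdjoinRoot g₀))).1 (by rw [map_natCast]; exact h))⟩
  have hprim : IsPrimitiveRoot α r := by
    rw [← isRoot_cyclotomic_iff, IsRoot, ← map_cyclotomic r (algebraMap F (AdjoinRoot g₀)), eval_map_algebraMap]
    exact hcyc
  obtain ⟨β, hβ⟩ : ∃ β : AdjoinRoot g₀, aeval β g = 0 := by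
    have hd : g.natDegree ∣ finrank F (AdjoinRoot g₀) := by
      rw [(AdjoinRoot.powerBasis hg₀.ne_zero).finrank, AdjoinRoot.powerBasis_dim,
        (PrimeElemFlags.deg_eq rfl hrp g hgi hgd), (PrimeElemFlags.deg_eq rfl hrp g₀ hg₀ hg₀d)]
    have : Fact (Irreducible g) := ⟨hgi⟩
    have : FiniteDimensional F (AdjoinRoot g) := (AdjoinRoot.powerBasis hgi.ne_zero).finite
    have : Finite (AdjoinRoot g) := Module.finite_of_finite F
    obtain ⟨φ⟩ := (FiniteField.nonempty_algHom_iff_finrank_dvd (F := F) (K := AdjoinRoot g) (L := AdjoinRoot g₀)).2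
      (by rwa [(AdjoinRoot.powerBasis hgi.ne_zero).finrank, AdjoinRoot.powerBasis_dim])
    exact ⟨φ (AdjoinRoot.root g), by
      rw [Polynomial.aeval_algHom_apply, AdjoinRoot.aeval_eq, AdjoinRoot.mk_self, map_zero]⟩
  have hβr : β ^ r = 1 := by
    obtain ⟨Q, hQ⟩ := hgd
    have h := congrArg (aeval β) (cyclotomic_prime_mul_X_sub_one F r)
    rw [map_mul, hQ, map_mul, hβ, zero_mul, zero_mul, map_sub, map_pow, aeval_X, map_one] at h
    exact sub_eq_zero.1 h.symm
  obtain ⟨k, -, hk⟩ := hprim.eq_pow_of_pow_eq_one hβr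
  obtain ⟨Q, hQ⟩ : g₀ ∣ g.comp (Polynomial.X ^ k) := by
    rw [← AdjoinRoot.mk_eq_zero, ← AdjoinRoot.aeval_eq, aeval_comp, map_pow, aeval_X]
    show aeval (α ^ k) g = 0
    rw [hk, hβ]
  refine ⟨Y ^ k, fun u v => ?_, by rw [← pow_mul, mul_comm, pow_mul, hYr, one_pow], ?_⟩
  · have hp : ∀ j : ℕ, Isom q (Y ^ j) := fun j => by
      induction j with
      | zero => exact isom_one
      | succ j ih => intro u v; rw [pow_succ', End.mul_apply, End.mul_apply, hY]; exact ih _ _
    exact hp k u v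
  · have h : aeval Y (g.comp (Polynomial.X ^ k)) = aeval (Y ^ k) g := by rw [aeval_comp, map_pow, aeval_X]
    rw [← h, hQ, map_mul, hyg₀, zero_mul]

/-- A map whose factors have prescribed multiplicities. -/
theorem exists_multi (hF : Fintype.card F = q ^ 2) (hrp : r ≠ p) (hr2 : r ≠ 2) {b : ℕ}
    (hb : orderOf ((Fintype.card F : ℕ) : ZMod r) = b) (hodd : Odd (orderOf (-(q : ZMod r)))) :
    ∀ l : List F[X], (∀ g ∈ l, g ∈ factors r F) → ∃ w : End F (Fin (b * l.length) → F),
      Isom q w ∧ w ^ r = 1 ∧ fixed w = ⊥ ∧ (b = 1 → LinearMap.det w = (l.map fun g => -g.coeff 0).prod) ∧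
      ∀ g ∈ factors r F, finrank F (LinearMap.ker (aeval w g)) = b * l.count g := by
  intro l
  induction l with
  | nil =>
    intro _
    refine ⟨1, isom_one, one_pow _, ?_, fun _ => by simp, fun g _ => ?_⟩
    · rw [Submodule.eq_bot_iff]
      intro v _
      funext i
      exact (Fin.cast (by simp) i : Fin 0).elim0
    · have h := Submodule.finrank_le (LinearMap.ker (aeval (1 : End F (Fin (b * ([] : List F[X]).length) → F)) g))
      simp at h ⊢
      simpa using h
  | cons a l ih =>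
    intro hl
    have ha : a ∈ factors r F := hl a (List.mem_cons_self ..)
    obtain ⟨w, hw, hwr, hw1, hwd, hwg⟩ := ih fun g hg => hl g (List.mem_cons_of_mem a hg)
    obtain ⟨y, hy, hyr, hya, hyd⟩ := exists_block hF hrp hr2 hb hodd ha
    have hunit : ∀ P : F[X], IsCoprime P a → LinearMap.ker (aeval y P) = ⊥ := fun P hP => by
      obtain ⟨u, v, huv⟩ := hP
      rw [Submodule.eq_bot_iff]
      intro x hx
      have e := congrArg (fun R : F[X] => aeval y R x) huv
      simpa [hya, LinearMap.mem_ker.1 hx, End.mul_apply] using e.symm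
    obtain ⟨v, hv, hvr, hvd, hvP⟩ := exists_sum hw hy
    have hje : b * l.length + b = b * (a :: l).length := by rw [List.length_cons, Nat.mul_succ]
    rw [← hje]
    refine ⟨v, hv, hvr r hwr hyr, Submodule.finrank_eq_zero.1 ?_,
      fun hb1 => by rw [hvd, hwd hb1, hyd hb1, List.map_cons, List.prod_cons, mul_comm], fun g hg => ?_⟩
    · have hco : IsCoprime (Polynomial.X - C (1 : F)) a := by
        refine (irreducible_X_sub_C 1).coprime_iff_not_dvd.2 fun hd => ?_
        have := hd.trans (mem_factors.1 ha).2.2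
        rw [dvd_iff_isRoot, IsRoot, eval_one_cyclotomic_prime] at this
        exact PrimeElemFlags.cast_ne_zero hrp this
      rw [← ker_sub_one, hvP, ker_sub_one, hw1, hunit _ hco, finrank_bot, finrank_bot]
    · rw [hvP, List.count_cons, hwg g hg]
      by_cases hga : a = g
      · subst hga
        rw [hya, LinearMap.ker_zero, finrank_top, Module.finrank_fin_fun, beq_self_eq_true, if_pos rfl, Nat.mul_succ]
      · rw [hunit g (IsoTIElem.coprime_of_ne hg ha (Ne.symm hga)), finrank_bot, beq_eq_false_iff_ne.2 hga,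
          if_neg Bool.false_ne_true, add_zero, add_zero]

/-- Padding by fixed vectors. -/
theorem exists_pad (hrp : r ≠ p) {N n : ℕ} (hN : N ≤ n) {y : End F (Fin N → F)} (hy : Isom q y) (hyr : y ^ r = 1)
    (hy1 : fixed y = ⊥) :
    ∃ x : End F (Fin n → F), Isom q x ∧ x ^ r = 1 ∧ finrank F (fixed x) + N = n ∧ LinearMap.det x = LinearMap.det y ∧
      ∀ g ∈ factors r F, finrank F (LinearMap.ker (aeval x g)) = finrank F (LinearMap.ker (aeval y g)) := by
  have hsum := exists_sum hy (isom_one (q := q) (F := F) (n := n - N))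
  rw [show N + (n - N) = n by omega] at hsum
  obtain ⟨x, hx, hxr, hxd, hxP⟩ := hsum
  refine ⟨x, hx, hxr r hyr (one_pow _), ?_, by rw [hxd, map_one, mul_one], fun g hg => ?_⟩
  · have h1 : fixed (1 : End F (Fin (n - N) → F)) = ⊤ := eq_top_iff.2 fun v _ => mem_fixed.2 rfl
    rw [← ker_sub_one, hxP, ker_sub_one, ker_sub_one, hy1, h1, finrank_bot, finrank_top, Module.finrank_fin_fun]
    omega
  · have h0 : LinearMap.ker (aeval (1 : End F (Fin (n - N) → F)) g) = ⊥ := by
      rw [← map_one (algebraMap F (End F (Fin (n - N) → F))), aeval_algebraMap_apply_eq_algebraMap_eval,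
        Algebra.algebraMap_eq_smul_one]
      refine (LinearMap.ker_smul _ _ fun h => ?_).trans LinearMap.ker_id
      obtain ⟨Q, hQ⟩ := (mem_factors.1 hg).2.2
      have e := congrArg (eval (1 : F)) hQ
      rw [eval_one_cyclotomic_prime, eval_mul, h, zero_mul] at e
      exact PrimeElemFlags.cast_ne_zero hrp e
    rw [hxP, h0, finrank_bot, add_zero]

end Cfsg.Agent.Lib.MaxSub.HermElem
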