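import Cfsg.Agent.Lib.MaxSub.IsoDecomp
import Cfsg.Agent.Lib.MaxSub.LinDecomp
import Mathlib

/-!
Invariant totally isotropic subspaces of isometries of alternating forms.
-/

set_option autoImplicit false
set_option maxHeartbeats 1000000
set_option linter.unusedSectionVars false

namespace Cfsg.Agent.Lib.MaxSub.IsoTI

open Module Polynomial Cfsg.Agent.Lib.MaxSub
open scoped _root_.Classical

variable {ι : Type} [Fintype ι] [DecidableEq ι] {F : Type*} [Field F] (f : AltForm ι F) {X : End F (ι → F)}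

/-- A common zero in `U` of few quadratic forms `v ↦ B(T v, v)`. -/
theorem exists_zero [Fintype F] {p : ℕ} [Fact p.Prime] [CharP F p] {n : ℕ} (T : Fin n → End F (ι → F))
    {U : Submodule F (ι → F)} (h : 2 * n < finrank F U) : ∃ v ∈ U, v ≠ 0 ∧ ∀ j, f.B (T j v) v = 0 := by
  let b := Module.finBasis F U
  let P : Fin n → MvPolynomial (Fin (finrank F U)) F := fun j =>
    ∑ a, ∑ c, MvPolynomial.C (f.B (T j (b a : ι → F)) (b c)) * (MvPolynomial.X a * MvPolynomial.X c)
  have hdeg : ∀ j, (P j).totalDegree ≤ 2 := fun j => by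
    refine MvPolynomial.totalDegree_finsetSum_le fun a _ => MvPolynomial.totalDegree_finsetSum_le fun c _ => ?_
    refine (MvPolynomial.totalDegree_mul _ _).trans ?_
    rw [MvPolynomial.totalDegree_C, zero_add]
    exact (MvPolynomial.totalDegree_mul _ _).trans (by simp [MvPolynomial.totalDegree_X])
  have hlt : (∑ j, (P j).totalDegree) < Fintype.card (Fin (finrank F U)) := by
    refine lt_of_le_of_lt (Finset.sum_le_card_nsmul _ _ 2 fun j _ => hdeg j) ?_
    rw [Finset.card_univ, Fintype.card_fin, Fintype.card_fin, smul_eq_mul, mul_comm]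
    exact h
  have hdvd := char_dvd_card_solutions_of_fintype_sum_lt p hlt
  have h0 : ∀ j, MvPolynomial.eval (0 : Fin (finrank F U) → F) (P j) = 0 := fun j => by simp [P, map_sum]
  haveI : Nontrivial {x : Fin (finrank F U) → F // ∀ j, MvPolynomial.eval x (P j) = 0} := by
    rw [← Fintype.one_lt_card_iff_nontrivial]
    have hp := (Fact.out : p.Prime).two_le
    have hpos : 0 < Fintype.card {x : Fin (finrank F U) → F // ∀ j, MvPolynomial.eval x (P j) = 0} :=
      Fintype.card_pos_iff.2 ⟨⟨0, h0⟩⟩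
    have := Nat.le_of_dvd hpos (by convert hdvd)
    omega
  obtain ⟨⟨x, hx⟩, hne⟩ := exists_ne (⟨0, h0⟩ : {x : Fin (finrank F U) → F // ∀ j, MvPolynomial.eval x (P j) = 0})
  refine ⟨((∑ a, x a • b a : U) : ι → F), SetLike.coe_mem _, fun e => hne (Subtype.ext ?_), fun j => ?_⟩
  · funext a
    have e' : (∑ a, x a • b a : U) = 0 := Subtype.ext e
    exact Fintype.linearIndependent_iff.1 b.linearIndependent x e' a
  · rw [← hx j]
    simp only [P, map_sum, map_mul, MvPolynomial.eval_C, MvPolynomial.eval_X, Submodule.coe_sum, Submodule.coe_smul,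
      map_smul, LinearMap.sum_apply, LinearMap.smul_apply, smul_eq_mul, Finset.mul_sum]
    rw [Finset.sum_comm]
    refine Finset.sum_congr rfl fun a _ => Finset.sum_congr rfl fun c _ => ?_
    ring

/-- A totally isotropic invariant subspace lies in a hyperbolic invariant one. -/
theorem extend {P : F[X]} (hP : Squarefree P) (hy : aeval X P = 0) {U S : Submodule F (ι → F)} (hU : f.NdOn U)
    (hUi : U.map X ≤ U) (hS : S.map X ≤ S) (hSU : S ≤ U) (hti : S ≤ f.perp S) (hperp : (f.perp S).map X ≤ f.perp S) :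
    ∃ L, S ≤ L ∧ L ≤ U ∧ f.NdOn L ∧ L.map X ≤ L ∧ finrank F L = 2 * finrank F S := by
  have hWi := IsoDecomp.inf_inv hUi hperp
  obtain ⟨C, hCU, hC, hsup, hdisj, -⟩ := LinDecomp.split_in hP hy hUi hWi inf_le_left
  have hC0 : ∀ c ∈ C, (∀ s ∈ S, f.B s c = 0) → c = 0 := fun c hc h => by
    have : c ∈ (U ⊓ f.perp S) ⊓ C := ⟨⟨hCU hc, h⟩, hc⟩
    rw [hdisj] at this
    exact (Submodule.mem_bot F).1 this
  have hS0 : ∀ s ∈ S, (∀ c ∈ C, f.B s c = 0) → s = 0 := fun s hs h => by
    by_contra h0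
    obtain ⟨x, hx, hsx⟩ := hU s (hSU hs) h0
    obtain ⟨w, hw, c, hc, rfl⟩ := Submodule.mem_sup.1 (hsup.symm ▸ hx : x ∈ (U ⊓ f.perp S) ⊔ C)
    exact hsx (by rw [map_add, hw.2 s hs, h c hc, add_zero])
  let φ : S →ₗ[F] C →ₗ[F] F := (f.B.domRestrict₁₂ S C)
  have hφ : ∀ s : S, ∀ c : C, φ s c = f.B (s : ι → F) (c : ι → F) := fun s c => rfl
  have hi1 : Function.Injective φ := (injective_iff_map_eq_zero φ).2 fun s hs =>
    Subtype.ext (hS0 s s.2 fun c hc => by rw [← hφ s ⟨c, hc⟩, hs]; rfl)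
  have hi2 : Function.Injective φ.flip := (injective_iff_map_eq_zero φ.flip).2 fun c hc =>
    Subtype.ext (hC0 c c.2 fun s hs => by rw [← hφ ⟨s, hs⟩ c]; exact LinearMap.congr_fun hc ⟨s, hs⟩)
  have h1 := LinearMap.finrank_le_finrank_of_injective hi1
  have h2 := LinearMap.finrank_le_finrank_of_injective hi2
  rw [Subspace.dual_finrank_eq] at h1 h2
  refine ⟨S ⊔ C, le_sup_left, sup_le hSU hCU, fun v hv hv0 => ?_, IsoDecomp.sup_inv hS hC, ?_⟩
  · obtain ⟨s, hs, c, hc, rfl⟩ := Submodule.mem_sup.1 hv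
    by_cases hc0 : c = 0
    · subst hc0
      rw [add_zero] at hv0 ⊢
      by_contra hne
      push Not at hne
      exact hv0 (hS0 s hs fun c hc => hne c (Submodule.mem_sup_right hc))
    · by_contra hne
      push Not at hne
      refine hc0 (hC0 c hc fun s' hs' => ?_)
      have e := hne s' (Submodule.mem_sup_left hs')
      rw [map_add, LinearMap.add_apply, hti hs' s hs, zero_add] at e
      rw [f.skew, e, neg_zero]
  · have h4 := Submodule.finrank_sup_add_finrank_inf_eq S C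
    have hd : S ⊓ C = ⊥ := le_bot_iff.1 ((le_inf (le_inf (inf_le_left.trans hSU) (inf_le_left.trans hti)) inf_le_right).trans hdisj.le)
    rw [hd, finrank_bot, add_zero] at h4
    omega

/-- A totally isotropic subspace has at most half the dimension. -/
theorem ti_half {U W : Submodule F (ι → F)} (hU : f.NdOn U) (hWU : W ≤ U) (hW : W ≤ f.perp W) :
    2 * finrank F W ≤ finrank F U := by
  have h1 : ∀ S : Submodule F (ι → F), S.map (1 : End F (ι → F)) ≤ S := fun S => le_of_eq (Submodule.map_id S)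
  obtain ⟨L, -, hLU, -, -, hLd⟩ := extend f (X := 1) (P := Polynomial.X - C (1 : F)) (irreducible_X_sub_C 1).squarefree
    (by simp) hU (h1 U) (h1 W) hWU hW (h1 _)
  exact hLd ▸ Submodule.finrank_mono hLU

/-- Repeatedly splitting off totally isotropic pieces. -/
theorem exists_ti_mul {n : ℕ} (hn : 0 < n) (hX : X ^ n = 1) (hiso : ∀ u v, f.B (X u) (X v) = f.B u v) {P : F[X]}
    (hP : Squarefree P) (hy : aeval X P = 0) {i D : ℕ} {M : Submodule F (ι → F)}
    (H : ∀ U ≤ M, f.NdOn U → U.map X ≤ U → D ≤ finrank F U → ∃ S ≤ U, S.map X ≤ S ∧ S ≤ f.perp S ∧ finrank F S = i) :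
    ∀ (j : ℕ) (U : Submodule F (ι → F)), U ≤ M → f.NdOn U → U.map X ≤ U → (0 < j → D + 2 * i * (j - 1) ≤ finrank F U) →
      ∃ W ≤ U, W.map X ≤ W ∧ W ≤ f.perp W ∧ finrank F W = i * j := by
  intro j
  induction j with
  | zero => exact fun U _ _ _ _ => ⟨⊥, bot_le, by simp, bot_le, by simp⟩
  | succ j ih =>
    intro U hUM hU hUi hle
    have hle' := hle j.succ_pos
    rw [Nat.add_sub_cancel] at hle'
    obtain ⟨S, hSU, hS, hti, hSd⟩ := H U hUM hU hUi (by omega)
    obtain ⟨L, hSL, hLU, hL, hLi, hLd⟩ := extend f hP hy hU hUi hS hSU hti (IsoDecomp.perp_inv f hX hn hiso hS)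
    obtain ⟨-, hR, hdim⟩ := IsoDecomp.split_off f hU hL hLU
    obtain ⟨W, hWR, hW, hWti, hWd⟩ := ih _ (inf_le_left.trans hUM) hR
      (IsoDecomp.inf_inv hUi (IsoDecomp.perp_inv f hX hn hiso hLi)) (fun hj => by
        rw [hLd, hSd] at hdim
        have e : 2 * i * j = 2 * i * (j - 1) + 2 * i := by
          conv_lhs => rw [show j = j - 1 + 1 by omega, Nat.mul_succ]
        omega)
    have hWS : ∀ w ∈ W, ∀ s ∈ S, f.B s w = 0 := fun w hw s hs => (hWR hw).2 s (hSL hs)
    refine ⟨S ⊔ W, sup_le hSU (hWR.trans inf_le_left), IsoDecomp.sup_inv hS hW, fun v hv u hu => ?_, ?_⟩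
    · obtain ⟨s, hs, w, hw, rfl⟩ := Submodule.mem_sup.1 hv
      obtain ⟨s', hs', w', hw', rfl⟩ := Submodule.mem_sup.1 hu
      simp only [map_add, LinearMap.add_apply, hti hs s' hs', hWS w hw s' hs', hWti hw w' hw', f.skew w' s,
        hWS w' hw' s hs]
      ring
    · have hd : S ⊓ W = ⊥ := by
        rw [Submodule.eq_bot_iff]
        rintro v ⟨hv, hv'⟩
        by_contra h0
        obtain ⟨x, hx, hvx⟩ := hL v (hSL hv) h0
        exact hvx (by rw [f.skew, (hWR hv').2 x hx, neg_zero])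
      have h4 := Submodule.finrank_sup_add_finrank_inf_eq S W
      rw [hd, finrank_bot, add_zero] at h4
      rw [h4, hSd, hWd, Nat.mul_succ, add_comm]

/-- Totally isotropic subspaces of a non-degenerate space of fixed vectors. -/
theorem exists_ti_fixed {n : ℕ} (hn : 0 < n) (hX : X ^ n = 1) (hiso : ∀ u v, f.B (X u) (X v) = f.B u v) {P : F[X]}
    (hP : Squarefree P) (hy : aeval X P = 0) {a : F} {U : Submodule F (ι → F)} (hU : f.NdOn U) (hUa : ∀ v ∈ U, X v = a • v)
    {e : ℕ} (he : 2 * e ≤ finrank F U) : ∃ W ≤ U, W.map X ≤ W ∧ W ≤ f.perp W ∧ finrank F W = e := by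
  have hinv : ∀ S ≤ U, S.map X ≤ S := fun S hS => by
    rintro _ ⟨v, hv, rfl⟩
    rw [hUa v (hS hv)]
    exact S.smul_mem _ hv
  obtain ⟨W, h1, h2, h3, h4⟩ := exists_ti_mul f hn hX hiso hP hy (i := 1) (D := 1) (M := U) (fun U' hU' _ _ hd => by
    obtain ⟨v, hv, hv0⟩ := (Submodule.ne_bot_iff U').1 fun e => by rw [e, finrank_bot] at hd; omega
    have hsle : (F ∙ v) ≤ U' := (Submodule.span_singleton_le_iff_mem _ _).2 hv
    refine ⟨F ∙ v, hsle, hinv _ (hsle.trans hU'), fun x hx w hw => ?_, finrank_span_singleton hv0⟩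
    obtain ⟨α, rfl⟩ := Submodule.mem_span_singleton.1 hx
    obtain ⟨β, rfl⟩ := Submodule.mem_span_singleton.1 hw
    simp [f.alt]) e U le_rfl hU (hinv U le_rfl) (fun h0 => by omega)
  exact ⟨W, h1, h2, h3, by rw [h4, one_mul]⟩

variable [Fintype F] {p : ℕ} [Fact p.Prime] [CharP F p] {r : ℕ} [hr : Fact r.Prime]

/-- An irreducible totally isotropic invariant subspace of a moved space. -/
theorem exists_ti_moved (hrp : r ≠ p) (hr2 : r ≠ 2) {i : ℕ} (hi : orderOf ((Fintype.card F : ℕ) : ZMod r) = i)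
    (hX : X ^ r = 1) (hiso : ∀ u v, f.B (X u) (X v) = f.B u v) {U : Submodule F (ι → F)} (hUi : U.map X ≤ U)
    (hUm : U ≤ IsoDecomp.moved X r) (hbig : (Odd i ∧ U ≠ ⊥) ∨ r - 1 < finrank F U) :
    ∃ S ≤ U, S.map X ≤ S ∧ S ≤ f.perp S ∧ finrank F S = i := by
  obtain ⟨⟨s, hs⟩, hsub⟩ := LinDecomp.moved_sub hrp hi hX hUi hUm
  have hi0 : 0 < i := hi ▸ PrimeElemFlags.order_pos rfl hrp
  rcases hbig with ⟨hodd, hne⟩ | hlt
  · have hs0 : 0 < s := Nat.pos_of_ne_zero fun e => hne (Submodule.finrank_eq_zero.1 (by rw [hs, e, mul_zero]))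
    obtain ⟨S, hS, hSU, hSd⟩ := hsub 1 (by rw [hs]; exact Nat.mul_le_mul_left _ hs0)
    rw [mul_one] at hSd
    refine ⟨S, hSU, hS, ?_, hSd⟩
    have hR := IsoDecomp.inf_inv hS (IsoDecomp.perp_inv f hX hr.out.pos hiso hS)
    obtain ⟨⟨b, hb⟩, -⟩ := LinDecomp.moved_sub hrp hi hX hR (inf_le_left.trans (hSU.trans hUm))
    rcases Nat.eq_zero_or_pos b with rfl | hb0
    · exfalso
      rw [mul_zero, Submodule.finrank_eq_zero] at hb
      have hnd : f.NdOn S := fun v hv hv0 => by
        by_contra hne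
        push Not at hne
        exact hv0 ((Submodule.mem_bot F).1 (hb ▸ ⟨hv, fun w hw => by rw [f.skew, hne w hw, neg_zero]⟩))
      exact Nat.not_even_iff_odd.2 hodd (hSd ▸ SympInvolConj.even_finrank f hnd)
    · have e : S ⊓ f.perp S = S := Submodule.eq_of_le_of_finrank_le inf_le_left
        (by rw [hb, hSd]; exact Nat.le_mul_of_pos_right _ hb0)
      exact e.symm.le.trans inf_le_right
  · obtain ⟨h, hh⟩ := hr.out.odd_of_ne_two hr2
    obtain ⟨v, hv, hv0, hvq⟩ := exists_zero f (p := p) (fun j : Fin h => X ^ ((j : ℕ) + 1)) (U := U) (by omega)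
    have hpiso : ∀ (k : ℕ) u w, f.B ((X ^ k) u) ((X ^ k) w) = f.B u w := fun k => by
      induction k with
      | zero => simp
      | succ k ih => intro u w; rw [pow_succ', End.mul_apply, End.mul_apply, hiso, ih]
    have hzero : ∀ k : ℕ, f.B ((X ^ k) v) v = 0 := fun k => by
      rw [pow_eq_pow_mod k hX]
      have hk := Nat.mod_lt k hr.out.pos
      rcases Nat.eq_zero_or_pos (k % r) with h0 | h0
      · rw [h0]; simpa using f.alt v
      by_cases hkh : k % r ≤ h
      · have := hvq ⟨k % r - 1, by omega⟩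
        simpa [show k % r - 1 + 1 = k % r by omega] using this
      · have := hvq ⟨r - k % r - 1, by omega⟩
        simp only [show r - k % r - 1 + 1 = r - k % r by omega] at this
        rw [← hpiso (r - k % r), ← End.mul_apply, ← pow_add, show r - k % r + k % r = r by omega, hX, End.one_apply,
          f.skew, this, neg_zero]
    set Z := Submodule.span F (Set.range fun j : Fin r => (X ^ (j : ℕ)) v) with hZ
    have hvZ : v ∈ Z := Submodule.subset_span ⟨⟨0, hr.out.pos⟩, rfl⟩
    have hZU : Z ≤ U := by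
      rw [hZ, Submodule.span_le]
      rintro _ ⟨j, rfl⟩
      have h := PrimeElem.aeval_mem X hUi (Polynomial.X ^ (j : ℕ)) hv
      rwa [map_pow, aeval_X] at h
    have hZi : Z.map X ≤ Z := by
      rw [hZ, Submodule.map_span, Submodule.span_le]
      rintro _ ⟨_, ⟨j, rfl⟩, rfl⟩
      rw [SetLike.mem_coe, ← End.mul_apply, ← pow_succ', pow_eq_pow_mod _ hX]
      exact Submodule.subset_span ⟨⟨_, Nat.mod_lt _ hr.out.pos⟩, rfl⟩
    have hZti : Z ≤ f.perp Z := by
      have key : ∀ a b : ℕ, a < r → f.B ((X ^ a) v) ((X ^ b) v) = 0 := fun a b ha => by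
        rw [← hpiso (r - a), ← End.mul_apply, ← End.mul_apply, ← pow_add, ← pow_add, show r - a + a = r by omega, hX,
          End.one_apply, f.skew, hzero, neg_zero]
      intro x hx w hw
      rw [hZ] at hx hw
      induction hx using Submodule.span_induction with
      | mem x hx =>
        obtain ⟨b, rfl⟩ := hx
        induction hw using Submodule.span_induction with
        | mem w hw => obtain ⟨a, rfl⟩ := hw; exact key _ _ a.2
        | zero => simp
        | add y z _ _ h1 h2 => rw [map_add, LinearMap.add_apply, h1, h2, add_zero]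
        | smul c y _ h1 => rw [map_smul, LinearMap.smul_apply, h1, smul_zero]
      | zero => simp
      | add y z _ _ h1 h2 => rw [map_add, h1, h2, add_zero]
      | smul c y _ h1 => rw [map_smul, h1, smul_zero]
    obtain ⟨⟨b, hb⟩, hZsub⟩ := LinDecomp.moved_sub hrp hi hX hZi (hZU.trans hUm)
    have hb0 : 0 < b := Nat.pos_of_ne_zero fun e => by
      rw [e, mul_zero, Submodule.finrank_eq_zero] at hb
      exact hv0 ((Submodule.mem_bot F).1 (hb ▸ hvZ))
    obtain ⟨S, hS, hSZ, hSd⟩ := hZsub 1 (by rw [hb]; exact Nat.mul_le_mul_left _ hb0)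
    exact ⟨S, hSZ.trans hZU, hS, fun x hx w hw => hZti (hSZ hx) w (hSZ hw), by rwa [mul_one] at hSd⟩

/-- The kernel of a self-reciprocal factor is non-degenerate. -/
theorem ker_nd (hrp : r ≠ p) (hr2 : r ≠ 2) {i : ℕ} (hi : orderOf ((Fintype.card F : ℕ) : ZMod r) = i) (hev : Even i)
    (hX : X ^ r = 1) (hiso : ∀ u v, f.B (X u) (X v) = f.B u v) {g : F[X]} (hg : Irreducible g)
    (hgd : g ∣ cyclotomic r F) : f.NdOn (LinearMap.ker (aeval X g)) := by
  have hr0 : (r : F) ≠ 0 := PrimeElemFlags.cast_ne_zero hrp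
  obtain ⟨Q, hQ⟩ := IsoDecomp.dvd_recip hrp hr2 hi hev hg hgd
  have hdvd : g ∣ Polynomial.X ^ r - C (1 : F) := hgd.trans
    ⟨Polynomial.X - 1, by rw [map_one, cyclotomic_prime_mul_X_sub_one]⟩
  obtain ⟨G, hG⟩ := hdvd
  have hsq : Squarefree (Polynomial.X ^ r - C (1 : F)) := PrimeElemFlags.sq hr0 one_ne_zero
  have hco : IsCoprime g G := hg.coprime_iff_not_dvd.2 fun ⟨G', hG'⟩ =>
    hg.not_isUnit (hsq g ⟨G', by rw [hG, hG', mul_assoc]⟩)
  obtain ⟨a, b, hab⟩ := hco
  have hzero : aeval X (g * G) = 0 := by rw [← hG]; exact PrimeElemFlags.aeval_eq_zero (by rw [hX, one_smul])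
  have hXX : (X ^ (r - 1)) ^ (r - 1) = X := by
    obtain ⟨m, hm⟩ := Nat.exists_eq_add_of_le hr.out.two_le
    rw [← pow_mul, show (r - 1) * (r - 1) = r * m + 1 by subst hm; rw [show 2 + m - 1 = m + 1 by omega]; ring,
      pow_succ, pow_mul, hX, one_pow, one_mul]
  have hadj : ∀ (Q : F[X]) u v, f.B u (aeval (X ^ (r - 1)) Q v) = f.B (aeval X Q u) v := fun Q u v => by
    induction Q using Polynomial.induction_on generalizing v with
    | C a => simp [Algebra.algebraMap_eq_smul_one]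
    | add A B hA hB => simp only [map_add, LinearMap.add_apply, hA, hB]
    | monomial j a ih =>
      have hinv : ∀ a b, f.B a ((X ^ (r - 1)) b) = f.B (X a) b := fun a b => by
        rw [← hiso a, ← End.mul_apply, ← pow_succ', Nat.sub_add_cancel hr.out.one_lt.le, hX, End.one_apply]
      rw [pow_succ, ← mul_assoc, map_mul, aeval_X, End.mul_apply, ih, hinv, ← End.mul_apply,
        show aeval X (C a * Polynomial.X ^ j * Polynomial.X) = X * aeval X (C a * Polynomial.X ^ j) by
          rw [mul_comm (C a * Polynomial.X ^ j) Polynomial.X, map_mul, aeval_X]]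
  intro v hv hv0
  obtain ⟨x, hx⟩ : ∃ x, f.B v x ≠ 0 := by
    by_contra hne
    push Not at hne
    exact hv0 (f.nondeg v fun y => by rw [f.skew, hne y, neg_zero])
  have hx' : aeval X (a * g) x + aeval X (b * G) x = x := by
    rw [← LinearMap.add_apply, ← map_add, hab, map_one]; rfl
  refine ⟨aeval X (b * G) x, ?_, fun h0 => hx ?_⟩
  · rw [LinearMap.mem_ker, ← End.mul_apply, ← map_mul, show g * (b * G) = b * (g * G) by ring, map_mul, hzero, mul_zero]
    rfl
  · rw [← hx', map_add, h0, add_zero, mul_comm, map_mul, End.mul_apply,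
      show aeval X g = aeval (X ^ (r - 1)) (g.comp (Polynomial.X ^ (r - 1))) by
        rw [aeval_comp, map_pow, aeval_X, hXX], hadj, hQ, mul_comm, map_mul, End.mul_apply, LinearMap.mem_ker.1 hv,
      map_zero, map_zero, LinearMap.zero_apply]

/-- An invariant moved subspace is spanned by its intersections with the kernels of the factors. -/
theorem le_sum_ker (hrp : r ≠ p) (hX : X ^ r = 1) (𝒢 : Finset F[X])
    (h𝒢 : ∀ g : F[X], Irreducible g → g.Monic → g ∣ cyclotomic r F → g ∈ 𝒢) {W : Submodule F (ι → F)} (hW : W.map X ≤ W)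
    (hWm : W ≤ IsoDecomp.moved X r) :
    finrank F W ≤ ∑ g ∈ 𝒢, finrank F (W ⊓ LinearMap.ker (aeval X g) : Submodule F (ι → F)) := by
  set T := 𝒢.sup fun g => W ⊓ LinearMap.ker (aeval X g) with hT
  have hTi : T.map X ≤ T := by
    have key : ∀ s : Finset F[X], (s.sup fun g => W ⊓ LinearMap.ker (aeval X g)).map X ≤
        s.sup fun g => W ⊓ LinearMap.ker (aeval X g) := fun s => by
      rw [Submodule.map_le_iff_le_comap]
      refine Finset.sup_le fun g hg => ?_
      rw [← Submodule.map_le_iff_le_comap]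
      exact (IsoDecomp.inf_inv hW (PrimeElem.map_ker_le X g)).trans
        (Finset.le_sup (f := fun g => W ⊓ LinearMap.ker (aeval X g)) hg)
    exact key 𝒢
  have hTW : T ≤ W := Finset.sup_le fun g _ => inf_le_left
  have hr0 : (r : F) ≠ 0 := PrimeElemFlags.cast_ne_zero hrp
  have hy : aeval X (Polynomial.X ^ r - C (1 : F)) = 0 := PrimeElemFlags.aeval_eq_zero (by rw [hX, one_smul])
  clear_value T
  obtain ⟨C, hCW, hC, hsup, hdisj, -⟩ := LinDecomp.split_in (PrimeElemFlags.sq hr0 one_ne_zero) hy hW hTi hTW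
  have hC0 : C = ⊥ := by
    by_contra hne
    obtain ⟨v, hv, hv0⟩ := (Submodule.ne_bot_iff C).1 hne
    obtain ⟨g, hg, hm, hgd, w, hw, hw0, hgw⟩ := PrimeElem.exists_factor X hC _ (cyclotomic_ne_zero r F) v hv hv0
      (hWm (hCW hv))
    have hwT : w ∈ T := by
      rw [hT]; exact Finset.le_sup (f := fun g => W ⊓ LinearMap.ker (aeval X g)) (h𝒢 g hg hm hgd) ⟨hCW hw, hgw⟩
    exact hw0 ((Submodule.mem_bot F).1 (hdisj ▸ ⟨hwT, hw⟩))
  rw [hC0, sup_bot_eq] at hsup
  subst hT
  conv_lhs => rw [← hsup]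
  exact InvBlocks.finrank_finset_sup_le (ι := ι) (F := F) 𝒢 fun g => W ⊓ LinearMap.ker (aeval X g)

end Cfsg.Agent.Lib.MaxSub.IsoTI
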