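import Cfsg.Agent.Lib.MaxSub.HermDecomp
import Cfsg.Agent.Lib.MaxSub.IsoTI
import Mathlib

/-!
Moved spaces of unitary maps of prime order: self-dual factors and totally isotropic pieces.
-/

set_option autoImplicit false
set_option maxHeartbeats 1000000
set_option linter.unusedSectionVars false

namespace Cfsg.Agent.Lib.MaxSub.HermMoved

open Module Polynomial Cfsg.Agent.Lib.MaxSub Cfsg.Agent.Lib.MaxSub.HermDecomp
open Cfsg.Agent.Lib.MaxSub.IsoDecomp (moved inf_inv sup_inv)
open scoped _root_.Classical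

variable {ι : Type} [Fintype ι] [DecidableEq ι] {F : Type*} [Field F] [Fintype F] (f : HermF ι F)
variable {X : End F (ι → F)} {q : ℕ} {p : ℕ} [Fact p.Prime] [CharP F p] {r : ℕ} [hr : Fact r.Prime]

theorem card_cast (hq : Fintype.card F = q ^ 2) :
    ((Fintype.card F : ℕ) : ZMod r) = (-(q : ZMod r)) ^ 2 := by rw [hq, Nat.cast_pow, neg_sq]

theorem cast_q_ne_zero (hq : Fintype.card F = q ^ 2) (hrp : r ≠ p) : (q : ZMod r) ≠ 0 := fun h => by
  have h1 := PrimeElemFlags.order_pos (F := F) (r := r) (q := Fintype.card F) rfl hrp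
  rw [card_cast hq, h, neg_zero, zero_pow two_ne_zero, orderOf_zero] at h1
  exact lt_irrefl _ h1

/-- The degree of the factors, and the dimension of the smallest non-degenerate piece. -/
theorem order_rel (hq : Fintype.card F = q ^ 2) {b c : ℕ}
    (hb : orderOf ((Fintype.card F : ℕ) : ZMod r) = b) (hc : orderOf (-(q : ZMod r)) = c) :
    (Odd c ∧ c = b) ∨ (Even c ∧ c = 2 * b) := by
  rw [card_cast hq, orderOf_pow' _ two_ne_zero, hc] at hb
  rcases Nat.even_or_odd c with hev | hodd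
  · right
    refine ⟨hev, ?_⟩
    rw [Nat.gcd_eq_right hev.two_dvd] at hb
    rw [← hb, Nat.mul_div_cancel' hev.two_dvd]
  · left
    refine ⟨hodd, ?_⟩
    rw [show Nat.gcd c 2 = 1 from Nat.coprime_two_right.2 hodd, Nat.div_one] at hb
    exact hb

omit hr [Fact p.Prime] [CharP F p] in
theorem aeval_map_pow (hq : Fintype.card F = q ^ 2) (hσ : ∀ a, f.σ a = a ^ q) {L : Type*} [CommRing L] [Algebra F L]
    [CharP L p] [Fact p.Prime] [CharP F p] (Q : F[X]) (y : L) :
    aeval y (Q.map f.σ) ^ q = aeval (y ^ q) Q := by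
  obtain ⟨e, -, he⟩ := FiniteField.card F p
  obtain ⟨k, -, hk⟩ := (Nat.dvd_prime_pow (Fact.out : p.Prime)).1
    (show q ∣ p ^ (e : ℕ) from he ▸ hq ▸ dvd_pow_self q two_ne_zero)
  subst hk
  induction Q using Polynomial.induction_on with
  | C a =>
    rw [Polynomial.map_C, aeval_C, aeval_C, ← map_pow, ← hσ, f.invol]
  | add A B hA hB => rw [Polynomial.map_add, map_add, map_add, add_pow_char_pow, hA, hB]
  | monomial j a _ =>
    rw [Polynomial.map_mul, Polynomial.map_C, Polynomial.map_pow, Polynomial.map_X, map_mul, map_mul, mul_pow, aeval_C,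
      aeval_C, ← map_pow, ← hσ, f.invol, map_pow, map_pow, aeval_X, aeval_X, ← pow_mul, ← pow_mul, mul_comm]
    simp [mul_comm]

/-- An irreducible factor is fixed by conjugate reciprocation exactly when `-q` has odd order. -/
theorem dvd_conj_iff (hq : Fintype.card F = q ^ 2) (hσ : ∀ a, f.σ a = a ^ q) (hrp : r ≠ p)
    {g : F[X]} (hg : Irreducible g) (hgd : g ∣ cyclotomic r F) :
    g ∣ (g.map f.σ).comp (Polynomial.X ^ (r - 1)) ↔ Odd (orderOf (-(q : ZMod r))) := by
  have : Fact (Irreducible g) := ⟨hg⟩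
  have : FiniteDimensional F (AdjoinRoot g) := (AdjoinRoot.powerBasis hg.ne_zero).finite
  have : Finite (AdjoinRoot g) := Module.finite_of_finite F
  have : CharP (AdjoinRoot g) p := charP_of_injective_algebraMap (algebraMap F (AdjoinRoot g)).injective p
  set α : AdjoinRoot g := AdjoinRoot.root g
  have hr0 : (r : F) ≠ 0 := PrimeElemFlags.cast_ne_zero hrp
  have hcyc : aeval α (cyclotomic r F) = 0 := by
    obtain ⟨Q, hQ⟩ := hgd
    rw [hQ, map_mul, AdjoinRoot.aeval_eq, AdjoinRoot.mk_self, zero_mul]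
  haveI : NeZero (r : AdjoinRoot g) :=
    ⟨fun h => hr0 ((map_eq_zero (algebraMap F (AdjoinRoot g))).1 (by rw [map_natCast]; exact h))⟩
  have hprim : IsPrimitiveRoot α r := by
    rw [← isRoot_cyclotomic_iff, IsRoot, ← map_cyclotomic r (algebraMap F (AdjoinRoot g)), eval_map_algebraMap]
    exact hcyc
  have hord : orderOf α = r := hprim.eq_orderOf.symm
  have hfin : IsOfFinOrder α := orderOf_pos_iff.1 (hord.symm ▸ hr.out.pos)
  have hzero : g ∣ (g.map f.σ).comp (Polynomial.X ^ (r - 1)) ↔ aeval (α ^ ((r - 1) * q)) g = 0 := by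
    have hq0 : q ≠ 0 := fun h => by rw [h] at hq; exact Fintype.card_ne_zero hq
    rw [pow_mul, ← aeval_map_pow f (p := p) hq hσ g (α ^ (r - 1)), pow_eq_zero_iff hq0,
      ← AdjoinRoot.mk_eq_zero, ← AdjoinRoot.aeval_eq, aeval_comp, map_pow, aeval_X]
  have hroot : ∀ y : AdjoinRoot g, aeval y g = 0 ↔ ∃ j, y = α ^ (Fintype.card F ^ j) := by
    refine fun y => ⟨fun hy => ?_, ?_⟩
    · let φ : AdjoinRoot g →ₐ[F] AdjoinRoot g := AdjoinRoot.liftAlgHom g (Algebra.ofId F _) y hy
      obtain ⟨j, hj⟩ := (FiniteField.bijective_frobeniusAlgHom_pow F (AdjoinRoot g)).2 φ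
      refine ⟨j.1, ?_⟩
      have h1 : φ α = y := AdjoinRoot.liftAlgHom_root g (Algebra.ofId F _) y hy
      rw [← h1, ← hj]
      simp [AlgHom.coe_pow, FiniteField.coe_frobeniusAlgHom, pow_iterate]
    · rintro ⟨j, rfl⟩
      rw [IsoDecomp.aeval_frob, AdjoinRoot.aeval_eq, AdjoinRoot.mk_self, zero_pow (pow_ne_zero _ Fintype.card_ne_zero)]
  rw [hzero, hroot]
  set x := -(q : ZMod r) with hxdef
  have hx0 : x ≠ 0 := neg_ne_zero.2 (cast_q_ne_zero hq hrp)
  have hexp : ∀ j, (α ^ ((r - 1) * q) = α ^ (Fintype.card F ^ j)) ↔ x = x ^ (2 * j) := fun j => by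
    rw [hfin.pow_eq_pow_iff_modEq, hord, ← ZMod.natCast_eq_natCast_iff, Nat.cast_mul, Nat.cast_pow, card_cast hq,
      Nat.cast_sub hr.out.one_lt.le, ZMod.natCast_self, Nat.cast_one, zero_sub, neg_one_mul, pow_mul]
  simp only [hexp]
  constructor
  · rintro ⟨j, hj⟩
    rcases Nat.eq_zero_or_pos j with rfl | hj0
    · rw [show orderOf x = 1 by rw [orderOf_eq_one_iff, hj, mul_zero, pow_zero]]; exact odd_one
    · have h1 : x ^ (2 * j - 1) = 1 := by
        apply mul_left_cancel₀ hx0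
        rw [← pow_succ', mul_one, show 2 * j - 1 + 1 = 2 * j by omega, ← hj]
      exact Odd.of_dvd_nat ⟨j - 1, by omega⟩ (orderOf_dvd_of_pow_eq_one h1)
  · rintro ⟨k, hk⟩
    exact ⟨k + 1, by rw [show 2 * (k + 1) = orderOf x + 1 by omega, pow_succ', pow_orderOf_eq_one, mul_one]⟩

omit [Fintype F] [Fact p.Prime] [CharP F p] in
theorem adjoint (hX : X ^ r = 1) (hiso : ∀ u v, f.B (X u) (X v) = f.B u v) (Q : F[X]) (u v : ι → F) :
    f.B u (aeval X ((Q.map f.σ).comp (Polynomial.X ^ (r - 1))) v) = f.B (aeval X Q u) v := by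
  rw [aeval_comp, map_pow, aeval_X]
  induction Q using Polynomial.induction_on generalizing v with
  | C a => simp [Algebra.algebraMap_eq_smul_one, smul_left]
  | add A B hA hB => simp only [Polynomial.map_add, map_add, LinearMap.add_apply, hA, hB]
  | monomial j a ih =>
    have hinv : ∀ a b, f.B a ((X ^ (r - 1)) b) = f.B (X a) b := fun a b => by
      rw [← hiso a, ← End.mul_apply, ← pow_succ', Nat.sub_add_cancel hr.out.one_lt.le, hX, End.one_apply]
    rw [pow_succ, ← mul_assoc, Polynomial.map_mul, Polynomial.map_X, map_mul, aeval_X, End.mul_apply, ih, hinv,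
      ← End.mul_apply,
      show aeval X (C a * Polynomial.X ^ j * Polynomial.X) = X * aeval X (C a * Polynomial.X ^ j) by
        rw [mul_comm (C a * Polynomial.X ^ j) Polynomial.X, map_mul, aeval_X]]

/-- A smallest moved piece is totally isotropic unless `-q` has odd order. -/
theorem exists_ti_moved (hq : Fintype.card F = q ^ 2) (hσ : ∀ a, f.σ a = a ^ q) (hrp : r ≠ p) (hr2 : r ≠ 2) {b : ℕ}
    (hb : orderOf ((Fintype.card F : ℕ) : ZMod r) = b) (hX : X ^ r = 1) (hiso : ∀ u v, f.B (X u) (X v) = f.B u v)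
    {U : Submodule F (ι → F)} (hUi : U.map X ≤ U) (hUm : U ≤ moved X r)
    (hbig : (Even (orderOf (-(q : ZMod r))) ∧ U ≠ ⊥) ∨ r - 1 < finrank F U) :
    ∃ S ≤ U, S.map X ≤ S ∧ S ≤ f.perp S ∧ finrank F S = b := by
  obtain ⟨⟨s, hs⟩, hsub⟩ := LinDecomp.moved_sub hrp hb hX hUi hUm
  have hb0 : 0 < b := hb ▸ PrimeElemFlags.order_pos rfl hrp
  rcases hbig with ⟨hev, hne⟩ | hlt
  · have hs0 : 0 < s := Nat.pos_of_ne_zero fun e => hne (Submodule.finrank_eq_zero.1 (by rw [hs, e, mul_zero]))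
    obtain ⟨S, hS, hSU, hSd⟩ := hsub 1 (by rw [hs]; exact Nat.mul_le_mul_left _ hs0)
    rw [mul_one] at hSd
    refine ⟨S, hSU, hS, ?_, hSd⟩
    have hR := inf_inv hS (perp_inv f hX hr.out.pos hiso hS)
    obtain ⟨⟨t, ht⟩, -⟩ := LinDecomp.moved_sub hrp hb hX hR (inf_le_left.trans (hSU.trans hUm))
    rcases Nat.eq_zero_or_pos t with rfl | ht0
    · exfalso
      rw [mul_zero, Submodule.finrank_eq_zero] at ht
      have hnd : Nd f S := fun v hv hv0 => by
        by_contra hne
        push Not at hne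
        exact hv0 ((Submodule.mem_bot F).1 (ht ▸ ⟨hv, fun w hw => f.eq_zero_comm (hne w hw)⟩))
      obtain ⟨v, hv, hv0⟩ := (Submodule.ne_bot_iff S).1 fun e => by rw [e, finrank_bot] at hSd; omega
      obtain ⟨g, hgi, -, hgd, w, hw, hw0, hgw⟩ := PrimeElem.exists_factor X hS _ (cyclotomic_ne_zero r F) v hv hv0
        (hUm (hSU hv))
      have hKi := inf_inv hS (PrimeElem.map_ker_le X g)
      obtain ⟨⟨t', ht'⟩, -⟩ := LinDecomp.moved_sub hrp hb hX hKi (inf_le_left.trans (hSU.trans hUm))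
      have hK : S ⊓ LinearMap.ker (aeval X g) = S := by
        refine Submodule.eq_of_le_of_finrank_le inf_le_left ?_
        rw [ht', hSd]
        refine Nat.le_mul_of_pos_right _ (Nat.pos_of_ne_zero fun e => ?_)
        rw [e, mul_zero, Submodule.finrank_eq_zero] at ht'
        exact hw0 ((Submodule.mem_bot F).1 (ht' ▸ ⟨hw, hgw⟩))
      set P := (g.map f.σ).comp (Polynomial.X ^ (r - 1))
      have hPw : aeval X P w = 0 := by
        by_contra h0
        obtain ⟨u, hu, huw⟩ := hnd _ (PrimeElem.aeval_mem X hS P hw) h0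
        refine huw (f.eq_zero_comm ?_)
        have hgu : aeval X g u = 0 := (hK.symm ▸ hu : u ∈ S ⊓ LinearMap.ker (aeval X g)).2
        rw [adjoint f hX hiso, hgu, map_zero, LinearMap.zero_apply]
      refine (Nat.not_odd_iff_even.2 hev) ((dvd_conj_iff f hq hσ hrp hgi hgd).1 ?_)
      by_contra hnd'
      obtain ⟨a, c, hac⟩ := hgi.coprime_iff_not_dvd.2 hnd'
      have e := congrArg (fun P => aeval X P w) hac
      simp only [map_add, map_mul, LinearMap.add_apply, End.mul_apply, hgw, map_zero, zero_add, map_one,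
        End.one_apply] at e
      rw [show aeval X ((g.map f.σ).comp (Polynomial.X ^ (r - 1))) w = 0 from hPw, map_zero] at e
      exact hw0 e.symm
    · have e : S ⊓ f.perp S = S := Submodule.eq_of_le_of_finrank_le inf_le_left
        (by rw [ht, hSd]; exact Nat.le_mul_of_pos_right _ ht0)
      exact e.symm.le.trans inf_le_right
  · obtain ⟨h, hh⟩ := hr.out.odd_of_ne_two hr2
    obtain ⟨a, ha⟩ := f.exists_moved
    obtain ⟨v, hv, hv0, hvq⟩ := HermDecomp.exists_zero f (p := p) (Fin.append (fun _ : Fin h => (1 : F)) (fun _ : Fin h => a))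
      (Fin.append (fun j : Fin h => X ^ ((j : ℕ) + 1)) (fun j : Fin h => X ^ ((j : ℕ) + 1))) (U := U) (by omega)
    have hsmall : ∀ j : Fin h, f.B ((X ^ ((j : ℕ) + 1)) v) v = 0 := fun j => by
      have e1 := hvq (Fin.castAdd h j)
      have e2 := hvq (Fin.natAdd h j)
      rw [Fin.append_left, Fin.append_left, one_mul] at e1
      rw [Fin.append_right, Fin.append_right, map_mul] at e2
      have e3 : (a - f.σ a) * f.B ((X ^ ((j : ℕ) + 1)) v) v = 0 := by linear_combination e2 - f.σ a * e1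
      exact (mul_eq_zero.1 e3).resolve_left (sub_ne_zero.2 (Ne.symm ha))
    have hpiso : ∀ (k : ℕ) u w, f.B ((X ^ k) u) ((X ^ k) w) = f.B u w := fun k => by
      induction k with
      | zero => simp
      | succ k ih => intro u w; rw [pow_succ', End.mul_apply, End.mul_apply, hiso, ih]
    have hnz : ∀ k : ℕ, 0 < k % r → f.B ((X ^ k) v) v = 0 := fun k h0 => by
      rw [pow_eq_pow_mod k hX]
      have hk := Nat.mod_lt k hr.out.pos
      by_cases hkh : k % r ≤ h
      · have := hsmall ⟨k % r - 1, by omega⟩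
        simpa [show k % r - 1 + 1 = k % r by omega] using this
      · have := hsmall ⟨r - k % r - 1, by omega⟩
        simp only [show r - k % r - 1 + 1 = r - k % r by omega] at this
        rw [← hpiso (r - k % r), ← End.mul_apply, ← pow_add, show r - k % r + k % r = r by omega, hX, End.one_apply,
          f.eq_zero_comm this]
    have hzero : ∀ k : ℕ, f.B ((X ^ k) v) v = 0 := by
      have h0 : f.B v v = 0 := by
        have hc : aeval X (cyclotomic r F) v = 0 := hUm hv
        rw [cyclotomic_prime, map_sum, LinearMap.sum_apply] at hc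
        have e := congrArg (fun z => f.B z v) hc
        simp only [map_pow, aeval_X, map_sum, LinearMap.sum_apply, map_zero, LinearMap.zero_apply] at e
        rw [Finset.sum_eq_single 0 (fun j hj hj0 => hnz j (by
          rw [Nat.mod_eq_of_lt (Finset.mem_range.1 hj)]; exact Nat.pos_of_ne_zero hj0))
          (fun hh => absurd (Finset.mem_range.2 hr.out.pos) hh), pow_zero, End.one_apply] at e
        exact e
      intro k
      rcases Nat.eq_zero_or_pos (k % r) with hk | hk
      · rw [pow_eq_pow_mod k hX, hk]; simpa using h0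
      · exact hnz k hk
    set Z := Submodule.span F (Set.range fun j : Fin r => (X ^ (j : ℕ)) v) with hZ
    have hvZ : v ∈ Z := Submodule.subset_span ⟨⟨0, hr.out.pos⟩, rfl⟩
    have hZU : Z ≤ U := by
      rw [hZ, Submodule.span_le]
      rintro _ ⟨j, rfl⟩
      have h := PrimeElem.aeval_mem X hUi (Polynomial.X ^ (j : ℕ)) hv
      rwa [map_pow, aeval_X] at h
    have hZi : Z.map X ≤ Z := by
      rw [hZ, Submodule.map_span, Submodule.span_le]
      rintro _ ⟨_, ⟨j, rfl⟩, rfl⟩
      rw [SetLike.mem_coe, ← End.mul_apply, ← pow_succ', pow_eq_pow_mod _ hX]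
      exact Submodule.subset_span ⟨⟨_, Nat.mod_lt _ hr.out.pos⟩, rfl⟩
    have hZti : Z ≤ f.perp Z := by
      have key : ∀ a b : ℕ, a < r → f.B ((X ^ a) v) ((X ^ b) v) = 0 := fun a b ha => by
        rw [← hpiso (r - a), ← End.mul_apply, ← End.mul_apply, ← pow_add, ← pow_add, show r - a + a = r by omega, hX,
          End.one_apply, f.eq_zero_comm (hzero _)]
      intro x hx w hw
      rw [hZ] at hx hw
      induction hx using Submodule.span_induction with
      | mem x hx =>
        obtain ⟨b, rfl⟩ := hx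
        induction hw using Submodule.span_induction with
        | mem w hw => obtain ⟨a, rfl⟩ := hw; exact key _ _ a.2
        | zero => simp
        | add y z _ _ h1 h2 => rw [map_add, LinearMap.add_apply, h1, h2, add_zero]
        | smul c y _ h1 => rw [smul_left, h1, mul_zero]
      | zero => simp
      | add y z _ _ h1 h2 => rw [map_add, h1, h2, add_zero]
      | smul c y _ h1 => rw [map_smul, h1, smul_zero]
    obtain ⟨⟨t, ht⟩, hZsub⟩ := LinDecomp.moved_sub hrp hb hX hZi (hZU.trans hUm)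
    have ht0 : 0 < t := Nat.pos_of_ne_zero fun e => by
      rw [e, mul_zero, Submodule.finrank_eq_zero] at ht
      exact hv0 ((Submodule.mem_bot F).1 (ht ▸ hvZ))
    obtain ⟨S, hS, hSZ, hSd⟩ := hZsub 1 (by rw [ht]; exact Nat.mul_le_mul_left _ ht0)
    exact ⟨S, hSZ.trans hZU, hS, fun x hx w hw => hZti (hSZ hx) w (hSZ hw), by rwa [mul_one] at hSd⟩

/-- Non-degenerate moved spaces have dimension a multiple of the order of `-q`. -/
theorem dvd_nd (hq : Fintype.card F = q ^ 2) (hσ : ∀ a, f.σ a = a ^ q) (hrp : r ≠ p) (hr2 : r ≠ 2) {b c : ℕ}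
    (hb : orderOf ((Fintype.card F : ℕ) : ZMod r) = b) (hc : orderOf (-(q : ZMod r)) = c)
    (hX : X ^ r = 1) (hiso : ∀ u v, f.B (X u) (X v) = f.B u v) :
    ∀ (N : ℕ) {U : Submodule F (ι → F)}, finrank F U = N → Nd f U → U.map X ≤ U → U ≤ moved X r → c ∣ N := by
  have hb0 : 0 < b := hb ▸ PrimeElemFlags.order_pos rfl hrp
  intro N
  induction N using Nat.strong_induction_on with
  | _ N ih =>
    intro U hN hU hUi hUm
    obtain ⟨⟨s, hs⟩, -⟩ := LinDecomp.moved_sub hrp hb hX hUi hUm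
    rcases order_rel hq hb hc with ⟨-, hcb⟩ | ⟨hev, hcb⟩
    · exact ⟨s, by rw [hcb, ← hN, hs]⟩
    by_cases hne : U = ⊥
    · exact ⟨0, by rw [← hN, hne, finrank_bot, mul_zero]⟩
    obtain ⟨S, hSU, hS, hti, hSd⟩ := exists_ti_moved f hq hσ hrp hr2 hb hX hiso hUi hUm (Or.inl ⟨hc.symm ▸ hev, hne⟩)
    have hr0 : (r : F) ≠ 0 := PrimeElemFlags.cast_ne_zero hrp
    obtain ⟨L, -, hLU, hL, hLi, hLd⟩ := extend f (PrimeElemFlags.sq hr0 one_ne_zero)
      (PrimeElemFlags.aeval_eq_zero (by rw [hX, one_smul])) hU hUi hS hSU hti (perp_inv f hX hr.out.pos hiso hS)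
    obtain ⟨-, hR, hdim⟩ := split_off f hU hL hLU
    have hd := ih _ (by omega) rfl hR (inf_inv hUi (perp_inv f hX hr.out.pos hiso hLi)) (inf_le_left.trans hUm)
    rw [← hN, ← hdim, hLd, hSd, ← hcb]
    exact dvd_add dvd_rfl hd

/-- The kernel of a self-dual factor is non-degenerate. -/
theorem ker_nd (hq : Fintype.card F = q ^ 2) (hσ : ∀ a, f.σ a = a ^ q) (hrp : r ≠ p)
    (hodd : Odd (orderOf (-(q : ZMod r)))) (hX : X ^ r = 1) (hiso : ∀ u v, f.B (X u) (X v) = f.B u v)
    {g : F[X]} (hg : Irreducible g) (hgd : g ∣ cyclotomic r F) : Nd f (LinearMap.ker (aeval X g)) := by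
  have hr0 : (r : F) ≠ 0 := PrimeElemFlags.cast_ne_zero hrp
  obtain ⟨Q, hQ⟩ := (dvd_conj_iff f hq hσ hrp hg hgd).2 hodd
  have hdvd : g ∣ Polynomial.X ^ r - C (1 : F) := hgd.trans
    ⟨Polynomial.X - 1, by rw [map_one, cyclotomic_prime_mul_X_sub_one]⟩
  obtain ⟨G, hG⟩ := hdvd
  have hsq : Squarefree (Polynomial.X ^ r - C (1 : F)) := PrimeElemFlags.sq hr0 one_ne_zero
  obtain ⟨a, b, hab⟩ : IsCoprime g G := hg.coprime_iff_not_dvd.2 fun ⟨G', hG'⟩ =>
    hg.not_isUnit (hsq g ⟨G', by rw [hG, hG', mul_assoc]⟩)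
  have hzero : aeval X (g * G) = 0 := by rw [← hG]; exact PrimeElemFlags.aeval_eq_zero (by rw [hX, one_smul])
  intro v hv hv0
  by_contra hne
  push Not at hne
  refine hv0 (f.nondeg.1 v fun x => ?_)
  have hx' : aeval X (a * g) x + aeval X (b * G) x = x := by
    rw [← LinearMap.add_apply, ← map_add, hab, map_one]; rfl
  have h1 : f.B v (aeval X (b * G) x) = 0 := hne _ (by
    rw [LinearMap.mem_ker, ← End.mul_apply, ← map_mul, show g * (b * G) = b * (g * G) by ring, map_mul, hzero, mul_zero]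
    rfl)
  rw [← hx', map_add, h1, add_zero]
  refine f.eq_zero_comm ?_
  have h2 : aeval X ((g.map f.σ).comp (Polynomial.X ^ (r - 1))) v = 0 := by
    rw [hQ, mul_comm, map_mul, End.mul_apply, LinearMap.mem_ker.1 hv, map_zero]
  rw [mul_comm, map_mul, End.mul_apply, ← adjoint f hX hiso, h2, map_zero]

end Cfsg.Agent.Lib.MaxSub.HermMoved
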