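import Cfsg.Agent.Lib.MaxSub.HermTI
import Cfsg.Agent.Lib.Classical.HermCard
import Mathlib

/-!
Non-degenerate invariant subspaces of unitary maps.
-/

set_option autoImplicit false
set_option maxHeartbeats 1000000
set_option linter.unusedSectionVars false

namespace Cfsg.Agent.Lib.MaxSub.HermNd

open Module Polynomial Cfsg.Agent.Lib.MaxSub Cfsg.Agent.Lib.MaxSub.HermDecomp
open Cfsg.Agent.Lib.MaxSub.IsoDecomp (moved inf_inv sup_inv moved_inv)
open Cfsg.Agent.Lib.MaxSub.HermElem (Isom isom_B σ_pow)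
open scoped _root_.Classical

section General

variable {ι : Type} [Fintype ι] [DecidableEq ι] {F : Type*} [Field F] (f : HermF ι F) {X : End F (ι → F)}

theorem nd_sup {A B : Submodule F (ι → F)} (hA : Nd f A) (hB : Nd f B) (h : B ≤ f.perp A) :
    Nd f (A ⊔ B) ∧ finrank F (A ⊔ B : Submodule F (ι → F)) = finrank F A + finrank F B := by
  have hinf : A ⊓ B = ⊥ := by
    rw [Submodule.eq_bot_iff]
    rintro v ⟨hv, hv'⟩
    by_contra h0
    obtain ⟨x, hx, hvx⟩ := hA v hv h0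
    exact hvx (f.eq_zero_comm (h hv' x hx))
  refine ⟨fun v hv hv0 => ?_, ?_⟩
  · obtain ⟨a, ha, b, hb, rfl⟩ := Submodule.mem_sup.1 hv
    by_cases ha0 : a = 0
    · subst ha0
      rw [zero_add] at hv0 ⊢
      obtain ⟨x, hx, hbx⟩ := hB b hb hv0
      exact ⟨x, Submodule.mem_sup_right hx, hbx⟩
    · obtain ⟨x, hx, hax⟩ := hA a ha ha0
      refine ⟨x, Submodule.mem_sup_left hx, ?_⟩
      rwa [map_add, LinearMap.add_apply, f.eq_zero_comm (h hb x hx), add_zero]
  · have e := Submodule.finrank_sup_add_finrank_inf_eq A B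
    rwa [hinf, finrank_bot, add_zero] at e

theorem exists_aniso {U : Submodule F (ι → F)} (hU : Nd f U) (hne : U ≠ ⊥) : ∃ v ∈ U, f.B v v ≠ 0 := by
  by_contra h
  push Not at h
  obtain ⟨u, hu, hu0⟩ := (Submodule.ne_bot_iff U).1 hne
  obtain ⟨v, hv, huv⟩ := hU u hu hu0
  obtain ⟨a, ha⟩ := f.exists_moved
  have key : ∀ x ∈ U, ∀ y ∈ U, f.B x y + f.B y x = 0 := fun x hx y hy => by
    have e := h (x + y) (U.add_mem hx hy)
    simp only [map_add, LinearMap.add_apply, h x hx, h y hy, zero_add, add_zero] at e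
    linear_combination e
  have h1 := key (a • u) (U.smul_mem a hu) v hv
  rw [smul_left, map_smul, smul_eq_mul] at h1
  have h2 : (f.σ a - a) * f.B u v = 0 := by linear_combination h1 - a * key u hu v hv
  exact huv ((mul_eq_zero.1 h2).resolve_left (sub_ne_zero.2 ha))

/-- Pieces of all dimensions from one kind of atom. -/
theorem exists_sub_of_atom {n : ℕ} (hn : 0 < n) (hX : X ^ n = 1) (hiso : ∀ u v, f.B (X u) (X v) = f.B u v)
    {c : ℕ} (hc : 0 < c) {M : Submodule F (ι → F)}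
    (H : ∀ U ≤ M, Nd f U → U.map X ≤ U → U ≠ ⊥ → ∃ L ≤ U, Nd f L ∧ L.map X ≤ L ∧ finrank F L = c) :
    ∀ (j : ℕ) {U : Submodule F (ι → F)}, U ≤ M → Nd f U → U.map X ≤ U → c * j ≤ finrank F U →
      ∃ L ≤ U, Nd f L ∧ L.map X ≤ L ∧ finrank F L = c * j := by
  intro j
  induction j with
  | zero => exact fun _ _ _ _ => ⟨⊥, bot_le, nd_bot f, by simp, by simp⟩
  | succ j ih =>
    intro U hUM hU hUi hle
    have hne : U ≠ ⊥ := fun e => by
      rw [e, finrank_bot] at hle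
      have : 0 < c * (j + 1) := Nat.mul_pos hc j.succ_pos
      omega
    obtain ⟨A, hAU, hA, hAi, hAd⟩ := H U hUM hU hUi hne
    obtain ⟨-, hR, hdim⟩ := split_off f hU hA hAU
    obtain ⟨L, hLR, hL, hLi, hLd⟩ := ih (inf_le_left.trans hUM) hR (inf_inv hUi (perp_inv f hX hn hiso hAi))
      (by rw [Nat.mul_succ] at hle; omega)
    obtain ⟨h1, h2⟩ := nd_sup f hA hL (hLR.trans inf_le_right)
    exact ⟨A ⊔ L, sup_le hAU (hLR.trans inf_le_left), h1, sup_inv hAi hLi, by rw [h2, hAd, hLd, Nat.mul_succ]; ring⟩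

/-- Non-degenerate subspaces of a space of eigenvectors. -/
theorem exists_sub_eigen {n : ℕ} (hn : 0 < n) (hX : X ^ n = 1) (hiso : ∀ u v, f.B (X u) (X v) = f.B u v)
    {a : F} {U : Submodule F (ι → F)} (hU : Nd f U) (hUa : ∀ v ∈ U, X v = a • v) {e : ℕ} (he : e ≤ finrank F U) :
    ∃ W ≤ U, Nd f W ∧ W.map X ≤ W ∧ finrank F W = e := by
  have hinv : ∀ S ≤ U, S.map X ≤ S := fun S hS => by
    rintro _ ⟨v, hv, rfl⟩
    rw [hUa v (hS hv)]
    exact S.smul_mem _ hv
  obtain ⟨W, h1, h2, h3, h4⟩ := exists_sub_of_atom f hn hX hiso (c := 1) one_pos (M := U) (fun U' hU' hU'n _ hne => by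
    obtain ⟨v, hv, hvv⟩ := exists_aniso f hU'n hne
    have hsle : (F ∙ v) ≤ U' := (Submodule.span_singleton_le_iff_mem _ _).2 hv
    refine ⟨F ∙ v, hsle, fun x hx hx0 => ⟨v, Submodule.mem_span_singleton_self v, ?_⟩, hinv _ (hsle.trans hU'),
      finrank_span_singleton fun e => hvv (by rw [e, map_zero])⟩
    obtain ⟨c, rfl⟩ := Submodule.mem_span_singleton.1 hx
    rw [smul_left]
    exact mul_ne_zero (fun e => hx0 (by rw [f.σ_eq_zero.1 e, zero_smul])) hvv) e le_rfl hU (hinv U le_rfl)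
    (by rw [one_mul]; exact he)
  exact ⟨W, h1, h2, h3, by rw [h4, one_mul]⟩

/-- An invariant subspace generated by an anisotropic vector, when it has no proper invariant part. -/
theorem nd_irreducible {n : ℕ} (hn : 0 < n) (hX : X ^ n = 1) (hiso : ∀ u v, f.B (X u) (X v) = f.B u v)
    {d : ℕ} {S : Submodule F (ι → F)} (hSi : S.map X ≤ S) (hSd : finrank F S = d)
    (hmin : ∀ T ≤ S, T.map X ≤ T → d ∣ finrank F T) {v : ι → F} (hv : v ∈ S) (hvv : f.B v v ≠ 0) : Nd f S := by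
  obtain ⟨t, ht⟩ := hmin (S ⊓ f.perp S) inf_le_left (inf_inv hSi (perp_inv f hX hn hiso hSi))
  rcases Nat.eq_zero_or_pos t with rfl | ht0
  · rw [mul_zero, Submodule.finrank_eq_zero] at ht
    intro w hw hw0
    by_contra hne
    push Not at hne
    exact hw0 ((Submodule.mem_bot F).1 (ht ▸ ⟨hw, fun x hx => f.eq_zero_comm (hne x hx)⟩))
  · exfalso
    have e : S ⊓ f.perp S = S := Submodule.eq_of_le_of_finrank_le inf_le_left
      (by rw [ht, hSd]; exact Nat.le_mul_of_pos_right _ ht0)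
    exact hvv ((e.symm ▸ hv : v ∈ S ⊓ f.perp S).2 v hv)

/-- A cyclic subspace through a given vector. -/
theorem exists_cyclic_mem {V : Type*} [AddCommGroup V] [Module F V] (y : End F V) {g : F[X]} (hg : Irreducible g) (hm : g.Monic) {U : Submodule F V}
    (hU : U.map y ≤ U) {v : V} (hv : v ∈ U) (hv0 : v ≠ 0) (hgv : aeval y g v = 0) :
    ∃ S : Submodule F V, S.map y ≤ S ∧ S ≤ U ∧ v ∈ S ∧ finrank F S = g.natDegree := by
  let ψ : F[X] →ₗ[F] V := (LinearMap.applyₗ v).comp (aeval y).toLinearMap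
  have hψ : ∀ h, ψ h = aeval y h v := fun h => rfl
  let φ := ψ.domRestrict (degreeLT F g.natDegree)
  have hinj : Function.Injective φ := by
    refine (injective_iff_map_eq_zero φ).2 fun h hh => Subtype.ext ?_
    by_contra h0
    have hdeg : (h : F[X]).natDegree < g.natDegree := by
      have := mem_degreeLT.1 h.2
      exact (natDegree_lt_iff_degree_lt h0).2 this
    have hco : IsCoprime g (h : F[X]) := hg.coprime_iff_not_dvd.2 fun hd =>
      absurd (natDegree_le_of_dvd hd h0) (not_le.2 hdeg)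
    obtain ⟨a, b, hab⟩ := hco
    have hh' : aeval y (h : F[X]) v = 0 := hh
    have := congrArg (fun P => aeval y P v) hab
    simp only [map_add, map_mul, LinearMap.add_apply, End.mul_apply, hgv, hh', map_zero, add_zero, map_one,
      End.one_apply] at this
    exact hv0 this.symm
  refine ⟨LinearMap.range φ, ?_, ?_, ⟨⟨1, mem_degreeLT.2 (by rw [degree_one]; exact_mod_cast hg.natDegree_pos)⟩, by show aeval y (1 : F[X]) v = v; rw [map_one]; rfl⟩, ?_⟩
  · rintro _ ⟨_, ⟨h, rfl⟩, rfl⟩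
    refine ⟨⟨(X * (h : F[X])) %ₘ g, mem_degreeLT.2 ?_⟩, ?_⟩
    · rw [← degree_eq_natDegree hm.ne_zero]
      exact degree_modByMonic_lt _ hm
    · show aeval y ((X * (h : F[X])) %ₘ g) v = y (aeval y (h : F[X]) v)
      have e := congrArg (fun P => aeval y P v) (modByMonic_add_div (X * (h : F[X])) (q := g))
      rw [map_add, mul_comm g, map_mul (aeval y) ((X * (h : F[X])) /ₘ g) g, LinearMap.add_apply, End.mul_apply, hgv,
        map_zero, add_zero, map_mul, aeval_X, End.mul_apply] at e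
      exact e
  · rintro _ ⟨h, rfl⟩
    exact PrimeElem.aeval_mem y hU _ hv
  · rw [LinearMap.finrank_range_of_inj hinj, (degreeLTEquiv F g.natDegree).finrank_eq, Module.finrank_fin_fun]

variable [Fintype F] {q : ℕ} {p : ℕ} [Fact p.Prime] [CharP F p] {r : ℕ} [hr : Fact r.Prime]

/-- A non-degenerate moved space has a piece of dimension the order of `-q`. -/
theorem exists_atom (hq : Fintype.card F = q ^ 2) (hσ : ∀ a, f.σ a = a ^ q) (hrp : r ≠ p) (hr2 : r ≠ 2) {b c : ℕ}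
    (hb : orderOf ((Fintype.card F : ℕ) : ZMod r) = b) (hc : orderOf (-(q : ZMod r)) = c)
    (hX : X ^ r = 1) (hiso : ∀ u v, f.B (X u) (X v) = f.B u v) {U : Submodule F (ι → F)} (hU : Nd f U)
    (hUi : U.map X ≤ U) (hUm : U ≤ moved X r) (hne : U ≠ ⊥) :
    ∃ L ≤ U, Nd f L ∧ L.map X ≤ L ∧ finrank F L = c := by
  have hr0 : (r : F) ≠ 0 := PrimeElemFlags.cast_ne_zero hrp
  have hy : aeval X (Polynomial.X ^ r - C (1 : F)) = 0 := PrimeElemFlags.aeval_eq_zero (by rw [hX, one_smul])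
  have hsq : Squarefree (Polynomial.X ^ r - C (1 : F)) := PrimeElemFlags.sq hr0 one_ne_zero
  rcases HermMoved.order_rel hq hb hc with ⟨hodd, hcb⟩ | ⟨hev, hcb⟩
  · obtain ⟨v₀, hv₀, hv₀0⟩ := (Submodule.ne_bot_iff U).1 hne
    obtain ⟨g, hgi, hgm, hgd, w, hw, hw0, hgw⟩ := PrimeElem.exists_factor X hUi _ (cyclotomic_ne_zero r F) v₀ hv₀ hv₀0
      (hUm hv₀)
    have hK : Nd f (U ⊓ LinearMap.ker (aeval X g)) := by
      intro x hx hx0
      obtain ⟨y, hy', hxy⟩ := hU x hx.1 hx0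
      obtain ⟨Q, hQ⟩ := (HermMoved.dvd_conj_iff f (p := p) hq hσ hrp hgi hgd).2 (hc.symm ▸ hodd)
      obtain ⟨G, hG⟩ : g ∣ Polynomial.X ^ r - C (1 : F) := hgd.trans
        ⟨Polynomial.X - 1, by rw [map_one, cyclotomic_prime_mul_X_sub_one]⟩
      obtain ⟨a, b', hab⟩ : IsCoprime g G := hgi.coprime_iff_not_dvd.2 fun ⟨G', hG'⟩ =>
        hgi.not_isUnit (hsq g ⟨G', by rw [hG, hG', mul_assoc]⟩)
      have hzero : aeval X (g * G) = 0 := by rw [← hG]; exact hy
      have hy2 : aeval X (a * g) y + aeval X (b' * G) y = y := by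
        rw [← LinearMap.add_apply, ← map_add, hab, map_one]; rfl
      refine ⟨aeval X (b' * G) y, ⟨PrimeElem.aeval_mem X hUi _ hy', ?_⟩, fun h0 => hxy ?_⟩
      · rw [SetLike.mem_coe, LinearMap.mem_ker, ← End.mul_apply, ← map_mul,
          show g * (b' * G) = b' * (g * G) by ring, map_mul, hzero, mul_zero]
        rfl
      · rw [← hy2, map_add, h0, add_zero]
        refine f.eq_zero_comm ?_
        have h2 : aeval X ((g.map f.σ).comp (Polynomial.X ^ (r - 1))) x = 0 := by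
          rw [hQ, mul_comm, map_mul, End.mul_apply, LinearMap.mem_ker.1 hx.2, map_zero]
        rw [mul_comm, map_mul, End.mul_apply, ← HermMoved.adjoint f hX hiso, h2, map_zero]
    have hKne : U ⊓ LinearMap.ker (aeval X g) ≠ ⊥ := fun e => hw0 ((Submodule.mem_bot F).1 (e ▸ ⟨hw, hgw⟩))
    obtain ⟨v, hv, hvv⟩ := exists_aniso f hK hKne
    obtain ⟨S, hS, hSK, hvS, hSd⟩ := exists_cyclic_mem X hgi hgm (inf_inv hUi (PrimeElem.map_ker_le X g)) hv
      (fun e => hvv (by rw [e, map_zero])) hv.2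
    rw [(PrimeElemFlags.deg_eq rfl hrp g hgi hgd).trans hb] at hSd
    exact ⟨S, hSK.trans inf_le_left, nd_irreducible f hr.out.pos hX hiso hS hSd
      (fun T hT hTi => (LinDecomp.moved_sub hrp hb hX hTi (hT.trans (hSK.trans (inf_le_left.trans hUm)))).1) hvS hvv,
      hS, by rw [hSd, hcb]⟩
  · obtain ⟨S, hSU, hS, hti, hSd⟩ := HermMoved.exists_ti_moved f (p := p) hq hσ hrp hr2 hb hX hiso hUi hUm
      (Or.inl ⟨hc.symm ▸ hev, hne⟩)
    obtain ⟨L, -, hLU, hL, hLi, hLd⟩ := extend f hsq hy hU hUi hS hSU hti (perp_inv f hX hr.out.pos hiso hS)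
    exact ⟨L, hLU, hL, hLi, by rw [hLd, hSd, hcb]⟩

end General

end Cfsg.Agent.Lib.MaxSub.HermNd
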