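import Cfsg.Agent.Lib.MaxSub.HermElem
import Cfsg.Agent.Lib.Geometry.HermIsotropic
import Mathlib

/-!
Unitary maps of prime order modulo scalars and invariant totally isotropic subspaces.
-/

set_option autoImplicit false
set_option maxHeartbeats 1000000
set_option linter.unusedSectionVars false

namespace Cfsg.Agent.Lib.MaxSub.HermTI

open Module Polynomial Cfsg.Agent.Lib.MaxSub
open Cfsg.Agent.Lib.MaxSub.HermDecomp (Nd smul_left)
open Cfsg.Agent.Lib.MaxSub.HermElem (Isom isom_B σ_pow)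
open Cfsg.Agent.Lib.MaxSub.IsoTIElem (factors mem_factors)
open Cfsg.Agent.Lib.Classical (hermCount)
open scoped _root_.Classical

variable {F : Type*} [Field F] [Fintype F] {q n : ℕ} (hF : Fintype.card F = q ^ 2)

/-- An invariant totally isotropic subspace of dimension `m`. -/
def Good (m : ℕ) (X : End F (Fin n → F)) : Prop :=
  ∃ W : Submodule F (Fin n → F), finrank F W = m ∧ W ≤ (stdHerm n hF).perp W ∧ W.map X ≤ W

theorem top_finrank : finrank F (⊤ : Submodule F (Fin n → F)) = n := by rw [finrank_top, Module.finrank_fin_fun]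

theorem good_scalar {p : ℕ} [Fact p.Prime] [CharP F p] {m : ℕ} (hmn : 2 * m ≤ n) (a : F) :
    Good hF m (a • (1 : End F (Fin n → F))) := by
  obtain ⟨W, -, -, h1, h2⟩ := HermDecomp.exists_ti_fixed (stdHerm n hF) (p := p) (X := 1) (n := 1) one_pos (one_pow 1)
    (fun u v => rfl) (P := Polynomial.X - C (1 : F)) (irreducible_X_sub_C 1).squarefree (by simp) (a := 1)
    (HermDecomp.nd_top _) (fun v _ => (one_smul F v).symm) (e := m) (by rw [top_finrank]; exact hmn)
  refine ⟨W, h2, h1, ?_⟩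
  rintro _ ⟨w, hw, rfl⟩
  exact W.smul_mem a hw

theorem good_smul {m : ℕ} {X : End F (Fin n → F)} {a : F} (ha : a ≠ 0) (h : Good hF m (a • X)) : Good hF m X := by
  obtain ⟨W, h1, h2, h3⟩ := h
  exact ⟨W, h1, h2, by rwa [Submodule.map_smul _ _ _ ha] at h3⟩

section Count

variable {p : ℕ} [Fact p.Prime] [CharP F p] {r : ℕ} [hr : Fact r.Prime]

include hF in
theorem count_exists {m : ℕ} (hmn : 2 * m ≤ n)
    (h : r ∣ Nat.card {W : Submodule F (Fin n → F) // finrank F ↥W = m ∧ (∀ u ∈ W, ∀ v ∈ W, Cfsg.hermForm n F q u v = 0)}) :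
    ∃ j, n - 2 * m < j ∧ j ≤ n ∧ (-(q : ZMod r)) ^ j = 1 := by
  have hq2 : 2 ≤ q := Classical.two_le_q hF
  have h1 := Geometry.card_isotropic_subspaces_mul hF n m
  rw [Geometry.card_isoHerm hF n m hmn, Fin.prod_univ_eq_prod_range (fun i => (q ^ 2) ^ m - (q ^ 2) ^ i)] at h1
  have e1 : ∀ i ∈ Finset.range m, (q ^ 2) ^ m - (q ^ 2) ^ i = (q ^ 2) ^ i * ((q ^ 2) ^ (m - i) - 1) := fun i hi => by
    rw [Nat.mul_sub_one, ← pow_add, show i + (m - i) = m by have := Finset.mem_range.1 hi; omega]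
  have e2 : ∀ i ∈ Finset.range m, (q ^ 2) ^ i * hermCount F q (n - 2 * i) 0 - (q ^ 2) ^ i =
      (q ^ 2) ^ i * (hermCount F q (n - 2 * i) 0 - 1) := fun i _ => by rw [Nat.mul_sub_one]
  rw [Finset.prod_congr rfl e1, Finset.prod_congr rfl e2,
    Finset.prod_mul_distrib, Finset.prod_mul_distrib, mul_left_comm] at h1
  have h2 := Nat.eq_of_mul_eq_mul_left (Finset.prod_pos fun i _ => pow_pos (pow_pos (by omega) _) i) h1
  have h3 : r ∣ ∏ i ∈ Finset.range m, (hermCount F q (n - 2 * i) 0 - 1) := h2 ▸ dvd_mul_of_dvd_left h _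
  obtain ⟨i, hi, hd⟩ := (Prime.dvd_finsetProd_iff (Nat.prime_iff.1 hr.out) _).1 h3
  have hi' := Finset.mem_range.1 hi
  rw [Classical.hermCount_zero_eq hF, Nat.add_sub_cancel, ← ZMod.natCast_eq_zero_iff] at hd
  have hN : 1 ≤ n - 2 * i := by omega
  rcases Nat.even_or_odd (n - 2 * i) with hev | hodd
  · rw [if_pos hev, Nat.cast_mul, Nat.cast_sub (Nat.one_le_pow _ _ (by omega)), Nat.cast_add, Nat.cast_pow, Nat.cast_pow,
      Nat.cast_one] at hd
    rcases mul_eq_zero.1 hd with h' | h'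
    · exact ⟨n - 2 * i, by omega, by omega, by rw [hev.neg_pow]; exact sub_eq_zero.1 h'⟩
    · exact ⟨n - 2 * i - 1, by omega, by omega, by
        rw [(Nat.Even.sub_odd hN hev odd_one).neg_pow]; linear_combination -h'⟩
  · rw [if_neg (Nat.not_even_iff_odd.2 hodd), Nat.cast_mul, Nat.cast_sub (Nat.one_le_pow _ _ (by omega)), Nat.cast_add,
      Nat.cast_pow, Nat.cast_pow, Nat.cast_one] at hd
    rcases mul_eq_zero.1 hd with h' | h'
    · exact ⟨n - 2 * i, by omega, by omega, by rw [hodd.neg_pow]; linear_combination -h'⟩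
    · exact ⟨n - 2 * i - 1, by omega, by omega, by
        rw [(Nat.Odd.sub_odd hodd odd_one).neg_pow]; exact sub_eq_zero.1 h'⟩

include hF in
theorem ne_char {m : ℕ} (hmn : 2 * m ≤ n)
    (h : r ∣ Nat.card {W : Submodule F (Fin n → F) // finrank F ↥W = m ∧ (∀ u ∈ W, ∀ v ∈ W, Cfsg.hermForm n F q u v = 0)}) :
    r ≠ p := by
  rintro rfl
  obtain ⟨j, hj, -, hpow⟩ := count_exists hF hmn h
  obtain ⟨e, -, he⟩ := FiniteField.card F r
  have hq : r ∣ q := hr.out.dvd_of_dvd_pow (n := 2) (hF ▸ he ▸ dvd_pow_self r e.ne_zero)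
  rw [(ZMod.natCast_eq_zero_iff q r).2 hq, neg_zero, zero_pow (by omega)] at hpow
  exact zero_ne_one hpow

include hF in
theorem count_bound {c m : ℕ} (hc : orderOf (-(q : ZMod r)) = c) (hmn : 2 * m ≤ n) (h2m : 2 * m ≤ n % c)
    (h : r ∣ Nat.card {W : Submodule F (Fin n → F) // finrank F ↥W = m ∧ (∀ u ∈ W, ∀ v ∈ W, Cfsg.hermForm n F q u v = 0)}) :
    False := by
  obtain ⟨j, hj, hjn, hpow⟩ := count_exists hF hmn h
  obtain ⟨t, rfl⟩ : c ∣ j := hc ▸ orderOf_dvd_of_pow_eq_one hpow
  have hc0 : 0 < c := Nat.pos_of_ne_zero fun e => by rw [e, zero_mul] at hj; omega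
  have h1 : t ≤ n / c := (Nat.le_div_iff_mul_le hc0).2 (by rw [mul_comm]; exact hjn)
  have h2 := Nat.mul_le_mul_left c h1
  have h3 := Nat.div_add_mod n c
  omega

end Count

variable {p : ℕ} [Fact p.Prime] [CharP F p] {r : ℕ} [hr : Fact r.Prime]

/-- What an invariant totally isotropic subspace says about the element. -/
theorem necessary {X : End F (Fin n → F)} (hrp : r ≠ p) {b : ℕ} (hb : orderOf ((Fintype.card F : ℕ) : ZMod r) = b)
    (hX : X ^ r = 1) (hiso : Isom q X) {m : ℕ} (h : Good hF m X) :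
    ∃ (j : ℕ) (W : Submodule F (Fin n → F)), W.map X ≤ W ∧ W ≤ IsoDecomp.moved X r ∧ W ≤ (stdHerm n hF).perp W ∧
      finrank F W = b * j ∧ b * j ≤ m ∧ 2 * (m - b * j) ≤ finrank F (IsoDecomp.fixed X) := by
  obtain ⟨W, hWd, hWp, hW⟩ := h
  have hr0 : (r : F) ≠ 0 := PrimeElemFlags.cast_ne_zero hrp
  have htop := HermDecomp.nd_parts (stdHerm n hF) hr0 hX ((isom_B hF).1 hiso) (HermDecomp.nd_top _)
    (le_top : (⊤ : Submodule F (Fin n → F)).map X ≤ ⊤)
  rw [top_inf_eq, top_inf_eq] at htop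
  obtain ⟨⟨j, hj⟩, -⟩ := LinDecomp.moved_sub hrp hb hX (IsoDecomp.inf_inv hW (IsoDecomp.moved_inv (r := r))) inf_le_right
  have hsum := (IsoDecomp.decompose hr0 hX hW).2
  have h1 := HermDecomp.ti_half (stdHerm n hF) htop.1 (W := W ⊓ IsoDecomp.fixed X) inf_le_right
    (fun v hv u hu => hWp hv.1 u hu.1)
  exact ⟨j, _, IsoDecomp.inf_inv hW IsoDecomp.moved_inv, inf_le_right, fun v hv u hu => hWp hv.1 u hu.1, hj,
    by omega, by omega⟩

theorem good_of_data {X : End F (Fin n → F)} (hrp : r ≠ p) (hX : X ^ r = 1) (hiso : Isom q X) {D b j m : ℕ}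
    (H : ∀ U ≤ IsoDecomp.moved X r, Nd (stdHerm n hF) U → U.map X ≤ U → D ≤ finrank F U →
      ∃ S ≤ U, S.map X ≤ S ∧ S ≤ (stdHerm n hF).perp S ∧ finrank F S = b)
    (hj : 0 < j → D + 2 * b * (j - 1) ≤ finrank F (IsoDecomp.moved X r)) (hjm : b * j ≤ m)
    (hf : 2 * (m - b * j) ≤ finrank F (IsoDecomp.fixed X)) : Good hF m X := by
  have hr0 : (r : F) ≠ 0 := PrimeElemFlags.cast_ne_zero hrp
  have hB := (isom_B hF).1 hiso
  have htop := HermDecomp.nd_parts (stdHerm n hF) hr0 hX hB (HermDecomp.nd_top _) (le_top : (⊤ : Submodule F (Fin n → F)).map X ≤ ⊤)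
  rw [top_inf_eq, top_inf_eq] at htop
  have hsq : Squarefree (Polynomial.X ^ r - C (1 : F)) := PrimeElemFlags.sq hr0 one_ne_zero
  have hy : aeval X (Polynomial.X ^ r - C (1 : F)) = 0 := PrimeElemFlags.aeval_eq_zero (by rw [hX, one_smul])
  obtain ⟨A, hA1, hA2, hA3, hA4⟩ := HermDecomp.exists_ti_mul (stdHerm n hF) hr.out.pos hX hB hsq hy H j _ le_rfl htop.2
    IsoDecomp.moved_inv hj
  obtain ⟨B, hB1, hB2, hB3, hB4⟩ := HermDecomp.exists_ti_fixed (stdHerm n hF) (p := p) hr.out.pos hX hB hsq hy (a := 1)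
    htop.1 (fun v hv => by rw [one_smul]; exact IsoDecomp.mem_fixed.1 hv) hf
  refine ⟨A ⊔ B, ?_, HermDecomp.ti_sup _ hA3 hB3 fun a ha b hb => ?_, IsoDecomp.sup_inv hA2 hB2⟩
  · have h := Submodule.finrank_sup_add_finrank_inf_eq A B
    rw [le_bot_iff.1 (le_trans (le_inf (inf_le_right.trans hB1) (inf_le_left.trans hA1)) (IsoDecomp.pow_moved hr0 hX).le),
      finrank_bot, add_zero] at h
    omega
  · exact (stdHerm n hF).eq_zero_comm (HermDecomp.orth _ hr0 hB (hB1 hb) (hA1 ha))

/-- Elements of odd order in the good cases. -/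
theorem good_odd {X : End F (Fin n → F)} (hrp : r ≠ p) (hr2 : r ≠ 2) {b c : ℕ}
    (hb : orderOf ((Fintype.card F : ℕ) : ZMod r) = b) (hc : orderOf (-(q : ZMod r)) = c) (hX : X ^ r = 1)
    (hiso : Isom q X) {m : ℕ} (hmn : 2 * m ≤ n)
    (hk : 2 * (m % b) ≤ n % c) (ht : Even c ∨ (r - 1) / b + 2 * (m / b) ≤ n / b) : Good hF m X := by
  have hr0 : (r : F) ≠ 0 := PrimeElemFlags.cast_ne_zero hrp
  have hb0 : 0 < b := hb ▸ PrimeElemFlags.order_pos rfl hrp
  have hB := (isom_B hF).1 hiso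
  have hsum := (IsoDecomp.decompose hr0 hX (U := (⊤ : Submodule F (Fin n → F))) le_top).2
  rw [top_inf_eq, top_inf_eq, top_finrank] at hsum
  obtain ⟨⟨N, hN⟩, -⟩ := LinDecomp.moved_sub hrp hb hX (IsoDecomp.moved_inv (r := r)) le_rfl
  have hm := Nat.div_add_mod m b
  rcases HermMoved.order_rel hF hb hc with ⟨hodd, hcb⟩ | ⟨hev, hcb⟩
  · have ht' := ht.resolve_left (Nat.not_even_iff_odd.2 hodd)
    rw [hcb] at hk
    have hn := Nat.div_add_mod n b
    obtain ⟨t, htdef⟩ : ∃ t, t = (r - 1) / b := ⟨_, rfl⟩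
    rw [← htdef] at ht'
    have hti : b * t = r - 1 := by
      rw [htdef]
      refine Nat.mul_div_cancel' ?_
      have h0 := IsoTIElem.card_factors (F := F) hrp hb
      exact ⟨_, by rw [← h0, mul_comm]⟩
    have hN' : N ≤ n / b := (Nat.le_div_iff_mul_le hb0).2 (by rw [mul_comm]; omega)
    obtain ⟨a, ha⟩ : ∃ a, n / b = N + a := ⟨n / b - N, by omega⟩
    obtain ⟨j, hj⟩ : ∃ j, j = min (m / b) ((N + 1 - t) / 2) := ⟨_, rfl⟩
    obtain ⟨e, he⟩ : ∃ e, m / b = j + e := ⟨m / b - j, by omega⟩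
    refine good_of_data hF hrp hX hiso (D := r) (b := b) (j := j) (fun U hU _ hUi hd => HermMoved.exists_ti_moved _ hF
      (σ_pow hF) hrp hr2 hb hX hB hUi hU (Or.inr (by have := hr.out.pos; omega))) (fun hj0 => ?_) ?_ ?_
    · rw [hN]
      have e1 : b * (t + 2 * j - 1) ≤ b * N := Nat.mul_le_mul_left b (by omega)
      have e2 : b * (t + 2 * j - 1) = b * t + 2 * b * (j - 1) + b := by
        rw [show t + 2 * j - 1 = t + 2 * (j - 1) + 1 by omega]; ring
      have := hr.out.pos
      omega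
    · rw [← hm, he, Nat.mul_add]; omega
    · rw [he, Nat.mul_add] at hm
      rw [ha, Nat.mul_add] at hn
      rw [hN] at hsum
      rcases Nat.eq_zero_or_pos e with rfl | he0
      · omega
      · have e1 : b * (2 * e) ≤ b * a := Nat.mul_le_mul_left b (by omega)
        rw [mul_left_comm] at e1
        omega
  · subst hcb
    have hn := Nat.div_add_mod n (2 * b)
    have htop := HermDecomp.nd_parts (stdHerm n hF) hr0 hX hB (HermDecomp.nd_top _) (le_top : (⊤ : Submodule F (Fin n → F)).map X ≤ ⊤)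
    rw [top_inf_eq, top_inf_eq] at htop
    obtain ⟨s, hs⟩ := HermMoved.dvd_nd (stdHerm n hF) hF (σ_pow hF) hrp hr2 hb hc hX hB _ rfl htop.2 IsoDecomp.moved_inv le_rfl
    have hs' : s ≤ n / (2 * b) := (Nat.le_div_iff_mul_le (by omega)).2 (by rw [mul_comm]; omega)
    obtain ⟨a, ha⟩ : ∃ a, n / (2 * b) = s + a := ⟨n / (2 * b) - s, by omega⟩
    obtain ⟨j, hj⟩ : ∃ j, j = min (m / b) s := ⟨_, rfl⟩
    obtain ⟨e, he⟩ : ∃ e, m / b = j + e := ⟨m / b - j, by omega⟩
    refine good_of_data hF hrp hX hiso (D := 1) (b := b) (j := j) (fun U hU _ hUi hd => HermMoved.exists_ti_moved _ hF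
      (σ_pow hF) hrp hr2 hb hX hB hUi hU (Or.inl ⟨hc.symm ▸ hev, fun e => by rw [e, finrank_bot] at hd; omega⟩))
      (fun hj0 => ?_) ?_ ?_
    · rw [hs]
      have e1 : 2 * b * j ≤ 2 * b * s := Nat.mul_le_mul_left _ (by omega)
      have e2 : 2 * b * j = 2 * b * (j - 1) + 2 * b := by conv_lhs => rw [show j = j - 1 + 1 by omega, Nat.mul_succ]
      omega
    · rw [← hm, he, Nat.mul_add]; omega
    · rw [he, Nat.mul_add] at hm
      rw [ha, Nat.mul_add] at hn
      rw [hs] at hsum
      rcases Nat.eq_zero_or_pos e with rfl | he0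
      · omega
      · obtain rfl : j = s := by omega
        rw [mul_assoc] at hsum
        omega

/-- The moved part of an invariant totally isotropic subspace is bounded by the halved multiplicities. -/
theorem moved_ti_bound {Y : End F (Fin n → F)} (hrp : r ≠ p) {b : ℕ}
    (hb : orderOf ((Fintype.card F : ℕ) : ZMod r) = b) (hodd : Odd (orderOf (-(q : ZMod r))))
    (hY : Y ^ r = 1) (hiso : Isom q Y) {l : List F[X]}
    (hl : ∀ g ∈ factors r F, finrank F (LinearMap.ker (aeval Y g)) = b * l.count g)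
    {W : Submodule F (Fin n → F)} (hW : W.map Y ≤ W) (hWm : W ≤ IsoDecomp.moved Y r)
    (hWti : W ≤ (stdHerm n hF).perp W) : finrank F W ≤ b * ∑ g ∈ factors r F, l.count g / 2 := by
  have hb0 : 0 < b := hb ▸ PrimeElemFlags.order_pos rfl hrp
  rw [Finset.mul_sum]
  refine (IsoTI.le_sum_ker hrp hY (factors r F) (fun g h1 h2 h3 => mem_factors.2 ⟨h1, h2, h3⟩) hW hWm).trans
    (Finset.sum_le_sum fun g hg => ?_)
  obtain ⟨hgi, -, hgd⟩ := mem_factors.1 hg
  have hK := HermMoved.ker_nd (stdHerm n hF) hF (σ_pow hF) hrp hodd hY ((isom_B hF).1 hiso) hgi hgd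
  have h2 := HermDecomp.ti_half (stdHerm n hF) hK (W := W ⊓ LinearMap.ker (aeval Y g)) inf_le_right
    (fun v hv u hu => hWti hv.1 u hu.1)
  obtain ⟨⟨t, ht⟩, -⟩ := LinDecomp.moved_sub hrp hb hY (IsoDecomp.inf_inv hW (PrimeElem.map_ker_le Y g))
    (inf_le_left.trans hWm)
  rw [ht, hl g hg] at h2
  rw [ht]
  refine Nat.mul_le_mul_left _ ((Nat.le_div_iff_mul_le two_pos).2 (Nat.le_of_mul_le_mul_left ?_ hb0))
  exact le_of_eq_of_le (by ring) h2

theorem count_half_le (𝒢 : Finset F[X]) {g₁ : F[X]} (hg₁ : g₁ ∈ 𝒢) (a : ℕ) {E : List F[X]} (hE : E.Nodup) :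
    ∑ g ∈ 𝒢, (List.replicate (2 * a) g₁ ++ E).count g / 2 ≤ a := by
  refine (Finset.sum_le_sum fun g _ => ?_).trans (le_of_eq ((Finset.sum_ite_eq' 𝒢 g₁ fun _ => a).trans (if_pos hg₁)))
  have h1 := List.nodup_iff_count_le_one.1 hE g
  rw [List.count_append, List.count_replicate]
  by_cases hgg : g = g₁
  · subst hgg; simp; omega
  · rw [if_neg hgg]
    have : (g₁ == g) = false := beq_eq_false_iff_ne.2 (Ne.symm hgg)
    simp [this]
    omega

/-- The conditions on dimensions are necessary. -/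
theorem cond_of_all (hrp : r ≠ p) (hr2 : r ≠ 2) {b c m : ℕ}
    (hb : orderOf ((Fintype.card F : ℕ) : ZMod r) = b) (hc : orderOf (-(q : ZMod r)) = c) (hc1 : c ≠ 1) (hmn : 2 * m ≤ n)
    (hΩ : r ∣ Nat.card {W : Submodule F (Fin n → F) // finrank F ↥W = m ∧ (∀ u ∈ W, ∀ v ∈ W, Cfsg.hermForm n F q u v = 0)})
    (h : ∀ X : End F (Fin n → F), Isom q X → LinearMap.det X = 1 → X ^ r = 1 → Good hF m X) :
    b ≤ m ∧ 2 * (m % b) ≤ n % c ∧ (Even c ∨ (r - 1) / b + 2 * (m / b) ≤ n / b) := by
  have hr0 : (r : F) ≠ 0 := PrimeElemFlags.cast_ne_zero hrp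
  have hb0 : 0 < b := hb ▸ PrimeElemFlags.order_pos rfl hrp
  have hrel := HermMoved.order_rel hF hb hc
  have hc0 : 0 < c ∧ c ≤ 2 * b := by rcases hrel with ⟨-, e⟩ | ⟨-, e⟩ <;> omega
  have hm := Nat.div_add_mod m b
  have hk := Nat.mod_lt n hc0.1
  have hmax := Nat.div_add_mod n c
  obtain ⟨y, hy, hyr, hy1⟩ := HermElem.exists_copies hF hrp hr2 hb hc (n / c)
  obtain ⟨x, hx, hxr, hxf, -, -⟩ := HermElem.exists_pad hrp (Nat.mul_div_le n c) hy hyr hy1
  obtain ⟨j, W, -, -, -, -, hjm, hjf⟩ := necessary hF hrp hb hxr hx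
    (h x hx (HermElem.det_one hF (hc.symm ▸ hc1) hx hxr) hxr)
  have hfix : finrank F (IsoDecomp.fixed x) = n % c := by omega
  rw [hfix] at hjf
  have hbm : b ≤ m := by
    by_contra hlt
    have hj0 : j = 0 := by
      rcases Nat.eq_zero_or_pos j with h0 | h0
      · exact h0
      · have := Nat.le_mul_of_pos_right b h0; omega
    subst hj0
    exact count_bound hF hc hmn (by omega) hΩ
  have hjle : j ≤ m / b := (Nat.le_div_iff_mul_le hb0).2 (by rw [mul_comm]; omega)
  refine ⟨hbm, ?_, ?_⟩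
  · obtain ⟨e, he⟩ : ∃ e, m / b = j + e := ⟨m / b - j, by omega⟩
    rw [he, Nat.mul_add] at hm
    rcases Nat.eq_zero_or_pos e with rfl | he0
    · omega
    · have := Nat.le_mul_of_pos_right b he0
      omega
  rcases hrel with ⟨hodd, hcb⟩ | ⟨hev, -⟩
  swap
  · exact Or.inl hev
  right
  subst hcb
  set 𝒢 := factors r F
  have ht : (r - 1) / c = 𝒢.card := by rw [← IsoTIElem.card_factors (F := F) hrp hb, Nat.mul_div_cancel _ hb0]
  rw [ht]
  have hmod : m % c < c := Nat.mod_lt _ hb0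
  by_contra hcon
  obtain ⟨l, B, hl, hlen, hBsum, hB, hflen⟩ : ∃ (l : List F[X]) (B : ℕ), (∀ g ∈ l, g ∈ 𝒢) ∧ c * l.length ≤ n ∧
      (∑ g ∈ 𝒢, l.count g / 2 ≤ B) ∧ B < m / c ∧ n < c * l.length + 2 * c := by
    have hm1 : 1 ≤ m / c := (Nat.le_div_iff_mul_le hb0).2 (by omega)
    by_cases hsmall : n / c ≤ 𝒢.card
    · refine ⟨𝒢.toList.take (n / c), 0, fun g hg => Finset.mem_toList.1 (List.mem_of_mem_take hg), ?_, ?_, by omega, ?_⟩
      · rw [List.length_take, Finset.length_toList, min_eq_left hsmall]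
        omega
      · refine le_of_eq (Finset.sum_eq_zero fun g _ => ?_)
        have h1 : (𝒢.toList.take (n / c)).count g ≤ 1 :=
          ((List.take_sublist _ _).count_le g).trans (List.nodup_iff_count_le_one.1 (Finset.nodup_toList _) g)
        omega
      · rw [List.length_take, Finset.length_toList, min_eq_left hsmall]; omega
    · obtain ⟨g₁, hg₁⟩ : 𝒢.Nonempty := by
        rw [← Finset.card_pos]
        rcases Nat.eq_zero_or_pos 𝒢.card with h0 | h0
        · have h1 := IsoTIElem.card_factors (F := F) hrp hb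
          rw [h0] at h1
          have := hr.out.two_le
          omega
        · exact h0
      obtain ⟨a, ha⟩ : ∃ a, a = (n / c - 𝒢.card) / 2 := ⟨_, rfl⟩
      have hNlen : (List.replicate (2 * a) g₁ ++ 𝒢.toList).length = 2 * a + 𝒢.card := by
        rw [List.length_append, List.length_replicate, Finset.length_toList]
      refine ⟨List.replicate (2 * a) g₁ ++ 𝒢.toList, a, fun g hg => ?_, ?_, count_half_le 𝒢 hg₁ a (Finset.nodup_toList _),
        by omega, ?_⟩
      · rcases List.mem_append.1 hg with h1 | h1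
        · rw [(List.mem_replicate.1 h1).2]; exact hg₁
        · exact Finset.mem_toList.1 h1
      · rw [hNlen]
        exact (Nat.mul_le_mul_left _ (by omega)).trans (Nat.mul_div_le n c)
      · rw [hNlen]
        have e1 : c * (n / c) ≤ c * (2 * a + 𝒢.card + 1) := Nat.mul_le_mul_left _ (by omega)
        rw [Nat.mul_succ] at e1
        omega
  obtain ⟨w, hw, hwr, hw1, -, hwg⟩ := HermElem.exists_multi hF hrp hr2 hb (hc.symm ▸ hodd) l hl
  obtain ⟨Y, hY, hYr, hYf, -, hYg⟩ := HermElem.exists_pad hrp hlen hw hwr hw1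
  obtain ⟨j, W, hW, hWm, hWti, hWd, hjm, hjf⟩ := necessary hF hrp hb hYr hY
    (h Y hY (HermElem.det_one hF (hc.symm ▸ hc1) hY hYr) hYr)
  have hjB : j ≤ B := by
    refine le_trans (Nat.le_of_mul_le_mul_left ?_ hb0) hBsum
    rw [← hWd]
    exact moved_ti_bound hF hrp hb (hc.symm ▸ hodd) hYr hY (fun g hg => (hYg g hg).trans (hwg g hg)) hW hWm hWti
  obtain ⟨a, ha⟩ : ∃ a, m / c = j + a + 1 := ⟨m / c - j - 1, by omega⟩
  rw [ha, Nat.mul_succ, Nat.mul_add] at hm
  omega

omit [Fact p.Prime] [CharP F p] in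
theorem r_dvd_sq_sub (hc : orderOf (-(q : ZMod r)) = 1) : r ∣ q + 1 := by
  rw [orderOf_eq_one_iff, neg_eq_iff_add_eq_zero, ← Nat.cast_one, ← Nat.cast_add, ZMod.natCast_eq_zero_iff] at hc
  exact hc

omit [Fact p.Prime] [CharP F p] in
include hF in
theorem card_units : Nat.card Fˣ = (q + 1) * (q - 1) := by
  rw [Nat.card_units, Nat.card_eq_fintype_card, hF, ← Nat.sq_sub_sq, one_pow]

/-- With `r ∣ q + 1` the diagonal elements bound the dimension. -/
theorem cond_of_all_one (hrp : r ≠ p) (hr2 : r ≠ 2) (hc : orderOf (-(q : ZMod r)) = 1) {m : ℕ}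
    (hm : 1 ≤ m) (hmn : 2 * m ≤ n)
    (h : ∀ X : End F (Fin n → F), Isom q X → LinearMap.det X = 1 → X ^ r = 1 → Good hF m X) :
    r - 1 + 2 * m ≤ n := by
  have hb : orderOf ((Fintype.card F : ℕ) : ZMod r) = 1 := by
    rw [HermMoved.card_cast hF, orderOf_eq_one_iff.1 hc, one_pow, orderOf_one]
  have hodd : Odd (orderOf (-(q : ZMod r))) := hc.symm ▸ odd_one
  have hrq := r_dvd_sq_sub hc
  obtain ⟨ζu, hζu⟩ := exists_prime_orderOf_dvd_card' r (show r ∣ Nat.card Fˣ by
    rw [card_units hF]; exact hrq.trans (dvd_mul_right _ _))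
  set ζ : F := (ζu : F) with hζdef
  have hζ : IsPrimitiveRoot ζ r := by
    rw [IsPrimitiveRoot.coe_units_iff, ← hζu]; exact IsPrimitiveRoot.orderOf ζu
  have hζq : ζ ^ (q + 1) = 1 := by
    obtain ⟨t, ht⟩ := hrq
    rw [ht, pow_mul, hζ.pow_eq_one, one_pow]
  have hφ : ∀ e, 0 < e → e < r → (Polynomial.X - C (ζ ^ e)) ∈ factors r F := fun e he her => by
    refine mem_factors.2 ⟨irreducible_X_sub_C _, monic_X_sub_C _, ?_⟩
    haveI : NeZero (r : F) := ⟨PrimeElemFlags.cast_ne_zero hrp⟩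
    rw [dvd_iff_isRoot, isRoot_cyclotomic_iff]
    exact hζ.pow_of_coprime e (Nat.Coprime.symm ((hr.out.coprime_iff_not_dvd).2 (Nat.not_dvd_of_pos_of_lt he her)))
  set φ : ℕ → F[X] := fun e => Polynomial.X - C (ζ ^ e) with hφdef
  by_contra hcon
  obtain ⟨t, a, E, ht0, htr, hE, hEnd, hlen, hoddf, hsum⟩ : ∃ (t a : ℕ) (E : List ℕ), 0 < t ∧ t < r ∧
      (∀ e ∈ E, 0 < e ∧ e < r) ∧ E.Nodup ∧ 2 * a + E.length ≤ n ∧
      a + (n - (2 * a + E.length)) / 2 < m ∧
      (r ∣ n → r ∣ 2 * a * t + E.sum) := by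
    obtain ⟨R, hR⟩ : ∃ R, R = n - 2 * m := ⟨_, rfl⟩
    have hpairs : ∀ k, 2 * k < r → (List.range' 1 k ++ List.range' (r - k) k).Nodup ∧
        (List.range' 1 k ++ List.range' (r - k) k).sum = k * r ∧
        (∀ e ∈ List.range' 1 k ++ List.range' (r - k) k, 0 < e ∧ e < r ∧ (e ≤ k ∨ r - k ≤ e)) := fun k hk => by
      refine ⟨?_, ?_, fun e he => ?_⟩
      · rw [List.nodup_append]
        refine ⟨List.nodup_range', List.nodup_range', fun x hx y hy => ?_⟩
        rw [List.mem_range'_1] at hx hy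
        omega
      · clear * - hk
        induction k with
        | zero => simp
        | succ k ih =>
          have e1 : List.range' 1 (k + 1) = List.range' 1 k ++ [k + 1] := by
            rw [List.range'_1_concat, add_comm 1 k]
          have e2 : List.range' (r - (k + 1)) (k + 1) = (r - (k + 1)) :: List.range' (r - k) k := by
            rw [List.range'_succ, show r - (k + 1) + 1 = r - k by omega]
          have h3 := ih (by omega)
          rw [List.sum_append] at h3
          rw [e1, e2, List.sum_append, List.sum_append, List.sum_cons, List.sum_cons, List.sum_nil, Nat.succ_mul]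
          omega
      · rcases List.mem_append.1 he with he | he <;> rw [List.mem_range'_1] at he <;> omega
    by_cases hrn : r ∣ n
    · rcases Nat.even_or_odd R with ⟨k, hk⟩ | ⟨k, hk⟩
      · obtain ⟨hP1, hP2, hP3⟩ := hpairs k (by omega)
        have hr5 := hr.out.two_le
        obtain ⟨h, hh⟩ := hr.out.odd_of_ne_two hr2
        have hn2 : 2 * r ≤ n := by
          obtain ⟨z, hz⟩ := hrn
          have hz2 : 2 ≤ z := by
            by_contra hz'
            rcases Nat.lt_or_ge z 1 with h0 | h0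
            · rw [show z = 0 by omega, mul_zero] at hz; omega
            · rw [show z = 1 by omega, mul_one] at hz; omega
          rw [hz, mul_comm 2 r]; exact Nat.mul_le_mul_left r hz2
        refine ⟨k + 1, h, (k + 1) :: (List.range' 1 k ++ List.range' (r - k) k), by omega, by omega, fun e he => ?_,
          List.nodup_cons.2 ⟨fun he => ?_, hP1⟩, ?_, ?_, fun _ => ?_⟩
        · rcases List.mem_cons.1 he with rfl | he
          · omega
          · exact ⟨(hP3 e he).1, (hP3 e he).2.1⟩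
        · have := (hP3 _ he).2.2; omega
        · simp only [List.length_cons, List.length_append, List.length_range']; omega
        · simp only [List.length_cons, List.length_append, List.length_range']; omega
        · rw [List.sum_cons, hP2]
          refine ⟨k + 1 + k, ?_⟩
          rw [hh]; ring
      · obtain ⟨hP1, hP2, hP3⟩ := hpairs (k + 1) (by omega)
        refine ⟨1, 0, List.range' 1 (k + 1) ++ List.range' (r - (k + 1)) (k + 1), one_pos, hr.out.one_lt,
          fun e he => ⟨(hP3 e he).1, (hP3 e he).2.1⟩, hP1, ?_, ?_, fun _ => ⟨k + 1, by rw [hP2]; ring⟩⟩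
        · simp only [List.length_append, List.length_range']; omega
        · simp only [List.length_append, List.length_range']; omega
    · refine ⟨1, 0, List.range' 1 (R + 1), one_pos, hr.out.one_lt, fun e he => ?_, List.nodup_range', ?_, ?_,
        fun h => absurd h hrn⟩
      · rw [List.mem_range'_1] at he; omega
      · rw [List.length_range']; omega
      · rw [List.length_range']; omega
  set l := List.replicate (2 * a) (φ t) ++ E.map φ with hldef
  have hl : ∀ g ∈ l, g ∈ factors r F := fun g hg => by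
    rcases List.mem_append.1 hg with h1 | h1
    · rw [(List.mem_replicate.1 h1).2]; exact hφ t ht0 htr
    · obtain ⟨e, he, rfl⟩ := List.mem_map.1 h1; exact hφ e (hE e he).1 (hE e he).2
  have hinj : (E.map φ).Nodup := hEnd.map_on fun x hx y hy hxy => by
    have := congrArg (fun P : F[X] => P.coeff 0) hxy
    simp [hφdef, -map_pow] at this
    exact hζ.pow_inj (hE x hx).2 (hE y hy).2 this
  have hllen : l.length = 2 * a + E.length := by simp [hldef]
  obtain ⟨w, hw, hwr, hw1, hwd, hwg⟩ := HermElem.exists_multi hF hrp hr2 hb hodd l hl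
  obtain ⟨Y, hY, hYr, hYf, hYd, hYg⟩ := HermElem.exists_pad hrp (show 1 * l.length ≤ n by omega) hw hwr hw1
  have hdet : LinearMap.det Y = ζ ^ (2 * a * t + E.sum) := by
    rw [hYd, hwd rfl, hldef, List.map_append, List.map_replicate, List.prod_append, List.prod_replicate, List.map_map,
      pow_add, mul_comm (2 * a) t, pow_mul]
    congr 1
    · simp [hφdef, -map_pow, ← pow_mul, mul_comm, mul_left_comm]
    · clear * -
      induction E with
      | nil => simp
      | cons e E ih => rw [List.map_cons, List.prod_cons, ih, List.sum_cons, pow_add]; simp [φ, -map_pow]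
  obtain ⟨u, hu⟩ : ∃ u : ℕ, r ∣ u * n + (2 * a * t + E.sum) := by
    by_cases hrn : r ∣ n
    · exact ⟨0, by rw [zero_mul, zero_add]; exact hsum hrn⟩
    · obtain ⟨u, hu⟩ : ∃ u : ZMod r, u * n + ((2 * a * t + E.sum : ℕ) : ZMod r) = 0 :=
        ⟨-((2 * a * t + E.sum : ℕ) : ZMod r) / n, by
          rw [div_mul_cancel₀ _ (by rwa [Ne, ZMod.natCast_eq_zero_iff]), neg_add_cancel]⟩
      refine ⟨u.val, ?_⟩
      rw [← ZMod.natCast_eq_zero_iff, Nat.cast_add, Nat.cast_mul, ZMod.natCast_zmod_val]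
      exact hu
  have hζu0 : ζ ^ u ≠ 0 := pow_ne_zero _ (Units.ne_zero ζu)
  have hG : Good hF m ((ζ ^ u) • Y) := by
    refine h _ (fun v w => ?_) ?_ ?_
    · show Cfsg.hermForm n F q (ζ ^ u • Y v) (ζ ^ u • Y w) = _
      rw [← hY v w]
      simp only [Cfsg.hermForm, Pi.smul_apply, smul_eq_mul]
      refine Finset.sum_congr rfl fun i _ => ?_
      have e : ζ ^ u * (ζ ^ u) ^ q = 1 := by rw [← pow_succ', ← pow_mul, mul_comm, pow_mul, hζq, one_pow]
      rw [mul_pow]
      linear_combination (Y v i * (Y w i) ^ q) * e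
    · obtain ⟨z, hz⟩ := hu
      rw [LinearMap.det_smul, Module.finrank_fin_fun, hdet, ← pow_mul, ← pow_add, hz, pow_mul, hζ.pow_eq_one, one_pow]
    · rw [_root_.smul_pow, hYr, ← pow_mul, mul_comm, pow_mul, hζ.pow_eq_one, one_pow, one_smul]
  obtain ⟨j, W, hW, hWm, hWti, hWd, hjm, hjf⟩ := necessary hF hrp hb hYr hY (good_smul hF hζu0 hG)
  have hjB : j ≤ a := by
    refine le_trans ?_ (count_half_le (factors r F) (hφ t ht0 htr) a hinj)
    rw [← one_mul j, ← hWd, ← one_mul (∑ g ∈ _, _)]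
    exact moved_ti_bound hF hrp hb hodd hYr hY (fun g hg => (hYg g hg).trans (hwg g hg)) hW hWm hWti
  omega

include hF in
/-- A scalar of norm one is an `r`-th power of such, unless the twisted arithmetic holds. -/
theorem exists_root (hr2 : r ≠ 2) {z : F} (hz : z ^ (q + 1) = 1) {k : ℕ} (hk : n = r * k) (hn : 0 < n) (hzk : z ^ k = 1)
    (hv : padicValNat r n ≤ padicValNat r (q + 1)) : ∃ w : F, w ^ r = z := by
  have hq2 : 2 ≤ q := Classical.two_le_q hF
  by_cases hrq : r ∣ q + 1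
  swap
  · obtain ⟨s, hs⟩ := Nat.exists_mul_mod_eq_one_of_coprime ((hr.out.coprime_iff_not_dvd).2 hrq) (by omega : 1 < q + 1)
    exact ⟨z ^ s, by rw [← pow_mul, mul_comm, pow_eq_pow_mod _ hz, hs.2, pow_one]⟩
  have hk0 : k ≠ 0 := fun h => by rw [h, mul_zero] at hk; omega
  have hz0 : z ≠ 0 := fun h => by rw [h, zero_pow (by omega)] at hz; exact zero_ne_one hz
  have hzg : z ^ Nat.gcd k (q + 1) = 1 := pow_gcd_eq_one.2 ⟨hzk, hz⟩
  set g := Nat.gcd k (q + 1) with hg
  obtain ⟨e, he⟩ := Nat.gcd_dvd_right k (q + 1)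
  have hg0 : g ≠ 0 := fun h => hk0 (Nat.eq_zero_of_gcd_eq_zero_left h)
  have he0 : e ≠ 0 := fun h => by rw [h, mul_zero] at he; omega
  have hre : r ∣ e := by
    by_contra hne
    have h1 : padicValNat r (q + 1) = padicValNat r g := by
      rw [he, padicValNat.mul hg0 he0, padicValNat.eq_zero_of_not_dvd hne, add_zero]
    have h2 : padicValNat r g ≤ padicValNat r k :=
      (padicValNat_dvd_iff_le hk0).1 (pow_padicValNat_dvd.trans (Nat.gcd_dvd_left k (q + 1)))
    have h3 : padicValNat r n = 1 + padicValNat r k := by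
      rw [hk, padicValNat.mul hr.out.ne_zero hk0, padicValNat.self hr.out.one_lt]
    omega
  obtain ⟨e', rfl⟩ := hre
  obtain ⟨G, hG⟩ := IsCyclic.exists_generator (α := Fˣ)
  obtain ⟨j, hj⟩ := (mem_powers_iff_mem_zpowers.2 (hG (Units.mk0 z hz0)) : Units.mk0 z hz0 ∈ Submonoid.powers G)
  change G ^ j = _ at hj
  have hju : (G ^ j) ^ g = 1 := by rw [hj]; exact Units.ext (by simpa using hzg)
  rw [← pow_mul, ← orderOf_dvd_iff_pow_eq_one, orderOf_eq_card_of_forall_mem_zpowers hG, card_units hF, he,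
    mul_comm j g, mul_assoc] at hju
  have hrj : r ∣ j := (dvd_mul_of_dvd_left (dvd_mul_right r e') (q - 1)).trans
    (Nat.dvd_of_mul_dvd_mul_left (Nat.pos_of_ne_zero hg0) hju)
  obtain ⟨l, rfl⟩ := hrj
  exact ⟨((G ^ l : Fˣ) : F), by rw [← Units.val_pow_eq_pow_val, ← pow_mul, mul_comm l r, hj]; rfl⟩

theorem norm_of_pow (hn : 0 < n) {X : End F (Fin n → F)} (hiso : Isom q X) {z : F} (hX : X ^ r = z • 1) :
    z ^ (q + 1) = 1 := by
  have hpow : ∀ k : ℕ, Isom q (X ^ k) := fun k => by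
    induction k with
    | zero => exact HermElem.isom_one
    | succ k ih => intro u v; rw [pow_succ', End.mul_apply, End.mul_apply, hiso]; exact ih _ _
  have e := hpow r (Pi.single ⟨0, hn⟩ 1) (Pi.single ⟨0, hn⟩ 1)
  rw [hX] at e
  simp only [LinearMap.smul_apply, End.one_apply, Cfsg.hermForm, Pi.smul_apply, smul_eq_mul] at e
  rw [Finset.sum_eq_single ⟨0, hn⟩, Finset.sum_eq_single ⟨0, hn⟩] at e <;>
    simp_all [zero_pow, pow_succ']

/-- Good when the element is twisted and `r ∣ m`. -/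
theorem good_twist (hr2 : r ≠ 2) {X : End F (Fin n → F)} (hrp : r ≠ p) (hiso : Isom q X) (hn : 0 < n) {z : F}
    (hX : X ^ r = z • 1) (hroot : ∀ w : F, w ^ r ≠ z) {m : ℕ} (hrm : r ∣ m) (hmn : 2 * m ≤ n) : Good hF m X := by
  obtain ⟨j, rfl⟩ := hrm
  set f := stdHerm n hF
  have hB := (isom_B hF).1 hiso
  have hz : z ^ (q + 1) = 1 := norm_of_pow hn hiso hX
  have hz0 : z ≠ 0 := fun h => by rw [h, zero_pow (by omega)] at hz; exact zero_ne_one hz
  set P : F[X] := Polynomial.X ^ r - C z with hP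
  have hPi : Irreducible P := X_pow_sub_C_irreducible_of_prime hr.out hroot
  have hPd : P.natDegree = r := natDegree_X_pow_sub_C
  have hsq : Squarefree P := PrimeElemFlags.sq (PrimeElemFlags.cast_ne_zero hrp) hz0
  have hy : aeval X P = 0 := PrimeElemFlags.aeval_eq_zero hX
  have hdvd : ∀ U : Submodule F (Fin n → F), U.map X ≤ U → r ∣ finrank F U := fun U hU =>
    (PrimeElem.uniform hsq hy P hPi.ne_zero
      (fun g hg hd => (natDegree_eq_of_degree_eq (degree_eq_degree_of_associated (hg.associated_of_dvd hPi hd))).trans hPd)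
      _ U rfl hU fun v _ => by rw [hy]; rfl).1
  obtain ⟨N, hN0, hN⟩ : ∃ N, 0 < N ∧ X ^ N = 1 := by
    refine ⟨r * (q + 1), Nat.mul_pos hr.out.pos (by omega), ?_⟩
    rw [pow_mul, hX, _root_.smul_pow, one_pow, hz, one_smul]
  have hfr := (HermDecomp.exists_ti_mul f hN0 hN hB hsq hy (i := r) (D := r + 1) (M := ⊤) (fun U _ _ hUi hd => by
    obtain ⟨h, hh⟩ := hr.out.odd_of_ne_two hr2
    obtain ⟨a, ha⟩ := f.exists_moved
    obtain ⟨d, hd1⟩ := HermDecomp.exists_half f
    obtain ⟨v, hv, hv0, hvq⟩ := HermDecomp.exists_zero f (p := p)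
      (Fin.append (Fin.append (fun _ : Fin h => (1 : F)) (fun _ : Fin h => a)) (fun _ : Fin 1 => d))
      (Fin.append (Fin.append (fun j : Fin h => X ^ ((j : ℕ) + 1)) (fun j : Fin h => X ^ ((j : ℕ) + 1))) (fun _ : Fin 1 => 1))
      (U := U) (by omega)
    have hsmall : ∀ j : Fin h, f.B ((X ^ ((j : ℕ) + 1)) v) v = 0 := fun j => by
      have e1 := hvq (Fin.castAdd 1 (Fin.castAdd h j))
      have e2 := hvq (Fin.castAdd 1 (Fin.natAdd h j))
      simp only [Fin.append_left, Fin.append_right, one_mul, map_mul] at e1 e2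
      have e3 : (a - f.σ a) * f.B ((X ^ ((j : ℕ) + 1)) v) v = 0 := by linear_combination e2 - f.σ a * e1
      exact (mul_eq_zero.1 e3).resolve_left (sub_ne_zero.2 (Ne.symm ha))
    have hvv : f.B v v = 0 := by
      have e := hvq (Fin.natAdd (h + h) 0)
      simp only [Fin.append_right, map_mul, End.one_apply, f.herm] at e
      rwa [← add_mul, hd1, one_mul] at e
    have hpiso : ∀ (k : ℕ) u w, f.B ((X ^ k) u) ((X ^ k) w) = f.B u w := fun k => by
      induction k with
      | zero => simp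
      | succ k ih => intro u w; rw [pow_succ', End.mul_apply, End.mul_apply, hB, ih]
    have hlt : ∀ k : ℕ, k < r → f.B ((X ^ k) v) v = 0 := fun k hk => by
      rcases Nat.eq_zero_or_pos k with rfl | h0
      · simpa using hvv
      by_cases hkh : k ≤ h
      · have := hsmall ⟨k - 1, by omega⟩
        simpa [show k - 1 + 1 = k by omega] using this
      · have := hsmall ⟨r - k - 1, by omega⟩
        simp only [show r - k - 1 + 1 = r - k by omega] at this
        rw [← hpiso (r - k), ← End.mul_apply, ← pow_add, show r - k + k = r by omega, hX, LinearMap.smul_apply,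
          End.one_apply, smul_left, f.eq_zero_comm this, mul_zero]
    set Z := Submodule.span F (Set.range fun j : Fin r => (X ^ (j : ℕ)) v) with hZ
    have hvZ : v ∈ Z := Submodule.subset_span ⟨⟨0, hr.out.pos⟩, rfl⟩
    have hZU : Z ≤ U := by
      rw [hZ, Submodule.span_le]
      rintro _ ⟨j, rfl⟩
      have h := PrimeElem.aeval_mem X hUi (Polynomial.X ^ (j : ℕ)) hv
      rwa [map_pow, aeval_X] at h
    have hZi : Z.map X ≤ Z := by
      rw [hZ, Submodule.map_span, Submodule.span_le]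
      rintro _ ⟨_, ⟨j, rfl⟩, rfl⟩
      rw [SetLike.mem_coe, ← End.mul_apply, ← pow_succ']
      by_cases hj : (j : ℕ) + 1 < r
      · exact Submodule.subset_span ⟨⟨_, hj⟩, rfl⟩
      · rw [show (j : ℕ) + 1 = r by omega, hX, LinearMap.smul_apply, End.one_apply]
        exact Submodule.smul_mem _ _ (Submodule.subset_span ⟨⟨0, hr.out.pos⟩, rfl⟩)
    refine ⟨Z, hZU, hZi, ?_, ?_⟩
    · have key : ∀ a b : ℕ, a < r → b < r → f.B ((X ^ a) v) ((X ^ b) v) = 0 := fun a b ha hb => by
        rcases Nat.le_total a b with hab | hab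
        · rw [show b = a + (b - a) by omega, pow_add, End.mul_apply, hpiso, f.eq_zero_comm (hlt _ (by omega))]
        · rw [show a = b + (a - b) by omega, pow_add, End.mul_apply, hpiso, hlt _ (by omega)]
      intro x hx w hw
      rw [hZ] at hx hw
      induction hx using Submodule.span_induction with
      | mem x hx =>
        obtain ⟨b, rfl⟩ := hx
        induction hw using Submodule.span_induction with
        | mem w hw => obtain ⟨a, rfl⟩ := hw; exact key _ _ a.2 b.2
        | zero => simp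
        | add y z _ _ h1 h2 => rw [map_add, LinearMap.add_apply, h1, h2, add_zero]
        | smul c y _ h1 => rw [smul_left, h1, mul_zero]
      | zero => simp
      | add y z _ _ h1 h2 => rw [map_add, h1, h2, add_zero]
      | smul c y _ h1 => rw [map_smul, h1, smul_zero]
    · have h1 : finrank F Z ≤ r := (finrank_range_le_card _).trans (le_of_eq (Fintype.card_fin r))
      obtain ⟨t, ht⟩ := hdvd Z hZi
      rcases Nat.eq_zero_or_pos t with rfl | ht0
      · rw [mul_zero, Submodule.finrank_eq_zero] at ht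
        exact absurd ((Submodule.mem_bot F).1 (ht ▸ hvZ)) hv0
      · have := Nat.le_mul_of_pos_right r ht0
        omega) j ⊤ le_rfl (HermDecomp.nd_top f) le_top fun hj => by
      rw [top_finrank]
      have e : 2 * (r * j) = 2 * r * (j - 1) + 2 * r := by
        conv_lhs => rw [show j = j - 1 + 1 by omega, Nat.mul_succ]
        ring
      have := hr.out.two_le
      omega)
  obtain ⟨W, -, h1, h2, h3⟩ := hfr
  exact ⟨W, h3, h2, h1⟩

include hF in
/-- The twisted element. -/
theorem exists_twist (hrp : r ≠ p) (hr2 : r ≠ 2) (hn : 0 < n) (hrq : r ∣ q + 1)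
    (hv : padicValNat r (q + 1) < padicValNat r n) :
    ∃ (X : End F (Fin n → F)) (z : F), Isom q X ∧ X ^ r = z • 1 ∧ LinearMap.det X = 1 ∧ (∀ w : F, w ^ r ≠ z) ∧
      ∀ W : Submodule F (Fin n → F), W.map X ≤ W → r ∣ finrank F W := by
  have hq2 : 2 ≤ q := Classical.two_le_q hF
  set v := padicValNat r (q + 1) with hvdef
  have hvdvd : r ^ v ∣ Nat.card Fˣ := by rw [card_units hF]; exact pow_padicValNat_dvd.trans (dvd_mul_right _ _)
  obtain ⟨G, hG⟩ := IsCyclic.exists_generator (α := Fˣ)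
  have hGord : orderOf G = Nat.card Fˣ := orderOf_eq_card_of_forall_mem_zpowers hG
  have hv1 : 1 ≤ v := one_le_padicValNat_of_dvd (by omega) hrq
  set zu := G ^ (Nat.card Fˣ / r ^ v) with hzu
  have hzord : orderOf zu = r ^ v := by
    rw [hzu, orderOf_pow, hGord, Nat.gcd_eq_right (Nat.div_dvd_of_dvd hvdvd),
      Nat.div_div_self hvdvd Nat.card_pos.ne']
  set z : F := (zu : F) with hzdef
  have hzq : z ^ (q + 1) = 1 := by
    rw [hzdef, ← Units.val_pow_eq_pow_val, orderOf_dvd_iff_pow_eq_one.1 (hzord ▸ pow_padicValNat_dvd), Units.val_one]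
  have hr0 : (r : F) ≠ 0 := PrimeElemFlags.cast_ne_zero hrp
  have hroot : ∀ w : F, w ^ r ≠ z := by
    intro w hw
    have hw0 : w ≠ 0 := fun h => by rw [h, zero_pow hr.out.ne_zero] at hw; exact Units.ne_zero zu hw.symm
    have h1 : Units.mk0 w hw0 ^ r = zu := Units.ext (by simpa using hw)
    have h2 : orderOf (Units.mk0 w hw0) ∣ Nat.card Fˣ := orderOf_dvd_natCard _
    have h3 : r ^ (v + 1) ∣ orderOf (Units.mk0 w hw0) := by
      have e1 : orderOf zu = orderOf (Units.mk0 w hw0) / Nat.gcd (orderOf (Units.mk0 w hw0)) r := by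
        rw [← h1, orderOf_pow' _ hr.out.ne_zero]
      rcases (Nat.dvd_prime hr.out).1 (Nat.gcd_dvd_right (orderOf (Units.mk0 w hw0)) r) with hg | hg
      · rw [hg, Nat.div_one, hzord] at e1
        have h4 : r ∣ orderOf (Units.mk0 w hw0) := e1 ▸ dvd_pow_self r (by omega)
        rw [Nat.gcd_eq_right h4] at hg
        exact absurd hg hr.out.ne_one
      · have h4 : r ∣ orderOf (Units.mk0 w hw0) := hg ▸ Nat.gcd_dvd_left _ _
        rw [hg, hzord] at e1
        exact ⟨1, by rw [mul_one, pow_succ, e1, Nat.div_mul_cancel h4]⟩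
    have h5 := h3.trans h2
    rw [card_units hF] at h5
    have hnot : ¬ r ∣ q - 1 := fun h => by
      have h6 := Nat.dvd_sub hrq h
      rw [show q + 1 - (q - 1) = 2 by omega] at h6
      exact hr2 ((Nat.prime_dvd_prime_iff_eq hr.out Nat.prime_two).1 h6)
    have h6 : r ^ (v + 1) ∣ q + 1 := (Nat.Coprime.pow_left _ ((hr.out.coprime_iff_not_dvd).2 hnot)).dvd_of_dvd_mul_right h5
    have := (padicValNat_dvd_iff_le (by omega : q + 1 ≠ 0)).1 h6
    omega
  obtain ⟨k, hk⟩ : r ∣ n := by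
    by_contra h
    rw [padicValNat.eq_zero_of_not_dvd h] at hv
    omega
  have hk0 : k ≠ 0 := fun h => by rw [h, mul_zero] at hk; omega
  have hzk : z ^ k = 1 := by
    have hvk : v ≤ padicValNat r k := by
      rw [hk, padicValNat.mul hr.out.ne_zero hk0, padicValNat.self hr.out.one_lt] at hv
      omega
    have h1 : orderOf zu ∣ k := by rw [hzord]; exact (pow_dvd_pow r hvk).trans pow_padicValNat_dvd
    rw [hzdef, ← Units.val_pow_eq_pow_val, orderOf_dvd_iff_pow_eq_one.1 h1, Units.val_one]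
  haveI : NeZero r := ⟨hr.out.ne_zero⟩
  let e : Fin k × ZMod r ≃ Fin n := Fintype.equivFinOfCardEq (by rw [Fintype.card_prod, Fintype.card_fin, ZMod.card, hk, mul_comm])
  let d : ZMod r → F := fun j => if j = 0 then z else 1
  have hd : ∀ j, d j * d j ^ q = 1 := fun j => by
    rw [← pow_succ']; simp only [d]; split_ifs <;> simp [hzq]
  let X : End F (Fin n → F) :=
    { toFun := fun v i => d (e.symm i).2 * v (e ((e.symm i).1, (e.symm i).2 + 1))
      map_add' := fun u v => funext fun i => by simp [mul_add]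
      map_smul' := fun a v => funext fun i => by simp [mul_left_comm] }
  have hXiso : Isom q X := fun u v => by
    simp only [Cfsg.hermForm, X, LinearMap.coe_mk, AddHom.coe_mk, mul_pow]
    rw [← (e.symm.trans (((Equiv.refl (Fin k)).prodCongr (Equiv.addRight (1 : ZMod r))).trans e)).sum_comp
      (fun i => u i * v i ^ q)]
    refine Finset.sum_congr rfl fun i _ => ?_
    simp only [Equiv.trans_apply, Equiv.prodCongr_apply, Prod.map, Equiv.refl_apply, Equiv.coe_addRight]
    linear_combination (u (e ((e.symm i).1, (e.symm i).2 + 1)) * v (e ((e.symm i).1, (e.symm i).2 + 1)) ^ q) * hd (e.symm i).2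
  have hpow : ∀ (l : ℕ) (u : Fin n → F) a j,
      (X ^ l) u (e (a, j)) = (∏ s ∈ Finset.range l, d (j + (s : ZMod r))) * u (e (a, j + (l : ZMod r))) := fun l => by
    induction l with
    | zero => intro u a j; simp
    | succ l ih =>
      intro u a j
      rw [pow_succ', End.mul_apply, Finset.prod_range_succ']
      simp only [X, LinearMap.coe_mk, AddHom.coe_mk, Equiv.symm_apply_apply]
      rw [ih]
      push_cast
      simp only [add_zero, add_assoc, add_comm (1 : ZMod r)]
      ring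
  have hXr : X ^ r = z • 1 := by
    refine LinearMap.ext fun u => funext fun i => ?_
    obtain ⟨⟨a, j⟩, rfl⟩ := e.surjective i
    rw [hpow, ZMod.natCast_self, add_zero, LinearMap.smul_apply, End.one_apply, Pi.smul_apply, smul_eq_mul]
    congr 1
    rw [Finset.prod_nbij' (s := Finset.range r) (f := fun s => d (j + (s : ZMod r)))
      (t := (Finset.univ : Finset (ZMod r))) (g := d) (fun s => j + (s : ZMod r))
      (fun x => (x - j).val) (fun _ _ => Finset.mem_univ _) (fun x _ => Finset.mem_range.2 (ZMod.val_lt _))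
      (fun s hs => by simp [ZMod.val_natCast, Nat.mod_eq_of_lt (Finset.mem_range.1 hs)])
      (fun x _ => by simp) (fun s _ => rfl)]
    simp [d]
  set P : F[X] := Polynomial.X ^ r - C z with hP
  have hPi : Irreducible P := X_pow_sub_C_irreducible_of_prime hr.out hroot
  have hsq : Squarefree P := PrimeElemFlags.sq hr0 (Units.ne_zero zu)
  have hy : aeval X P = 0 := PrimeElemFlags.aeval_eq_zero hXr
  refine ⟨X, z, hXiso, hXr, ?_, hroot, fun W hW => ?_⟩
  · rw [PrimeElem.det_eq r z hPi hsq hr.out.pos k X (by rw [Module.finrank_fin_fun, hk]) hy]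
    obtain ⟨h, hh⟩ := hr.out.odd_of_ne_two hr2
    rw [show r + 1 = 2 * (h + 1) by omega, pow_mul, neg_one_sq, one_pow, one_mul, hzk]
  · exact (PrimeElem.uniform hsq hy P hPi.ne_zero
      (fun g hg hd => (natDegree_eq_of_degree_eq (degree_eq_degree_of_associated (hg.associated_of_dvd hPi hd))).trans
        natDegree_X_pow_sub_C) _ W rfl hW fun v _ => by rw [hy]; rfl).1

end Cfsg.Agent.Lib.MaxSub.HermTI
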