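import Cfsg.Agent.Lib.MaxSub.Symplectic

/-!
Isometries between non-degenerate subspaces of a symplectic space, and orthogonal decompositions:
components, block permutations and supports of transvection centres.
-/

set_option autoImplicit false

namespace Cfsg.Agent.Lib.MaxSub

open Matrix
open scoped MatrixGroups Matrix

variable {ι : Type} [Fintype ι] [DecidableEq ι] {F : Type*} [Field F]

namespace AltForm

variable (f : AltForm ι F)

/-- The restriction of the form to `W` is non-degenerate. -/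
def NdOn (W : Submodule F (ι → F)) : Prop := ∀ a ∈ W, a ≠ 0 → ∃ x ∈ W, f.B a x ≠ 0

theorem exists_pair {W : Submodule F (ι → F)} (hW : f.NdOn W) (hne : W ≠ ⊥) :
    ∃ e ∈ W, ∃ d ∈ W, f.B e d = 1 := by
  obtain ⟨a, ha, ha0⟩ := (Submodule.ne_bot_iff W).mp hne
  obtain ⟨x, hx, hax⟩ := hW a ha ha0
  exact ⟨a, ha, (f.B a x)⁻¹ • x, W.smul_mem _ hx, by rw [map_smul, smul_eq_mul, inv_mul_cancel₀ hax]⟩

theorem pair_perp_finrank {W : Submodule F (ι → F)} {e d : ι → F} (he : e ∈ W) (hd : d ∈ W)
    (h : f.B e d = 1) :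
    Module.finrank F (W ⊓ LinearMap.ker ((f.B.flip d).prod (f.B.flip e)) : Submodule F (ι → F)) + 2 =
      Module.finrank F W := by
  set L := (f.B.flip d).prod (f.B.flip e) with hL
  have h' : f.B d e = -1 := by rw [f.skew, h]
  have hs : Function.Surjective (L ∘ₗ W.subtype) := by
    rintro ⟨p, q⟩
    refine ⟨p • ⟨e, he⟩ - q • ⟨d, hd⟩, ?_⟩
    simp [hL, h, h', f.alt]
  have h1 := (L ∘ₗ W.subtype).finrank_range_add_finrank_ker
  rw [LinearMap.range_eq_top.mpr hs, finrank_top, Module.finrank_prod, Module.finrank_self] at h1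
  have h2 : Module.finrank F (LinearMap.ker (L ∘ₗ W.subtype)) = Module.finrank F (W ⊓ LinearMap.ker L : Submodule F (ι → F)) := by
    rw [← Submodule.map_comap_subtype W (LinearMap.ker L), ← LinearMap.ker_comp]
    exact (Submodule.equivMapOfInjective _ W.subtype_injective _).finrank_eq
  omega

/-- Non-degenerate subspaces embed isometrically into those of at least the same dimension. -/
theorem exists_isometry (W W' : Submodule F (ι → F)) (hW : f.NdOn W) (hW' : f.NdOn W')
    (hle : Module.finrank F W ≤ Module.finrank F W') :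
    ∃ φ : (ι → F) →ₗ[F] (ι → F), (∀ x ∈ W, φ x ∈ W') ∧ ∀ x ∈ W, ∀ y ∈ W, f.B (φ x) (φ y) = f.B x y := by
  induction hk : Module.finrank F W using Nat.strong_induction_on generalizing W W' with
  | _ k ih =>
    rcases eq_or_ne W ⊥ with rfl | hne
    · exact ⟨0, fun x _ => W'.zero_mem, fun x hx y _ => by simp [(Submodule.mem_bot F).mp hx]⟩
    obtain ⟨e, he, d, hd, hed⟩ := f.exists_pair hW hne
    have hne' : W' ≠ ⊥ := fun h => hne (Submodule.finrank_eq_zero.mp (by rw [h, finrank_bot] at hle; omega))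
    obtain ⟨e', he', d', hd', hed'⟩ := f.exists_pair hW' hne'
    have h1 := f.pair_perp_finrank he hd hed
    have h2 := f.pair_perp_finrank he' hd' hed'
    have hde : f.B d e = -1 := by rw [f.skew, hed]
    have hde' : f.B d' e' = -1 := by rw [f.skew, hed']
    have key : ∀ (V : Submodule F (ι → F)) (a b : ι → F), a ∈ V → b ∈ V → f.B a b = 1 → f.NdOn V →
        f.NdOn (V ⊓ LinearMap.ker ((f.B.flip b).prod (f.B.flip a))) := by
      intro V a b ha hb hab hV x hx hx0
      obtain ⟨y, hy, hxy⟩ := hV x hx.1 hx0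
      have hba : f.B b a = -1 := by rw [f.skew, hab]
      refine ⟨y - f.B y b • a + f.B y a • b, ⟨V.add_mem (V.sub_mem hy (V.smul_mem _ ha)) (V.smul_mem _ hb), ?_⟩, ?_⟩
      · simp [hab, hba, f.alt]
      · have hk := hx.2
        simp only [SetLike.mem_coe, LinearMap.mem_ker, LinearMap.prod_apply, Function.prod_apply, Prod.mk_eq_zero,
          LinearMap.flip_apply] at hk
        simp [hk.1, hk.2, hxy]
    obtain ⟨φ, hφW, hφ⟩ := ih (Module.finrank F (W ⊓ LinearMap.ker ((f.B.flip d).prod (f.B.flip e)) : Submodule F (ι → F)))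
      (by omega) _ (W' ⊓ LinearMap.ker ((f.B.flip d').prod (f.B.flip e'))) (key W e d he hd hed hW)
      (key W' e' d' he' hd' hed' hW') (by omega) rfl
    let P : (ι → F) →ₗ[F] (ι → F) := LinearMap.id - (f.B.flip d).smulRight e + (f.B.flip e).smulRight d
    let R : (ι → F) →ₗ[F] (ι → F) := (f.B.flip d).smulRight e' - (f.B.flip e).smulRight d'
    have hP : ∀ x ∈ W, P x ∈ W ⊓ LinearMap.ker ((f.B.flip d).prod (f.B.flip e)) := by
      intro x hx
      refine ⟨W.add_mem (W.sub_mem hx (W.smul_mem _ he)) (W.smul_mem _ hd), ?_⟩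
      simp [P, hed, hde, f.alt]
    refine ⟨φ ∘ₗ P + R, fun x hx => W'.add_mem (hφW _ (hP x hx)).1
      (W'.sub_mem (W'.smul_mem _ he') (W'.smul_mem _ hd')), fun x hx y hy => ?_⟩
    have hx1 := (hφW _ (hP x hx)).2
    have hy1 := (hφW _ (hP y hy)).2
    simp only [SetLike.mem_coe, LinearMap.mem_ker, LinearMap.prod_apply, Function.prod_apply, Prod.mk_eq_zero,
      LinearMap.flip_apply] at hx1 hy1
    have h3 := hφ _ (hP x hx) _ (hP y hy)
    have hey : f.B e' (φ (P y)) = 0 := by rw [f.skew, hy1.2, neg_zero]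
    have hdy : f.B d' (φ (P y)) = 0 := by rw [f.skew, hy1.1, neg_zero]
    have hR : ∀ z, R z = f.B z d • e' - f.B z e • d' := fun z => rfl
    rw [LinearMap.add_apply, LinearMap.add_apply, LinearMap.comp_apply, LinearMap.comp_apply, hR, hR]
    simp only [map_add, map_sub, map_smul, LinearMap.add_apply, LinearMap.sub_apply, LinearMap.smul_apply,
      smul_eq_mul, hx1.1, hx1.2, hey, hdy, h3, hed', hde', f.alt]
    simp only [P, LinearMap.add_apply, LinearMap.sub_apply, LinearMap.id_apply, LinearMap.smulRight_apply,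
      LinearMap.flip_apply, map_add, map_sub, map_smul, LinearMap.smul_apply, smul_eq_mul, hed, hde, f.alt]
    rw [f.skew e y, f.skew d y]
    ring

variable {t : ℕ} (D : Fin t → Submodule F (ι → F))

/-- An orthogonal decomposition into non-degenerate spaces. -/
structure OrthDecomp : Prop where
  top : iSup D = ⊤
  nd : ∀ i, f.NdOn (D i)
  orth : ∀ i j, i ≠ j → ∀ x ∈ D i, ∀ y ∈ D j, f.B x y = 0

variable {f D}

theorem OrthDecomp.exists_sum (h : f.OrthDecomp D) (x : ι → F) :
    ∃ c : Fin t → (ι → F), (∀ i, c i ∈ D i) ∧ ∑ i, c i = x := by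
  obtain ⟨c, hc, hsum⟩ := (Submodule.mem_iSup_iff_exists_finsupp D x).mp (h.top ▸ Submodule.mem_top)
  exact ⟨fun i => c i, hc, by rw [← hsum, Finsupp.sum_fintype _ _ (fun _ => rfl)]⟩

theorem OrthDecomp.B_sum_left (h : f.OrthDecomp D) {c : Fin t → (ι → F)} (hc : ∀ i, c i ∈ D i) {i : Fin t}
    {x : ι → F} (hx : x ∈ D i) : f.B (∑ l, c l) x = f.B (c i) x := by
  rw [map_sum, LinearMap.sum_apply]
  exact Finset.sum_eq_single i (fun l _ hl => h.orth l i hl _ (hc l) x hx) (fun hn => absurd (Finset.mem_univ i) hn)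

theorem OrthDecomp.B_sum (h : f.OrthDecomp D) {c d : Fin t → (ι → F)} (hc : ∀ i, c i ∈ D i)
    (hd : ∀ i, d i ∈ D i) : f.B (∑ i, c i) (∑ i, d i) = ∑ i, f.B (c i) (d i) := by
  rw [map_sum (f.B (∑ i, c i))]
  exact Finset.sum_congr rfl fun i _ => h.B_sum_left hc (hd i)

theorem OrthDecomp.eq_zero (h : f.OrthDecomp D) {c : Fin t → (ι → F)} (hc : ∀ i, c i ∈ D i)
    (h0 : ∑ i, c i = 0) (i : Fin t) : c i = 0 := by
  by_contra hne
  obtain ⟨x, hx, hcx⟩ := h.nd i (c i) (hc i) hne
  rw [← h.B_sum_left hc hx, h0, map_zero, LinearMap.zero_apply] at hcx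
  exact hcx rfl

/-- The projection to the components. -/
theorem OrthDecomp.exists_proj (h : f.OrthDecomp D) :
    ∃ pr : Fin t → (ι → F) →ₗ[F] (ι → F), (∀ i x, pr i x ∈ D i) ∧ (∀ x, ∑ i, pr i x = x) ∧
      ∀ i j, ∀ x ∈ D i, pr j x = if j = i then x else 0 := by
  choose c hc hsum using h.exists_sum
  have huniq : ∀ (a b : Fin t → (ι → F)), (∀ i, a i ∈ D i) → (∀ i, b i ∈ D i) → ∑ i, a i = ∑ i, b i → a = b := by
    intro a b ha hb hab
    funext i
    exact sub_eq_zero.mp (h.eq_zero (c := fun i => a i - b i) (fun i => (D i).sub_mem (ha i) (hb i))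
      (by rw [Finset.sum_sub_distrib, hab, sub_self]) i)
  refine ⟨fun i =>
    { toFun := fun x => c x i
      map_add' := fun x y => congrFun (huniq (c (x + y)) (fun i => c x i + c y i) (hc _)
        (fun i => (D i).add_mem (hc x i) (hc y i)) (by rw [hsum, Finset.sum_add_distrib, hsum, hsum])) i
      map_smul' := fun a x => congrFun (huniq (c (a • x)) (fun i => a • c x i) (hc _)
        (fun i => (D i).smul_mem _ (hc x i)) (by rw [hsum, ← Finset.smul_sum, hsum])) i }, fun i x => hc x i, hsum, ?_⟩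
  intro i j x hx
  refine congrFun (huniq (c x) (fun l => if l = i then x else 0) (hc x) (fun l => ?_) ?_) j
  · show (if l = i then x else 0) ∈ D l
    split_ifs with hl
    · exact hl ▸ hx
    · exact (D l).zero_mem
  · rw [hsum]
    simp

end AltForm

end Cfsg.Agent.Lib.MaxSub
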