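import Cfsg.Prelude.Def_GeometricClasses
import Cfsg.Agent.Lib.MaxSub.Symplectic
import Cfsg.Agent.Lib.MaxSub.SympBlocks
import Mathlib

/-!
Linear maps with scalar square permute the lines of some basis; symplectic ones permute the planes of some orthogonal
decomposition into hyperbolic planes. Any such family can be grouped into equally large blocks.
-/

set_option autoImplicit false
set_option linter.unusedSectionVars false

namespace Cfsg.Agent.Lib.MaxSub.InvBlocks

open Finset

/-! ### Grouping an involution into blocks -/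

section Combinatorics

variable {α : Type*} [DecidableEq α]

theorem exists_blocks (π : α → α) (h : ℕ) (hh : 0 < h) : ∀ (t : ℕ) (S : Finset α),
    S.card = h * t → (∀ i ∈ S, π i ∈ S ∧ π (π i) = i) →
    ∃ (A : Fin t → Finset α) (σ : Fin t → Fin t), (∀ j, (A j).card = h ∧ A j ⊆ S) ∧
      (∀ j j', j ≠ j' → Disjoint (A j) (A j')) ∧ (∀ i ∈ S, ∃ j, i ∈ A j) ∧
      ∀ j, (A j).image π = A (σ j) := by
  classical
  intro t
  induction t using Nat.strong_induction_on with
  | _ t ih =>
    intro S hS hπ
    rcases Nat.eq_zero_or_pos t with rfl | ht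
    · rw [Nat.mul_zero, Finset.card_eq_zero] at hS
      subst hS
      exact ⟨Fin.elim0, Fin.elim0, fun j => j.elim0, fun j => j.elim0, fun i hi => absurd hi (Finset.notMem_empty i),
        fun j => j.elim0⟩
    letI : LinearOrder α := linearOrderOfSTO (α := α) WellOrderingRel
    set R := S.filter fun i => i < π i with hR
    set F := S.filter fun i => π i = i with hF
    have hRS : R ⊆ S := Finset.filter_subset _ _
    have hFS : F ⊆ S := Finset.filter_subset _ _
    have hinj : Set.InjOn π ↑S := fun a ha b hb hab => by rw [← (hπ a ha).2, hab, (hπ b hb).2]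
    have hR' : R.image π = S.filter fun i => π i < i := by
      ext i
      simp only [hR, Finset.mem_image, Finset.mem_filter]
      constructor
      · rintro ⟨k, ⟨hk, hlt⟩, rfl⟩
        exact ⟨(hπ k hk).1, by rw [(hπ k hk).2]; exact hlt⟩
      · rintro ⟨hi, hlt⟩
        exact ⟨π i, ⟨(hπ i hi).1, by rw [(hπ i hi).2]; exact hlt⟩, (hπ i hi).2⟩
    have hcard : S.card = 2 * R.card + F.card := by
      have e1 : (R.image π).card = R.card := Finset.card_image_of_injOn (hinj.mono (by exact_mod_cast hRS))
      have e2 : S = R ∪ R.image π ∪ F := by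
        ext i
        rw [hR', Finset.mem_union, Finset.mem_union, hR, hF, Finset.mem_filter, Finset.mem_filter, Finset.mem_filter]
        constructor
        · intro hi
          rcases lt_trichotomy i (π i) with h1 | h1 | h1
          · exact Or.inl (Or.inl ⟨hi, h1⟩)
          · exact Or.inr ⟨hi, h1.symm⟩
          · exact Or.inl (Or.inr ⟨hi, h1⟩)
        · rintro ((h1 | h1) | h1) <;> exact h1.1
      have d1 : Disjoint R (R.image π) := by
        rw [hR', hR, Finset.disjoint_filter]
        exact fun i _ h1 h2 => lt_asymm h1 h2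
      have d2 : Disjoint (R ∪ R.image π) F := by
        rw [hR', hR, hF, ← Finset.filter_or, Finset.disjoint_filter]
        rintro i - (h1 | h1) h2 <;> rw [h2] at h1 <;> exact lt_irrefl _ h1
      conv_lhs => rw [e2]
      rw [Finset.card_union_of_disjoint d2, Finset.card_union_of_disjoint d1, e1]
      ring
    have himg2 : ∀ T : Finset α, T ⊆ S → (T.image π).image π = T := by
      intro T hT
      rw [Finset.image_image]
      conv_rhs => rw [← Finset.image_id (s := T)]
      exact Finset.image_congr fun i hi => (hπ i (hT hi)).2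
    have hsub : ∀ T : Finset α, T ⊆ S → T.image π ⊆ S := fun T hT i hi => by
      obtain ⟨k, hk, rfl⟩ := Finset.mem_image.1 hi
      exact (hπ k (hT hk)).1
    have hrest : ∀ B : Finset α, B ⊆ S → B.image π = B → ∀ i ∈ S \ B, π i ∈ S \ B ∧ π (π i) = i := by
      intro B hB hBπ i hi
      rw [Finset.mem_sdiff] at hi ⊢
      refine ⟨⟨(hπ i hi.1).1, fun hb => hi.2 ?_⟩, (hπ i hi.1).2⟩
      rw [← (hπ i hi.1).2, ← hBπ]
      exact Finset.mem_image_of_mem _ hb
    by_cases hbig : h ≤ R.card
    · -- two blocks interchanged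
      have ht2 : 2 ≤ t := by
        by_contra hc
        have : t = 1 := by omega
        subst this
        omega
      obtain ⟨t', rfl⟩ : ∃ t', t = t' + 1 + 1 := ⟨t - 2, by omega⟩
      obtain ⟨A₀, hA₀, hA₀c⟩ := Finset.exists_subset_card_eq hbig
      have hA₀S : A₀ ⊆ S := hA₀.trans hRS
      have hd : Disjoint A₀ (A₀.image π) := by
        rw [Finset.disjoint_left]
        intro i hi hi'
        obtain ⟨k, hk, rfl⟩ := Finset.mem_image.1 hi'
        have h1 := (Finset.mem_filter.1 (hA₀ hi)).2
        have h2 := (Finset.mem_filter.1 (hA₀ hk)).2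
        rw [(hπ k (hA₀S hk)).2] at h1
        exact lt_asymm h1 h2
      set B := A₀ ∪ A₀.image π with hB
      have hBS : B ⊆ S := Finset.union_subset hA₀S (hsub _ hA₀S)
      have hBπ : B.image π = B := by rw [hB, Finset.image_union, himg2 _ hA₀S, Finset.union_comm]
      have hc1 : (A₀.image π).card = h := by
        rw [Finset.card_image_of_injOn (hinj.mono (by exact_mod_cast hA₀S)), hA₀c]
      have hBc : B.card = 2 * h := by rw [hB, Finset.card_union_of_disjoint hd, hA₀c, hc1]; ring
      obtain ⟨A, σ, hA, hAd, hAu, hAσ⟩ := ih t' (by omega) (S \ B)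
        (by rw [Finset.card_sdiff_of_subset hBS, hS, hBc, Nat.mul_add, Nat.mul_add]; omega) (hrest B hBS hBπ)
      refine ⟨Fin.cons A₀ (Fin.cons (A₀.image π) A), Fin.cons 1 (Fin.cons 0 fun j => (σ j).succ.succ), ?_, ?_, ?_, ?_⟩
      · refine fun j => Fin.cases ⟨hA₀c, hA₀S⟩ (fun j => Fin.cases ⟨hc1, hsub _ hA₀S⟩ (fun j => ?_) j) j
        simp only [Fin.cons_succ]
        exact ⟨(hA j).1, (hA j).2.trans Finset.sdiff_subset⟩
      · have e0 : ∀ j, Disjoint A₀ (A j) := fun j =>
          Finset.disjoint_of_subset_left Finset.subset_union_left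
            (Finset.disjoint_of_subset_right (hA j).2 Finset.disjoint_sdiff)
        have e1 : ∀ j, Disjoint (A₀.image π) (A j) := fun j =>
          Finset.disjoint_of_subset_left Finset.subset_union_right
            (Finset.disjoint_of_subset_right (hA j).2 Finset.disjoint_sdiff)
        intro j
        induction j using Fin.cases with
        | zero =>
          intro j' hj'
          induction j' using Fin.cases with
          | zero => exact absurd rfl hj'
          | succ j' =>
            induction j' using Fin.cases with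
            | zero => simpa using hd
            | succ j' => simpa using e0 j'
        | succ j =>
          induction j using Fin.cases with
          | zero =>
            intro j' hj'
            induction j' using Fin.cases with
            | zero => simpa using hd.symm
            | succ j' =>
              induction j' using Fin.cases with
              | zero => exact absurd rfl hj'
              | succ j' => simpa using e1 j'
          | succ j =>
            intro j' hj'
            induction j' using Fin.cases with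
            | zero => simpa using (e0 j).symm
            | succ j' =>
              induction j' using Fin.cases with
              | zero => simpa using (e1 j).symm
              | succ j' => simpa using hAd j j' (fun e => hj' (by rw [e]))
      · intro i hi
        by_cases hiB : i ∈ B
        · rcases Finset.mem_union.1 hiB with h1 | h1
          · exact ⟨0, by simpa using h1⟩
          · exact ⟨1, by simpa using h1⟩
        · obtain ⟨j, hj⟩ := hAu i (Finset.mem_sdiff.2 ⟨hi, hiB⟩)
          exact ⟨j.succ.succ, by simpa using hj⟩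
      · refine fun j => Fin.cases ?_ (fun j => Fin.cases ?_ (fun j => ?_) j) j
        · simp
        · simp [himg2 _ hA₀S]
        · simpa using hAσ j
    · -- one invariant block
      obtain ⟨t', rfl⟩ : ∃ t', t = t' + 1 := ⟨t - 1, by omega⟩
      have hj : ∃ j, j ≤ R.card ∧ 2 * j ≤ h ∧ h - 2 * j ≤ F.card := by
        rcases Nat.le_total (2 * R.card) h with hle | hle
        · refine ⟨R.card, le_rfl, hle, ?_⟩
          rw [Nat.mul_add, Nat.mul_one] at hS
          omega
        · refine ⟨h / 2, by omega, by omega, ?_⟩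
          rcases Nat.eq_zero_or_pos t' with rfl | ht'
          · omega
          · have : h ≤ h * t' := Nat.le_mul_of_pos_right _ ht'
            rw [Nat.mul_add, Nat.mul_one] at hS
            omega
      obtain ⟨j, hjR, hjh, hjF⟩ := hj
      obtain ⟨R', hR'', hR'c⟩ := Finset.exists_subset_card_eq hjR
      obtain ⟨F', hF', hF'c⟩ := Finset.exists_subset_card_eq hjF
      have hR'S : R' ⊆ S := hR''.trans hRS
      set B := R' ∪ R'.image π ∪ F' with hB
      have hBS : B ⊆ S := Finset.union_subset (Finset.union_subset hR'S (hsub _ hR'S)) (hF'.trans hFS)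
      have hF'π : F'.image π = F' := by
        conv_rhs => rw [← Finset.image_id (s := F')]
        exact Finset.image_congr fun i hi => (Finset.mem_filter.1 (hF' hi)).2
      have hBπ : B.image π = B := by
        rw [hB, Finset.image_union, Finset.image_union, himg2 _ hR'S, hF'π, Finset.union_comm (R'.image π)]
      have hc1 : (R'.image π).card = j := by
        rw [Finset.card_image_of_injOn (hinj.mono (by exact_mod_cast hR'S)), hR'c]
      have hBc : B.card = h := by
        rw [hB, Finset.card_union_of_disjoint, Finset.card_union_of_disjoint, hR'c, hc1, hF'c]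
        · omega
        · rw [Finset.disjoint_left]
          intro i hi hi'
          obtain ⟨k, hk, rfl⟩ := Finset.mem_image.1 hi'
          have h1 := (Finset.mem_filter.1 (hR'' hi)).2
          have h2 := (Finset.mem_filter.1 (hR'' hk)).2
          rw [(hπ k (hR'S hk)).2] at h1
          exact lt_asymm h1 h2
        · rw [Finset.disjoint_left]
          intro i hi hi'
          have hfix := (Finset.mem_filter.1 (hF' hi')).2
          rcases Finset.mem_union.1 hi with h1 | h1
          · have := (Finset.mem_filter.1 (hR'' h1)).2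
            rw [hfix] at this
            exact lt_irrefl _ this
          · obtain ⟨k, hk, rfl⟩ := Finset.mem_image.1 h1
            rw [(hπ k (hR'S hk)).2] at hfix
            have h4 := (Finset.mem_filter.1 (hR'' hk)).2
            rw [← hfix] at h4
            exact lt_irrefl _ h4
      obtain ⟨A, σ, hA, hAd, hAu, hAσ⟩ := ih t' (by omega) (S \ B)
        (by rw [Finset.card_sdiff_of_subset hBS, hS, hBc, Nat.mul_add, Nat.mul_one]; omega) (hrest B hBS hBπ)
      refine ⟨Fin.cons B A, Fin.cons 0 fun j => (σ j).succ, ?_, ?_, ?_, ?_⟩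
      · refine fun j => Fin.cases ⟨hBc, hBS⟩ (fun j => ?_) j
        simp only [Fin.cons_succ]
        exact ⟨(hA j).1, (hA j).2.trans Finset.sdiff_subset⟩
      · have e0 : ∀ j, Disjoint B (A j) := fun j => Finset.disjoint_of_subset_right (hA j).2 Finset.disjoint_sdiff
        intro j
        induction j using Fin.cases with
        | zero =>
          intro j' hj'
          induction j' using Fin.cases with
          | zero => exact absurd rfl hj'
          | succ j' => simpa using e0 j'
        | succ j =>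
          intro j' hj'
          induction j' using Fin.cases with
          | zero => simpa using (e0 j).symm
          | succ j' => simpa using hAd j j' (fun e => hj' (by rw [e]))
      · intro i hi
        by_cases hiB : i ∈ B
        · exact ⟨0, by simpa using hiB⟩
        · obtain ⟨j', hj'⟩ := hAu i (Finset.mem_sdiff.2 ⟨hi, hiB⟩)
          exact ⟨j'.succ, by simpa using hj'⟩
      · refine fun j => Fin.cases ?_ (fun j => ?_) j
        · simpa using hBπ
        · simpa using hAσ j

end Combinatorics

/-! ### From a family of small subspaces to a decomposition -/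

section Linear

variable {ι : Type} [Fintype ι] [DecidableEq ι] {F : Type*} [Field F]

/-- A family of `c`-dimensional pieces of `S`, permuted by `x`, with the property `P`. -/
def Pieces (x : (ι → F) →ₗ[F] (ι → F)) (c : ℕ) (S : Submodule F (ι → F)) (𝓛 : Finset (Submodule F (ι → F))) : Prop :=
  𝓛.card * c = Module.finrank F S ∧ (∀ L ∈ 𝓛, L ≤ S ∧ Module.finrank F L = c ∧ L.map x ∈ 𝓛) ∧ 𝓛.sup id = S

theorem pieces_union [DecidableEq (Submodule F (ι → F))] {x : (ι → F) →ₗ[F] (ι → F)} {c : ℕ} (hc : 0 < c)
    {S S₁ S₂ : Submodule F (ι → F)} {𝓛₁ 𝓛₂ : Finset (Submodule F (ι → F))} (hsup : S₁ ⊔ S₂ = S)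
    (hdim : Module.finrank F S₁ + Module.finrank F S₂ = Module.finrank F S)
    (h₁ : Pieces x c S₁ 𝓛₁) (h₂ : Pieces x c S₂ 𝓛₂) :
    Pieces x c S (𝓛₁ ∪ 𝓛₂) ∧ Disjoint 𝓛₁ 𝓛₂ := by
  have hinf : S₁ ⊓ S₂ = ⊥ := by
    have := Submodule.finrank_sup_add_finrank_inf_eq S₁ S₂
    rw [hsup] at this
    exact Submodule.finrank_eq_zero.1 (by omega)
  have hd : Disjoint 𝓛₁ 𝓛₂ := by
    rw [Finset.disjoint_left]
    intro L hL hL'
    have h : L ≤ S₁ ⊓ S₂ := le_inf (h₁.2.1 L hL).1 (h₂.2.1 L hL').1
    rw [hinf, le_bot_iff] at h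
    have h3 := (h₁.2.1 L hL).2.1
    rw [h, finrank_bot] at h3
    omega
  refine ⟨⟨?_, ?_, ?_⟩, hd⟩
  · rw [Finset.card_union_of_disjoint hd, Nat.add_mul, h₁.1, h₂.1, hdim]
  · intro L hL
    rw [Finset.mem_union] at hL ⊢
    rcases hL with hL | hL
    · exact ⟨(h₁.2.1 L hL).1.trans (le_sup_left.trans hsup.le), (h₁.2.1 L hL).2.1, Or.inl (h₁.2.1 L hL).2.2⟩
    · exact ⟨(h₂.2.1 L hL).1.trans (le_sup_right.trans hsup.le), (h₂.2.1 L hL).2.1, Or.inr (h₂.2.1 L hL).2.2⟩
  · rw [Finset.sup_union, h₁.2.2, h₂.2.2, hsup]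

theorem finrank_finset_sup_le {β : Type*} (s : Finset β) (g : β → Submodule F (ι → F)) :
    Module.finrank F (s.sup g : Submodule F (ι → F)) ≤ ∑ b ∈ s, Module.finrank F (g b) := by
  classical
  induction s using Finset.induction_on with
  | empty => simp
  | insert a s ha ih =>
    rw [Finset.sup_insert, Finset.sum_insert ha]
    exact (Submodule.finrank_add_le_finrank_add_finrank _ _).trans (Nat.add_le_add_left ih _)

/-- Grouping pieces into an invariant decomposition. -/
theorem exists_decomposition {x : (ι → F) →ₗ[F] (ι → F)} {c : ℕ} (hc : 0 < c)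
    {𝓛 : Finset (Submodule F (ι → F))} (hP : Pieces x c ⊤ 𝓛) (hinv : ∀ L ∈ 𝓛, (L.map x).map x = L)
    (h t : ℕ) (hh : 0 < h) (ht : 2 ≤ t) (hn : Fintype.card ι = c * h * t) :
    ∃ D : Fin t → Submodule F (ι → F), Cfsg.Geo.IsMDecomposition (c * h) D ∧
      (∃ σ : Equiv.Perm (Fin t), ∀ j, (D j).map x = D (σ j)) ∧
      ∃ A : Fin t → Finset (Submodule F (ι → F)), (∀ j, A j ⊆ 𝓛) ∧ (∀ j j', j ≠ j' → Disjoint (A j) (A j')) ∧
        ∀ j, D j = (A j).sup id := by
  classical
  obtain ⟨hcard, hL, hsup⟩ := hP
  have hc' : 𝓛.card = h * t := by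
    rw [finrank_top, Module.finrank_fintype_fun_eq_card, hn] at hcard
    exact Nat.eq_of_mul_eq_mul_right hc (by rw [hcard]; ring)
  obtain ⟨A, σ, hA, hAd, hAu, hAσ⟩ := exists_blocks (fun L => L.map x) h hh t 𝓛 hc'
    fun L hL' => ⟨(hL L hL').2.2, hinv L hL'⟩
  have hσ : Function.Injective σ := by
    intro j j' hjj
    by_contra hne
    have e : (A j).image (fun L => L.map x) = (A j').image (fun L => L.map x) := by rw [hAσ, hAσ, hjj]
    have e2 : A j = A j' := by
      have h2 := congrArg (fun T : Finset (Submodule F (ι → F)) => T.image fun L => L.map x) e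
      simp only [Finset.image_image] at h2
      have hid : ∀ j, (A j).image ((fun L => L.map x) ∘ fun L => L.map x) = A j := fun j => by
        conv_rhs => rw [← Finset.image_id (s := A j)]
        exact Finset.image_congr fun L hL' => hinv L ((hA j).2 hL')
      rwa [hid, hid] at h2
    have h3 := hAd j j' hne
    rw [e2, disjoint_self, Finset.bot_eq_empty] at h3
    have h4 := (hA j').1
    rw [h3, Finset.card_empty] at h4
    omega
  set D : Fin t → Submodule F (ι → F) := fun j => (A j).sup id with hD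
  have hle : ∀ j, Module.finrank F (D j) ≤ c * h := by
    intro j
    refine (finrank_finset_sup_le _ _).trans (le_of_eq ?_)
    simp only [id_eq]
    rw [Finset.sum_congr rfl (g := fun _ => c) fun L hL' => (hL L ((hA j).2 hL')).2.1, Finset.sum_const,
      smul_eq_mul, (hA j).1, Nat.mul_comm]
  have htop : (Finset.univ : Finset (Fin t)).sup D = ⊤ := by
    rw [eq_top_iff, ← hsup]
    refine Finset.sup_le fun L hL' => ?_
    obtain ⟨j, hj⟩ := hAu L hL'
    exact le_trans (Finset.le_sup (f := id) hj) (Finset.le_sup (f := D) (Finset.mem_univ j))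
  have hkey : ∀ j, Module.finrank F (D j) = c * h ∧
      Disjoint (D j) ((Finset.univ.erase j).sup D) := by
    intro j
    have h1 : Module.finrank F ((Finset.univ.erase j).sup D : Submodule F (ι → F)) ≤ (t - 1) * (c * h) := by
      refine (finrank_finset_sup_le _ _).trans ((Finset.sum_le_card_nsmul _ _ _ fun i _ => hle i).trans (le_of_eq ?_))
      rw [smul_eq_mul, Finset.card_erase_of_mem (Finset.mem_univ j), Finset.card_univ, Fintype.card_fin]
    have h2 : D j ⊔ (Finset.univ.erase j).sup D = ⊤ := by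
      rw [← Finset.sup_insert, Finset.insert_erase (Finset.mem_univ j), htop]
    have h3 := Submodule.finrank_sup_add_finrank_inf_eq (D j) ((Finset.univ.erase j).sup D)
    rw [h2, finrank_top, Module.finrank_fintype_fun_eq_card, hn] at h3
    have h4 := hle j
    have h5 : c * h * t = (t - 1) * (c * h) + c * h := by
      conv_lhs => rw [show t = (t - 1) + 1 by omega]
      ring
    refine ⟨by omega, disjoint_iff.2 (Submodule.finrank_eq_zero.1 ?_)⟩
    omega
  refine ⟨D, ⟨ht, Nat.mul_pos hc hh, fun j => (hkey j).1, ?_, ?_⟩,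
    ⟨Equiv.ofBijective σ (Finite.injective_iff_bijective.1 hσ), fun j => ?_⟩,
    A, fun j => (hA j).2, hAd, fun j => rfl⟩
  · intro j
    refine Disjoint.mono_right ?_ (hkey j).2
    exact iSup₂_le fun i hi => Finset.le_sup (f := D) (Finset.mem_erase.2 ⟨hi, Finset.mem_univ i⟩)
  · rw [eq_top_iff, ← htop]
    exact Finset.sup_le fun i _ => le_iSup D i
  · show ((A j).sup id).map x = (A (σ j)).sup id
    rw [← hAσ j, Finset.sup_image, Function.id_comp]
    exact Finset.comp_sup_eq_sup_comp (fun p : Submodule F (ι → F) => p.map x) (fun p p' => Submodule.map_sup p p' x)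
      (Submodule.map_bot x)

/-- A map with scalar square permutes the lines of a basis. -/
theorem exists_lines (x : (ι → F) →ₗ[F] (ι → F)) {z : F} (hz : z ≠ 0) (hx : ∀ v, x (x v) = z • v) :
    ∀ (d : ℕ) (S : Submodule F (ι → F)), Module.finrank F S = d → (∀ v ∈ S, x v ∈ S) →
      ∃ 𝓛, Pieces x 1 S 𝓛 := by
  classical
  intro d
  induction d using Nat.strong_induction_on with
  | _ d ih =>
    intro S hd hS
    have hmap : ∀ u, (F ∙ u).map x = F ∙ x u := fun u => by rw [Submodule.map_span, Set.image_singleton]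
    have hxu : ∀ u, u ≠ 0 → x u ≠ 0 := fun u hu he => by
      have h1 := hx u
      rw [he, map_zero] at h1
      exact smul_ne_zero hz hu h1.symm
    by_cases hgen : ∃ u ∈ S, x u ∉ F ∙ u
    · obtain ⟨u, hu, hxu'⟩ := hgen
      have hu0 : u ≠ 0 := by rintro rfl; exact hxu' (by rw [map_zero]; exact Submodule.zero_mem _)
      obtain ⟨φ, hφx, hφu⟩ := Submodule.exists_dual_map_eq_bot_of_notMem hxu' inferInstance
      have hφu' : φ u = 0 := by
        have : φ u ∈ (F ∙ u).map φ := ⟨u, Submodule.mem_span_singleton_self u, rfl⟩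
        rwa [hφu, Submodule.mem_bot] at this
      set L := φ.prod (φ ∘ₗ x) with hLdef
      set S' := S ⊓ LinearMap.ker L with hS'
      have hS'x : ∀ v ∈ S', x v ∈ S' := by
        rintro v ⟨hv, hv'⟩
        have h' : φ v = 0 ∧ φ (x v) = 0 := by simpa [hLdef, Prod.ext_iff] using hv'
        exact ⟨hS v hv, by simp [hLdef, hx, h'.1, h'.2]⟩
      set P := (F ∙ u) ⊔ (F ∙ x u) with hPdef
      have hPS : P ≤ S := sup_le (by rwa [Submodule.span_singleton_le_iff_mem])
        (by rw [Submodule.span_singleton_le_iff_mem]; exact hS u hu)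
      have hne : F ∙ u ≠ F ∙ x u := fun e => hxu' (by rw [e]; exact Submodule.mem_span_singleton_self _)
      have hP2 : Module.finrank F P ≤ 2 := by
        refine (Submodule.finrank_add_le_finrank_add_finrank _ _).trans ?_
        rw [finrank_span_singleton hu0, finrank_span_singleton (hxu u hu0)]
      have hsup : P ⊔ S' = S := by
        refine le_antisymm (sup_le hPS inf_le_left) fun v hv => ?_
        set a := φ v / φ (x u) with ha
        set b := φ (x v) / φ (x u) with hb
        have : v - (b • u + a • x u) ∈ S' := by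
          refine ⟨S.sub_mem hv (S.add_mem (S.smul_mem _ hu) (S.smul_mem _ (hS u hu))), ?_⟩
          simp [hLdef, hx, hφu', ha, hb, hφx]
        have e : v = (b • u + a • x u) + (v - (b • u + a • x u)) := by abel
        rw [e]
        exact Submodule.add_mem_sup (Submodule.add_mem_sup (Submodule.smul_mem _ _ (Submodule.mem_span_singleton_self _))
          (Submodule.smul_mem _ _ (Submodule.mem_span_singleton_self _))) this
      have hS'2 : Module.finrank F S' + 2 = Module.finrank F S := by
        have hs : Function.Surjective (L ∘ₗ S.subtype) := by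
          rintro ⟨p, r⟩
          refine ⟨(r / φ (x u)) • ⟨u, hu⟩ + (p / φ (x u)) • ⟨x u, hS u hu⟩, ?_⟩
          simp [hLdef, hx, hφu', hφx]
        have h1 := (L ∘ₗ S.subtype).finrank_range_add_finrank_ker
        rw [LinearMap.range_eq_top.mpr hs, finrank_top, Module.finrank_prod, Module.finrank_self] at h1
        have h2 : Module.finrank F (LinearMap.ker (L ∘ₗ S.subtype)) = Module.finrank F S' := by
          rw [hS', ← Submodule.map_comap_subtype S (LinearMap.ker L), ← LinearMap.ker_comp]
          exact (Submodule.equivMapOfInjective _ S.subtype_injective _).finrank_eq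
        omega
      have hPdim : Module.finrank F P = 2 := by
        have := Submodule.finrank_add_le_finrank_add_finrank P S'
        rw [hsup] at this
        omega
      have hpair : Pieces x 1 P {F ∙ u, F ∙ x u} := by
        refine ⟨by rw [Finset.card_pair hne, hPdim], ?_, by rw [Finset.sup_insert, Finset.sup_singleton]; rfl⟩
        intro L hL
        rw [Finset.mem_insert, Finset.mem_singleton] at hL
        rcases hL with rfl | rfl
        · exact ⟨le_sup_left, finrank_span_singleton hu0, by rw [hmap]; simp⟩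
        · refine ⟨le_sup_right, finrank_span_singleton (hxu u hu0), ?_⟩
          rw [hmap, hx, Submodule.span_singleton_smul_eq (Ne.isUnit hz)]
          simp
      obtain ⟨𝓛', h'⟩ := ih _ (by omega) S' rfl hS'x
      exact ⟨_, (pieces_union Nat.one_pos hsup (by omega) hpair h').1⟩
    · push Not at hgen
      let b := Module.finBasis F S
      refine ⟨Finset.univ.image fun i => F ∙ ((b i : S) : ι → F), ?_, ?_, ?_⟩
      · rw [Finset.card_image_of_injective, Finset.card_univ, Fintype.card_fin, Nat.mul_one]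
        intro i j hij
        by_contra hne
        have hmem : ((b i : S) : ι → F) ∈ F ∙ ((b j : S) : ι → F) := by
          have e : F ∙ ((b i : S) : ι → F) = F ∙ ((b j : S) : ι → F) := hij
          rw [← e]
          exact Submodule.mem_span_singleton_self _
        obtain ⟨a, ha⟩ := Submodule.mem_span_singleton.1 hmem
        have h1 := congrArg (fun s : S => b.repr s i) (Subtype.ext (show ((a • b j : S) : ι → F) = _ from ha))
        simp [Ne.symm hne] at h1
      · intro L hL
        obtain ⟨i, -, rfl⟩ := Finset.mem_image.1 hL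
        have h0 : ((b i : S) : ι → F) ≠ 0 := by simpa using b.ne_zero i
        refine ⟨by rw [Submodule.span_singleton_le_iff_mem]; exact (b i).2, finrank_span_singleton h0, ?_⟩
        rw [hmap]
        obtain ⟨a, ha⟩ := Submodule.mem_span_singleton.1 (hgen _ (b i).2)
        have ha0 : a ≠ 0 := fun e => hxu _ h0 (by rw [← ha, e, zero_smul])
        rw [← ha, Submodule.span_singleton_smul_eq (Ne.isUnit ha0)]
        exact Finset.mem_image_of_mem _ (Finset.mem_univ i)
      · refine le_antisymm (Finset.sup_le fun L hL => ?_) fun v hv => ?_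
        · obtain ⟨i, -, rfl⟩ := Finset.mem_image.1 hL
          rw [id, Submodule.span_singleton_le_iff_mem]
          exact (b i).2
        · have e := congrArg Subtype.val (b.sum_repr ⟨v, hv⟩)
          rw [Submodule.coe_sum] at e
          rw [← show _ = v from e]
          refine Submodule.sum_mem _ fun i _ => ?_
          have hle' : F ∙ ((b i : S) : ι → F) ≤ (Finset.univ.image fun i => F ∙ ((b i : S) : ι → F)).sup id :=
            Finset.le_sup (f := id) (Finset.mem_image_of_mem (fun i => F ∙ ((b i : S) : ι → F)) (Finset.mem_univ i))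
          exact hle' (Submodule.smul_mem _ _ (Submodule.mem_span_singleton_self _))

end Linear

/-! ### Symplectic maps with scalar square -/

section Symp

variable {ι : Type} [Fintype ι] [DecidableEq ι] {F : Type*} [Field F] (f : AltForm ι F)

/-- The part of `S` orthogonal to the pair `u, v`. -/
def rest (S : Submodule F (ι → F)) (u v : ι → F) : Submodule F (ι → F) :=
  S ⊓ LinearMap.ker ((f.B.flip v).prod (f.B.flip u))

theorem mem_rest {S : Submodule F (ι → F)} {u v w : ι → F} :
    w ∈ rest f S u v ↔ w ∈ S ∧ f.B w v = 0 ∧ f.B w u = 0 := by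
  simp [rest]

theorem pair_dim {u v : ι → F} (h : f.B u v = 1) : Module.finrank F ((F ∙ u) ⊔ (F ∙ v) : Submodule F (ι → F)) = 2 := by
  have hu : u ≠ 0 := by rintro rfl; simp at h
  have hv : v ≠ 0 := by rintro rfl; simp at h
  have h1 := Submodule.finrank_sup_add_finrank_inf_eq (F ∙ u) (F ∙ v)
  have h2 : (F ∙ u) ⊓ (F ∙ v) = ⊥ := by
    rw [eq_bot_iff]
    rintro w ⟨hw1, hw2⟩
    obtain ⟨a, rfl⟩ := Submodule.mem_span_singleton.1 hw1
    obtain ⟨b, hb⟩ := Submodule.mem_span_singleton.1 hw2
    have := congrArg (fun w => f.B u w) hb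
    simp [h, f.alt] at this
    simp [← hb, this]
  rw [h2, finrank_bot, finrank_span_singleton hu, finrank_span_singleton hv, Nat.add_zero] at h1
  exact h1

theorem rest_spec {S : Submodule F (ι → F)} (hS : f.NdOn S) {u v : ι → F} (hu : u ∈ S) (hv : v ∈ S)
    (h : f.B u v = 1) :
    f.NdOn (rest f S u v) ∧ ((F ∙ u) ⊔ (F ∙ v)) ⊔ rest f S u v = S ∧
      Module.finrank F (rest f S u v) + 2 = Module.finrank F S ∧ f.NdOn ((F ∙ u) ⊔ (F ∙ v)) ∧
      ∀ p ∈ (F ∙ u) ⊔ (F ∙ v), ∀ w ∈ rest f S u v, f.B p w = 0 := by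
  have h' : f.B v u = -1 := by rw [f.skew, h]
  have hsplit : ∀ y ∈ S, y - (f.B y v • u - f.B y u • v) ∈ rest f S u v := by
    intro y hy
    refine (mem_rest f).2 ⟨S.sub_mem hy (S.sub_mem (S.smul_mem _ hu) (S.smul_mem _ hv)), ?_, ?_⟩ <;>
      simp [h, h', f.alt]
  have horth : ∀ p ∈ (F ∙ u) ⊔ (F ∙ v), ∀ w ∈ rest f S u v, f.B p w = 0 := by
    intro p hp w hw
    obtain ⟨-, h1, h2⟩ := (mem_rest f).1 hw
    obtain ⟨a, ha, b, hb, rfl⟩ := Submodule.mem_sup.1 hp
    obtain ⟨a', rfl⟩ := Submodule.mem_span_singleton.1 ha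
    obtain ⟨b', rfl⟩ := Submodule.mem_span_singleton.1 hb
    simp [f.skew u w, f.skew v w, h1, h2]
  refine ⟨?_, ?_, f.pair_perp_finrank hu hv h, ?_, horth⟩
  · intro w hw hw0
    obtain ⟨hwS, h1, h2⟩ := (mem_rest f).1 hw
    obtain ⟨y, hy, hwy⟩ := hS w hwS hw0
    exact ⟨_, hsplit y hy, by simp [h1, h2, hwy]⟩
  · refine le_antisymm (sup_le (sup_le (by rwa [Submodule.span_singleton_le_iff_mem])
      (by rwa [Submodule.span_singleton_le_iff_mem])) inf_le_left) fun y hy => ?_
    have e : y = (f.B y v • u - f.B y u • v) + (y - (f.B y v • u - f.B y u • v)) := by abel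
    rw [e]
    refine Submodule.add_mem_sup ?_ (hsplit y hy)
    rw [sub_eq_add_neg, ← neg_smul]
    exact Submodule.add_mem_sup (Submodule.smul_mem _ _ (Submodule.mem_span_singleton_self _))
      (Submodule.smul_mem _ _ (Submodule.mem_span_singleton_self _))
  · intro p hp hp0
    obtain ⟨a, ha, b, hb, rfl⟩ := Submodule.mem_sup.1 hp
    obtain ⟨a', rfl⟩ := Submodule.mem_span_singleton.1 ha
    obtain ⟨b', rfl⟩ := Submodule.mem_span_singleton.1 hb
    by_cases ha' : a' = 0
    · refine ⟨u, Submodule.mem_sup_left (Submodule.mem_span_singleton_self u), ?_⟩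
      have hb' : b' ≠ 0 := fun e => hp0 (by simp [ha', e])
      simp [ha', h', hb']
    · refine ⟨v, Submodule.mem_sup_right (Submodule.mem_span_singleton_self v), ?_⟩
      simp [h, f.alt, ha']

variable (x : (ι → F) →ₗ[F] (ι → F))

/-- The three possible first steps. -/
theorem first_step {S : Submodule F (ι → F)} (hS : f.NdOn S) (hne : S ≠ ⊥) (hSx : ∀ v ∈ S, x v ∈ S) :
    (∃ u ∈ S, f.B u (x u) ≠ 0) ∨
    ((∀ u ∈ S, f.B u (x u) = 0) ∧ ∃ u ∈ S, ∃ v ∈ S, f.B u v = 1 ∧ ∃ a : F, x u = a • u ∧ x v = a • v) ∨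
    ((∀ u ∈ S, f.B u (x u) = 0) ∧ ∃ u ∈ S, ∃ v ∈ S, f.B u v = 1 ∧
      f.B (x u) v = 0 ∧ f.B (x v) u = 0) := by
  by_cases hA : ∃ u ∈ S, f.B u (x u) ≠ 0
  · exact Or.inl hA
  push Not at hA
  refine Or.inr ?_
  by_cases hgen : ∃ u ∈ S, x u ∉ F ∙ u
  · right
    obtain ⟨u, hu, hxu⟩ := hgen
    refine ⟨hA, u, hu, ?_⟩
    obtain ⟨e, he, hue⟩ := hS u hu (by rintro rfl; exact hxu (by rw [map_zero]; exact Submodule.zero_mem _))
    -- remove the component along `x u`
    set a := f.B (x u) e / f.B u e with ha
    have hw : x u - a • u ≠ 0 := fun e' => hxu (Submodule.mem_span_singleton.2 ⟨a, (sub_eq_zero.1 e').symm⟩)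
    obtain ⟨k, hk, hwk⟩ := hS _ (S.sub_mem (hSx u hu) (S.smul_mem a hu)) hw
    have ht : f.B (x u - a • u) e = 0 := by simp [ha, hue]
    set k' := k - (f.B u k / f.B u e) • e with hk'
    have hk'S : k' ∈ S := S.sub_mem hk (S.smul_mem _ he)
    have hk'u : f.B u k' = 0 := by simp [hk', hue]
    have hk'w : f.B (x u - a • u) k' ≠ 0 := by
      rw [hk', map_sub, map_smul, ht, smul_zero, sub_zero]
      exact hwk
    have hk'x : f.B (x u) k' ≠ 0 := by
      intro h0
      apply hk'w
      simp [h0, hk'u]
    refine ⟨(f.B u e)⁻¹ • (e - (f.B (x u) e / f.B (x u) k') • k'), ?_, ?_, ?_, ?_⟩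
    · exact S.smul_mem _ (S.sub_mem he (S.smul_mem _ hk'S))
    · simp [hk'u, hue]
    · simp [hk'x]
    · set v := (f.B u e)⁻¹ • (e - (f.B (x u) e / f.B (x u) k') • k') with hv
      have hvS : v ∈ S := S.smul_mem _ (S.sub_mem he (S.smul_mem _ hk'S))
      have h1 := hA (u + v) (S.add_mem hu hvS)
      have h2 : f.B (x u) v = 0 := by simp [hv, hk'x]
      rw [map_add, map_add, LinearMap.add_apply, map_add, map_add, hA u hu, hA v hvS] at h1
      simp only [zero_add, add_zero] at h1
      rw [f.skew v (x u), h2, neg_zero, add_zero] at h1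
      rw [f.skew, h1, neg_zero]
  · left
    push Not at hgen
    obtain ⟨u, hu, v, hv, huv⟩ := f.exists_pair hS hne
    refine ⟨hA, u, hu, v, hv, huv, ?_⟩
    obtain ⟨a, ha⟩ := Submodule.mem_span_singleton.1 (hgen u hu)
    obtain ⟨b, hb⟩ := Submodule.mem_span_singleton.1 (hgen v hv)
    obtain ⟨c, hc⟩ := Submodule.mem_span_singleton.1 (hgen _ (S.add_mem hu hv))
    rw [map_add, ← ha, ← hb, smul_add] at hc
    have e1 := congrArg (fun w => f.B w v) hc
    have e2 := congrArg (fun w => f.B u w) hc
    simp [huv, f.alt] at e1 e2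
    exact ⟨a, ha.symm, by rw [← hb, ← e2, ← e1]⟩

/-- An isometry with scalar square permutes orthogonal hyperbolic planes. -/
theorem exists_planes {z : F} (hz : z ≠ 0) (hx : ∀ v, x (x v) = z • v)
    (hiso : ∀ u v, f.B (x u) (x v) = f.B u v) :
    ∀ (d : ℕ) (S : Submodule F (ι → F)), Module.finrank F S = d → f.NdOn S → (∀ v ∈ S, x v ∈ S) →
      ∃ 𝓛, Pieces x 2 S 𝓛 ∧ (∀ L ∈ 𝓛, f.NdOn L) ∧
        ∀ L ∈ 𝓛, ∀ L' ∈ 𝓛, L ≠ L' → ∀ a ∈ L, ∀ b ∈ L', f.B a b = 0 := by
  classical
  intro d
  induction d using Nat.strong_induction_on with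
  | _ d ih =>
    intro S hd hS hSx
    by_cases hne : S = ⊥
    · subst hne
      exact ⟨∅, ⟨by simp, by simp, by simp⟩, by simp, by simp⟩
    have hxz : ∀ w y, f.B (x w) y = z⁻¹ * f.B w (x y) := by
      intro w y
      have h2 : f.B (x w) (z • y) = f.B w (x y) := by rw [← hx y, hiso]
      rw [map_smul, smul_eq_mul] at h2
      rw [← h2, ← mul_assoc, inv_mul_cancel₀ hz, one_mul]
    have hmap2 : ∀ u v, ((F ∙ u) ⊔ (F ∙ v)).map x = (F ∙ x u) ⊔ (F ∙ x v) := fun u v => by
      rw [Submodule.map_sup, Submodule.map_span, Submodule.map_span, Set.image_singleton, Set.image_singleton]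
    -- an invariant plane
    have hplane : ∀ u ∈ S, ∀ v ∈ S, f.B u v = 1 → x u ∈ (F ∙ u) ⊔ (F ∙ v) → x v ∈ (F ∙ u) ⊔ (F ∙ v) →
        ∃ 𝓛, Pieces x 2 S 𝓛 ∧ (∀ L ∈ 𝓛, f.NdOn L) ∧
          ∀ L ∈ 𝓛, ∀ L' ∈ 𝓛, L ≠ L' → ∀ a ∈ L, ∀ b ∈ L', f.B a b = 0 := by
      intro u hu v hv huv hxu hxv
      obtain ⟨r1, r2, r3, r4, r5⟩ := rest_spec f hS hu hv huv
      set P := (F ∙ u) ⊔ (F ∙ v) with hP
      have hPd : Module.finrank F P = 2 := pair_dim f huv
      have hPx : P.map x = P := by
        refine Submodule.eq_of_le_of_finrank_le ?_ ?_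
        · rw [hP, hmap2]
          exact sup_le (by rwa [Submodule.span_singleton_le_iff_mem]) (by rwa [Submodule.span_singleton_le_iff_mem])
        · have hinjx : Function.Injective x := by
            refine (injective_iff_map_eq_zero x).2 fun w hw => ?_
            have h1 := hx w
            rw [hw, map_zero] at h1
            exact (smul_eq_zero.1 h1.symm).resolve_left hz
          exact le_of_eq (Submodule.equivMapOfInjective x hinjx P).finrank_eq
      have hrx : ∀ w ∈ rest f S u v, x w ∈ rest f S u v := by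
        intro w hw
        refine (mem_rest f).2 ⟨hSx w ((mem_rest f).1 hw).1, ?_, ?_⟩
        · rw [hxz, f.skew, r5 _ hxv w hw]; simp
        · rw [hxz, f.skew, r5 _ hxu w hw]; simp
      obtain ⟨𝓛', h', hnd', horth'⟩ := ih _ (by omega) _ rfl r1 hrx
      have hpc : Pieces x 2 P {P} := by
        refine ⟨by simp [hPd], ?_, by simp⟩
        intro L hL
        rw [Finset.mem_singleton] at hL
        subst hL
        exact ⟨le_rfl, hPd, by simp [hPx]⟩
      refine ⟨_, (pieces_union Nat.two_pos r2 (by omega) hpc h').1, ?_, ?_⟩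
      · intro L hL
        rcases Finset.mem_union.1 hL with hL | hL
        · rw [Finset.mem_singleton.1 hL]; exact r4
        · exact hnd' L hL
      · intro L hL L' hL' hne a ha b hb
        rcases Finset.mem_union.1 hL with hL | hL <;> rcases Finset.mem_union.1 hL' with hL' | hL'
        · exact absurd ((Finset.mem_singleton.1 hL).trans (Finset.mem_singleton.1 hL').symm) hne
        · rw [Finset.mem_singleton.1 hL] at ha
          exact r5 a ha b ((h'.2.1 L' hL').1 hb)
        · rw [Finset.mem_singleton.1 hL'] at hb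
          rw [f.skew, r5 b hb a ((h'.2.1 L hL).1 ha), neg_zero]
        · exact horth' L hL L' hL' hne a ha b hb
    rcases first_step f x hS hne hSx with ⟨u, hu, hux⟩ | ⟨-, u, hu, v, hv, huv, a, hau, hav⟩ |
      ⟨hA, u, hu, v, hv, huv, hxuv, hxvu⟩
    · refine hplane u hu ((f.B u (x u))⁻¹ • x u) (S.smul_mem _ (hSx u hu))
        (by rw [map_smul, smul_eq_mul, inv_mul_cancel₀ hux]) ?_ ?_
      · refine Submodule.mem_sup_right (Submodule.mem_span_singleton.2 ⟨f.B u (x u), ?_⟩)
        rw [smul_smul, mul_inv_cancel₀ hux, one_smul]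
      · rw [map_smul, hx, smul_smul]
        exact Submodule.mem_sup_left (Submodule.smul_mem _ _ (Submodule.mem_span_singleton_self u))
    · exact hplane u hu v hv huv
        (by rw [hau]; exact Submodule.mem_sup_left (Submodule.smul_mem _ _ (Submodule.mem_span_singleton_self u)))
        (by rw [hav]; exact Submodule.mem_sup_right (Submodule.smul_mem _ _ (Submodule.mem_span_singleton_self v)))
    · -- two interchanged planes
      obtain ⟨r1, r2, r3, r4, r5⟩ := rest_spec f hS hu hv huv
      have hxx : f.B (x u) (x v) = 1 := by rw [hiso, huv]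
      have hxuR : x u ∈ rest f S u v :=
        (mem_rest f).2 ⟨hSx u hu, hxuv, by rw [f.skew, hA u hu, neg_zero]⟩
      have hxvR : x v ∈ rest f S u v :=
        (mem_rest f).2 ⟨hSx v hv, by rw [f.skew, hA v hv, neg_zero], hxvu⟩
      obtain ⟨s1, s2, s3, s4, s5⟩ := rest_spec f r1 hxuR hxvR hxx
      set P := (F ∙ u) ⊔ (F ∙ v) with hP
      set P' := (F ∙ x u) ⊔ (F ∙ x v) with hP'
      have hPd : Module.finrank F P = 2 := pair_dim f huv
      have hP'd : Module.finrank F P' = 2 := pair_dim f hxx
      have hP'R : P' ≤ rest f S u v := sup_le (by rwa [Submodule.span_singleton_le_iff_mem])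
        (by rwa [Submodule.span_singleton_le_iff_mem])
      have hne' : P ≠ P' := by
        intro e
        have h1 : f.B u v = 0 := r5 u (Submodule.mem_sup_left (Submodule.mem_span_singleton_self u)) v
          (hP'R (e ▸ Submodule.mem_sup_right (Submodule.mem_span_singleton_self v)))
        rw [huv] at h1
        exact one_ne_zero h1
      have hPP' : P.map x = P' := hmap2 u v
      have hP'P : P'.map x = P := by
        rw [hP', hmap2, hx, hx, Submodule.span_singleton_smul_eq (Ne.isUnit hz),
          Submodule.span_singleton_smul_eq (Ne.isUnit hz)]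
      set S₂ := rest f (rest f S u v) (x u) (x v) with hS₂
      have hS₂x : ∀ w ∈ S₂, x w ∈ S₂ := by
        intro w hw
        obtain ⟨hwR, h1, h2⟩ := (mem_rest f).1 hw
        obtain ⟨hwS, h3, h4⟩ := (mem_rest f).1 hwR
        refine (mem_rest f).2 ⟨(mem_rest f).2 ⟨hSx w hwS, ?_, ?_⟩, ?_, ?_⟩
        · rw [hxz, h1, mul_zero]
        · rw [hxz, h2, mul_zero]
        · rw [hiso, h3]
        · rw [hiso, h4]
      obtain ⟨𝓛', h', hnd', horth'⟩ := ih _ (by omega) S₂ rfl s1 hS₂x
      have hsupPP : P ⊔ P' ⊔ S₂ = S := by rw [sup_assoc, s2, r2]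
      have hdimPP : Module.finrank F (P ⊔ P' : Submodule F (ι → F)) = 4 := by
        have h1 := Submodule.finrank_add_le_finrank_add_finrank (P ⊔ P') S₂
        rw [hsupPP] at h1
        have h2 := Submodule.finrank_add_le_finrank_add_finrank P P'
        omega
      have hpc : Pieces x 2 (P ⊔ P') {P, P'} := by
        refine ⟨by rw [Finset.card_pair hne', hdimPP], ?_, by rw [Finset.sup_insert, Finset.sup_singleton]; rfl⟩
        intro L hL
        rw [Finset.mem_insert, Finset.mem_singleton] at hL
        rcases hL with rfl | rfl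
        · exact ⟨le_sup_left, hPd, by rw [hPP']; simp⟩
        · exact ⟨le_sup_right, hP'd, by rw [hP'P]; simp⟩
      refine ⟨_, (pieces_union Nat.two_pos hsupPP (by omega) hpc h').1, ?_, ?_⟩
      · intro L hL
        rcases Finset.mem_union.1 hL with hL | hL
        · rw [Finset.mem_insert, Finset.mem_singleton] at hL
          rcases hL with rfl | rfl
          · exact r4
          · exact s4
        · exact hnd' L hL
      · have q1 : ∀ a ∈ P, ∀ b ∈ P', f.B a b = 0 := fun a ha b hb => r5 a ha b (hP'R hb)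
        have q2 : ∀ a ∈ P, ∀ b ∈ S₂, f.B a b = 0 := fun a ha b hb => r5 a ha b ((mem_rest f).1 hb).1
        intro L hL L' hL' hne a ha b hb
        rcases Finset.mem_union.1 hL with hL | hL <;> rcases Finset.mem_union.1 hL' with hL' | hL'
        · rw [Finset.mem_insert, Finset.mem_singleton] at hL hL'
          rcases hL with rfl | rfl <;> rcases hL' with rfl | rfl
          · exact absurd rfl hne
          · exact q1 a ha b hb
          · rw [f.skew, q1 b hb a ha, neg_zero]
          · exact absurd rfl hne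
        · rw [Finset.mem_insert, Finset.mem_singleton] at hL
          have hb' := (h'.2.1 L' hL').1 hb
          rcases hL with rfl | rfl
          · exact q2 a ha b hb'
          · exact s5 a ha b hb'
        · rw [Finset.mem_insert, Finset.mem_singleton] at hL'
          have ha' := (h'.2.1 L hL).1 ha
          rcases hL' with rfl | rfl
          · rw [f.skew, q2 b hb a ha', neg_zero]
          · rw [f.skew, s5 b hb a ha', neg_zero]
        · exact horth' L hL L' hL' hne a ha b hb

/-- An involution-like isometry preserves a pair of complementary totally isotropic subspaces. -/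
theorem exists_polar (h2 : (2 : F) ≠ 0) {z : F} (hz : z = 1 ∨ z = -1) (hx : ∀ v, x (x v) = z • v)
    (hiso : ∀ u v, f.B (x u) (x v) = f.B u v) :
    ∀ (d : ℕ) (S : Submodule F (ι → F)), Module.finrank F S = d → f.NdOn S → (∀ v ∈ S, x v ∈ S) →
      ∃ U W : Submodule F (ι → F), U ⊔ W = S ∧ (∀ a ∈ U, ∀ b ∈ U, f.B a b = 0) ∧
        (∀ a ∈ W, ∀ b ∈ W, f.B a b = 0) ∧
        (z = 1 → U.map x = U ∧ W.map x = W) ∧ (z = -1 → U.map x = W ∧ W.map x = U) := by
  classical
  have hz0 : z ≠ 0 := by rcases hz with rfl | rfl <;> simp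
  have hxz : ∀ w y, f.B (x w) y = z⁻¹ * f.B w (x y) := by
    intro w y
    have h3 : f.B (x w) (z • y) = f.B w (x y) := by rw [← hx y, hiso]
    rw [map_smul, smul_eq_mul] at h3
    rw [← h3, ← mul_assoc, inv_mul_cancel₀ hz0, one_mul]
  have hone : z = 1 → ∀ u, f.B u (x u) = 0 := by
    rintro rfl u
    have h := hxz u u
    rw [f.skew (x u) u, inv_one, one_mul] at h
    have : (2 : F) * f.B u (x u) = 0 := by linear_combination -h
    exact (mul_eq_zero.1 this).resolve_left h2
  intro d
  induction d using Nat.strong_induction_on with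
  | _ d ih =>
    intro S hd hS hSx
    by_cases hne : S = ⊥
    · subst hne
      exact ⟨⊥, ⊥, by simp, by simp, by simp, fun _ => by simp, fun _ => by simp⟩
    have glue : ∀ (U₀ W₀ S₁ : Submodule F (ι → F)), (U₀ ⊔ W₀) ⊔ S₁ = S → Module.finrank F S₁ < d → f.NdOn S₁ →
        (∀ v ∈ S₁, x v ∈ S₁) → (∀ a ∈ U₀, ∀ b ∈ U₀, f.B a b = 0) → (∀ a ∈ W₀, ∀ b ∈ W₀, f.B a b = 0) →
        (∀ a ∈ U₀ ⊔ W₀, ∀ b ∈ S₁, f.B a b = 0) →
        (z = 1 → U₀.map x = U₀ ∧ W₀.map x = W₀) → (z = -1 → U₀.map x = W₀ ∧ W₀.map x = U₀) →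
        ∃ U W : Submodule F (ι → F), U ⊔ W = S ∧ (∀ a ∈ U, ∀ b ∈ U, f.B a b = 0) ∧
          (∀ a ∈ W, ∀ b ∈ W, f.B a b = 0) ∧
          (z = 1 → U.map x = U ∧ W.map x = W) ∧ (z = -1 → U.map x = W ∧ W.map x = U) := by
      intro U₀ W₀ S₁ hsup hlt hS₁ hS₁x hU₀ hW₀ horth h1 hm1
      obtain ⟨U, W, hUW, hU, hW, k1, km1⟩ := ih _ hlt S₁ rfl hS₁ hS₁x
      refine ⟨U₀ ⊔ U, W₀ ⊔ W, by rw [sup_sup_sup_comm, hUW, hsup], ?_, ?_, ?_, ?_⟩
      · intro a ha b hb
        obtain ⟨a₀, ha₀, a₁, ha₁, rfl⟩ := Submodule.mem_sup.1 ha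
        obtain ⟨b₀, hb₀, b₁, hb₁, rfl⟩ := Submodule.mem_sup.1 hb
        have e1 := horth a₀ (Submodule.mem_sup_left ha₀) b₁ (hUW ▸ Submodule.mem_sup_left hb₁)
        have e2 := horth b₀ (Submodule.mem_sup_left hb₀) a₁ (hUW ▸ Submodule.mem_sup_left ha₁)
        rw [f.skew] at e2
        simp [hU₀ _ ha₀ _ hb₀, hU _ ha₁ _ hb₁, e1, neg_eq_zero.1 e2]
      · intro a ha b hb
        obtain ⟨a₀, ha₀, a₁, ha₁, rfl⟩ := Submodule.mem_sup.1 ha
        obtain ⟨b₀, hb₀, b₁, hb₁, rfl⟩ := Submodule.mem_sup.1 hb
        have e1 := horth a₀ (Submodule.mem_sup_right ha₀) b₁ (hUW ▸ Submodule.mem_sup_right hb₁)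
        have e2 := horth b₀ (Submodule.mem_sup_right hb₀) a₁ (hUW ▸ Submodule.mem_sup_right ha₁)
        rw [f.skew] at e2
        simp [hW₀ _ ha₀ _ hb₀, hW _ ha₁ _ hb₁, e1, neg_eq_zero.1 e2]
      · intro h
        rw [Submodule.map_sup, Submodule.map_sup, (h1 h).1, (h1 h).2, (k1 h).1, (k1 h).2]
        exact ⟨rfl, rfl⟩
      · intro h
        rw [Submodule.map_sup, Submodule.map_sup, (hm1 h).1, (hm1 h).2, (km1 h).1, (km1 h).2]
        exact ⟨rfl, rfl⟩
    have tiso : ∀ u : ι → F, ∀ a ∈ F ∙ u, ∀ b ∈ F ∙ u, f.B a b = 0 := by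
      intro u a ha b hb
      obtain ⟨a', rfl⟩ := Submodule.mem_span_singleton.1 ha
      obtain ⟨b', rfl⟩ := Submodule.mem_span_singleton.1 hb
      simp [f.alt]
    have hmap1 : ∀ u, (F ∙ u).map x = F ∙ x u := fun u => by rw [Submodule.map_span, Set.image_singleton]
    rcases first_step f x hS hne hSx with ⟨u, hu, hux⟩ | ⟨hA, u, hu, v, hv, huv, a, hau, hav⟩ |
      ⟨hA, u, hu, v, hv, huv, hxuv, hxvu⟩
    · -- then `z = -1`
      have hzm : z = -1 := hz.resolve_left fun h => hux (hone h u)
      set v := (f.B u (x u))⁻¹ • x u with hvdef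
      have hv : v ∈ S := S.smul_mem _ (hSx u hu)
      have huv : f.B u v = 1 := by rw [hvdef, map_smul, smul_eq_mul, inv_mul_cancel₀ hux]
      obtain ⟨r1, r2, r3, r4, r5⟩ := rest_spec f hS hu hv huv
      have hW : F ∙ v = F ∙ x u := by
        rw [hvdef, Submodule.span_singleton_smul_eq (inv_ne_zero hux).isUnit]
      refine glue (F ∙ u) (F ∙ v) _ r2 (by omega) r1 ?_ (tiso u) (tiso v) r5
        (fun h => absurd (h.symm.trans hzm) (by intro e; exact h2 (by linear_combination e))) (fun _ => ?_)
      · intro w hw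
        obtain ⟨hwS, h3, h4⟩ := (mem_rest f).1 hw
        refine (mem_rest f).2 ⟨hSx w hwS, ?_, ?_⟩
        · rw [hxz, hvdef, map_smul, hx]
          simp [h4]
        · have h5 : x u = f.B u (x u) • v := by rw [hvdef, smul_smul, mul_inv_cancel₀ hux, one_smul]
          rw [hxz, h5, map_smul, h3]
          simp
      · rw [hmap1, hW]
        refine ⟨rfl, ?_⟩
        rw [hmap1, hx, Submodule.span_singleton_smul_eq (Ne.isUnit hz0)]
    · have hz1 : z = 1 := by
        refine hz.resolve_right fun h => ?_
        subst h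
        have e1 : a * a = -1 := by
          have := congrArg (fun w => f.B w v) (hx u)
          simp [hau, huv] at this
          linear_combination this
        have e2 : a * a = 1 := by
          have := hiso u v
          rw [hau, hav] at this
          simp [huv] at this
          linear_combination this
        exact h2 (by linear_combination e1 - e2)
      obtain ⟨r1, r2, r3, r4, r5⟩ := rest_spec f hS hu hv huv
      have ha0 : a ≠ 0 := by
        rintro rfl
        have := hiso u v
        rw [hau, hav, huv] at this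
        simp at this
      refine glue (F ∙ u) (F ∙ v) _ r2 (by omega) r1 ?_ (tiso u) (tiso v) r5 (fun _ => ?_)
        (fun h => absurd (hz1.symm.trans h) (by intro e; exact h2 (by linear_combination e)))
      · intro w hw
        obtain ⟨hwS, h3, h4⟩ := (mem_rest f).1 hw
        refine (mem_rest f).2 ⟨hSx w hwS, ?_, ?_⟩
        · rw [hxz, hav, map_smul, h3]; simp
        · rw [hxz, hau, map_smul, h4]; simp
      · rw [hmap1, hmap1, hau, hav, Submodule.span_singleton_smul_eq (Ne.isUnit ha0),
          Submodule.span_singleton_smul_eq (Ne.isUnit ha0)]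
        exact ⟨rfl, rfl⟩
    · have hz1 : z = 1 := by
        refine hz.resolve_right fun h => ?_
        subst h
        -- `B u (x v)` would have to be symmetric and alternating
        have e3 := hA (u + v) (S.add_mem hu hv)
        have e4 := hxz v u
        rw [map_add, map_add, LinearMap.add_apply, map_add, map_add, hA u hu, hA v hv] at e3
        -- use the second pair instead
        obtain ⟨r1, -, -, -, -⟩ := rest_spec f hS hu hv huv
        have hw : x u ∈ rest f S u v := (mem_rest f).2 ⟨hSx u hu, hxuv, by rw [f.skew, hA u hu, neg_zero]⟩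
        have hw0 : x u ≠ 0 := by
          intro e
          have := hiso u v
          rw [e, huv] at this
          simp at this
        obtain ⟨k, hk, hwk⟩ := r1 _ hw hw0
        have hkS := ((mem_rest f).1 hk).1
        have e5 := hA (u + k) (S.add_mem hu hkS)
        rw [map_add, map_add, LinearMap.add_apply, map_add, map_add, hA u hu, hA k hkS] at e5
        have e6 := hxz u k
        rw [f.skew k (x u)] at e5
        have : (2 : F) * f.B (x u) k = 0 := by
          have hinv : ((-1 : F))⁻¹ = -1 := by rw [inv_neg, inv_one]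
          rw [hinv] at e6
          linear_combination e6 - e5
        exact hwk ((mul_eq_zero.1 this).resolve_left h2)
      obtain ⟨r1, r2, r3, r4, r5⟩ := rest_spec f hS hu hv huv
      have hxx : f.B (x u) (x v) = 1 := by rw [hiso, huv]
      have hxuR : x u ∈ rest f S u v :=
        (mem_rest f).2 ⟨hSx u hu, hxuv, by rw [f.skew, hA u hu, neg_zero]⟩
      have hxvR : x v ∈ rest f S u v :=
        (mem_rest f).2 ⟨hSx v hv, by rw [f.skew, hA v hv, neg_zero], hxvu⟩
      obtain ⟨s1, s2, s3, s4, s5⟩ := rest_spec f r1 hxuR hxvR hxx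
      have hsup : ((F ∙ u) ⊔ (F ∙ x u)) ⊔ ((F ∙ v) ⊔ (F ∙ x v)) ⊔ rest f (rest f S u v) (x u) (x v) = S := by
        rw [sup_sup_sup_comm, sup_assoc, s2, r2]
      have iso2 : ∀ w ∈ S, ∀ a ∈ (F ∙ w) ⊔ (F ∙ x w), ∀ b ∈ (F ∙ w) ⊔ (F ∙ x w), f.B a b = 0 := by
        intro w hw a ha b hb
        obtain ⟨a₀, ha₀, a₁, ha₁, rfl⟩ := Submodule.mem_sup.1 ha
        obtain ⟨b₀, hb₀, b₁, hb₁, rfl⟩ := Submodule.mem_sup.1 hb
        obtain ⟨p, rfl⟩ := Submodule.mem_span_singleton.1 ha₀
        obtain ⟨q, rfl⟩ := Submodule.mem_span_singleton.1 ha₁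
        obtain ⟨r, rfl⟩ := Submodule.mem_span_singleton.1 hb₀
        obtain ⟨s, rfl⟩ := Submodule.mem_span_singleton.1 hb₁
        simp [f.alt, hA w hw, f.skew (x w) w]
      have hinvm : ∀ w, ((F ∙ w) ⊔ (F ∙ x w)).map x = (F ∙ w) ⊔ (F ∙ x w) := by
        intro w
        rw [Submodule.map_sup, hmap1, hmap1, hx, Submodule.span_singleton_smul_eq (Ne.isUnit hz0), sup_comm]
      refine glue ((F ∙ u) ⊔ (F ∙ x u)) ((F ∙ v) ⊔ (F ∙ x v)) _ hsup (by omega) s1 ?_ (iso2 u hu) (iso2 v hv) ?_
        (fun _ => ⟨hinvm u, hinvm v⟩)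
        (fun h => absurd (hz1.symm.trans h) (by intro e; exact h2 (by linear_combination e)))
      · intro w hw
        obtain ⟨hwR, h1, h2'⟩ := (mem_rest f).1 hw
        obtain ⟨hwS, h3, h4⟩ := (mem_rest f).1 hwR
        refine (mem_rest f).2 ⟨(mem_rest f).2 ⟨hSx w hwS, ?_, ?_⟩, ?_, ?_⟩
        · rw [hxz, h1, mul_zero]
        · rw [hxz, h2', mul_zero]
        · rw [hiso, h3]
        · rw [hiso, h4]
      · intro a ha b hb
        rw [sup_sup_sup_comm] at ha
        obtain ⟨a₀, ha₀, a₁, ha₁, rfl⟩ := Submodule.mem_sup.1 ha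
        rw [map_add, LinearMap.add_apply, r5 a₀ ha₀ b ((mem_rest f).1 hb).1, s5 a₁ ha₁ b hb, add_zero]

end Symp

end Cfsg.Agent.Lib.MaxSub.InvBlocks
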