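import Cfsg.Agent.Lib.Geometry.OrthBridge
import Cfsg.Agent.Lib.Geometry.OrthNegOne
import Cfsg.Agent.Lib.Geometry.SymmDiscr
import Cfsg.Agent.Lib.MaxSub.InvolutionBlocks
import Cfsg.Agent.Lib.MaxSub.Symplectic
import Cfsg.Prelude.Def_GeometricClasses
import Mathlib

/-!
Unipotent elements of orthogonal groups with prescribed block sizes, and the parity of the multiplicities of even
blocks.
-/

set_option autoImplicit false
set_option maxHeartbeats 1000000

namespace Cfsg.Agent.Lib.MaxSub.UnipotentOrth

open Module Matrix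
open QuadraticMap (polarBilin)

attribute [-simp] QuadraticMap.polarBilin_apply_apply

section

variable {F V : Type*} [Field F] [AddCommGroup V] [Module F V] [FiniteDimensional F V]

/-- The drop of the dimensions of the iterated images of a subspace. -/
noncomputable def drop (N : Module.End F V) (U : Submodule F V) (k : ℕ) : ℕ :=
  finrank F (U.map (N ^ k)) - finrank F (U.map (N ^ (k + 1)))

theorem map_pow_succ_le (N : Module.End F V) {U : Submodule F V} (hU : U.map N ≤ U) (k : ℕ) :
    U.map (N ^ (k + 1)) ≤ U.map (N ^ k) := by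
  rw [pow_succ, Module.End.mul_eq_comp, Submodule.map_comp]
  exact Submodule.map_mono hU

theorem drop_eq (N : Module.End F V) {U : Submodule F V} (hU : U.map N ≤ U) (k : ℕ) :
    drop N U k = finrank F (LinearMap.ker N ⊓ U.map (N ^ k) : Submodule F V) ∧
      drop N U k + finrank F (U.map (N ^ (k + 1))) = finrank F (U.map (N ^ k)) := by
  set S := U.map (N ^ k) with hS
  have h := (N.domRestrict S).finrank_range_add_finrank_ker
  have h1 : LinearMap.range (N.domRestrict S) = U.map (N ^ (k + 1)) := by
    rw [LinearMap.range_domRestrict, hS, ← Submodule.map_comp, pow_succ', Module.End.mul_eq_comp]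
  have h2 : finrank F (LinearMap.ker (N.domRestrict S)) = finrank F (LinearMap.ker N ⊓ S : Submodule F V) := by
    rw [LinearMap.ker_domRestrict]
    have e : ((LinearMap.ker N).comap S.subtype) = ((LinearMap.ker N ⊓ S).comap S.subtype) := by
      ext v; simp
    rw [e]
    exact (Submodule.comapSubtypeEquivOfLe inf_le_right).finrank_eq
  rw [h1, h2] at h
  have h3 := Submodule.finrank_mono (map_pow_succ_le N hU k)
  unfold drop
  rw [← hS]
  omega

theorem drop_anti (N : Module.End F V) {U : Submodule F V} (hU : U.map N ≤ U) (k : ℕ) :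
    drop N U (k + 1) ≤ drop N U k := by
  rw [(drop_eq N hU _).1, (drop_eq N hU _).1]
  exact Submodule.finrank_mono (inf_le_inf_left _ (map_pow_succ_le N hU k))

/-- The block multiset of an invariant subspace. -/
noncomputable def blocks (N : Module.End F V) (U : Submodule F V) : ℕ → Multiset ℕ
  | 0 => 0
  | M + 1 => blocks N U M + Multiset.replicate (drop N U M - drop N U (M + 1)) (M + 1)

theorem blocks_sum (N : Module.End F V) {U : Submodule F V} (hU : U.map N ≤ U) (M : ℕ) :
    (blocks N U M).sum + M * drop N U M + finrank F (U.map (N ^ M)) = finrank F U := by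
  induction M with
  | zero => rw [blocks, Multiset.sum_zero, zero_mul, zero_add, zero_add, pow_zero, Module.End.one_eq_id, Submodule.map_id]
  | succ M ih =>
    rw [blocks, Multiset.sum_add, Multiset.sum_replicate, smul_eq_mul]
    have h1 := drop_anti N hU M
    have h2 := (drop_eq N hU M).2
    have h3 : (drop N U M - drop N U (M + 1)) * (M + 1) + (M + 1) * drop N U (M + 1) = (M + 1) * drop N U M := by
      rw [Nat.mul_comm _ (M + 1), ← Nat.mul_add, Nat.sub_add_cancel h1]
    have h4 : (M + 1) * drop N U M = M * drop N U M + drop N U M := Nat.succ_mul _ _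
    omega

theorem blocks_count (N : Module.End F V) (U : Submodule F V) (M b : ℕ) :
    (blocks N U M).count b = if 1 ≤ b ∧ b ≤ M then drop N U (b - 1) - drop N U b else 0 := by
  induction M with
  | zero =>
    rw [blocks, Multiset.count_zero, if_neg (by omega)]
  | succ M ih =>
    rw [blocks, Multiset.count_add, Multiset.count_replicate, ih]
    by_cases h : M + 1 = b
    · subst h
      rw [if_neg (by omega), if_pos rfl, if_pos (by omega), zero_add, Nat.add_sub_cancel]
    · rw [if_neg h, add_zero]
      exact if_congr (by omega) rfl rfl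

end

theorem count_blocks (μ : Multiset ℕ) (k : ℕ) :
    (μ.map fun b => b - k).sum = μ.countP (fun b => k < b) + (μ.map fun b => b - (k + 1)).sum := by
  induction μ using Multiset.induction_on with
  | empty => simp
  | cons b μ ih =>
    rw [Multiset.map_cons, Multiset.map_cons, Multiset.sum_cons, Multiset.sum_cons, Multiset.countP_cons, ih]
    split_ifs <;> omega

theorem countP_blocks (μ : Multiset ℕ) (b : ℕ) (hb : 1 ≤ b) :
    μ.countP (fun c => b - 1 < c) = μ.count b + μ.countP (fun c => b < c) := by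
  induction μ using Multiset.induction_on with
  | empty => simp
  | cons c μ ih =>
    rw [Multiset.countP_cons, Multiset.countP_cons, Multiset.count_cons, ih]
    split_ifs <;> omega

section Model

variable {F : Type*} [Field F]

/-- A Gram matrix with a skew nilpotent map of given block sizes. -/
structure IsModel {ι : Type} [Fintype ι] [DecidableEq ι] (G T : Matrix ι ι F) (μ : Multiset ℕ) : Prop where
  symm : Gᵀ = G
  det : G.det ≠ 0
  skew : Tᵀ * G + G * T = 0
  nilp : IsNilpotent T
  rank : ∀ k, (T ^ k).rank = (μ.map fun b => b - k).sum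

theorem IsModel.card {ι : Type} [Fintype ι] [DecidableEq ι] {G T : Matrix ι ι F} {μ : Multiset ℕ}
    (h : IsModel G T μ) : Fintype.card ι = μ.sum := by
  have := h.rank 0
  rw [pow_zero, Matrix.rank_one] at this
  simpa using this

theorem rank_fromBlocks {ι κ : Type} [Fintype ι] [DecidableEq ι] [Fintype κ] [DecidableEq κ]
    (A : Matrix ι ι F) (D : Matrix κ κ F) : (Matrix.fromBlocks A 0 0 D).rank = A.rank + D.rank := by
  let e : (ι ⊕ κ → F) ≃ₗ[F] (ι → F) × (κ → F) := LinearEquiv.sumArrowLequivProdArrow ι κ F F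
  have h : (Matrix.fromBlocks A 0 0 D).mulVecLin = e.symm.toLinearMap ∘ₗ (A.mulVecLin.prodMap D.mulVecLin) ∘ₗ e.toLinearMap := by
    apply LinearMap.ext
    intro v
    funext x
    simp [e, Matrix.fromBlocks_mulVec, LinearEquiv.sumArrowLequivProdArrow, Equiv.sumArrowEquivProdArrow]
  unfold Matrix.rank
  rw [h, LinearMap.range_comp, LinearEquiv.finrank_map_eq, LinearMap.range_comp_of_range_eq_top _ (LinearEquiv.range _),
    LinearMap.range_prodMap]
  rw [show ((LinearMap.range A.mulVecLin).prod (LinearMap.range D.mulVecLin)) =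
      ((LinearMap.range A.mulVecLin).subtype.prodMap (LinearMap.range D.mulVecLin).subtype).range by
    rw [LinearMap.range_prodMap, Submodule.range_subtype, Submodule.range_subtype]]
  rw [LinearMap.finrank_range_of_inj, Module.finrank_prod]
  exact Subtype.val_injective.prodMap Subtype.val_injective

theorem IsModel.add {ι κ : Type} [Fintype ι] [DecidableEq ι] [Fintype κ] [DecidableEq κ] {G T : Matrix ι ι F}
    {G' T' : Matrix κ κ F} {μ ν : Multiset ℕ} (h : IsModel G T μ) (h' : IsModel G' T' ν) :
    IsModel (Matrix.fromBlocks G 0 0 G') (Matrix.fromBlocks T 0 0 T') (μ + ν) := by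
  refine ⟨?_, ?_, ?_, ?_, fun k => ?_⟩
  · rw [Matrix.fromBlocks_transpose, h.symm, h'.symm, Matrix.transpose_zero, Matrix.transpose_zero]
  · rw [Matrix.det_fromBlocks_zero₂₁]
    exact mul_ne_zero h.det h'.det
  · rw [Matrix.fromBlocks_transpose, Matrix.fromBlocks_multiply, Matrix.fromBlocks_multiply, Matrix.fromBlocks_add]
    simp [h.skew, h'.skew, Matrix.fromBlocks_zero]
  · obtain ⟨a, ha⟩ := h.nilp
    obtain ⟨b, hb⟩ := h'.nilp
    refine ⟨a + b, ?_⟩
    rw [Matrix.fromBlocks_diagonal_pow, pow_add, ha, zero_mul, pow_add, hb, mul_zero, Matrix.fromBlocks_zero]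
  · rw [Matrix.fromBlocks_diagonal_pow, rank_fromBlocks, h.rank, h'.rank, Multiset.map_add, Multiset.sum_add]

/-- The shift matrix. -/
def shift (F : Type*) [Field F] (b : ℕ) : Matrix (Fin b) (Fin b) F :=
  Matrix.of fun i j => if (j : ℕ) = i + 1 then 1 else 0

theorem shift_mulVec (b : ℕ) (v : Fin b → F) (i : Fin b) :
    (shift F b *ᵥ v) i = if h : (i : ℕ) + 1 < b then v ⟨i + 1, h⟩ else 0 := by
  simp only [shift, Matrix.mulVec, dotProduct, Matrix.of_apply, ite_mul, one_mul, zero_mul]
  by_cases h : (i : ℕ) + 1 < b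
  · rw [dif_pos h, Finset.sum_eq_single ⟨i + 1, h⟩]
    · simp
    · intro j _ hj
      rw [if_neg fun e => hj (Fin.ext e)]
    · simp
  · rw [dif_neg h]
    exact Finset.sum_eq_zero fun j _ => if_neg (by have := j.isLt; omega)

theorem shift_pow_mulVec (b k : ℕ) (v : Fin b → F) (i : Fin b) :
    ((shift F b) ^ k *ᵥ v) i = if h : (i : ℕ) + k < b then v ⟨i + k, h⟩ else 0 := by
  induction k generalizing i with
  | zero => rw [pow_zero, Matrix.one_mulVec, dif_pos (by simp)]; rfl
  | succ k ih =>
    rw [pow_succ', ← Matrix.mulVec_mulVec, shift_mulVec]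
    by_cases h : (i : ℕ) + (k + 1) < b
    · rw [dif_pos h, dif_pos (show (i : ℕ) + 1 < b by omega), ih, dif_pos (show (i : ℕ) + 1 + k < b by omega)]
      exact congrArg v (Fin.ext (show (i : ℕ) + 1 + k = i + (k + 1) by omega))
    · rw [dif_neg h]
      split_ifs with h1
      · rw [ih, dif_neg (show ¬ ((i : ℕ) + 1 + k < b) by omega)]
      · rfl

theorem shift_nilp (b : ℕ) : IsNilpotent (shift F b) := by
  refine ⟨b, Matrix.ext_of_mulVec_single fun j => funext fun i => ?_⟩
  rw [shift_pow_mulVec, dif_neg (by omega), Matrix.zero_mulVec]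
  rfl

theorem shift_rank (b k : ℕ) : ((shift F b) ^ k).rank = b - k := by
  unfold Matrix.rank
  let inc : (Fin (b - k) → F) →ₗ[F] (Fin b → F) :=
    { toFun := fun f i => if h : (i : ℕ) < b - k then f ⟨i, h⟩ else 0
      map_add' := fun u v => by funext x; simp only [Pi.add_apply]; split_ifs <;> simp
      map_smul' := fun c v => by funext x; simp only [Pi.smul_apply, RingHom.id_apply]; split_ifs <;> simp }
  have hinc : LinearMap.range ((shift F b) ^ k).mulVecLin = LinearMap.range inc := by
    refine le_antisymm ?_ ?_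
    · rintro _ ⟨v, rfl⟩
      refine ⟨fun i => v ⟨i + k, by have := i.isLt; omega⟩, funext fun i => ?_⟩
      rw [Matrix.mulVecLin_apply, shift_pow_mulVec]
      show (if h : (i : ℕ) < b - k then _ else 0) = _
      by_cases h : (i : ℕ) + k < b
      · rw [dif_pos h, dif_pos (show (i : ℕ) < b - k by omega)]
      · rw [dif_neg h, dif_neg (show ¬ (i : ℕ) < b - k by omega)]
    · rintro _ ⟨f, rfl⟩
      refine ⟨fun j => if h : k ≤ (j : ℕ) then f ⟨j - k, by have := j.isLt; omega⟩ else 0, funext fun i => ?_⟩
      rw [Matrix.mulVecLin_apply, shift_pow_mulVec]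
      show _ = (if h : (i : ℕ) < b - k then _ else 0)
      by_cases h : (i : ℕ) + k < b
      · rw [dif_pos h, dif_pos (show (i : ℕ) < b - k by omega)]
        refine (dif_pos (show k ≤ (i : ℕ) + k by omega)).trans ?_
        exact congrArg f (Fin.ext (show (i : ℕ) + k - k = i by omega))
      · rw [dif_neg h, dif_neg (show ¬ (i : ℕ) < b - k by omega)]
  rw [hinc, LinearMap.finrank_range_of_inj, Module.finrank_fintype_fun_eq_card, Fintype.card_fin]
  intro f g hfg
  funext x
  have h : (if h : (x : ℕ) < b - k then f ⟨x, h⟩ else 0) = if h : (x : ℕ) < b - k then g ⟨x, h⟩ else 0 :=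
    congrFun hfg ⟨x, by have := x.isLt; omega⟩
  rwa [dif_pos x.isLt, dif_pos x.isLt] at h

/-- Two equal blocks. -/
theorem model_pair (b : ℕ) :
    IsModel (Matrix.fromBlocks (0 : Matrix (Fin b) (Fin b) F) 1 1 0)
      (Matrix.fromBlocks (shift F b) 0 0 (-(shift F b)ᵀ)) ({b, b} : Multiset ℕ) := by
  refine ⟨?_, ?_, ?_, ?_, fun k => ?_⟩
  · simp [Matrix.fromBlocks_transpose]
  · rw [Cfsg.Agent.Lib.Geometry.det_fromBlocks_swap]
    exact pow_ne_zero _ (neg_ne_zero.2 one_ne_zero)
  · simp [Matrix.fromBlocks_transpose, Matrix.fromBlocks_multiply, Matrix.fromBlocks_add, Matrix.fromBlocks_zero]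
  · obtain ⟨a, ha⟩ := shift_nilp (F := F) b
    refine ⟨a, ?_⟩
    rw [Matrix.fromBlocks_diagonal_pow, ha, neg_pow, ← Matrix.transpose_pow, ha, Matrix.transpose_zero, mul_zero,
      Matrix.fromBlocks_zero]
  · rw [Matrix.fromBlocks_diagonal_pow, rank_fromBlocks, neg_pow, ← Matrix.transpose_pow,
      Matrix.rank_mul_eq_right_of_isUnit_det, Matrix.rank_transpose, shift_rank]
    · simp
    · rw [Matrix.det_pow, Matrix.det_neg, Matrix.det_one, mul_one]
      exact (IsUnit.neg (isUnit_one) |>.pow _).pow _

/-- A single odd block. -/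
theorem model_single {b : ℕ} (hb : Odd b) {c : F} (hc : c ≠ 0) :
    IsModel (c • (Matrix.of fun i j : Fin b => if (i : ℕ) + j + 1 = b then (-1 : F) ^ (i : ℕ) else 0))
      (shift F b) ({b} : Multiset ℕ) := by
  set A := (Matrix.of fun i j : Fin b => if (i : ℕ) + j + 1 = b then (-1 : F) ^ (i : ℕ) else 0) with hA
  obtain ⟨h, hh⟩ := hb
  have hsym : Aᵀ = A := by
    ext i j
    simp only [hA, Matrix.transpose_apply, Matrix.of_apply, Nat.add_comm (j : ℕ) (i : ℕ)]
    split_ifs with he
    · rw [show (j : ℕ) = 2 * h - i by omega]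
      rcases Nat.even_or_odd (i : ℕ) with ⟨t, ht⟩ | ⟨t, ht⟩
      · rw [show 2 * h - (i : ℕ) = 2 * (h - t) by omega, show (i : ℕ) = 2 * t by omega, pow_mul, pow_mul]; simp
      · rw [show 2 * h - (i : ℕ) = 2 * (h - t - 1) + 1 by omega, ht, pow_succ, pow_succ, pow_mul, pow_mul]; simp
    · rfl
  have hAA : A * A = 1 := by
    ext i j
    simp only [Matrix.mul_apply, hA, Matrix.of_apply]
    rw [Finset.sum_eq_single ⟨b - 1 - i, by omega⟩]
    · rw [if_pos (by simp; omega), Matrix.one_apply]
      by_cases hij : i = j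
      · subst hij
        rw [if_pos (by simp; omega), if_pos rfl, ← pow_add]
        refine Even.neg_one_pow ⟨h, ?_⟩
        simp
        omega
      · rw [if_neg hij, if_neg, mul_zero]
        intro he
        apply hij
        apply Fin.ext
        simp at he
        omega
    · intro k _ hk
      rw [if_neg, zero_mul]
      intro he
      apply hk
      apply Fin.ext
      simp
      omega
    · simp
  refine ⟨by rw [Matrix.transpose_smul, hsym], ?_, ?_, shift_nilp b, fun k => by simp [shift_rank]⟩
  · rw [Matrix.det_smul]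
    refine mul_ne_zero (pow_ne_zero _ hc) fun h0 => ?_
    have := congrArg Matrix.det hAA
    rw [Matrix.det_mul, h0, zero_mul, Matrix.det_one] at this
    exact zero_ne_one this
  · rw [Matrix.mul_smul, Matrix.smul_mul, ← smul_add]
    refine smul_eq_zero_of_right _ ?_
    ext i j
    simp only [Matrix.add_apply, Matrix.mul_apply, Matrix.transpose_apply, shift, hA, Matrix.of_apply, Matrix.zero_apply]
    have hi := i.isLt
    have hj := j.isLt
    by_cases hij : (i : ℕ) + j = b
    · have hi0 : 0 < (i : ℕ) := by omega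
      rw [Finset.sum_eq_single (⟨i - 1, by omega⟩ : Fin b), Finset.sum_eq_single (⟨b - 1 - i, by omega⟩ : Fin b)]
      · rw [if_pos (by simp; omega), if_pos (by simp; omega), if_pos (by simp; omega), if_pos (by simp; omega), one_mul, mul_one]
        show (-1 : F) ^ ((i : ℕ) - 1) + (-1 : F) ^ (i : ℕ) = 0
        conv_lhs => arg 2; rw [show (i : ℕ) = (i : ℕ) - 1 + 1 by omega, pow_succ]
        ring
      · intro k _ hk
        rw [if_neg, zero_mul]
        intro he; apply hk; apply Fin.ext; simp; omega
      · simp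
      · intro k _ hk
        rw [if_neg, zero_mul]
        intro he; apply hk; apply Fin.ext; simp; omega
      · simp
    · rw [Finset.sum_eq_zero, Finset.sum_eq_zero, add_zero]
      · intro k _
        by_cases h1 : (i : ℕ) + k + 1 = b
        · rw [if_neg (show ¬ (j : ℕ) = k + 1 by omega), mul_zero]
        · rw [if_neg h1, zero_mul]
      · intro k _
        by_cases h1 : (i : ℕ) = k + 1
        · rw [if_neg (show ¬ ((k : ℕ) + j + 1 = b) by omega), mul_zero]
        · rw [if_neg h1, zero_mul]

/-- Models exist for every admissible multiset; with an odd block the discriminant is arbitrary. -/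
theorem exists_model (μ : Multiset ℕ) (hpar : ∀ e, Even e → Even (μ.count e)) (δ : F) (hδ : δ ≠ 0) :
    ∃ (ι : Type) (_ : Fintype ι) (_ : DecidableEq ι) (G T : Matrix ι ι F), IsModel G T μ ∧
      (((∃ b ∈ μ, Odd b) ∨ IsSquare δ) → IsSquare (G.det * δ)) := by
  induction hn : Multiset.card μ using Nat.strong_induction_on generalizing μ δ with
  | _ n ih =>
    subst hn
    by_cases h0 : μ = 0
    · subst h0
      refine ⟨Fin 0, inferInstance, inferInstance, 0, 0, ⟨Matrix.transpose_zero, by simp, by simp, ⟨1, pow_one _⟩,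
        fun k => by
          have := Matrix.rank_le_card_width ((0 : Matrix (Fin 0) (Fin 0) F) ^ k)
          simpa using this⟩, fun h => ?_⟩
      rcases h with ⟨b, hb, -⟩ | h
      · exact absurd hb (Multiset.notMem_zero b)
      · simpa using h
    by_cases hodd : ∃ b ∈ μ, Odd b
    · obtain ⟨b, hb, hbo⟩ := hodd
      obtain ⟨ν, rfl⟩ := Multiset.exists_cons_of_mem hb
      obtain ⟨ι, i1, i2, G, T, hM, -⟩ := ih (Multiset.card ν) (by simp) ν (fun e he => by
        have := hpar e he
        rwa [Multiset.count_cons_of_ne (fun h : e = b => Nat.not_odd_iff_even.2 he (by rw [h]; exact hbo))] at this) δ hδ rfl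
      set A := (Matrix.of fun i j : Fin b => if (i : ℕ) + j + 1 = b then (-1 : F) ^ (i : ℕ) else 0) with hA
      have hA0 : A.det ≠ 0 := by
        have := (model_single hbo (one_ne_zero (α := F))).det
        rwa [one_smul] at this
      refine ⟨Fin b ⊕ ι, inferInstance, inferInstance, _, _, (Multiset.singleton_add b ν) ▸
        (model_single hbo (c := A.det * G.det * δ) (mul_ne_zero (mul_ne_zero hA0 hM.det) hδ)).add hM, fun _ => ?_⟩
      rw [Matrix.det_fromBlocks_zero₂₁, Matrix.det_smul, Fintype.card_fin]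
      obtain ⟨t, rfl⟩ := hbo
      exact ⟨(A.det * G.det * δ) ^ (t + 1), by ring⟩
    · push Not at hodd
      obtain ⟨b, hb⟩ := Multiset.exists_mem_of_ne_zero h0
      have hbe : Even b := Nat.not_odd_iff_even.1 (hodd b hb)
      have hcnt := hpar b hbe
      obtain ⟨ν, rfl⟩ := Multiset.exists_cons_of_mem hb
      have hb' : b ∈ ν := by
        rw [Multiset.count_cons_self] at hcnt
        by_contra hc
        rw [Multiset.count_eq_zero.2 hc] at hcnt
        simp at hcnt
      obtain ⟨ν, rfl⟩ := Multiset.exists_cons_of_mem hb'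
      obtain ⟨ι, i1, i2, G, T, hM, hd⟩ := ih (Multiset.card ν) (by simp) ν (fun e he => by
        have := hpar e he
        by_cases he' : e = b
        · subst he'
          rw [Multiset.count_cons_self, Multiset.count_cons_self, Nat.even_add_one, Nat.not_even_iff_odd,
            Nat.odd_add_one, Nat.not_odd_iff_even] at this
          exact this
        · rwa [Multiset.count_cons_of_ne he', Multiset.count_cons_of_ne he'] at this) δ hδ rfl
      refine ⟨(Fin b ⊕ Fin b) ⊕ ι, inferInstance, inferInstance, _, _,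
        (show ({b, b} : Multiset ℕ) + ν = b ::ₘ b ::ₘ ν by simp) ▸ (model_pair b).add hM, fun h => ?_⟩
      rw [Matrix.det_fromBlocks_zero₂₁, Cfsg.Agent.Lib.Geometry.det_fromBlocks_swap, hbe.neg_one_pow, one_mul]
      refine hd (Or.inr (h.resolve_left ?_))
      rintro ⟨c, hc, hco⟩
      exact (hodd c hc) hco

end Model

section Orth

variable {F : Type*} [Field F] [Fintype F] {ι : Type} [Fintype ι] [DecidableEq ι]

/-- Elements of odd order lie in `Ω`. -/
theorem mem_omega_of_odd (h2 : (2 : F) ≠ 0) (Q : QuadraticForm F (ι → F)) (hQ : (polarBilin Q).Nondegenerate)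
    {x : GL ι F} (hx : x ∈ Cfsg.isometryGroup F (⇑Q)) {r : ℕ} (hr : Odd r) (hxr : x ^ r = 1) :
    x ∈ Cfsg.Geo.omegaGL (⇑Q) := by
  have hexc : (∃ a : F, a ≠ 0 ∧ a ≠ 1) ∨ Fintype.card ι ≠ 4 :=
    Or.inl ⟨-1, neg_ne_zero.2 one_ne_zero, fun h => h2 (by linear_combination -h)⟩
  let g : Cfsg.isometryGroup F (⇑Q) := ⟨x, hx⟩
  refine ⟨g, ?_, rfl⟩
  show g ∈ commutator (Cfsg.isometryGroup F (⇑Q))
  have hsq : ∀ a : Cfsg.isometryGroup F (⇑Q), Abelianization.of a * Abelianization.of a = 1 := by
    intro a
    have ha := (Cfsg.Agent.Lib.Geometry.closure_reflectionMatrix_eq_top Q hQ hexc) ▸ Subgroup.mem_top a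
    induction ha using Subgroup.closure_induction with
    | mem b hb =>
      obtain ⟨v, hv, hbv⟩ := hb
      have : b * b = 1 := by
        apply (Cfsg.Agent.Lib.Geometry.isometryEquiv Q).injective
        rw [map_mul, (Cfsg.Agent.Lib.Geometry.isometryEquiv_eq_refl_iff Q b v).2 hbv,
          Cfsg.Agent.Lib.Geometry.refl_mul_self, map_one]
      rw [← map_mul, this, map_one]
    | one => rw [map_one, mul_one]
    | mul a b _ _ iha ihb => rw [map_mul, mul_mul_mul_comm, iha, ihb, one_mul]
    | inv a _ iha => rw [map_inv, ← _root_.mul_inv, iha, inv_one]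
  have hg : g ^ r = 1 := Subtype.ext hxr
  have h1 : Abelianization.of g = 1 := by
    obtain ⟨t, rfl⟩ := hr
    have := congrArg Abelianization.of hg
    rw [map_pow, map_one, pow_succ, pow_mul, pow_two, hsq, one_pow, one_mul] at this
    exact this
  rwa [← MonoidHom.mem_ker, Abelianization.ker_of] at h1

/-- A unipotent element of `Ω` with prescribed block sizes. -/
theorem exists_unipotent {p : ℕ} [Fact p.Prime] [CharP F p] (h2 : (2 : F) ≠ 0) (Q : QuadraticForm F (ι → F))
    (hQ : (polarBilin Q).Nondegenerate) (μ : Multiset ℕ) (hle : ∀ b ∈ μ, b ≤ p)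
    (hpar : ∀ e, Even e → Even (μ.count e)) (hsum : μ.sum = Fintype.card ι)
    (hcls : (∃ b ∈ μ, Odd b) ∨ IsSquare (LinearMap.BilinForm.toMatrix' (polarBilin Q)).det) :
    ∃ x : GL ι F, x ∈ Cfsg.Geo.omegaGL (⇑Q) ∧ x ^ p = 1 ∧
      ∀ k, finrank F (LinearMap.range ((Matrix.toLin' (x : Matrix ι ι F) - 1) ^ k)) = (μ.map fun b => b - k).sum := by
  classical
  have hp : p.Prime := Fact.out
  set H := LinearMap.BilinForm.toMatrix' (polarBilin Q) with hH
  have hH' : Matrix.toBilin' H = polarBilin Q := Matrix.toBilin'_toMatrix' _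
  have hHdet : H.det ≠ 0 := by
    rw [hH, ← LinearMap.BilinForm.toMatrix_basisFun]
    exact (LinearMap.BilinForm.nondegenerate_iff_det_ne_zero (Pi.basisFun F ι)).1 hQ
  obtain ⟨κ, _, _, G₀, T₀, hM, hsq⟩ := exists_model μ hpar H.det hHdet
  replace hsq := hsq hcls
  obtain ⟨e⟩ : Nonempty (κ ≃ ι) := Fintype.card_eq.1 (by rw [hM.card, hsum])
  set G := Matrix.reindex e e G₀ with hG
  set T₁ := Matrix.reindex e e T₀ with hT₁
  have hGd : G.det = G₀.det := Matrix.det_reindex_self e G₀
  have hpow₁ : ∀ k, T₁ ^ k = Matrix.reindex e e (T₀ ^ k) := fun k => by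
    rw [hT₁, ← Matrix.reindexAlgEquiv_apply F F, ← Matrix.reindexAlgEquiv_apply F F, map_pow]
  obtain ⟨g, hg⟩ := Cfsg.Agent.Lib.Geometry.exists_isometry_of_isSquare_det_mul h2 (Matrix.toBilin' G) (polarBilin Q)
    (⟨fun u v => by
      rw [Matrix.toBilin'_apply', Matrix.toBilin'_apply']
      rw [dotProduct_comm, ← Matrix.vecMul_transpose, ← Matrix.dotProduct_mulVec, hG, Matrix.reindex_apply,
        Matrix.transpose_submatrix, hM.symm]⟩)
    ⟨fun u v => Cfsg.Agent.Lib.Geometry.quad_polar_comm Q u v⟩
    (Matrix.nondegenerate_toBilin'_iff.2 (Matrix.nondegenerate_of_det_ne_zero (by rw [hGd]; exact hM.det))) hQ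
    (Pi.basisFun F ι) (by
      rw [LinearMap.BilinForm.toMatrix_basisFun, LinearMap.BilinForm.toMatrix'_toBilin', ← hH, hGd]
      exact hsq)
  -- the skew map in the space of `Q`
  let t : Module.End F (ι → F) := g.conj (Matrix.toLin' T₁)
  have htpow : ∀ k, t ^ k = g.conj (Matrix.toLin' (T₁ ^ k)) := by
    intro k
    induction k with
    | zero => rw [pow_zero, pow_zero, Matrix.toLin'_one, LinearEquiv.conj_id]; rfl
    | succ k ih => rw [pow_succ, pow_succ, ih, Matrix.toLin'_mul, LinearEquiv.conj_comp]; rfl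
  have htrank : ∀ k, finrank F (LinearMap.range (t ^ k)) = (μ.map fun b => b - k).sum := fun k => by
    rw [htpow, LinearEquiv.conj_apply, LinearMap.range_comp_of_range_eq_top _ (LinearEquiv.range _),
      LinearMap.range_comp, LinearEquiv.finrank_map_eq, ← hM.rank k, ← Matrix.rank_reindex e e (T₀ ^ k), ← hpow₁]
    rfl
  have htp : t ^ p = 0 := by
    rw [← LinearMap.range_eq_bot, ← Submodule.finrank_eq_zero, htrank]
    exact Multiset.sum_eq_zero fun c hc => by
      obtain ⟨b, hb, rfl⟩ := Multiset.mem_map.1 hc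
      have := hle b hb
      omega
  have hskew : ∀ u v, polarBilin Q (t u) v = - polarBilin Q u (t v) := by
    intro u v
    obtain ⟨u, rfl⟩ := g.surjective u
    obtain ⟨v, rfl⟩ := g.surjective v
    have e1 : ∀ w, t (g w) = g (T₁ *ᵥ w) := fun w => by simp [t, LinearEquiv.conj_apply]
    rw [e1, e1, hg, hg, Matrix.toBilin'_apply', Matrix.toBilin'_apply', eq_neg_iff_add_eq_zero]
    have h0 : T₁ᵀ * G + G * T₁ = 0 := by
      rw [hT₁, hG, Matrix.reindex_apply, Matrix.reindex_apply, Matrix.transpose_submatrix,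
        Matrix.submatrix_mul_equiv, Matrix.submatrix_mul_equiv,
        show ∀ A B : Matrix κ κ F, A.submatrix e.symm e.symm + B.submatrix e.symm e.symm = (A + B).submatrix e.symm e.symm from
          fun _ _ => rfl, hM.skew]
      rfl
    rw [← Matrix.vecMul_transpose, ← Matrix.dotProduct_mulVec, Matrix.mulVec_mulVec, ← dotProduct_add,
      Matrix.mulVec_mulVec, ← Matrix.add_mulVec, h0, Matrix.zero_mulVec, dotProduct_zero]
  obtain ⟨a, ha⟩ := (IsNilpotent.isUnit_one_add (r := t) ⟨p, htp⟩)
  obtain ⟨b, hb⟩ := (IsNilpotent.isUnit_one_sub (r := t) ⟨p, htp⟩)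
  set c : (Module.End F (ι → F))ˣ := a * b⁻¹ with hc
  have hiso : ∀ w, Q (c.1 w) = Q w := by
    intro w
    obtain ⟨u, rfl⟩ : ∃ u, b.1 u = w := ⟨b⁻¹.1 w, by rw [← Module.End.mul_apply, Units.mul_inv]; rfl⟩
    have e0 : c.1 (b.1 u) = a.1 u := by
      rw [← Module.End.mul_apply, hc, ← Units.val_mul, inv_mul_cancel_right]
    rw [e0, ha, hb, LinearMap.add_apply, LinearMap.sub_apply, Module.End.one_apply]
    have hpp : polarBilin Q u (t u) = 0 := by
      have h := hskew u u
      rw [Cfsg.Agent.Lib.Geometry.quad_polar_comm Q (t u) u] at h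
      have : (2 : F) * polarBilin Q u (t u) = 0 := by linear_combination h
      exact (mul_eq_zero.1 this).resolve_left h2
    rw [QuadraticMap.polarBilin_apply_apply, QuadraticMap.polar] at hpp
    have hneg : Q (u - t u) = Q u + Q (t u) - 0 := by
      have h1 : polarBilin Q u (-t u) = 0 := by
        rw [map_neg, QuadraticMap.polarBilin_apply_apply, QuadraticMap.polar, hpp, neg_zero]
      rw [QuadraticMap.polarBilin_apply_apply, QuadraticMap.polar, ← sub_eq_add_neg, QuadraticMap.map_neg] at h1
      linear_combination h1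
    rw [hneg]
    linear_combination hpp
  let x : GL ι F := Matrix.GeneralLinearGroup.toLin.symm c
  have hx : Matrix.toLin' (x : Matrix ι ι F) = c.1 :=
    congrArg Units.val (MulEquiv.apply_symm_apply Matrix.GeneralLinearGroup.toLin c)
  have hx1 : c.1 - 1 = ((2 : F) • t) * b⁻¹.1 := by
    rw [hc, Units.val_mul, ha]
    have : ((1 : Module.End F (ι → F)) + t) - b.1 = (2 : F) • t := by rw [hb, two_smul]; abel
    rw [← this, sub_mul, Units.mul_inv]
  have hcomm : Commute t b⁻¹.1 := by
    refine Commute.units_inv_right ?_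
    rw [hb]
    exact (Commute.one_right t).sub_right (Commute.refl t)
  have hrk : ∀ k, finrank F (LinearMap.range ((c.1 - 1) ^ k)) = (μ.map fun b => b - k).sum := by
    intro k
    rw [hx1, (hcomm.smul_left (2 : F)).mul_pow, smul_pow, ← Units.val_pow_eq_pow_val, Module.End.mul_eq_comp,
      LinearMap.range_comp_of_range_eq_top, LinearMap.range_smul _ _ (pow_ne_zero _ h2), htrank]
    exact LinearMap.range_eq_top.2 fun v => ⟨((b⁻¹ ^ k)⁻¹).1 v, by
      rw [← Module.End.mul_apply, Units.mul_inv]; rfl⟩
  haveI : CharP (Module.End F (ι → F)) p ∨ True := Or.inr trivial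
  have hxp : x ^ p = 1 := by
    have h0 : (c.1 - 1) ^ p = 0 := by
      rw [hx1, (hcomm.smul_left (2 : F)).mul_pow, smul_pow, htp, smul_zero, zero_mul]
    have h1 : ((x : Matrix ι ι F) - 1) ^ p = 0 := by
      apply Matrix.toLinAlgEquiv'.injective
      rw [map_pow, map_sub, map_one, map_zero]
      show (Matrix.toLin' (x : Matrix ι ι F) - 1) ^ p = 0
      rw [hx, h0]
    rcases isEmpty_or_nonempty ι with hι | hι
    · exact Units.ext (Subsingleton.elim _ _)
    rw [sub_pow_char_of_commute p (Commute.one_right _), one_pow, sub_eq_zero] at h1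
    exact Units.ext (by rw [Units.val_pow_eq_pow_val, h1, Units.val_one])
  refine ⟨x, mem_omega_of_odd h2 Q hQ (fun u _ => ?_) (hp.odd_of_ne_two fun h => h2 (by
    subst h; exact CharTwo.two_eq_zero)) hxp, hxp, fun k => by rw [hx]; exact hrk k⟩
  show Q ((x : Matrix ι ι F) *ᵥ u) = Q u
  rw [← Matrix.toLin'_apply, hx]
  exact hiso u

end Orth

section Parity

variable {F V : Type*} [Field F] [AddCommGroup V] [Module F V] [FiniteDimensional F V]

/-- The number of even blocks of each size is even on a non-degenerate invariant subspace. -/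
theorem even_drop (h2 : (2 : F) ≠ 0) (B : LinearMap.BilinForm F V) (hS : ∀ u v, B u v = B v u)
    (N : Module.End F V) (hiso : ∀ u v, B (u + N u) (v + N v) = B u v)
    {U : Submodule F V} (hU : U.map N ≤ U) (hnd : ∀ u ∈ U, (∀ v ∈ U, B u v = 0) → u = 0)
    {n₀ : ℕ} (hn₀ : N ^ n₀ = 0) {j : ℕ} (hj : Odd j) : Even (drop N U j - drop N U (j + 1)) := by
  classical
  have hNA : ∀ a b, B (N a) b = - B a (N b) - B (N a) (N b) := fun a b => by
    have := hiso a b
    simp only [map_add, LinearMap.add_apply] at this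
    linear_combination this
  have hpow : ∀ k v, (N ^ (k + 1)) v = N ((N ^ k) v) := fun k v => by rw [pow_succ', Module.End.mul_apply]
  have hzero : ∀ u v, (N ^ (j + 1)) v = 0 → ∀ s t, j + 1 ≤ s + t → B ((N ^ s) u) ((N ^ t) v) = 0 := by
    intro u v hv s
    induction s with
    | zero =>
      intro t ht
      obtain ⟨t', rfl⟩ : ∃ t', t = t' + (j + 1) := ⟨t - (j + 1), by omega⟩
      rw [pow_add N t' (j + 1), Module.End.mul_apply, hv, map_zero, map_zero]
    | succ s ih =>
      suffices h : ∀ m t, j + 1 ≤ s + 1 + t → j + 1 ≤ t + m → B ((N ^ (s + 1)) u) ((N ^ t) v) = 0 from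
        fun t ht => h (j + 1) t ht (by omega)
      intro m
      induction m with
      | zero =>
        intro t _ ht
        obtain ⟨t', rfl⟩ : ∃ t', t = t' + (j + 1) := ⟨t - (j + 1), by omega⟩
        rw [pow_add N t' (j + 1), Module.End.mul_apply, hv, map_zero, map_zero]
      | succ m ihm =>
        intro t ht ht'
        rw [hpow, hNA, ← hpow t, ← hpow s, ih (t + 1) (by omega), ihm (t + 1) (by omega) (by omega), neg_zero, sub_zero]
  have hmain : ∀ u v, (N ^ (j + 1)) v = 0 → ∀ s, s ≤ j → B ((N ^ s) u) ((N ^ (j - s)) v) = (-1) ^ s * B u ((N ^ j) v) := by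
    intro u v hv s
    induction s with
    | zero => intro _; simp
    | succ s ih =>
      intro hs
      rw [hpow, hNA, ← hpow (j - (s + 1)), ← hpow s, hzero u v hv (s + 1) (j - (s + 1) + 1) (by omega),
        show j - (s + 1) + 1 = j - s by omega, ih (by omega), pow_succ]
      ring
  have hsk : ∀ u v, (N ^ (j + 1)) v = 0 → B ((N ^ j) u) v = - B u ((N ^ j) v) := fun u v hv => by
    have := hmain u v hv j le_rfl
    rwa [Nat.sub_self, pow_zero, Module.End.one_apply, hj.neg_one_pow, neg_one_mul] at this
  -- a complement among the top vectors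
  set K := LinearMap.ker N ⊓ U.map (N ^ j) with hK
  set K' := LinearMap.ker N ⊓ U.map (N ^ (j + 1)) with hK'
  have hKK : K' ≤ K := inf_le_inf_left _ (map_pow_succ_le N hU j)
  obtain ⟨C₀, hC₀⟩ := exists_isCompl K'
  set C := K ⊓ C₀ with hC
  have hdimC : finrank F C + finrank F K' = finrank F K := by
    have h1 := Submodule.finrank_sup_add_finrank_inf_eq C K'
    rw [show C ⊓ K' = ⊥ by
      rw [hC, inf_assoc, inf_comm C₀, hC₀.inf_eq_bot, inf_bot_eq], finrank_bot, add_zero] at h1
    rw [← h1, hC, inf_comm K C₀, sup_comm (C₀ ⊓ K) K', ← sup_inf_assoc_of_le _ hKK, hC₀.sup_eq_top, top_inf_eq]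
  set m := finrank F C with hm
  let bC := Module.finBasis F C
  have hlift : ∀ i, ∃ u ∈ U, (N ^ j) u = (bC i : V) := fun i => (bC i).2.1.2
  choose u hu hNu using hlift
  let ι' : (Fin m → F) →ₗ[F] V := Fintype.linearCombination F u
  have hιU : ∀ a, ι' a ∈ U := fun a => by
    rw [Fintype.linearCombination_apply]
    exact Submodule.sum_mem _ fun i _ => U.smul_mem _ (hu i)
  have hNι : ∀ a, (N ^ j) (ι' a) = ((bC.equivFun.symm a : C) : V) := fun a => by
    rw [Fintype.linearCombination_apply, map_sum, Module.Basis.equivFun_symm_apply, Submodule.coe_sum]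
    simp [hNu]
    rfl
  have hι0 : ∀ a, (N ^ (j + 1)) (ι' a) = 0 := fun a => by
    rw [hpow, hNι]
    exact (bC.equivFun.symm a).2.1.1
  let f : AltForm (Fin m) F :=
    { B := LinearMap.compl₁₂ B ι' ((N ^ j) ∘ₗ ι')
      alt := fun a => by
        show B (ι' a) ((N ^ j) (ι' a)) = 0
        have h := hsk (ι' a) (ι' a) (hι0 a)
        rw [hS] at h
        have : (2 : F) * B (ι' a) ((N ^ j) (ι' a)) = 0 := by linear_combination h
        exact (mul_eq_zero.1 this).resolve_left h2
      nondeg := fun a ha => by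
        set c := (N ^ j) (ι' a) with hc
        -- `c` is orthogonal to the vectors killed by `N ^ (j + 1)`
        have horth : ∀ v ∈ U, (N ^ (j + 1)) v = 0 → B v c = 0 := by
          intro v hv hv0
          have hk : (N ^ j) v ∈ K := ⟨by rw [SetLike.mem_coe, LinearMap.mem_ker, ← hpow]; exact hv0, Submodule.mem_map_of_mem hv⟩
          have hsplit : K ≤ K' ⊔ C := by
            rw [hC, inf_comm K C₀, ← sup_inf_assoc_of_le _ hKK, hC₀.sup_eq_top, top_inf_eq]
          obtain ⟨k', hk', e, he, hke⟩ := Submodule.mem_sup.1 (hsplit hk)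
          obtain ⟨w, hw, hw'⟩ := hk'.2
          obtain ⟨y, hy⟩ : ∃ y, (N ^ j) (ι' y) = e := ⟨bC.equivFun ⟨e, he⟩, by rw [hNι, LinearEquiv.symm_apply_apply]⟩
          have h1 := hsk v (ι' a) (hι0 a)
          rw [← hc] at h1
          rw [show B v c = - B ((N ^ j) v) (ι' a) by rw [h1, neg_neg], ← hke, map_add, LinearMap.add_apply, ← hw', ← hy,
            hsk (ι' y) (ι' a) (hι0 a), ← hc]
          have h3 : B (ι' y) c = 0 := ha y
          have h4 : B ((N ^ (j + 1)) w) (ι' a) = 0 := by
            have := hzero w (ι' a) (hι0 a) (j + 1) 0 (by omega)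
            rwa [pow_zero, Module.End.one_apply] at this
          rw [h3, h4]; simp
        -- hence a higher image
        set S := U ⊓ LinearMap.ker (N ^ (j + 1)) with hSdef
        let φ : U →ₗ[F] Module.Dual F S := S.subtype.dualMap ∘ₗ (B.flip ∘ₗ U.subtype)
        have hφker : ∀ x : U, x ∈ LinearMap.ker φ ↔ ∀ v ∈ S, B v (x : V) = 0 := fun x => by
          rw [LinearMap.mem_ker]
          constructor
          · intro h v hv; exact LinearMap.congr_fun h ⟨v, hv⟩
          · intro h; exact LinearMap.ext fun v => h v.1 v.2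
        have hker_le : (U.map (N ^ (j + 1))).comap U.subtype ≤ LinearMap.ker φ := by
          intro x hx
          obtain ⟨w, hw, hwx⟩ := hx
          rw [hφker]
          intro v hv
          have := hzero w v hv.2 (j + 1) 0 (by omega)
          rw [pow_zero, Module.End.one_apply] at this
          rw [hS, show (x : V) = (N ^ (j + 1)) w from hwx.symm, this]
        have hle : U.map (N ^ (j + 1)) ≤ U := by
          have : ∀ k, U.map (N ^ k) ≤ U := by
            intro k
            induction k with
            | zero => rw [pow_zero, Module.End.one_eq_id, Submodule.map_id]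
            | succ k ih => exact (map_pow_succ_le N hU k).trans ih
          exact this _
        have hψ : Function.Surjective φ := by
          let BU : U →ₗ[F] Module.Dual F U := U.subtype.dualMap ∘ₗ (B.flip ∘ₗ U.subtype)
          have hBU : Function.Injective BU := (injective_iff_map_eq_zero BU).2 fun x hx =>
            Subtype.ext (hnd x.1 x.2 fun v hv => by
              rw [hS]; exact LinearMap.congr_fun hx ⟨v, hv⟩)
          have hBUs := (LinearMap.injective_iff_surjective_of_finrank_eq_finrank (f := BU)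
            (by rw [Subspace.dual_finrank_eq])).1 hBU
          intro ξ
          obtain ⟨η, hη⟩ := (Submodule.inclusion (inf_le_left : S ≤ U)).dualMap_surjective_of_injective
            (Submodule.inclusion_injective _) ξ
          obtain ⟨x, hx⟩ := hBUs η
          exact ⟨x, by rw [← hη, ← hx]; rfl⟩
        have hkereq : (U.map (N ^ (j + 1))).comap U.subtype = LinearMap.ker φ := by
          refine Submodule.eq_of_le_of_finrank_le hker_le ?_
          have h1 := φ.finrank_range_add_finrank_ker
          rw [LinearMap.range_eq_top.2 hψ, finrank_top, Subspace.dual_finrank_eq] at h1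
          have h2 := ((N ^ (j + 1)).domRestrict U).finrank_range_add_finrank_ker
          rw [LinearMap.range_domRestrict, LinearMap.ker_domRestrict] at h2
          have h3 : finrank F ((LinearMap.ker (N ^ (j + 1))).comap U.subtype) = finrank F S := by
            have e : ((LinearMap.ker (N ^ (j + 1))).comap U.subtype) = S.comap U.subtype := by
              ext v; simp [hSdef]
            rw [e]
            exact (Submodule.comapSubtypeEquivOfLe inf_le_left).finrank_eq
          have h4 := (Submodule.comapSubtypeEquivOfLe hle).finrank_eq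
          rw [h3] at h2
          omega
        have hcU : c ∈ U := by
          have hcC : c ∈ C := by rw [hc, hNι]; exact Submodule.coe_mem _
          obtain ⟨w, hw, hwc⟩ := hcC.1.2
          have : ∀ k, U.map (N ^ k) ≤ U := by
            intro k
            induction k with
            | zero => rw [pow_zero, Module.End.one_eq_id, Submodule.map_id]
            | succ k ih => exact (map_pow_succ_le N hU k).trans ih
          exact this j hcC.1.2
        have hmem : c ∈ U.map (N ^ (j + 1)) := by
          have : (⟨c, hcU⟩ : U) ∈ (U.map (N ^ (j + 1))).comap U.subtype := by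
            rw [hkereq, hφker]
            intro v hv
            exact horth v hv.1 hv.2
          exact this
        have hcC : c ∈ C := by rw [hc, hNι]; exact Submodule.coe_mem _
        have hc0 : c = 0 := by
          have : c ∈ K' ⊓ C₀ := ⟨⟨hcC.1.1, hmem⟩, hcC.2⟩
          rwa [hC₀.inf_eq_bot, Submodule.mem_bot] at this
        rw [hc, hNι, Submodule.coe_eq_zero, LinearEquiv.map_eq_zero_iff] at hc0
        exact hc0 }
  obtain ⟨𝓛, h𝓛, -, -⟩ := InvBlocks.exists_planes f LinearMap.id (z := 1) one_ne_zero (fun v => (one_smul F v).symm)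
    (fun _ _ => rfl) m ⊤ (by rw [finrank_top, Module.finrank_fintype_fun_eq_card, Fintype.card_fin])
    (fun a _ ha => by
      by_contra hc
      push Not at hc
      exact ha (f.nondeg a fun y => by rw [f.skew, hc y Submodule.mem_top, neg_zero]))
    (fun v _ => Submodule.mem_top)
  have h5 := h𝓛.1
  rw [finrank_top, Module.finrank_fintype_fun_eq_card, Fintype.card_fin] at h5
  rw [(drop_eq N hU j).1, (drop_eq N hU (j + 1)).1, ← hK, ← hK']
  exact ⟨𝓛.card, by omega⟩

/-- The blocks of a non-degenerate invariant subspace form an admissible subpartition. -/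
theorem exists_subpartition (h2 : (2 : F) ≠ 0) (B : LinearMap.BilinForm F V) (hS : ∀ u v, B u v = B v u)
    (hB : B.Nondegenerate) (N : Module.End F V) (hiso : ∀ u v, B (u + N u) (v + N v) = B u v)
    {μ : Multiset ℕ} (hrank : ∀ k, finrank F (LinearMap.range (N ^ k)) = (μ.map fun b => b - k).sum)
    {p : ℕ} (hp : N ^ p = 0) {U : Submodule F V} (hU : U.map N ≤ U) (hnd : ∀ u ∈ U, (∀ v ∈ U, B u v = 0) → u = 0) :
    blocks N U p ≤ μ ∧ (blocks N U p).sum = finrank F U ∧ ∀ e, Even e → Even ((blocks N U p).count e) := by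
  classical
  set W := LinearMap.BilinForm.orthogonal B U with hW
  have hrefl : B.IsRefl := fun u v h => by rw [hS]; exact h
  have hWi : W.map N ≤ W := by
    rintro _ ⟨v, hv, rfl⟩
    intro u hu
    -- `u` is the image of a vector of `U` under `1 + N`
    obtain ⟨u', hu', rfl⟩ : ∃ u' ∈ U, u' + N u' = u := by
      let R : U →ₗ[F] U := LinearMap.id + (N.restrict fun x hx => hU ⟨x, hx, rfl⟩)
      have hR : Function.Injective R := (injective_iff_map_eq_zero R).2 fun x hx => by
        refine Subtype.ext (hnd x.1 x.2 fun v hv => ?_)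
        have hx' : x.1 + N x.1 = 0 := congrArg Subtype.val hx
        rw [← hiso, hx', map_zero, LinearMap.zero_apply]
      obtain ⟨x, hx⟩ := (LinearMap.injective_iff_surjective.1 hR) ⟨u, hu⟩
      exact ⟨x.1, x.2, congrArg Subtype.val hx⟩
    have h1 : B (u' + N u') (v + N v) = 0 := by rw [hiso]; exact hv u' hu'
    have h2' : B (u' + N u') v = 0 := hv _ hu
    show B (u' + N u') (N v) = 0
    rw [map_add, h2', zero_add] at h1
    exact h1
  have hdisj : Disjoint U W := Submodule.disjoint_def.2 fun x hx hx' => hnd x hx fun v hv => by rw [hS]; exact hx' v hv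
  have hUW : U ⊔ W = ⊤ := by
    refine Submodule.eq_top_of_finrank_eq ?_
    have h1 := Submodule.finrank_sup_add_finrank_inf_eq U W
    rw [hdisj.eq_bot, finrank_bot, add_zero] at h1
    rw [h1, hW, LinearMap.BilinForm.finrank_orthogonal hB]
    have := U.finrank_le
    omega
  have hmono : ∀ {S : Submodule F V}, S.map N ≤ S → ∀ k, S.map (N ^ k) ≤ S := by
    intro S hS k
    induction k with
    | zero => rw [pow_zero, Module.End.one_eq_id, Submodule.map_id]
    | succ k ih => exact (map_pow_succ_le N hS k).trans ih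
  refine ⟨?_, ?_, fun e he => ?_⟩
  · rw [Multiset.le_iff_count]
    intro b
    rw [blocks_count]
    split_ifs with hb
    · have e : ∀ k, drop N U k + drop N W k = μ.countP (fun c => k < c) := by
        intro k
        have a1 := (drop_eq N hU k).2
        have a2 := (drop_eq N hWi k).2
        have hsplit : ∀ k, finrank F (LinearMap.range (N ^ k)) = finrank F (U.map (N ^ k)) + finrank F (W.map (N ^ k)) := by
          intro k
          have h1 := Submodule.finrank_sup_add_finrank_inf_eq (U.map (N ^ k)) (W.map (N ^ k))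
          rw [← Submodule.map_sup, hUW, Submodule.map_top,
            (hdisj.mono (hmono hU k) (hmono hWi k)).eq_bot, finrank_bot, add_zero] at h1
          exact h1
        have a3 := hsplit k
        have a4 := hsplit (k + 1)
        rw [hrank] at a3 a4
        have a5 := count_blocks μ k
        omega
      have h1 := e (b - 1)
      have h3 := countP_blocks μ b hb.1
      have h4 := drop_anti N hWi (b - 1)
      rw [Nat.sub_add_cancel hb.1] at h4
      have h5 := e b
      omega
    · exact Nat.zero_le _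
  · have h1 := blocks_sum N hU p
    have h2' : drop N U p = 0 := by
      unfold drop
      rw [hp, Submodule.map_zero, finrank_bot, Nat.zero_sub]
    rw [h2', mul_zero, hp, Submodule.map_zero, finrank_bot, add_zero, add_zero] at h1
    exact h1
  · rw [blocks_count]
    split_ifs with hb
    · have := even_drop h2 B hS N hiso hU hnd hp (j := e - 1) (Nat.Even.sub_odd hb.1 he odd_one)
      rwa [Nat.sub_add_cancel hb.1] at this
    · exact Even.zero

end Parity

/-- The size of a multiset of even parts with even multiplicities is divisible by four. -/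
theorem four_dvd_sum {μ : Multiset ℕ} (hall : ∀ b ∈ μ, Even b) (hpar : ∀ e, Even e → Even (μ.count e)) : 4 ∣ μ.sum := by
  rw [Finset.sum_multiset_count]
  refine Finset.dvd_sum fun b hb => ?_
  obtain ⟨s, hs⟩ := hall b (Multiset.mem_toFinset.1 hb)
  obtain ⟨t, ht⟩ := hpar b (hall b (Multiset.mem_toFinset.1 hb))
  rw [ht, hs, smul_eq_mul]
  exact ⟨t * s, by ring⟩

/-- If every element of order `p` fixes a non-degenerate subspace with property `P`, then every admissible multiset
with a part different from one has a block-compatible witness. -/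
theorem exists_witness {F : Type*} [Field F] [Fintype F] {ι : Type} [Fintype ι] [DecidableEq ι] {p : ℕ}
    [Fact p.Prime] [CharP F p] (h2 : (2 : F) ≠ 0) (Q : QuadraticForm F (ι → F)) (hQ : (polarBilin Q).Nondegenerate)
    (P : Submodule F (ι → F) → Prop) (hP : ∀ W, P W → Cfsg.Geo.IsNondegenerateOn (QuadraticMap.polar (⇑Q)) W)
    (hall : ∀ x : GL ι F, x ∈ Cfsg.Geo.omegaGL (⇑Q) → x ^ p = 1 →
      (∀ z : F, (x : Matrix ι ι F) ≠ z • (1 : Matrix ι ι F)) →
      ∃ W, P W ∧ W.map (Matrix.toLin' (x : Matrix ι ι F)) ≤ W)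
    (μ : Multiset ℕ) (hμ : ∀ b ∈ μ, 0 < b ∧ b ≤ p) (hpar : ∀ e, Even e → Even (μ.count e))
    (hsum : μ.sum = Fintype.card ι) (hne : ∃ b ∈ μ, b ≠ 1)
    (hcls : (∃ b ∈ μ, Odd b) ∨ IsSquare (LinearMap.BilinForm.toMatrix' (polarBilin Q)).det) :
    ∃ (W : Submodule F (ι → F)) (N : Module.End F (ι → F)) (ν : Multiset ℕ), P W ∧ N ^ p = 0 ∧ W.map N ≤ W ∧
      (∀ u v, polarBilin Q (u + N u) (v + N v) = polarBilin Q u v) ∧ ν = blocks N W p ∧
      ν ≤ μ ∧ ν.sum = finrank F W ∧ ∀ e, Even e → Even (ν.count e) := by
  obtain ⟨x, hxΩ, hxp, hrk⟩ := exists_unipotent h2 Q hQ μ (fun b hb => (hμ b hb).2) hpar hsum hcls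
  set N := Matrix.toLin' (x : Matrix ι ι F) - 1 with hN
  have hNp : N ^ p = 0 := by
    rw [← LinearMap.range_eq_bot, ← Submodule.finrank_eq_zero, hrk]
    exact Multiset.sum_eq_zero fun c hc => by
      obtain ⟨b, hb, rfl⟩ := Multiset.mem_map.1 hc
      have := (hμ b hb).2
      omega
  obtain ⟨b0, hb0, hb01⟩ := hne
  have hι : Nonempty ι := by
    rw [← Fintype.card_pos_iff, ← hsum]
    have := Multiset.le_sum_of_mem hb0
    have := (hμ b0 hb0).1
    omega
  obtain ⟨W, hW, hWx⟩ := hall x hxΩ hxp (fun z hz => by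
    have hz' : Matrix.toLin' (x : Matrix ι ι F) = z • (1 : Module.End F (ι → F)) := by
      rw [hz, map_smul, Matrix.toLin'_one]; rfl
    have h2' : N = (z - 1) • (1 : Module.End F (ι → F)) := by rw [hN, hz']; module
    have h3 : z - 1 = 0 := by
      obtain ⟨i⟩ := hι
      have : ((z - 1) • (1 : Module.End F (ι → F))) ^ p = 0 := h2' ▸ hNp
      rw [smul_pow, one_pow] at this
      have h5 := congrFun (LinearMap.congr_fun this (Pi.single i 1)) i
      simp at h5
      exact h5.1
    have h4 := hrk 1
    rw [h2', h3, zero_smul, pow_one, LinearMap.range_zero, finrank_bot] at h4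
    have h5 : b0 - 1 = 0 := Nat.le_zero.1 (h4 ▸ Multiset.le_sum_of_mem (Multiset.mem_map_of_mem (fun b => b - 1) hb0))
    have := (hμ b0 hb0).1
    omega)
  have hxiso : ∀ v, Q ((x : Matrix ι ι F) *ᵥ v) = Q v := by
    obtain ⟨g, -, rfl⟩ := hxΩ
    exact fun v => g.2 v v
  have hxN : ∀ v, v + N v = (x : Matrix ι ι F) *ᵥ v := fun v => by
    rw [hN, LinearMap.sub_apply, Module.End.one_apply, add_sub_cancel, Matrix.toLin'_apply]
  have hiso : ∀ u v, polarBilin Q (u + N u) (v + N v) = polarBilin Q u v := fun u v => by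
    rw [QuadraticMap.polarBilin_apply_apply, QuadraticMap.polarBilin_apply_apply, QuadraticMap.polar,
      QuadraticMap.polar, hxN, hxN, ← Matrix.mulVec_add, hxiso, hxiso, hxiso]
  have hNW : W.map N ≤ W := by
    rintro _ ⟨v, hv, rfl⟩
    rw [hN, LinearMap.sub_apply, Module.End.one_apply]
    exact W.sub_mem (hWx (Submodule.mem_map_of_mem hv)) hv
  have hnd : ∀ u ∈ W, (∀ v ∈ W, polarBilin Q u v = 0) → u = 0 := fun u hu h => by
    by_contra hu0
    obtain ⟨v, hv, hvu⟩ := (hP W hW u hu hu0).2
    exact hvu (h v hv)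
  exact ⟨W, N, _, hW, hNp, hNW, hiso, rfl,
    exists_subpartition h2 (polarBilin Q) (fun u v => Cfsg.Agent.Lib.Geometry.quad_polar_comm Q u v) hQ N hiso hrk hNp hNW hnd⟩

end Cfsg.Agent.Lib.MaxSub.UnipotentOrth
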