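import Cfsg.Agent.Lib.MaxSub.IsoDecomp
import Cfsg.Agent.Lib.MaxSub.UnipotentOrth
import Mathlib

/-!
Orthogonal decomposition of unipotent symplectic isometries into blocks.
-/

set_option autoImplicit false
set_option maxHeartbeats 1000000
set_option linter.unusedSectionVars false

namespace Cfsg.Agent.Lib.MaxSub.UnipotentSymp

open Module Cfsg.Agent.Lib.MaxSub
open scoped _root_.Classical

variable {ι : Type} [Fintype ι] [DecidableEq ι] {F : Type*} [Field F] (f : AltForm ι F) {X : End F (ι → F)}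

/-- The multiset of block sizes allows an orthogonal decomposition. -/
def EvenOdd (μ : Multiset ℕ) : Prop := ∀ a : ℕ, Odd a → Even (μ.count a)

theorem sub_inv {U : Submodule F (ι → F)} (hU : U.map X ≤ U) : U.map (X - 1) ≤ U := by
  rintro _ ⟨v, hv, rfl⟩
  exact U.sub_mem (hU (Submodule.mem_map_of_mem hv)) hv

theorem pow_mem {U : Submodule F (ι → F)} (hU : U.map X ≤ U) {v : ι → F} (hv : v ∈ U) (j : ℕ) :
    ((X - 1) ^ j) v ∈ U := by
  induction j with
  | zero => exact hv
  | succ j ih => rw [pow_succ', End.mul_apply]; exact sub_inv hU (Submodule.mem_map_of_mem ih)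

theorem step_eq (hiso : ∀ u v, f.B (X u) (X v) = f.B u v) (u v : ι → F) :
    f.B ((X - 1) u) ((X - 1) v) = -(f.B ((X - 1) u) v + f.B u ((X - 1) v)) := by
  simp only [LinearMap.sub_apply, End.one_apply, map_sub, hiso]
  ring

theorem vanish (hiso : ∀ u v, f.B (X u) (X v) = f.B u v) {U : Submodule F (ι → F)} {a : ℕ}
    (ha : ∀ v ∈ U, ((X - 1) ^ a) v = 0) :
    ∀ j k, a ≤ j + k → ∀ u ∈ U, ∀ v ∈ U, f.B (((X - 1) ^ j) u) (((X - 1) ^ k) v) = 0 := by
  have hz : ∀ k, a ≤ k → ∀ v ∈ U, ((X - 1) ^ k) v = 0 := fun k hk v hv => by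
    obtain ⟨b, rfl⟩ := Nat.exists_eq_add_of_le hk
    rw [add_comm, pow_add, End.mul_apply, ha v hv, map_zero]
  intro j
  induction j with
  | zero =>
    intro k hk u _ v hv
    rw [hz k (by omega) v hv, map_zero]
  | succ j ih =>
    have key : ∀ n k, a ≤ j + 1 + k → a ≤ k + n → ∀ u ∈ U, ∀ v ∈ U,
        f.B (((X - 1) ^ (j + 1)) u) (((X - 1) ^ k) v) = 0 := by
      intro n
      induction n with
      | zero =>
        intro k _ hk u _ v hv
        rw [hz k (by omega) v hv, map_zero]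
      | succ n ih2 =>
        intro k hk hk2 u hu v hv
        have e := step_eq f hiso (((X - 1) ^ j) u) (((X - 1) ^ k) v)
        rw [← End.mul_apply (X - 1), ← End.mul_apply (X - 1), ← pow_succ', ← pow_succ',
          ih (k + 1) (by omega) u hu v hv, ih2 (k + 1) (by omega) (by omega) u hu v hv, add_zero] at e
        rw [eq_comm, neg_eq_zero] at e
        exact e
    exact fun k hk => key a k hk (by omega)

theorem anti (hiso : ∀ u v, f.B (X u) (X v) = f.B u v) {U : Submodule F (ι → F)} {a : ℕ}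
    (ha : ∀ v ∈ U, ((X - 1) ^ a) v = 0) :
    ∀ k j, j + k + 1 = a → ∀ u ∈ U, ∀ v ∈ U,
      f.B (((X - 1) ^ j) u) (((X - 1) ^ k) v) = (-1) ^ k * f.B (((X - 1) ^ (a - 1)) u) v := by
  intro k
  induction k with
  | zero =>
    intro j hj u _ v _
    rw [pow_zero, pow_zero, one_mul, End.one_apply, show a - 1 = j by omega]
  | succ k ih =>
    intro j hj u hu v hv
    have e := step_eq f hiso (((X - 1) ^ j) u) (((X - 1) ^ k) v)
    rw [← End.mul_apply (X - 1), ← End.mul_apply (X - 1), ← pow_succ', ← pow_succ',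
      vanish f hiso ha (j + 1) (k + 1) (by omega) u hu v hv, ih (j + 1) (by omega) u hu v hv] at e
    rw [pow_succ (-1 : F), mul_neg_one, neg_mul]
    linear_combination e

theorem top_symm (hiso : ∀ u v, f.B (X u) (X v) = f.B u v) {U : Submodule F (ι → F)} {a : ℕ}
    (ha : ∀ v ∈ U, ((X - 1) ^ a) v = 0) (ha0 : 0 < a) {u v : ι → F} (hu : u ∈ U) (hv : v ∈ U) :
    f.B (((X - 1) ^ (a - 1)) v) u = (-1) ^ a * f.B (((X - 1) ^ (a - 1)) u) v := by
  have e := anti f hiso ha (a - 1) 0 (by omega) u hu v hv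
  rw [pow_zero, End.one_apply] at e
  rw [f.skew, e, show (-1 : F) ^ a = (-1) ^ (a - 1) * (-1) by rw [← pow_succ, Nat.sub_add_cancel ha0]]
  ring

/-- Sum of a family of shifted copies of a subspace. -/
noncomputable def chain (X : End F (ι → F)) (S : Submodule F (ι → F)) (k n : ℕ) : (Fin n → S) →ₗ[F] (ι → F) :=
  ∑ j : Fin n, (((X - 1) ^ (k + (j : ℕ))).comp S.subtype).comp (LinearMap.proj j)

theorem chain_apply (S : Submodule F (ι → F)) (k n : ℕ) (c : Fin n → S) :
    chain X S k n c = ∑ j : Fin n, ((X - 1) ^ (k + (j : ℕ))) (c j : ι → F) := by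
  simp [chain]

/-- A block generated by a subspace on which the top form is non-degenerate. -/
theorem exists_block (hiso : ∀ u v, f.B (X u) (X v) = f.B u v) {U : Submodule F (ι → F)} (hUi : U.map X ≤ U) {a : ℕ}
    (ha : ∀ v ∈ U, ((X - 1) ^ a) v = 0) {S : Submodule F (ι → F)} (hSU : S ≤ U)
    (hS : ∀ u ∈ S, u ≠ 0 → ∃ v ∈ S, f.B (((X - 1) ^ (a - 1)) u) v ≠ 0) :
    ∃ L ≤ U, f.NdOn L ∧ L.map X ≤ L ∧ ∀ k, finrank F (L.map ((X - 1) ^ k)) = finrank F S * (a - k) := by
  have pair : ∀ k n, k + n = a → ∀ c : Fin n → S, c ≠ 0 →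
      ∃ e < a, ∃ v ∈ S, f.B (chain X S k n c) (((X - 1) ^ e) v) ≠ 0 := by
    intro k n hkn c hc
    obtain ⟨i, hi, hmin⟩ := Finset.exists_min_image (Finset.univ.filter fun i : Fin n => c i ≠ 0)
      (fun i : Fin n => (i : ℕ)) (by
        by_contra h
        exact hc (funext fun i => by_contra fun hci => h ⟨i, by simpa using hci⟩))
    rw [Finset.mem_filter] at hi
    obtain ⟨v, hv, hne⟩ := hS (c i) (c i).2 (fun h => hi.2 (Subtype.ext h))
    refine ⟨a - 1 - (k + i), by omega, v, hv, ?_⟩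
    rw [chain_apply, map_sum, LinearMap.sum_apply, Finset.sum_eq_single i]
    · rw [anti f hiso ha _ _ (by omega) _ (hSU (c i).2) v (hSU hv)]
      exact mul_ne_zero (pow_ne_zero _ (neg_ne_zero.2 one_ne_zero)) hne
    · intro j _ hj
      by_cases hcj : c j = 0
      · simp [hcj]
      have h1 : (i : ℕ) ≤ j := hmin j (by simpa using hcj)
      have h2 : (i : ℕ) ≠ j := fun e => hj (Fin.ext e.symm)
      exact vanish f hiso ha _ _ (by omega) _ (hSU (c j).2) v (hSU hv)
    · simp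
  obtain ⟨L, hLdef⟩ : ∃ L, L = LinearMap.range (chain X S 0 a) := ⟨_, rfl⟩
  have hmem : ∀ e < a, ∀ v ∈ S, ((X - 1) ^ e) v ∈ L := fun e he v hv => by
    rw [hLdef]
    refine ⟨Pi.single ⟨e, he⟩ ⟨v, hv⟩, ?_⟩
    rw [chain_apply, Finset.sum_eq_single (⟨e, he⟩ : Fin a) (fun j _ hj => by simp [hj]) (by simp)]
    simp
  have hLU : L ≤ U := by
    rw [hLdef]
    rintro _ ⟨c, rfl⟩
    rw [chain_apply]
    exact U.sum_mem fun j _ => pow_mem hUi (hSU (c j).2) _
  refine ⟨L, hLU, ?_, ?_, fun k => ?_⟩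
  · intro x hx hx0
    rw [hLdef] at hx
    obtain ⟨c, rfl⟩ := hx
    obtain ⟨e, he, v, hv, hne⟩ := pair 0 a (zero_add a) c (fun h => hx0 (by rw [h, map_zero]))
    exact ⟨_, hmem e he v hv, hne⟩
  · rintro _ ⟨x, hx, rfl⟩
    have hT : (X - 1) x ∈ L := by
      rw [hLdef] at hx
      obtain ⟨c, rfl⟩ := hx
      rw [chain_apply, map_sum]
      refine L.sum_mem fun j _ => ?_
      rw [← End.mul_apply, ← pow_succ']
      by_cases h : (j : ℕ) + 1 < a
      · rw [zero_add]; exact hmem _ h _ (c j).2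
      · rw [show 0 + (j : ℕ) + 1 = a by omega, ha _ (hSU (c j).2)]; exact L.zero_mem
    have := L.add_mem hT hx
    simpa using this
  · rcases le_or_gt k a with hk | hk
    · have hrange : L.map ((X - 1) ^ k) = LinearMap.range (chain X S k (a - k)) := by
        refine le_antisymm ?_ ?_
        · rw [hLdef]
          rintro _ ⟨_, ⟨c, rfl⟩, rfl⟩
          rw [chain_apply, map_sum]
          refine Submodule.sum_mem _ fun j _ => ?_
          rw [← End.mul_apply, ← pow_add, zero_add]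
          by_cases h : (j : ℕ) < a - k
          · refine ⟨Pi.single ⟨j, h⟩ (c j), ?_⟩
            rw [chain_apply, Finset.sum_eq_single (⟨j, h⟩ : Fin (a - k)) (fun i _ hi => by simp [hi]) (by simp)]
            simp
          · rw [show k + (j : ℕ) = (k + j - a) + a by omega, pow_add, End.mul_apply, ha _ (hSU (c j).2), map_zero]
            exact Submodule.zero_mem _
        · rintro _ ⟨c, rfl⟩
          rw [chain_apply]
          refine Submodule.sum_mem _ fun j _ => ?_
          rw [pow_add, End.mul_apply]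
          exact Submodule.mem_map_of_mem (hmem j (by omega) _ (c j).2)
      rw [hrange, LinearMap.finrank_range_of_inj]
      · rw [Module.finrank_pi_fintype, Finset.sum_const, Finset.card_univ, Fintype.card_fin, smul_eq_mul, mul_comm]
      · refine (injective_iff_map_eq_zero _).2 fun c hc => by_contra fun hne => ?_
        obtain ⟨e, -, v, -, h⟩ := pair k (a - k) (by omega) c hne
        exact h (by rw [hc, map_zero, LinearMap.zero_apply])
    · rw [show a - k = 0 by omega, mul_zero, Submodule.finrank_eq_zero, eq_bot_iff]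
      rintro _ ⟨v, hv, rfl⟩
      rw [Submodule.mem_bot, show k = (k - a) + a by omega, pow_add, End.mul_apply, ha v (hLU hv), map_zero]

theorem span_one {w : ι → F} {a : ℕ} (hne : f.B (((X - 1) ^ (a - 1)) w) w ≠ 0) :
    (∀ u ∈ (F ∙ w), u ≠ 0 → ∃ v ∈ (F ∙ w), f.B (((X - 1) ^ (a - 1)) u) v ≠ 0) ∧
      finrank F (F ∙ w : Submodule F (ι → F)) = 1 := by
  refine ⟨fun u hu hu0 => ⟨w, Submodule.mem_span_singleton_self w, ?_⟩,
    finrank_span_singleton fun h => hne (by rw [h, map_zero])⟩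
  obtain ⟨c, rfl⟩ := Submodule.mem_span_singleton.1 hu
  rw [map_smul, map_smul, LinearMap.smul_apply, smul_eq_mul]
  exact mul_ne_zero (fun h => hu0 (by rw [h, zero_smul])) hne

theorem span_two {u v : ι → F} {a : ℕ} (huv : f.B (((X - 1) ^ (a - 1)) u) v ≠ 0)
    (hvu : f.B (((X - 1) ^ (a - 1)) v) u ≠ 0)
    (huu : f.B (((X - 1) ^ (a - 1)) u) u = 0) (hvv : f.B (((X - 1) ^ (a - 1)) v) v = 0) :
    (∀ x ∈ (F ∙ u) ⊔ (F ∙ v), x ≠ 0 → ∃ y ∈ (F ∙ u) ⊔ (F ∙ v), f.B (((X - 1) ^ (a - 1)) x) y ≠ 0) ∧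
      finrank F ((F ∙ u) ⊔ (F ∙ v) : Submodule F (ι → F)) = 2 := by
  constructor
  · intro x hx hx0
    obtain ⟨p, hp, q, hq, rfl⟩ := Submodule.mem_sup.1 hx
    obtain ⟨c, rfl⟩ := Submodule.mem_span_singleton.1 hp
    obtain ⟨e, rfl⟩ := Submodule.mem_span_singleton.1 hq
    by_cases hc : c = 0
    · refine ⟨u, Submodule.mem_sup_left (Submodule.mem_span_singleton_self u), ?_⟩
      have he : e ≠ 0 := fun h => hx0 (by simp [hc, h])
      simp [hc, he, hvu]
    · refine ⟨v, Submodule.mem_sup_right (Submodule.mem_span_singleton_self v), ?_⟩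
      simp [hc, hvv, huv]
  · have hi : (F ∙ u) ⊓ (F ∙ v) = ⊥ := by
      rw [Submodule.eq_bot_iff]
      rintro x ⟨h1, h2⟩
      obtain ⟨c, rfl⟩ := Submodule.mem_span_singleton.1 h1
      obtain ⟨e, he⟩ := Submodule.mem_span_singleton.1 h2
      have h3 := congrArg (fun z => f.B (((X - 1) ^ (a - 1)) z) v) he
      simp [hvv, huv] at h3
      rw [h3, zero_smul]
    have h := Submodule.finrank_sup_add_finrank_inf_eq (F ∙ u) (F ∙ v)
    rw [hi, finrank_bot, add_zero, finrank_span_singleton (fun h => huv (by rw [h]; simp)),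
      finrank_span_singleton (fun h => hvu (by rw [h]; simp))] at h
    exact h

/-- Images under an orthogonal sum add up. -/
theorem map_add_dim {U L R : Submodule F (ι → F)} (hsup : L ⊔ R = U) (hinf : L ⊓ R = ⊥) (hL : L.map X ≤ L)
    (hR : R.map X ≤ R) (k : ℕ) :
    finrank F (U.map ((X - 1) ^ k)) = finrank F (L.map ((X - 1) ^ k)) + finrank F (R.map ((X - 1) ^ k)) := by
  have h := Submodule.finrank_sup_add_finrank_inf_eq (L.map ((X - 1) ^ k)) (R.map ((X - 1) ^ k))
  rw [← Submodule.map_sup, hsup] at h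
  have h0 : L.map ((X - 1) ^ k) ⊓ R.map ((X - 1) ^ k) = ⊥ := by
    rw [eq_bot_iff, ← hinf]
    refine inf_le_inf ?_ ?_
    · rintro _ ⟨v, hv, rfl⟩; exact pow_mem hL hv k
    · rintro _ ⟨v, hv, rfl⟩; exact pow_mem hR hv k
  rw [h0, finrank_bot, add_zero] at h
  exact h

theorem inf_perp {L : Submodule F (ι → F)} (hL : f.NdOn L) (U : Submodule F (ι → F)) : L ⊓ (U ⊓ f.perp L) = ⊥ := by
  rw [Submodule.eq_bot_iff]
  rintro v ⟨h1, -, h3⟩
  by_contra h0
  obtain ⟨x, hx, hvx⟩ := hL v h1 h0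
  exact hvx (by rw [f.skew, h3 x hx, neg_zero])

variable {p : ℕ}

theorem nil_of_pow [hp : Fact p.Prime] [CharP F p] (hX : X ^ p = 1) : (X - 1) ^ p = 0 := by
  have h : ((Polynomial.X : Polynomial F) - 1) ^ p = Polynomial.X ^ p - 1 := by
    rw [sub_pow_char, one_pow]
  have h2 := congrArg (Polynomial.aeval X) h
  simpa [hX] using h2

/-- The orthogonal block decomposition. -/
theorem exists_blocks [hp : Fact p.Prime] [CharP F p] (h2 : (2 : F) ≠ 0) (hX : X ^ p = 1)
    (hiso : ∀ u v, f.B (X u) (X v) = f.B u v) :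
    ∀ (N : ℕ) {U : Submodule F (ι → F)}, finrank F U = N → f.NdOn U → U.map X ≤ U →
      ∃ μ : Multiset ℕ, (∀ a ∈ μ, 0 < a ∧ a ≤ p) ∧ EvenOdd μ ∧ μ.sum = N ∧
        (∀ k, finrank F (U.map ((X - 1) ^ k)) = (μ.map fun b => b - k).sum) ∧
        ∀ ν ≤ μ, EvenOdd ν → ∃ W ≤ U, f.NdOn W ∧ W.map X ≤ W ∧ finrank F W = ν.sum := by
  intro N
  induction N using Nat.strong_induction_on with
  | _ N ih =>
  intro U hN hU hUi
  by_cases hne : U = ⊥
  · subst hne
    rw [finrank_bot] at hN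
    refine ⟨0, by simp, fun a _ => by simp, by simpa using hN, fun k => by simp, fun ν hν _ => ?_⟩
    rw [Multiset.le_zero.1 hν]
    exact ⟨⊥, le_rfl, IsoDecomp.nd_bot f, by simp, by simp⟩
  have hex : ∃ a : ℕ, ∀ v ∈ U, ((X - 1 : End F (ι → F)) ^ a) v = 0 := ⟨p, fun v _ => by rw [nil_of_pow hX]; rfl⟩
  obtain ⟨a, ha, hamin⟩ : ∃ a, (∀ v ∈ U, ((X - 1) ^ a) v = 0) ∧ ∀ b < a, ¬ ∀ v ∈ U, ((X - 1) ^ b) v = 0 :=
    ⟨Nat.find hex, Nat.find_spec hex, fun b hb => Nat.find_min hex hb⟩
  have ha0 : 0 < a := by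
    by_contra h0
    obtain rfl : a = 0 := by omega
    exact hne ((Submodule.eq_bot_iff U).2 fun v hv => by simpa using ha v hv)
  have hap : a ≤ p := by
    by_contra h0
    exact hamin p (by omega) fun v _ => by rw [nil_of_pow hX]; rfl
  obtain ⟨u, hu, hu'⟩ : ∃ u ∈ U, ((X - 1) ^ (a - 1)) u ≠ 0 := by
    have h := hamin (a - 1) (by omega)
    push Not at h
    exact h
  obtain ⟨v, hv, huv⟩ := hU _ (pow_mem hUi hu _) hu'
  have hsym := fun {x y : ι → F} (hx : x ∈ U) (hy : y ∈ U) => top_symm f hiso ha ha0 (u := x) (v := y) hx hy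
  obtain ⟨s, S, hSU, hS, hSd, hs⟩ : ∃ (s : ℕ) (S : Submodule F (ι → F)), S ≤ U ∧
      (∀ x ∈ S, x ≠ 0 → ∃ y ∈ S, f.B (((X - 1) ^ (a - 1)) x) y ≠ 0) ∧ finrank F S = s ∧
        ((Even a ∧ s = 1) ∨ (Odd a ∧ s = 2)) := by
    rcases Nat.even_or_odd a with hev | hod
    · obtain ⟨w, hw, hww⟩ : ∃ w ∈ U, f.B (((X - 1) ^ (a - 1)) w) w ≠ 0 := by
        by_contra hc
        push Not at hc
        have h := hc (u + v) (U.add_mem hu hv)
        simp only [map_add, LinearMap.add_apply, hc u hu, hc v hv] at h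
        rw [hsym hu hv, hev.neg_one_pow, one_mul] at h
        refine huv ((mul_eq_zero.1 ?_).resolve_left h2)
        linear_combination h
      obtain ⟨h1, h2'⟩ := span_one f hww
      exact ⟨1, _, (Submodule.span_singleton_le_iff_mem _ _).2 hw, h1, h2', Or.inl ⟨hev, rfl⟩⟩
    · have hz : ∀ w ∈ U, f.B (((X - 1) ^ (a - 1)) w) w = 0 := fun w hw => by
        have h := hsym hw hw
        rw [hod.neg_one_pow, neg_one_mul] at h
        refine (mul_eq_zero.1 ?_).resolve_left h2
        linear_combination h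
      have hvu : f.B (((X - 1) ^ (a - 1)) v) u ≠ 0 := by
        rw [hsym hu hv, hod.neg_one_pow, neg_one_mul]; exact neg_ne_zero.2 huv
      obtain ⟨h1, h2'⟩ := span_two f huv hvu (hz u hu) (hz v hv)
      exact ⟨2, _, sup_le ((Submodule.span_singleton_le_iff_mem _ _).2 hu) ((Submodule.span_singleton_le_iff_mem _ _).2 hv),
        h1, h2', Or.inr ⟨hod, rfl⟩⟩
  obtain ⟨L, hLU, hL, hLi, hLk⟩ := exists_block f hiso hUi ha hSU hS
  obtain ⟨hsup, hR, hdim⟩ := IsoDecomp.split_off f hU hL hLU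
  have hRi := IsoDecomp.inf_inv hUi (IsoDecomp.perp_inv f hX hp.out.pos hiso hLi)
  have hinf := inf_perp f hL U
  have hLd : finrank F L = s * a := by
    have h := hLk 0
    rwa [pow_zero, End.one_eq_id, Submodule.map_id, hSd, Nat.sub_zero] at h
  have hs0 : 0 < s * a := by rcases hs with ⟨-, rfl⟩ | ⟨-, rfl⟩ <;> omega
  obtain ⟨μ', h1, h2', h3, h4, h5⟩ := ih _ (by omega) rfl hR hRi
  refine ⟨Multiset.replicate s a + μ', ?_, fun b hb => ?_, ?_, fun k => ?_, fun ν hν hνe => ?_⟩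
  · intro b hb
    rcases Multiset.mem_add.1 hb with h | h
    · rw [Multiset.eq_of_mem_replicate h]; exact ⟨ha0, hap⟩
    · exact h1 b h
  · rw [Multiset.count_add, Multiset.count_replicate]
    split_ifs with hab
    · subst hab
      rcases hs with ⟨hev, -⟩ | ⟨-, rfl⟩
      · exact absurd hev (Nat.not_even_iff_odd.2 hb)
      · exact even_two.add (h2' _ hb)
    · rw [zero_add]; exact h2' b hb
  · rw [Multiset.sum_add, Multiset.sum_replicate, smul_eq_mul, h3]; omega
  · rw [map_add_dim hsup hinf hLi hRi, hLk, h4, Multiset.map_add, Multiset.sum_add, Multiset.map_replicate,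
      Multiset.sum_replicate, smul_eq_mul, hSd]
  · by_cases hc : ν.count a ≤ μ'.count a
    · have hν' : ν ≤ μ' := Multiset.le_iff_count.2 fun b => by
        have h := Multiset.le_iff_count.1 hν b
        rw [Multiset.count_add, Multiset.count_replicate] at h
        by_cases hab : a = b
        · subst hab; exact hc
        · rw [if_neg hab, zero_add] at h; exact h
      obtain ⟨W, hW, hW2⟩ := h5 ν hν' hνe
      exact ⟨W, hW.trans inf_le_left, hW2⟩
    · have hcs : μ'.count a + s ≤ ν.count a ∨ s = 2 := by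
        rcases hs with ⟨-, rfl⟩ | ⟨-, rfl⟩
        · exact Or.inl (by omega)
        · exact Or.inr rfl
      have hsle : s ≤ ν.count a := by
        rcases hs with ⟨-, rfl⟩ | ⟨hod, rfl⟩
        · omega
        · obtain ⟨i, hi⟩ := hνe a hod; omega
      obtain ⟨ν', rfl⟩ := Multiset.le_iff_exists_add.1 (Multiset.le_count_iff_replicate_le.1 hsle)
      obtain ⟨W, hW, hWn, hWi, hWd⟩ := h5 ν' ((add_le_add_iff_left _).1 hν) fun b hb => by
        have h := hνe b hb
        rw [Multiset.count_add, Multiset.count_replicate] at h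
        split_ifs at h with hab
        · subst hab
          rcases hs with ⟨hev, -⟩ | ⟨-, rfl⟩
          · exact absurd hev (Nat.not_even_iff_odd.2 hb)
          · exact (Nat.even_add.1 h).1 even_two
        · rwa [zero_add] at h
      obtain ⟨g1, g2⟩ := IsoDecomp.nd_sup f hL hWn (hW.trans inf_le_right)
      exact ⟨L ⊔ W, sup_le hLU (hW.trans inf_le_left), g1, IsoDecomp.sup_inv hLi hWi, by
        rw [g2, hLd, hWd, Multiset.sum_add, Multiset.sum_replicate, smul_eq_mul]⟩

/-- The sizes are determined by the ranks of the powers. -/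
theorem sizes_unique {μ ν : Multiset ℕ} (hμ : ∀ a ∈ μ, 0 < a) (hν : ∀ a ∈ ν, 0 < a)
    (h : ∀ k, (μ.map fun b => b - k).sum = (ν.map fun b => b - k).sum) : μ = ν := by
  have hP : ∀ k, μ.countP (fun b => k < b) = ν.countP (fun b => k < b) := fun k => by
    have a1 := UnipotentOrth.count_blocks μ k
    have a2 := UnipotentOrth.count_blocks ν k
    rw [h k, h (k + 1)] at a1
    omega
  refine Multiset.ext.2 fun b => ?_
  rcases Nat.eq_zero_or_pos b with rfl | hb
  · rw [Multiset.count_eq_zero.2 fun h0 => (hμ 0 h0).false, Multiset.count_eq_zero.2 fun h0 => (hν 0 h0).false]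
  · have a1 := UnipotentOrth.countP_blocks μ b hb
    have a2 := UnipotentOrth.countP_blocks ν b hb
    rw [hP, hP b] at a1
    omega

end Cfsg.Agent.Lib.MaxSub.UnipotentSymp
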