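import Cfsg.Agent.Lib.MaxSub.HermNd
import Cfsg.Agent.Lib.MaxSub.UnipotentSymp
import Cfsg.Agent.Lib.Similar.Star
import Mathlib

/-!
Orthogonal decomposition of unipotent unitary maps into single blocks, and the number of non-degenerate subspaces.
-/

set_option autoImplicit false
set_option maxHeartbeats 1000000
set_option linter.unusedSectionVars false

namespace Cfsg.Agent.Lib.MaxSub.HermUnip

open Module Cfsg.Agent.Lib.MaxSub Cfsg.Agent.Lib.MaxSub.HermDecomp
open Cfsg.Agent.Lib.MaxSub.UnipotentSymp (chain chain_apply pow_mem map_add_dim nil_of_pow sizes_unique sub_inv)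
open Cfsg.Agent.Lib.MaxSub.HermElem (Isom isom_B)
open scoped _root_.Classical

section Blocks

variable {ι : Type} [Fintype ι] [DecidableEq ι] {F : Type*} [Field F] (f : HermF ι F) {X : End F (ι → F)}

theorem step_eq (hiso : ∀ u v, f.B (X u) (X v) = f.B u v) (u v : ι → F) :
    f.B ((X - 1) u) ((X - 1) v) = -(f.B ((X - 1) u) v + f.B u ((X - 1) v)) := by
  simp only [LinearMap.sub_apply, End.one_apply, map_sub, hiso]
  ring

theorem vanish (hiso : ∀ u v, f.B (X u) (X v) = f.B u v) {U : Submodule F (ι → F)} {a : ℕ}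
    (ha : ∀ v ∈ U, ((X - 1) ^ a) v = 0) :
    ∀ j k, a ≤ j + k → ∀ u ∈ U, ∀ v ∈ U, f.B (((X - 1) ^ j) u) (((X - 1) ^ k) v) = 0 := by
  have hz : ∀ k, a ≤ k → ∀ v ∈ U, ((X - 1) ^ k) v = 0 := fun k hk v hv => by
    obtain ⟨b, rfl⟩ := Nat.exists_eq_add_of_le hk
    rw [add_comm, pow_add, End.mul_apply, ha v hv, map_zero]
  intro j
  induction j with
  | zero =>
    intro k hk u _ v hv
    rw [hz k (by omega) v hv, map_zero]
  | succ j ih =>
    have key : ∀ n k, a ≤ j + 1 + k → a ≤ k + n → ∀ u ∈ U, ∀ v ∈ U,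
        f.B (((X - 1) ^ (j + 1)) u) (((X - 1) ^ k) v) = 0 := by
      intro n
      induction n with
      | zero =>
        intro k _ hk u _ v hv
        rw [hz k (by omega) v hv, map_zero]
      | succ n ih2 =>
        intro k hk hk2 u hu v hv
        have e := step_eq f hiso (((X - 1) ^ j) u) (((X - 1) ^ k) v)
        rw [← End.mul_apply (X - 1), ← End.mul_apply (X - 1), ← pow_succ', ← pow_succ',
          ih (k + 1) (by omega) u hu v hv, ih2 (k + 1) (by omega) (by omega) u hu v hv, add_zero] at e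
        rw [eq_comm, neg_eq_zero] at e
        exact e
    exact fun k hk => key a k hk (by omega)

theorem anti (hiso : ∀ u v, f.B (X u) (X v) = f.B u v) {U : Submodule F (ι → F)} {a : ℕ}
    (ha : ∀ v ∈ U, ((X - 1) ^ a) v = 0) :
    ∀ k j, j + k + 1 = a → ∀ u ∈ U, ∀ v ∈ U,
      f.B (((X - 1) ^ j) u) (((X - 1) ^ k) v) = (-1) ^ k * f.B (((X - 1) ^ (a - 1)) u) v := by
  intro k
  induction k with
  | zero =>
    intro j hj u _ v _
    rw [pow_zero, pow_zero, one_mul, End.one_apply, show a - 1 = j by omega]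
  | succ k ih =>
    intro j hj u hu v hv
    have e := step_eq f hiso (((X - 1) ^ j) u) (((X - 1) ^ k) v)
    rw [← End.mul_apply (X - 1), ← End.mul_apply (X - 1), ← pow_succ', ← pow_succ',
      vanish f hiso ha (j + 1) (k + 1) (by omega) u hu v hv, ih (j + 1) (by omega) u hu v hv] at e
    rw [pow_succ (-1 : F), mul_neg_one, neg_mul]
    linear_combination e

/-- A block generated by a subspace on which the top form is non-degenerate. -/
theorem exists_block (hiso : ∀ u v, f.B (X u) (X v) = f.B u v) {U : Submodule F (ι → F)} (hUi : U.map X ≤ U) {a : ℕ}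
    (ha : ∀ v ∈ U, ((X - 1) ^ a) v = 0) {S : Submodule F (ι → F)} (hSU : S ≤ U)
    (hS : ∀ u ∈ S, u ≠ 0 → ∃ v ∈ S, f.B (((X - 1) ^ (a - 1)) u) v ≠ 0) :
    ∃ L ≤ U, Nd f L ∧ L.map X ≤ L ∧ ∀ k, finrank F (L.map ((X - 1) ^ k)) = finrank F S * (a - k) := by
  have pair : ∀ k n, k + n = a → ∀ c : Fin n → S, c ≠ 0 →
      ∃ e < a, ∃ v ∈ S, f.B (chain X S k n c) (((X - 1) ^ e) v) ≠ 0 := by
    intro k n hkn c hc
    obtain ⟨i, hi, hmin⟩ := Finset.exists_min_image (Finset.univ.filter fun i : Fin n => c i ≠ 0)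
      (fun i : Fin n => (i : ℕ)) (by
        by_contra h
        exact hc (funext fun i => by_contra fun hci => h ⟨i, by simpa using hci⟩))
    rw [Finset.mem_filter] at hi
    obtain ⟨v, hv, hne⟩ := hS (c i) (c i).2 (fun h => hi.2 (Subtype.ext h))
    refine ⟨a - 1 - (k + i), by omega, v, hv, ?_⟩
    rw [chain_apply, map_sum, LinearMap.sum_apply, Finset.sum_eq_single i]
    · rw [anti f hiso ha _ _ (by omega) _ (hSU (c i).2) v (hSU hv)]
      exact mul_ne_zero (pow_ne_zero _ (neg_ne_zero.2 one_ne_zero)) hne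
    · intro j _ hj
      by_cases hcj : c j = 0
      · simp [hcj]
      have h1 : (i : ℕ) ≤ j := hmin j (by simpa using hcj)
      have h2 : (i : ℕ) ≠ j := fun e => hj (Fin.ext e.symm)
      exact vanish f hiso ha _ _ (by omega) _ (hSU (c j).2) v (hSU hv)
    · simp
  obtain ⟨L, hLdef⟩ : ∃ L, L = LinearMap.range (chain X S 0 a) := ⟨_, rfl⟩
  have hmem : ∀ e < a, ∀ v ∈ S, ((X - 1) ^ e) v ∈ L := fun e he v hv => by
    rw [hLdef]
    refine ⟨Pi.single ⟨e, he⟩ ⟨v, hv⟩, ?_⟩
    rw [chain_apply, Finset.sum_eq_single (⟨e, he⟩ : Fin a) (fun j _ hj => by simp [hj]) (by simp)]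
    simp
  have hLU : L ≤ U := by
    rw [hLdef]
    rintro _ ⟨c, rfl⟩
    rw [chain_apply]
    exact U.sum_mem fun j _ => pow_mem hUi (hSU (c j).2) _
  refine ⟨L, hLU, ?_, ?_, fun k => ?_⟩
  · intro x hx hx0
    rw [hLdef] at hx
    obtain ⟨c, rfl⟩ := hx
    obtain ⟨e, he, v, hv, hne⟩ := pair 0 a (zero_add a) c (fun h => hx0 (by rw [h, map_zero]))
    exact ⟨_, hmem e he v hv, hne⟩
  · rintro _ ⟨x, hx, rfl⟩
    have hT : (X - 1) x ∈ L := by
      rw [hLdef] at hx
      obtain ⟨c, rfl⟩ := hx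
      rw [chain_apply, map_sum]
      refine L.sum_mem fun j _ => ?_
      rw [← End.mul_apply, ← pow_succ']
      by_cases h : (j : ℕ) + 1 < a
      · rw [zero_add]; exact hmem _ h _ (c j).2
      · rw [show 0 + (j : ℕ) + 1 = a by omega, ha _ (hSU (c j).2)]; exact L.zero_mem
    have := L.add_mem hT hx
    simpa using this
  · rcases le_or_gt k a with hk | hk
    · have hrange : L.map ((X - 1) ^ k) = LinearMap.range (chain X S k (a - k)) := by
        refine le_antisymm ?_ ?_
        · rw [hLdef]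
          rintro _ ⟨_, ⟨c, rfl⟩, rfl⟩
          rw [chain_apply, map_sum]
          refine Submodule.sum_mem _ fun j _ => ?_
          rw [← End.mul_apply, ← pow_add, zero_add]
          by_cases h : (j : ℕ) < a - k
          · refine ⟨Pi.single ⟨j, h⟩ (c j), ?_⟩
            rw [chain_apply, Finset.sum_eq_single (⟨j, h⟩ : Fin (a - k)) (fun i _ hi => by simp [hi]) (by simp)]
            simp
          · rw [show k + (j : ℕ) = (k + j - a) + a by omega, pow_add, End.mul_apply, ha _ (hSU (c j).2), map_zero]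
            exact Submodule.zero_mem _
        · rintro _ ⟨c, rfl⟩
          rw [chain_apply]
          refine Submodule.sum_mem _ fun j _ => ?_
          rw [pow_add, End.mul_apply]
          exact Submodule.mem_map_of_mem (hmem j (by omega) _ (c j).2)
      rw [hrange, LinearMap.finrank_range_of_inj]
      · rw [Module.finrank_pi_fintype, Finset.sum_const, Finset.card_univ, Fintype.card_fin, smul_eq_mul, mul_comm]
      · refine (injective_iff_map_eq_zero _).2 fun c hc => by_contra fun hne => ?_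
        obtain ⟨e, -, v, -, h⟩ := pair k (a - k) (by omega) c hne
        exact h (by rw [hc, map_zero, LinearMap.zero_apply])
    · rw [show a - k = 0 by omega, mul_zero, Submodule.finrank_eq_zero, eq_bot_iff]
      rintro _ ⟨v, hv, rfl⟩
      rw [Submodule.mem_bot, show k = (k - a) + a by omega, pow_add, End.mul_apply, ha v (hLU hv), map_zero]

theorem inf_perp {L : Submodule F (ι → F)} (hL : Nd f L) (U : Submodule F (ι → F)) : L ⊓ (U ⊓ f.perp L) = ⊥ := by
  rw [Submodule.eq_bot_iff]
  rintro v ⟨h1, -, h3⟩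
  by_contra h0
  obtain ⟨x, hx, hvx⟩ := hL v h1 h0
  exact hvx (f.eq_zero_comm (h3 x hx))

/-- The orthogonal decomposition into single blocks. -/
theorem exists_blocks {p : ℕ} [hp : Fact p.Prime] [CharP F p] (hX : X ^ p = 1)
    (hiso : ∀ u v, f.B (X u) (X v) = f.B u v) :
    ∀ (N : ℕ) {U : Submodule F (ι → F)}, finrank F U = N → Nd f U → U.map X ≤ U →
      ∃ μ : Multiset ℕ, (∀ a ∈ μ, 0 < a ∧ a ≤ p) ∧ μ.sum = N ∧
        (∀ k, finrank F (U.map ((X - 1) ^ k)) = (μ.map fun b => b - k).sum) ∧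
        ∀ ν ≤ μ, ∃ W ≤ U, Nd f W ∧ W.map X ≤ W ∧ finrank F W = ν.sum := by
  intro N
  induction N using Nat.strong_induction_on with
  | _ N ih =>
  intro U hN hU hUi
  by_cases hne : U = ⊥
  · subst hne
    rw [finrank_bot] at hN
    refine ⟨0, by simp, by simpa using hN, fun k => by simp, fun ν hν => ?_⟩
    rw [Multiset.le_zero.1 hν]
    exact ⟨⊥, le_rfl, nd_bot f, by simp, by simp⟩
  have hex : ∃ a : ℕ, ∀ v ∈ U, ((X - 1 : End F (ι → F)) ^ a) v = 0 := ⟨p, fun v _ => by rw [nil_of_pow hX]; rfl⟩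
  obtain ⟨a, ha, hamin⟩ : ∃ a, (∀ v ∈ U, ((X - 1) ^ a) v = 0) ∧ ∀ b < a, ¬ ∀ v ∈ U, ((X - 1) ^ b) v = 0 :=
    ⟨Nat.find hex, Nat.find_spec hex, fun b hb => Nat.find_min hex hb⟩
  have ha0 : 0 < a := by
    by_contra h0
    obtain rfl : a = 0 := by omega
    exact hne ((Submodule.eq_bot_iff U).2 fun v hv => by simpa using ha v hv)
  have hap : a ≤ p := by
    by_contra h0
    exact hamin p (by omega) fun v _ => by rw [nil_of_pow hX]; rfl
  obtain ⟨u, hu, hu'⟩ : ∃ u ∈ U, ((X - 1) ^ (a - 1)) u ≠ 0 := by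
    have h := hamin (a - 1) (by omega)
    push Not at h
    exact h
  obtain ⟨v, hv, huv⟩ := hU _ (pow_mem hUi hu _) hu'
  set T := (X - 1) ^ (a - 1) with hT
  obtain ⟨w, hw, hww⟩ : ∃ w ∈ U, f.B (T w) w ≠ 0 := by
    by_contra hc
    push Not at hc
    obtain ⟨c, hc'⟩ := f.exists_moved
    have key : ∀ x ∈ U, ∀ y ∈ U, f.B (T x) y + f.B (T y) x = 0 := fun x hx y hy => by
      have e := hc (x + y) (U.add_mem hx hy)
      simp only [map_add, LinearMap.add_apply, hc x hx, hc y hy, zero_add, add_zero] at e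
      linear_combination e
    have h1 := key (c • u) (U.smul_mem c hu) v hv
    rw [map_smul, smul_left, map_smul, smul_eq_mul] at h1
    have h2 : (f.σ c - c) * f.B (T u) v = 0 := by linear_combination h1 - c * key u hu v hv
    exact huv ((mul_eq_zero.1 h2).resolve_left (sub_ne_zero.2 hc'))
  have hw0 : w ≠ 0 := fun e => hww (by rw [e, map_zero])
  obtain ⟨L, hLU, hL, hLi, hLk⟩ := exists_block f hiso hUi ha (S := F ∙ w) ((Submodule.span_singleton_le_iff_mem _ _).2 hw)
    (fun x hx hx0 => by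
      obtain ⟨c, rfl⟩ := Submodule.mem_span_singleton.1 hx
      refine ⟨w, Submodule.mem_span_singleton_self w, ?_⟩
      rw [map_smul, smul_left]
      exact mul_ne_zero (fun e => hx0 (by rw [f.σ_eq_zero.1 e, zero_smul])) hww)
  have hS1 : finrank F (F ∙ w : Submodule F (ι → F)) = 1 := finrank_span_singleton hw0
  obtain ⟨hsup, hR, hdim⟩ := split_off f hU hL hLU
  have hRi := IsoDecomp.inf_inv hUi (perp_inv f hX hp.out.pos hiso hLi)
  have hLd : finrank F L = a := by
    have h := hLk 0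
    rwa [pow_zero, End.one_eq_id, Submodule.map_id, hS1, Nat.sub_zero, one_mul] at h
  obtain ⟨μ', h1, h3, h4, h5⟩ := ih _ (by omega) rfl hR hRi
  refine ⟨a ::ₘ μ', fun b hb => ?_, ?_, fun k => ?_, fun ν hν => ?_⟩
  · rcases Multiset.mem_cons.1 hb with rfl | h
    · exact ⟨ha0, hap⟩
    · exact h1 b h
  · rw [Multiset.sum_cons, h3]; omega
  · rw [map_add_dim hsup (inf_perp f hL U) hLi hRi, hLk, h4, Multiset.map_cons, Multiset.sum_cons, hS1, one_mul]
  · by_cases hc : a ∈ ν
    · obtain ⟨ν', rfl⟩ := Multiset.exists_cons_of_mem hc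
      obtain ⟨W, hW, hWn, hWi, hWd⟩ := h5 ν' ((Multiset.cons_le_cons_iff a).1 hν)
      obtain ⟨g1, g2⟩ := HermNd.nd_sup f hL hWn (hW.trans inf_le_right)
      exact ⟨L ⊔ W, sup_le hLU (hW.trans inf_le_left), g1, IsoDecomp.sup_inv hLi hWi,
        by rw [g2, hLd, hWd, Multiset.sum_cons]⟩
    · obtain ⟨W, hW, hW2⟩ := h5 ν ((Multiset.le_cons_of_notMem hc).1 hν)
      exact ⟨W, hW.trans inf_le_left, hW2⟩

end Blocks

variable {F : Type*} [Field F] [Fintype F] {q : ℕ}

open Cfsg.Agent.Lib.Similar in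
/-- A single block. -/
theorem exists_single (hF : Fintype.card F = q ^ 2) {p : ℕ} [Fact p.Prime] [CharP F p] {b : ℕ} (hb : 0 < b) (hbp : b ≤ p) :
    ∃ y : End F (Fin b → F), Isom q y ∧ y ^ p = 1 ∧ ∀ k, finrank F (LinearMap.range ((y - 1) ^ k)) = b - k := by
  set P : Polynomial F := Polynomial.X - Polynomial.C 1 with hP
  have hPm : P.Monic := Polynomial.monic_X_sub_C 1
  have hd : (Polynomial.X - (1 : Polynomial F)).natDegree = 1 := by
    rw [← Polynomial.C_1]; exact Polynomial.natDegree_X_sub_C 1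
  have hm : ({(P, b)} : Multiset (Polynomial F × ℕ)) ∈ ufam (Classical.conjHom hF) 1 b := by
    refine Finset.mem_filter.2 ⟨FamCount.mem_fam.2 ⟨fun y hy => ?_, ?_⟩, ?_⟩
    · rw [Multiset.mem_singleton] at hy
      subst hy
      exact ⟨hPm, Polynomial.irreducible_X_sub_C 1, by simp [hP], hb, hb⟩
    · simp [hP, hd]
    · have h1 : starP (Classical.conjHom hF) P = P := by
        rw [starP, hP]
        simp only [Polynomial.coeff_sub, Polynomial.coeff_X_zero, Polynomial.coeff_C_zero, zero_sub, map_neg, map_one,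
          Polynomial.map_sub, Polynomial.map_X, Polynomial.map_one]
        ext i
        rw [Polynomial.coeff_C_mul]
        simp only [Polynomial.reverse, Polynomial.coeff_reflect]
        rw [hd]
        have hr : ∀ j, Polynomial.revAt 1 (j + 1 + 1) = j + 1 + 1 := fun j => Polynomial.revAt_eq_self_of_lt (by omega)
        rcases i with _ | _ | i <;> simp [hr, Polynomial.revAt_le, Polynomial.coeff_X, Polynomial.coeff_one]
      simp [starM, h1]
  obtain ⟨B, hB⟩ := exists_GU_matInv hF hm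
  set y := Matrix.toLin' ((B : GL (Fin b) F) : Matrix (Fin b) (Fin b) F) with hy
  have hiso : Isom q y := fun u v => by rw [hy, Matrix.toLin'_apply, Matrix.toLin'_apply]; exact B.2 u v
  have hev : ∀ k, (y - 1) ^ k = 0 ↔ b ≤ k := fun k => by
    have h := aeval_eq_zero_iff_matInv ((B : GL (Fin b) F) : Matrix (Fin b) (Fin b) F) (P ^ k)
    rw [hB, show toEnd ((B : GL (Fin b) F) : Matrix (Fin b) (Fin b) F) = y from rfl, map_pow, hP, map_sub,
      Polynomial.aeval_X, Polynomial.aeval_C, map_one] at h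
    rw [h]
    simp only [Multiset.mem_singleton, forall_eq]
    exact pow_dvd_pow_iff hPm.ne_zero (Polynomial.irreducible_X_sub_C 1).not_isUnit
  have hpow : y ^ p = 1 := by
    have h : ((Polynomial.X : Polynomial F) - 1) ^ p = Polynomial.X ^ p - 1 := by rw [sub_pow_char, one_pow]
    have h2 := congrArg (Polynomial.aeval y) h
    simp only [map_pow, map_sub, Polynomial.aeval_X, map_one, (hev p).2 hbp] at h2
    exact sub_eq_zero.1 h2.symm
  refine ⟨y, hiso, hpow, fun k => ?_⟩
  obtain ⟨μ, h1, h2, h3, -⟩ := exists_blocks (stdHerm b hF) hpow ((isom_B hF).1 hiso) b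
    (U := ⊤) HermTI.top_finrank (nd_top _) le_top
  obtain ⟨c, hc, hbc⟩ : ∃ c ∈ μ, b ≤ c := by
    by_contra hne
    push Not at hne
    have h4 := h3 (b - 1)
    rw [Multiset.sum_eq_zero (fun c hc => by
      obtain ⟨d, hd, rfl⟩ := Multiset.mem_map.1 hc
      have := hne d hd
      omega), Submodule.map_top, Submodule.finrank_eq_zero, LinearMap.range_eq_bot, hev] at h4
    omega
  obtain ⟨ν, rfl⟩ := Multiset.exists_cons_of_mem hc
  rw [Multiset.sum_cons] at h2
  have hν : ν = 0 := Multiset.eq_zero_of_forall_notMem fun d hd => by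
    have := Multiset.le_sum_of_mem hd
    have := (h1 d (Multiset.mem_cons_of_mem hd)).1
    omega
  subst hν
  rw [← Submodule.map_top, h3, Multiset.map_cons, Multiset.map_zero, Multiset.sum_cons, Multiset.sum_zero,
    show c = b by rw [Multiset.sum_zero] at h2; omega]
  rfl

/-- A unipotent map with given block sizes. -/
theorem exists_unipotent (hF : Fintype.card F = q ^ 2) {p : ℕ} [Fact p.Prime] [CharP F p] :
    ∀ μ : Multiset ℕ, (∀ a ∈ μ, 0 < a ∧ a ≤ p) → ∃ y : End F (Fin μ.sum → F), Isom q y ∧ y ^ p = 1 ∧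
      LinearMap.det y = 1 ∧ ∀ k, finrank F (LinearMap.range ((y - 1) ^ k)) = (μ.map fun b => b - k).sum := by
  intro μ hμ
  suffices H : ∃ y : End F (Fin μ.sum → F), Isom q y ∧ y ^ p = 1 ∧
      ∀ k, finrank F (LinearMap.range ((y - 1) ^ k)) = (μ.map fun b => b - k).sum by
    obtain ⟨y, h1, h2, h3⟩ := H
    refine ⟨y, h1, h2, ?_, h3⟩
    have e : LinearMap.det y ^ p = 1 := by rw [← map_pow, h2, map_one]
    have e' : (LinearMap.det y - 1) ^ p = 0 := by rw [sub_pow_char, e, one_pow, sub_self]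
    exact sub_eq_zero.1 (eq_zero_of_pow_eq_zero e')
  induction μ using Multiset.induction_on with
  | empty =>
    refine ⟨1, HermElem.isom_one, one_pow _, fun k => ?_⟩
    have h := Submodule.finrank_le (LinearMap.range (((1 : End F (Fin (Multiset.sum (0 : Multiset ℕ)) → F)) - 1) ^ k))
    rw [Multiset.map_zero, Multiset.sum_zero]
    exact Nat.le_zero.1 (h.trans_eq (by rw [Module.finrank_fin_fun, Multiset.sum_zero]))
  | cons a μ ih =>
    obtain ⟨y, hy, hyp, hyr⟩ := ih fun b hb => hμ b (Multiset.mem_cons_of_mem hb)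
    obtain ⟨z, hz, hzp, hzr⟩ := exists_single hF (hμ a (Multiset.mem_cons_self a μ)).1 (hμ a (Multiset.mem_cons_self a μ)).2
    rw [Multiset.sum_cons]
    obtain ⟨w, hw, hwp, -, hwP⟩ := HermElem.exists_sum hz hy
    refine ⟨w, hw, hwp p hzp hyp, fun k => ?_⟩
    have h1 := hwP ((Polynomial.X - 1) ^ k)
    rw [_root_.map_pow, _root_.map_pow, _root_.map_pow, _root_.map_sub, _root_.map_sub, _root_.map_sub, Polynomial.aeval_X,
      Polynomial.aeval_X, Polynomial.aeval_X, _root_.map_one, _root_.map_one, _root_.map_one] at h1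
    have e1 := ((w - 1) ^ k).finrank_range_add_finrank_ker
    have e2 := ((z - 1) ^ k).finrank_range_add_finrank_ker
    have e3 := ((y - 1) ^ k).finrank_range_add_finrank_ker
    rw [Module.finrank_fin_fun] at e1 e2 e3
    rw [hzr] at e2
    rw [hyr] at e3
    rw [Multiset.map_cons, Multiset.sum_cons]
    omega

section Count

open Cfsg.Agent.Lib.Classical (HermFrame hermCount)

variable {r : ℕ} [hr : Fact r.Prime]

/-- What a prime divisor of the number of non-degenerate subspaces looks like. -/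
theorem count_bound (hF : Fintype.card F = q ^ 2) {p : ℕ} [Fact p.Prime] [CharP F p] (hrp : r ≠ p) {n m c : ℕ}
    (hc : orderOf (-(q : ZMod r)) = c) (hmn : m ≤ n) (hk : m ≤ n % c)
    (h : r ∣ Nat.card {W : Submodule F (Fin n → F) // Module.finrank F ↥W = m ∧
      (∀ u ∈ W, u ≠ 0 → ∃ v ∈ W, Cfsg.hermForm n F q u v ≠ 0)}) : False := by
  set f := stdHerm n hF
  let Ω := {W : Submodule F (Fin n → F) // Module.finrank F ↥W = m ∧
      (∀ u ∈ W, u ≠ 0 → ∃ v ∈ W, Cfsg.hermForm n F q u v ≠ 0)}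
  have hndW : ∀ W : Ω, Nd f W.1 := fun W u hu hu0 => by
    obtain ⟨v, hv, huv⟩ := W.2.2 u hu hu0
    exact ⟨v, hv, fun e => huv (f.eq_zero_comm e)⟩
  have hspan : ∀ e : HermFrame F q n m, Module.finrank F (Submodule.span F (Set.range e.1)) = m ∧
      (∀ u ∈ Submodule.span F (Set.range e.1), u ≠ 0 → ∃ v ∈ Submodule.span F (Set.range e.1),
        Cfsg.hermForm n F q u v ≠ 0) := fun e => by
    have hB : ∀ i k, f.B (e.1 i) (e.1 k) = if i = k then 1 else 0 := fun i k => by
      rw [stdHerm_apply, e.2]; exact if_congr eq_comm rfl rfl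
    have hcoef : ∀ (g : Fin m → F) k, f.B (e.1 k) (∑ i, g i • e.1 i) = g k := fun g k => by
      simp [map_sum, map_smul, hB]
    have hli : LinearIndependent F e.1 := Fintype.linearIndependent_iff.2 fun g hg k => by
      rw [← hcoef g k, hg, map_zero]
    refine ⟨by rw [finrank_span_eq_card hli, Fintype.card_fin], fun u hu hu0 => ?_⟩
    obtain ⟨g, rfl⟩ := (Submodule.mem_span_range_iff_exists_fun F).1 hu
    obtain ⟨k, hk⟩ : ∃ k, g k ≠ 0 := by
      by_contra hne
      push Not at hne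
      exact hu0 (by simp [hne])
    exact ⟨e.1 k, Submodule.subset_span ⟨k, rfl⟩, fun e' => hk (by rw [← hcoef g k]; exact e')⟩
  haveI : Fintype Ω := Fintype.ofFinite Ω
  have hfib : ∀ W : Ω, Nat.card {e : HermFrame F q n m // (⟨_, hspan e⟩ : Ω) = W} = Nat.card (HermFrame F q m m) := by
    intro W
    let BW : W.1 →ₛₗ[f.σ] W.1 →ₗ[F] F := LinearMap.mk₂'ₛₗ f.σ (RingHom.id F) (fun a b => f.B (a : Fin n → F) b)
      (fun a a' b => by simp) (fun c a b => by simp [HermDecomp.smul_left]) (fun a b b' => by simp) (fun c a b => by simp)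
    have hBW : ∀ a b : W.1, BW a b = f.B (a : Fin n → F) b := fun a b => rfl
    have hBWn : BW.Nondegenerate := by
      refine ⟨fun a ha => ?_, fun a ha => ?_⟩
      · by_contra h0
        obtain ⟨v, hv, hav⟩ := hndW W a a.2 (fun e => h0 (Subtype.ext e))
        exact hav (ha ⟨v, hv⟩)
      · by_contra h0
        obtain ⟨v, hv, hav⟩ := hndW W a a.2 (fun e => h0 (Subtype.ext e))
        exact hav (f.eq_zero_comm (ha ⟨v, hv⟩))
    obtain ⟨e₀, he₀⟩ := Geometry.exists_orthonormal_family f.σ_ne f.invol BW ⟨fun a b => f.herm _ _⟩ hBWn m W.2.1.ge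
    have hφ : ∀ x y : Fin m → F, Cfsg.hermForm n F q (∑ i, x i • (e₀ i : Fin n → F)) (∑ i, y i • (e₀ i : Fin n → F)) =
        Cfsg.hermForm m F q x y := fun x y => by
      rw [← stdHerm_apply hF, ← stdHerm_apply hF]
      show f.B _ _ = _
      have e : ∀ i k, f.B (e₀ i : Fin n → F) (e₀ k) = if i = k then 1 else 0 := fun i k => by rw [← hBW]; exact he₀ i k
      simp only [map_sum, LinearMap.sum_apply, map_smul, LinearMap.smul_apply, smul_left, smul_eq_mul]
      rw [stdHerm_apply, Cfsg.hermForm]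
      refine Finset.sum_congr rfl fun i _ => ?_
      show _ = x i * y i ^ q
      simp only [f] at e ⊢
      simp [e, mul_comm, HermElem.σ_pow hF]
    let φ : (Fin m → F) →ₗ[F] W.1 := Fintype.linearCombination F e₀
    have hφc : ∀ x, ((φ x : W.1) : Fin n → F) = ∑ i, x i • (e₀ i : Fin n → F) := fun x => by
      simp [φ, Fintype.linearCombination_apply, Submodule.coe_sum]
    have hinj : Function.Injective φ := (injective_iff_map_eq_zero φ).2 fun x hx => funext fun k => by
      have e : ∀ i, f.B (e₀ k : Fin n → F) (e₀ i) = if k = i then 1 else 0 := fun i => by rw [← hBW]; exact he₀ k i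
      have h0 := congrArg (fun z : W.1 => f.B (e₀ k : Fin n → F) (z : Fin n → F)) hx
      simpa [hφc, map_sum, map_smul, e] using h0
    let φe : (Fin m → F) ≃ₗ[F] W.1 := LinearEquiv.ofBijective φ ⟨hinj,
      (LinearMap.injective_iff_surjective_of_finrank_eq_finrank (by rw [Module.finrank_fin_fun, W.2.1])).1 hinj⟩
    have hφe : ∀ x y, Cfsg.hermForm n F q (φe x : Fin n → F) (φe y : Fin n → F) = Cfsg.hermForm m F q x y := fun x y => by
      show Cfsg.hermForm n F q ((φ x : W.1) : Fin n → F) ((φ y : W.1) : Fin n → F) = _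
      rw [hφc, hφc, hφ]
    exact Nat.card_congr
      { toFun := fun e => ⟨fun i => φe.symm ⟨e.1.1 i,
            (congrArg Subtype.val e.2).le (Submodule.subset_span ⟨i, rfl⟩)⟩,
          fun i k => by rw [← hφe, LinearEquiv.apply_symm_apply, LinearEquiv.apply_symm_apply]; exact e.1.2 i k⟩
        invFun := fun e => ⟨⟨fun i => (φe (e.1 i) : Fin n → F), fun i k => by rw [hφe]; exact e.2 i k⟩,
          Subtype.ext (Submodule.eq_of_le_of_finrank_eq (Submodule.span_le.2 (by rintro _ ⟨i, rfl⟩; exact (φe (e.1 i)).2))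
            ((hspan _).1.trans W.2.1.symm))⟩
        left_inv := fun e => Subtype.ext (Subtype.ext (funext fun i => by simp))
        right_inv := fun e => Subtype.ext (funext fun i => by simp) }
  have hcard : Nat.card (HermFrame F q n m) = Nat.card Ω * Nat.card (HermFrame F q m m) := by
    rw [← Nat.card_congr (Equiv.sigmaFiberEquiv (fun e : HermFrame F q n m => (⟨_, hspan e⟩ : Ω))), Nat.card_sigma,
      Finset.sum_congr rfl fun W _ => hfib W, Finset.sum_const, Finset.card_univ, smul_eq_mul, Nat.card_eq_fintype_card (α := Ω)]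
  have hframe : ∀ j N, j ≤ N → Nat.card (HermFrame F q N j) = ∏ i ∈ Finset.range j, hermCount F q (N - i) 1 := fun j => by
    induction j with
    | zero =>
      intro N _
      rw [Finset.prod_range_zero, Nat.card_eq_one_iff_exists]
      exact ⟨⟨Fin.elim0, fun i => i.elim0⟩, fun x => Subtype.ext (funext fun i => i.elim0)⟩
    | succ j ih =>
      intro N hN
      obtain ⟨N, rfl⟩ : ∃ N', N = N' + 1 := ⟨N - 1, by omega⟩
      rw [Classical.card_hermFrame_succ hF, ih N (by omega), Finset.prod_range_succ', Nat.sub_zero, mul_comm]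
      congr 1
      refine Finset.prod_congr rfl fun i _ => ?_
      rw [Nat.add_sub_add_right]
  have hdvd : r ∣ ∏ i ∈ Finset.range m, hermCount F q (n - i) 1 := by
    rw [← hframe m n hmn, hcard]
    exact dvd_mul_of_dvd_left h _
  obtain ⟨i, hi, hd⟩ := (Prime.dvd_finsetProd_iff (Nat.prime_iff.1 hr.out) _).1 hdvd
  have hi' := Finset.mem_range.1 hi
  have hq2 : 2 ≤ q := Classical.two_le_q hF
  have hq0 : (q : ZMod r) ≠ 0 := HermMoved.cast_q_ne_zero hF hrp
  rw [Classical.hermCount_one_eq hF, ← ZMod.natCast_eq_zero_iff] at hd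
  have hpow : (-(q : ZMod r)) ^ (n - i) = 1 := by
    rcases Nat.even_or_odd (n - i) with hev | hodd
    · rw [if_pos hev, Nat.cast_mul, Nat.cast_sub (Nat.one_le_pow _ _ (by omega)), Nat.cast_pow, Nat.cast_pow,
        Nat.cast_one] at hd
      rw [hev.neg_pow]
      exact sub_eq_zero.1 ((mul_eq_zero.1 hd).resolve_left (pow_ne_zero _ hq0))
    · rw [if_neg (Nat.not_even_iff_odd.2 hodd), Nat.cast_mul, Nat.cast_add, Nat.cast_pow, Nat.cast_pow,
        Nat.cast_one] at hd
      rw [hodd.neg_pow]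
      have := (mul_eq_zero.1 hd).resolve_left (pow_ne_zero _ hq0)
      linear_combination -this
  obtain ⟨t, ht⟩ : c ∣ n - i := hc ▸ orderOf_dvd_of_pow_eq_one hpow
  have hc0 : 0 < c := Nat.pos_of_ne_zero fun e => by rw [e, zero_mul] at ht; omega
  have h1 : t ≤ n / c := (Nat.le_div_iff_mul_le hc0).2 (by rw [mul_comm, ← ht]; omega)
  have h2 := Nat.mul_le_mul_left c h1
  have h3 := Nat.div_add_mod n c
  omega

end Count

end Cfsg.Agent.Lib.MaxSub.HermUnip
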