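import Cfsg.Agent.Lib.MaxSub.InvolutionBlocks
import Cfsg.Agent.Lib.Geometry.SymmBasis
import Mathlib

/-!
Conjugacy of symplectic maps of square one or minus one in odd characteristic.
-/

set_option autoImplicit false

namespace Cfsg.Agent.Lib.MaxSub.SympInvolConj

open Cfsg.Agent.Lib.MaxSub Module

variable {ι : Type} [Fintype ι] [DecidableEq ι] {F : Type*} [Field F] (f : AltForm ι F)

/-- An isometric self map is bijective. -/
theorem bijective_of_iso {g : (ι → F) →ₗ[F] (ι → F)} (hg : ∀ u v, f.B (g u) (g v) = f.B u v) :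
    Function.Bijective g := by
  have hinj : Function.Injective g := (injective_iff_map_eq_zero g).2 fun v hv => f.nondeg v fun u => by
    rw [← hg, hv, map_zero]
  exact ⟨hinj, LinearMap.injective_iff_surjective.1 hinj⟩

/-- Non-degenerate subspaces have even dimension. -/
theorem even_finrank {W : Submodule F (ι → F)} (hW : f.NdOn W) : Even (finrank F W) := by
  obtain ⟨L, ⟨hL, -⟩, -⟩ := InvBlocks.exists_planes f (x := LinearMap.id) (z := (1 : F)) one_ne_zero
    (fun v => by simp) (fun u v => rfl) _ W rfl hW (fun v hv => hv)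
  exact ⟨L.card, by rw [← hL]; omega⟩

section Plus

variable {x : (ι → F) →ₗ[F] (ι → F)}

theorem eigen_orth (h2 : (2 : F) ≠ 0) (hiso : ∀ u v, f.B (x u) (x v) = f.B u v) {u v : ι → F}
    (hu : x u = u) (hv : x v = -v) : f.B u v = 0 ∧ f.B v u = 0 := by
  constructor
  · have h := hiso u v
    rw [hu, hv, map_neg] at h
    exact (mul_eq_zero.1 (show (2 : F) * f.B u v = 0 by linear_combination -h)).resolve_left h2
  · have h := hiso v u
    rw [hu, hv, map_neg, LinearMap.neg_apply] at h
    exact (mul_eq_zero.1 (show (2 : F) * f.B v u = 0 by linear_combination -h)).resolve_left h2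

theorem mem_plus (v : ι → F) : v ∈ LinearMap.ker (x - LinearMap.id) ↔ x v = v := by simp [sub_eq_zero]

theorem mem_minus (v : ι → F) : v ∈ LinearMap.ker (x + LinearMap.id) ↔ x v = -v := by simp [add_eq_zero_iff_eq_neg]

theorem split_eigen (h2 : (2 : F) ≠ 0) (hx : ∀ v, x (x v) = v) (v : ι → F) :
    ∃ a b, x a = a ∧ x b = -b ∧ a + b = v := by
  refine ⟨(2 : F)⁻¹ • (v + x v), (2 : F)⁻¹ • (v - x v), ?_, ?_, ?_⟩
  · rw [map_smul, map_add, hx, add_comm]
  · rw [map_smul, map_sub, hx, ← smul_neg, neg_sub]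
  · rw [← smul_add, show v + x v + (v - x v) = (2 : F) • v by rw [two_smul]; abel, inv_smul_smul₀ h2]

theorem ndOn_plus (h2 : (2 : F) ≠ 0) (hx : ∀ v, x (x v) = v) (hiso : ∀ u v, f.B (x u) (x v) = f.B u v) :
    f.NdOn (LinearMap.ker (x - LinearMap.id)) := by
  intro a ha ha0
  by_contra hne
  push Not at hne
  refine ha0 (f.nondeg a fun y => ?_)
  rw [f.skew]
  obtain ⟨u, w, hu, hw, rfl⟩ := split_eigen h2 hx y
  rw [map_add, hne u ((mem_plus u).2 hu), (eigen_orth f h2 hiso ((mem_plus a).1 ha) hw).1, add_zero, neg_zero]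

theorem ndOn_minus (h2 : (2 : F) ≠ 0) (hx : ∀ v, x (x v) = v) (hiso : ∀ u v, f.B (x u) (x v) = f.B u v) :
    f.NdOn (LinearMap.ker (x + LinearMap.id)) := by
  intro a ha ha0
  by_contra hne
  push Not at hne
  refine ha0 (f.nondeg a fun y => ?_)
  rw [f.skew]
  obtain ⟨u, w, hu, hw, rfl⟩ := split_eigen h2 hx y
  rw [map_add, hne w ((mem_minus w).2 hw), (eigen_orth f h2 hiso hu ((mem_minus a).1 ha)).2, zero_add, neg_zero]

theorem range_sub_one (h2 : (2 : F) ≠ 0) (hx : ∀ v, x (x v) = v) :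
    LinearMap.range (x - LinearMap.id) = LinearMap.ker (x + LinearMap.id) := by
  refine le_antisymm ?_ fun v hv => ?_
  · rintro _ ⟨u, rfl⟩
    rw [mem_minus]
    simp [hx]
  · rw [mem_minus] at hv
    refine ⟨-((2 : F)⁻¹ • v), ?_⟩
    simp only [LinearMap.sub_apply, LinearMap.id_apply, map_neg, map_smul, hv]
    match_scalars
    field_simp
    ring

end Plus

/-- Involutions with displacement of the same dimension are conjugate. -/
theorem conj_one (h2 : (2 : F) ≠ 0) {x t : (ι → F) →ₗ[F] (ι → F)} (hx : ∀ v, x (x v) = v) (ht : ∀ v, t (t v) = v)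
    (hix : ∀ u v, f.B (x u) (x v) = f.B u v) (hit : ∀ u v, f.B (t u) (t v) = f.B u v)
    (hdim : finrank F (LinearMap.range (x - LinearMap.id)) = finrank F (LinearMap.range (t - LinearMap.id))) :
    ∃ g : (ι → F) →ₗ[F] (ι → F), (∀ u v, f.B (g u) (g v) = f.B u v) ∧ ∀ v, g (t v) = x (g v) := by
  have hker : finrank F (LinearMap.ker (t - LinearMap.id)) = finrank F (LinearMap.ker (x - LinearMap.id)) := by
    have h1 := (t - LinearMap.id).finrank_range_add_finrank_ker
    have h3 := (x - LinearMap.id).finrank_range_add_finrank_ker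
    omega
  rw [range_sub_one h2 hx, range_sub_one h2 ht] at hdim
  obtain ⟨φ, hφ, hφB⟩ := f.exists_isometry _ _ (ndOn_plus f h2 ht hit) (ndOn_plus f h2 hx hix) hker.le
  obtain ⟨ψ, hψ, hψB⟩ := f.exists_isometry _ _ (ndOn_minus f h2 ht hit) (ndOn_minus f h2 hx hix) hdim.ge
  let g : (ι → F) →ₗ[F] (ι → F) :=
    (2 : F)⁻¹ • (φ ∘ₗ (LinearMap.id + t) + ψ ∘ₗ (LinearMap.id - t))
  have hg : ∀ a b, t a = a → t b = -b → g (a + b) = φ a + ψ b := by
    intro a b ha hb
    simp only [g, LinearMap.smul_apply, LinearMap.add_apply, LinearMap.comp_apply, LinearMap.sub_apply,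
      LinearMap.id_apply, map_add, map_sub, map_neg, smul_add, ha, hb]
    match_scalars <;> field_simp <;> ring
  have hxa : ∀ a, t a = a → x (φ a) = φ a := fun a ha => (mem_plus _).1 (hφ a ((mem_plus a).2 ha))
  have hxb : ∀ b, t b = -b → x (ψ b) = -ψ b := fun b hb => (mem_minus _).1 (hψ b ((mem_minus b).2 hb))
  refine ⟨g, fun u v => ?_, fun v => ?_⟩
  · obtain ⟨a, b, ha, hb, rfl⟩ := split_eigen h2 ht u
    obtain ⟨a', b', ha', hb', rfl⟩ := split_eigen h2 ht v
    rw [hg a b ha hb, hg a' b' ha' hb']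
    simp only [map_add, LinearMap.add_apply]
    rw [hφB a ((mem_plus a).2 ha) a' ((mem_plus a').2 ha'), hψB b ((mem_minus b).2 hb) b' ((mem_minus b').2 hb'),
      (eigen_orth f h2 hix (hxa a ha) (hxb b' hb')).1, (eigen_orth f h2 hix (hxa a' ha') (hxb b hb)).2,
      (eigen_orth f h2 hit ha hb').1, (eigen_orth f h2 hit ha' hb).2]
  · obtain ⟨a, b, ha, hb, rfl⟩ := split_eigen h2 ht v
    rw [map_add t, ha, hb, hg a b ha hb, hg a (-b) ha (by rw [map_neg, hb]), map_add x, hxa a ha, hxb b hb, map_neg]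

section Skew

variable [Finite F] {x : (ι → F) →ₗ[F] (ι → F)} {c : F}

/-- A family `u` orthogonal to itself and dual to its image under a skew map of non-zero scalar square. -/
theorem exists_frame (h2 : (2 : F) ≠ 0) (hc : c ≠ 0) (hx : ∀ v, x (x v) = c • v)
    (hskew : ∀ u v, f.B (x u) v = -f.B u (x v)) :
    ∀ k, 2 * k ≤ Fintype.card ι → ∃ u : Fin k → ι → F, ∀ i j, f.B (u i) (u j) = 0 ∧
      f.B (u i) (x (u j)) = if i = j then 1 else 0 := by
  classical
  let h : LinearMap.BilinForm F (ι → F) := f.B.compl₂ x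
  have hh : ∀ u v, h u v = f.B u (x v) := fun u v => rfl
  have hsymm : ∀ u v, f.B u (x v) = f.B v (x u) := fun u v => by rw [f.skew, hskew, neg_neg]
  have hS : h.IsSymm := ⟨fun u v => by rw [hh, hh, hsymm]⟩
  intro k
  induction k with
  | zero => exact fun _ => ⟨Fin.elim0, fun i => i.elim0⟩
  | succ k ih =>
    intro hk
    obtain ⟨u, hu⟩ := ih (by omega)
    let L : (ι → F) →ₗ[F] (Fin k → F) × (Fin k → F) :=
      (LinearMap.pi fun i => f.B (u i)).prod (LinearMap.pi fun i => f.B (u i) ∘ₗ x)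
    have hL : ∀ v, v ∈ LinearMap.ker L ↔ (∀ i, f.B (u i) v = 0) ∧ ∀ i, f.B (u i) (x v) = 0 := fun v => by
      simp [L, funext_iff, Prod.ext_iff]
    have hdim : 2 ≤ finrank F (LinearMap.ker L) := by
      have h1 := L.finrank_range_add_finrank_ker
      have h3 := Submodule.finrank_le (LinearMap.range L)
      rw [Module.finrank_prod, Module.finrank_fin_fun] at h3
      rw [Module.finrank_fintype_fun_eq_card] at h1
      omega
    have hnd : ∀ a ∈ LinearMap.ker L, (∀ b ∈ LinearMap.ker L, h a b = 0) → a = 0 := by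
      intro a ha hab
      rw [hL] at ha
      have h0 : ∀ v, f.B a (x v) = 0 := by
        intro v
        have hv : v - ∑ i, f.B (u i) (x v) • u i - ∑ i, f.B (u i) v • x (u i) ∈ LinearMap.ker L := by
          rw [hL]
          constructor <;> intro j <;>
            simp [map_sub, map_sum, map_smul, hx, fun i => (hu j i).1, fun i => (hu j i).2]
        have h1 := hab _ hv
        have h3 : ∀ i, f.B a (x (u i)) = 0 := fun i => by rw [hsymm]; exact ha.2 i
        have h4 : ∀ i, f.B a (u i) = 0 := fun i => by rw [f.skew, ha.1 i, neg_zero]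
        simpa [hh, map_sub, map_sum, map_smul, hx, h3, h4] using h1
      refine f.nondeg a fun y => ?_
      have := h0 (c⁻¹ • x y)
      rw [map_smul x, hx, inv_smul_smul₀ hc] at this
      rw [f.skew, this, neg_zero]
    obtain ⟨v, hv, hvv⟩ := Cfsg.Agent.Lib.Geometry.exists_symm_eq_mem h hS h2 _ hnd hdim 1 one_ne_zero
    rw [hL] at hv
    refine ⟨Fin.snoc u v, fun i j => ?_⟩
    induction i using Fin.lastCases with
    | last =>
      induction j using Fin.lastCases with
      | last => simpa [f.alt, hh] using hvv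
      | cast j =>
        simp only [Fin.snoc_last, Fin.snoc_castSucc, if_neg (Fin.castSucc_lt_last j).ne']
        exact ⟨by rw [f.skew, hv.1 j, neg_zero], by rw [hsymm]; exact hv.2 j⟩
    | cast i =>
      induction j using Fin.lastCases with
      | last =>
        simp only [Fin.snoc_last, Fin.snoc_castSucc, if_neg (Fin.castSucc_lt_last i).ne]
        exact ⟨hv.1 i, hv.2 i⟩
      | cast j =>
        simp only [Fin.snoc_castSucc, Fin.castSucc_inj]
        exact hu i j

omit [Finite F] in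
/-- A full frame spans. -/
theorem frame_span {d : ℕ} (hd : Fintype.card ι = 2 * d) (hskew : ∀ u v, f.B (x u) v = -f.B u (x v))
    {w : Fin d → ι → F} (hw : ∀ i j, f.B (w i) (w j) = 0 ∧ f.B (w i) (x (w j)) = if i = j then 1 else 0) :
    LinearIndependent F (Sum.elim w fun i => x (w i)) ∧
      Submodule.span F (Set.range (Sum.elim w fun i => x (w i))) = ⊤ := by
  classical
  have hw' : ∀ i j, f.B (x (w i)) (w j) = if i = j then -1 else 0 := fun i j => by
    rw [hskew, (hw i j).2]; split_ifs <;> simp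
  have hli : LinearIndependent F (Sum.elim w fun i => x (w i)) := by
    rw [Fintype.linearIndependent_iff]
    intro g hg
    have h1 : ∀ i, g (Sum.inr i) = 0 := fun i => by
      have h := congrArg (f.B (w i)) hg
      simpa [Fintype.sum_sum_type, (hw i _).1, (hw i _).2] using h
    have h3 : ∀ i, g (Sum.inl i) = 0 := fun i => by
      have h := congrArg (f.B (x (w i))) hg
      simpa [Fintype.sum_sum_type, hw', h1] using h
    rintro (i | i)
    · exact h3 i
    · exact h1 i
  refine ⟨hli, Submodule.eq_top_of_finrank_eq ?_⟩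
  rw [finrank_span_eq_card hli, Module.finrank_fintype_fun_eq_card, Fintype.card_sum, Fintype.card_fin]
  omega

omit [Finite F] in
/-- The isometry between two frames. -/
theorem exists_map_frames {d : ℕ} (hd : Fintype.card ι = 2 * d) {t : (ι → F) →ₗ[F] (ι → F)}
    (hx : ∀ v, x (x v) = c • v) (ht : ∀ v, t (t v) = c • v)
    (hsx : ∀ u v, f.B (x u) v = -f.B u (x v)) (hst : ∀ u v, f.B (t u) v = -f.B u (t v))
    {u w : Fin d → ι → F} (hu : ∀ i j, f.B (u i) (u j) = 0 ∧ f.B (u i) (x (u j)) = if i = j then 1 else 0)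
    (hw : ∀ i j, f.B (w i) (w j) = 0 ∧ f.B (w i) (t (w j)) = if i = j then 1 else 0) :
    ∃ g : (ι → F) →ₗ[F] (ι → F), (∀ a b, f.B (g a) (g b) = f.B a b) ∧ (∀ v, g (t v) = x (g v)) ∧
      ∀ i, g (w i) = u i := by
  classical
  obtain ⟨hli, hspan⟩ := frame_span f hd hst hw
  let b := Basis.mk hli hspan.ge
  have hb : ∀ a, b a = Sum.elim w (fun i => t (w i)) a := fun a => Basis.mk_apply _ _ a
  let g : (ι → F) →ₗ[F] (ι → F) := b.constr F (Sum.elim u fun i => x (u i))
  have hg : ∀ a, g (Sum.elim w (fun i => t (w i)) a) = Sum.elim u (fun i => x (u i)) a := fun a => by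
    rw [← hb]; exact b.constr_basis F _ a
  have key : ∀ (y : (ι → F) →ₗ[F] (ι → F)) (s : Fin d → ι → F), (∀ v, y (y v) = c • v) →
      (∀ a b, f.B (y a) b = -f.B a (y b)) →
      (∀ i j, f.B (s i) (s j) = 0 ∧ f.B (s i) (y (s j)) = if i = j then 1 else 0) →
      ∀ a b : Fin d ⊕ Fin d, f.B (Sum.elim s (fun i => y (s i)) a) (Sum.elim s (fun i => y (s i)) b) =
        Matrix.fromBlocks 0 1 (-1) 0 a b := by
    intro y s hy hsy hs a b
    rcases a with i | i <;> rcases b with j | j
    · simpa using (hs i j).1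
    · simpa [Matrix.one_apply] using (hs i j).2
    · rw [Sum.elim_inr, Sum.elim_inl, hsy, (hs i j).2]
      simp [Matrix.one_apply]
    · rw [Sum.elim_inr, Sum.elim_inr, hsy, hy, map_smul, (hs i j).1]
      simp
  refine ⟨g, fun v v' => ?_, fun v => ?_, fun i => hg (Sum.inl i)⟩
  · have e : f.B.compl₁₂ g g = f.B := b.ext fun a => b.ext fun a' => by
      rw [LinearMap.compl₁₂_apply, hb, hb, hg, hg]
      exact (key x u hx hsx hu a a').trans (key t w ht hst hw a a').symm
    exact LinearMap.congr_fun (LinearMap.congr_fun e v) v'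
  · have e : g ∘ₗ t = x ∘ₗ g := b.ext fun a => by
      rw [LinearMap.comp_apply, LinearMap.comp_apply, hb, hg]
      rcases a with i | i
      · exact hg (Sum.inr i)
      · simp only [Sum.elim_inr, ht, hx, map_smul]
        rw [show g (w i) = u i from hg (Sum.inl i)]
    exact LinearMap.congr_fun e v

/-- Skew maps of the same non-zero scalar square are conjugate. -/
theorem conj_skew (h2 : (2 : F) ≠ 0) (hc : c ≠ 0) {d : ℕ} (hd : Fintype.card ι = 2 * d)
    {t : (ι → F) →ₗ[F] (ι → F)} (hx : ∀ v, x (x v) = c • v) (ht : ∀ v, t (t v) = c • v)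
    (hsx : ∀ u v, f.B (x u) v = -f.B u (x v)) (hst : ∀ u v, f.B (t u) v = -f.B u (t v)) :
    ∃ g : (ι → F) →ₗ[F] (ι → F), (∀ u v, f.B (g u) (g v) = f.B u v) ∧ ∀ v, g (t v) = x (g v) := by
  obtain ⟨u, hu⟩ := exists_frame f h2 hc hx hsx d hd.ge
  obtain ⟨w, hw⟩ := exists_frame f h2 hc ht hst d hd.ge
  obtain ⟨g, hg, hgt, -⟩ := exists_map_frames f hd hx ht hsx hst hu hw
  exact ⟨g, hg, hgt⟩

/-- Isometries of square `-1` are conjugate. -/
theorem conj_neg_one (h2 : (2 : F) ≠ 0) {d : ℕ} (hd : Fintype.card ι = 2 * d) {t : (ι → F) →ₗ[F] (ι → F)}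
    (hx : ∀ v, x (x v) = -v) (ht : ∀ v, t (t v) = -v)
    (hix : ∀ u v, f.B (x u) (x v) = f.B u v) (hit : ∀ u v, f.B (t u) (t v) = f.B u v) :
    ∃ g : (ι → F) →ₗ[F] (ι → F), (∀ u v, f.B (g u) (g v) = f.B u v) ∧ ∀ v, g (t v) = x (g v) :=
  conj_skew f h2 (neg_ne_zero.2 one_ne_zero) hd (fun v => by rw [hx, neg_one_smul]) (fun v => by rw [ht, neg_one_smul])
    (fun u v => by rw [← hix u (x v), hx, map_neg, neg_neg])
    (fun u v => by rw [← hit u (t v), ht, map_neg, neg_neg])

end Skew

end Cfsg.Agent.Lib.MaxSub.SympInvolConj
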