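import Cfsg.Agent.Lib.MaxSub.PrimeElemFlags
import Cfsg.Agent.Lib.MaxSub.InvolutionBlocks
import Cfsg.Agent.Lib.MaxSub.SympInvolConj
import Mathlib

/-!
Orthogonal decomposition of symplectic isometries of prime order prime to the characteristic.
-/

set_option autoImplicit false
set_option maxHeartbeats 1000000
set_option linter.unusedSectionVars false

namespace Cfsg.Agent.Lib.MaxSub.IsoDecomp

open Module Polynomial Cfsg.Agent.Lib.MaxSub
open scoped _root_.Classical

variable {ι : Type} [Fintype ι] [DecidableEq ι] {F : Type*} [Field F] (f : AltForm ι F)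


/-- The dimension of the smallest non-degenerate moved piece. -/
def step (i : ℕ) : ℕ := if Even i then i else 2 * i

section General

variable {U L : Submodule F (ι → F)}

/-- A non-degenerate subspace splits off. -/
theorem split_off (hU : f.NdOn U) (hL : f.NdOn L) (hLU : L ≤ U) :
    L ⊔ (U ⊓ f.perp L) = U ∧ f.NdOn (U ⊓ f.perp L) ∧
      finrank F L + finrank F (U ⊓ f.perp L : Submodule F (ι → F)) = finrank F U := by
  have hdisj : L ⊓ (U ⊓ f.perp L) = ⊥ := by
    rw [Submodule.eq_bot_iff]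
    rintro v ⟨hv, -, hv'⟩
    by_contra h0
    obtain ⟨x, hx, hvx⟩ := hL v hv h0
    exact hvx (by rw [f.skew, hv' x hx, neg_zero])
  let φ : U →ₗ[F] (L →ₗ[F] F) :=
    { toFun := fun u => (f.B.flip (u : (ι → F))).domRestrict L
      map_add' := fun a b => LinearMap.ext fun x => by simp
      map_smul' := fun a b => LinearMap.ext fun x => by simp }
  have hker : LinearMap.ker φ = (f.perp L).comap U.subtype := by
    ext u
    rw [LinearMap.mem_ker, Submodule.mem_comap, f.mem_perp]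
    exact ⟨fun h w hw => LinearMap.congr_fun h ⟨w, hw⟩, fun h => LinearMap.ext fun w => h w w.2⟩
  have h1 := φ.finrank_range_add_finrank_ker
  have h2 : finrank F (LinearMap.range φ) ≤ finrank F L :=
    (Submodule.finrank_le _).trans (le_of_eq (Subspace.dual_finrank_eq (K := F) (V := L)))
  have h3 : finrank F (LinearMap.ker φ) = finrank F (U ⊓ f.perp L : Submodule F (ι → F)) := by
    rw [hker, ← Submodule.map_comap_subtype U (f.perp L)]
    exact (Submodule.equivMapOfInjective _ U.subtype_injective _).finrank_eq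
  have h4 := Submodule.finrank_sup_add_finrank_inf_eq L (U ⊓ f.perp L)
  rw [hdisj, finrank_bot, add_zero] at h4
  have hle : L ⊔ (U ⊓ f.perp L) ≤ U := sup_le hLU inf_le_left
  have h5 := Submodule.finrank_mono hle
  have hsup : L ⊔ (U ⊓ f.perp L) = U := Submodule.eq_of_le_of_finrank_le hle (by omega)
  refine ⟨hsup, fun a ha ha0 => ?_, by rw [hsup] at h4; omega⟩
  by_contra hc
  push Not at hc
  obtain ⟨x, hx, hax⟩ := hU a ha.1 ha0
  obtain ⟨l, hl, m, hm, rfl⟩ := Submodule.mem_sup.1 (hsup.symm ▸ hx : x ∈ L ⊔ (U ⊓ f.perp L))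
  exact hax (by rw [map_add, hc m hm, f.skew, ha.2 l hl, neg_zero, zero_add])

/-- Two orthogonal non-degenerate subspaces. -/
theorem nd_sup {A B : Submodule F (ι → F)} (hA : f.NdOn A) (hB : f.NdOn B) (h : B ≤ f.perp A) :
    f.NdOn (A ⊔ B) ∧ finrank F (A ⊔ B : Submodule F (ι → F)) = finrank F A + finrank F B := by
  have hdisj : A ⊓ B = ⊥ := by
    rw [Submodule.eq_bot_iff]
    rintro v ⟨hv, hv'⟩
    by_contra h0
    obtain ⟨x, hx, hvx⟩ := hA v hv h0
    exact hvx (f.mem_perp' (h hv') hx)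
  refine ⟨fun v hv hv0 => ?_, ?_⟩
  · obtain ⟨a, ha, b, hb, rfl⟩ := Submodule.mem_sup.1 hv
    by_cases ha0 : a = 0
    · subst ha0
      rw [zero_add] at hv0 ⊢
      obtain ⟨x, hx, hbx⟩ := hB b hb hv0
      exact ⟨x, Submodule.mem_sup_right hx, hbx⟩
    · obtain ⟨x, hx, hax⟩ := hA a ha ha0
      refine ⟨x, Submodule.mem_sup_left hx, ?_⟩
      rw [map_add, LinearMap.add_apply, f.mem_perp' (h hb) hx, add_zero]
      exact hax
  · have h4 := Submodule.finrank_sup_add_finrank_inf_eq A B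
    rw [hdisj, finrank_bot, add_zero] at h4
    exact h4

theorem nd_bot : f.NdOn ⊥ := fun _ ha ha0 => absurd ((Submodule.mem_bot F).1 ha) ha0

theorem exists_even_sub : ∀ (h : ℕ) {W : Submodule F (ι → F)}, f.NdOn W → 2 * h ≤ finrank F W →
    ∃ L ≤ W, f.NdOn L ∧ finrank F L = 2 * h := by
  intro h
  induction h with
  | zero => exact fun _ _ => ⟨⊥, bot_le, nd_bot f, by rw [finrank_bot]⟩
  | succ h ih =>
    intro W hW hle
    have hne : W ≠ ⊥ := fun e => by rw [e, finrank_bot] at hle; omega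
    obtain ⟨u, hu, v, hv, huv⟩ := f.exists_pair hW hne
    obtain ⟨r1, r2, r3, r4, r5⟩ := InvBlocks.rest_spec f hW hu hv huv
    obtain ⟨L, hLR, hL, hLd⟩ := ih r1 (by omega)
    obtain ⟨h1, h2⟩ := nd_sup f r4 hL (fun w hw p hp => r5 p hp w (hLR hw))
    refine ⟨_, (sup_le le_sup_left (hLR.trans le_sup_right)).trans r2.le, h1, ?_⟩
    rw [h2, InvBlocks.pair_dim f huv, hLd]
    ring

end General

variable {X : End F (ι → F)} {r : ℕ}

theorem inj (hX : X ^ r = 1) (hr : 0 < r) : Function.Injective X := fun a b h => by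
  obtain ⟨j, rfl⟩ : ∃ j, r = j + 1 := ⟨r - 1, by omega⟩
  have h1 := congrArg (X ^ j) h
  rwa [← End.mul_apply, ← End.mul_apply, ← pow_succ, hX] at h1

theorem map_eq (hX : X ^ r = 1) (hr : 0 < r) {U : Submodule F (ι → F)} (hU : U.map X ≤ U) : U.map X = U :=
  Submodule.eq_of_le_of_finrank_le hU (Submodule.equivMapOfInjective X (inj hX hr) U).finrank_eq.le

theorem perp_inv (hX : X ^ r = 1) (hr : 0 < r) (hiso : ∀ u v, f.B (X u) (X v) = f.B u v) {U : Submodule F (ι → F)}
    (hU : U.map X ≤ U) : (f.perp U).map X ≤ f.perp U := by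
  rintro _ ⟨w, hw, rfl⟩ u hu
  obtain ⟨u', hu', rfl⟩ := (map_eq hX hr hU).symm ▸ hu
  rw [hiso]
  exact hw u' hu'

theorem inf_inv {U W : Submodule F (ι → F)} (hU : U.map X ≤ U) (hW : W.map X ≤ W) : (U ⊓ W).map X ≤ U ⊓ W :=
  (Submodule.map_inf_le _).trans (inf_le_inf hU hW)

theorem sup_inv {U W : Submodule F (ι → F)} (hU : U.map X ≤ U) (hW : W.map X ≤ W) : (U ⊔ W).map X ≤ U ⊔ W := by
  rw [Submodule.map_sup]; exact sup_le_sup hU hW

/-- The fixed space. -/
noncomputable def fixed (X : End F (ι → F)) : Submodule F (ι → F) := LinearMap.ker (X - 1)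

/-- The moved space. -/
noncomputable def moved (X : End F (ι → F)) (r : ℕ) : Submodule F (ι → F) := LinearMap.ker (aeval X (cyclotomic r F))

theorem mem_fixed {v : (ι → F)} : v ∈ fixed X ↔ X v = v := by simp [fixed, sub_eq_zero]

theorem moved_inv : (moved X r).map X ≤ moved X r := PrimeElem.map_ker_le X _

theorem fixed_inv {U : Submodule F (ι → F)} (hU : U ≤ fixed X) : U.map X ≤ U := by
  rintro _ ⟨v, hv, rfl⟩
  rwa [mem_fixed.1 (hU hv)]

variable [hr : Fact r.Prime]

theorem pow_moved (hr0 : (r : F) ≠ 0) (hX : X ^ r = 1) : (fixed X) ⊓ moved X r = ⊥ := by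
  rw [Submodule.eq_bot_iff]
  rintro v ⟨h1, h2⟩
  have h1' := mem_fixed.1 h1
  have hj : ∀ j : ℕ, (X ^ j) v = v := fun j => by
    induction j with
    | zero => rfl
    | succ j ih => rw [pow_succ, End.mul_apply, h1', ih]
  have h3 : aeval X (cyclotomic r F) v = 0 := h2
  rw [cyclotomic_prime, map_sum, LinearMap.sum_apply] at h3
  simp only [map_pow, aeval_X, hj, Finset.sum_const, Finset.card_range] at h3
  rw [← Nat.cast_smul_eq_nsmul F] at h3
  exact (smul_eq_zero.1 h3).resolve_left hr0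

theorem decompose (hr0 : (r : F) ≠ 0) (hX : X ^ r = 1) {U : Submodule F (ι → F)} (hU : U.map X ≤ U) :
    (U ⊓ fixed X) ⊔ (U ⊓ moved X r) = U ∧
      finrank F (U ⊓ fixed X : Submodule F (ι → F)) + finrank F (U ⊓ moved X r : Submodule F (ι → F)) = finrank F U := by
  have hco : IsCoprime (Polynomial.X - Polynomial.C (1 : F)) (cyclotomic r F) :=
    (irreducible_X_sub_C 1).coprime_iff_not_dvd.2 fun h => by
      rw [dvd_iff_isRoot, IsRoot, eval_one_cyclotomic_prime] at h
      exact hr0 h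
  obtain ⟨a, b, hab⟩ := hco
  have hprod : aeval X ((Polynomial.X - Polynomial.C (1 : F)) * cyclotomic r F) = 0 := by
    rw [mul_comm, map_one, cyclotomic_prime_mul_X_sub_one F r, map_sub, map_pow, aeval_X, map_one, hX, sub_self]
  have h : (U ⊓ fixed X) ⊔ (U ⊓ moved X r) = U := by
    refine le_antisymm (sup_le inf_le_left inf_le_left) fun v hv => ?_
    have hv' : aeval X (b * cyclotomic r F) v + aeval X (a * (Polynomial.X - Polynomial.C 1)) v = v := by
      rw [← LinearMap.add_apply, ← map_add, add_comm, hab, map_one]; rfl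
    rw [← hv']
    refine Submodule.add_mem_sup ⟨PrimeElem.aeval_mem X hU _ hv, ?_⟩ ⟨PrimeElem.aeval_mem X hU _ hv, ?_⟩
    · have e : X - 1 = aeval X (Polynomial.X - Polynomial.C (1 : F)) := by simp
      show _ ∈ LinearMap.ker (X - 1)
      rw [e, LinearMap.mem_ker, ← End.mul_apply, ← map_mul,
        show (Polynomial.X - Polynomial.C (1 : F)) * (b * cyclotomic r F) = b * ((Polynomial.X - Polynomial.C 1) * cyclotomic r F) by ring,
        map_mul, hprod, mul_zero]
      rfl
    · show _ ∈ LinearMap.ker (aeval X (cyclotomic r F))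
      rw [LinearMap.mem_ker, ← End.mul_apply, ← map_mul,
        show cyclotomic r F * (a * (Polynomial.X - Polynomial.C 1)) = a * ((Polynomial.X - Polynomial.C 1) * cyclotomic r F) by ring,
        map_mul, hprod, mul_zero]
      rfl
  refine ⟨h, ?_⟩
  have h2 := Submodule.finrank_sup_add_finrank_inf_eq (U ⊓ fixed X) (U ⊓ moved X r)
  rw [h, le_bot_iff.1 ((inf_le_inf inf_le_right inf_le_right).trans (pow_moved hr0 hX).le), finrank_bot, add_zero] at h2
  exact h2.symm

theorem orth (hr0 : (r : F) ≠ 0) (hiso : ∀ u v, f.B (X u) (X v) = f.B u v) {a b : (ι → F)} (ha : a ∈ fixed X)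
    (hb : b ∈ moved X r) : f.B a b = 0 := by
  have h1 := mem_fixed.1 ha
  have hj : ∀ j : ℕ, f.B a ((X ^ j) b) = f.B a b := fun j => by
    induction j with
    | zero => rfl
    | succ j ih => rw [pow_succ', End.mul_apply]; nth_rw 1 [← h1]; rw [hiso, ih]
  have h3 : aeval X (cyclotomic r F) b = 0 := hb
  rw [cyclotomic_prime, map_sum, LinearMap.sum_apply] at h3
  have h4 := congrArg (f.B a) h3
  simp only [map_pow, aeval_X, map_sum, hj, map_zero, Finset.sum_const, Finset.card_range, nsmul_eq_mul] at h4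
  exact (mul_eq_zero.1 h4).resolve_left hr0

theorem nd_parts (hr0 : (r : F) ≠ 0) (hX : X ^ r = 1) (hiso : ∀ u v, f.B (X u) (X v) = f.B u v) {U : Submodule F (ι → F)}
    (hU : f.NdOn U) (hUi : U.map X ≤ U) : f.NdOn (U ⊓ fixed X) ∧ f.NdOn (U ⊓ moved X r) := by
  have hdec := (decompose hr0 hX hUi).1
  constructor <;> intro v hv hv0 <;> obtain ⟨x, hx, hvx⟩ := hU v hv.1 hv0 <;>
    obtain ⟨a, ha, b, hb, rfl⟩ := Submodule.mem_sup.1 (hdec.symm ▸ hx : x ∈ (U ⊓ fixed X) ⊔ (U ⊓ moved X r))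
  · exact ⟨a, ha, by rwa [map_add, orth f hr0 hiso hv.2 hb.2, add_zero] at hvx⟩
  · exact ⟨b, hb, by rwa [map_add, f.skew v a, orth f hr0 hiso ha.2 hv.2, neg_zero, zero_add] at hvx⟩

variable [Fintype F] {p : ℕ} [Fact p.Prime] [CharP F p]

omit [Fact p.Prime] [CharP F p] hr in
theorem aeval_frob (Q : F[X]) {L : Type*} [CommRing L] [Algebra F L] (α : L) (j : ℕ) :
    aeval (α ^ (Fintype.card F ^ j)) Q = aeval α Q ^ (Fintype.card F ^ j) := by
  induction j with
  | zero => simp
  | succ j ih =>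
    rw [pow_succ, pow_mul, pow_mul, ← ih]
    exact aeval_algHom_apply (FiniteField.frobeniusAlgHom F L) (α ^ (Fintype.card F ^ j)) Q

/-- An irreducible factor of even degree is reciprocal. -/
theorem dvd_recip (hrp : r ≠ p) (hr2 : r ≠ 2) {i : ℕ} (hi : orderOf ((Fintype.card F : ℕ) : ZMod r) = i) (hev : Even i)
    {g : F[X]} (hg : Irreducible g) (hgd : g ∣ cyclotomic r F) : g ∣ g.comp (Polynomial.X ^ (r - 1)) := by
  have : Fact (Irreducible g) := ⟨hg⟩
  set α : AdjoinRoot g := AdjoinRoot.root g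
  have hα : α ^ r = 1 := by
    have h := congrArg (aeval α) (cyclotomic_prime_mul_X_sub_one F r)
    obtain ⟨Q, hQ⟩ := hgd
    rw [map_mul, hQ, map_mul, AdjoinRoot.aeval_eq, AdjoinRoot.mk_self, zero_mul, zero_mul, map_sub, map_pow, aeval_X,
      map_one] at h
    exact sub_eq_zero.1 h.symm
  have hi0 : 0 < i := hi ▸ PrimeElemFlags.order_pos rfl hrp
  obtain ⟨e, he⟩ := hev
  set a := ((Fintype.card F : ℕ) : ZMod r) with ha
  have ha1 : a ^ e = -1 := by
    have h1 : a ^ e * a ^ e = 1 := by rw [← pow_add, ← he, ← hi, pow_orderOf_eq_one]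
    refine (mul_self_eq_one_iff.1 h1).resolve_left fun h2 => ?_
    have := Nat.le_of_dvd (by omega) (hi ▸ orderOf_dvd_of_pow_eq_one h2)
    omega
  have hmod : Fintype.card F ^ e % r = (r - 1) % r := by
    have h2 : ((Fintype.card F ^ e : ℕ) : ZMod r) = ((r - 1 : ℕ) : ZMod r) := by
      rw [Nat.cast_pow, ← ha, ha1, Nat.cast_sub hr.out.one_lt.le, ZMod.natCast_self, Nat.cast_one, zero_sub]
    exact (ZMod.natCast_eq_natCast_iff' _ _ _).1 h2
  have h3 : α ^ (r - 1) = α ^ (Fintype.card F ^ e) := by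
    rw [pow_eq_pow_mod _ hα, pow_eq_pow_mod (Fintype.card F ^ e) hα, hmod]
  have h4 : aeval α (g.comp (Polynomial.X ^ (r - 1))) = 0 := by
    rw [aeval_comp, map_pow, aeval_X, h3, aeval_frob, AdjoinRoot.aeval_eq, AdjoinRoot.mk_self,
      zero_pow (pow_ne_zero _ Fintype.card_ne_zero)]
  rwa [AdjoinRoot.aeval_eq, AdjoinRoot.mk_eq_zero] at h4

/-- A non-degenerate moved space has a piece of least dimension. -/
theorem exists_atom (hrp : r ≠ p) (hr2 : r ≠ 2) {i : ℕ} (hi : orderOf ((Fintype.card F : ℕ) : ZMod r) = i)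
    (hX : X ^ r = 1) (hiso : ∀ u v, f.B (X u) (X v) = f.B u v) {U : Submodule F (ι → F)} (hU : f.NdOn U)
    (hUi : U.map X ≤ U) (hUm : U ≤ moved X r) (hne : U ≠ ⊥) :
    ∃ L ≤ U, f.NdOn L ∧ L.map X ≤ L ∧ finrank F L = step i := by
  have hr0 : (r : F) ≠ 0 := PrimeElemFlags.cast_ne_zero hrp
  have hrpos := hr.out.pos
  have hperp : ∀ {S : Submodule F (ι → F)}, S.map X ≤ S → (f.perp S).map X ≤ f.perp S := fun h => perp_inv f hX hrpos hiso h
  have hfac : ∀ W ≤ U, W.map X ≤ W → W ≠ ⊥ → ∃ g : F[X], Irreducible g ∧ g.Monic ∧ g ∣ cyclotomic r F ∧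
      ∃ w ∈ W, w ≠ 0 ∧ aeval X g w = 0 := fun W hWU hW hW0 => by
    obtain ⟨v, hv, hv0⟩ := (Submodule.ne_bot_iff W).1 hW0
    exact PrimeElem.exists_factor X hW _ (cyclotomic_ne_zero r F) v hv hv0 (hUm (hWU hv))
  have hdeg : ∀ g : F[X], Irreducible g → g ∣ cyclotomic r F → g.natDegree = i := fun g hg hd =>
    (PrimeElemFlags.deg_eq rfl hrp g hg hd).trans hi
  have hi0 : 0 < i := hi ▸ PrimeElemFlags.order_pos rfl hrp
  have hmin : ∀ W ≤ U, W.map X ≤ W → W ≠ ⊥ → ∃ S ≤ W, S.map X ≤ S ∧ finrank F S = i := fun W hWU hW hW0 => by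
    obtain ⟨g, hg, hm, hgd, w, hw, hw0, hgw⟩ := hfac W hWU hW hW0
    obtain ⟨S, hS, hSW, hSd⟩ := PrimeElem.exists_cyclic X hg hm hW hw hw0 hgw
    exact ⟨S, hSW, hS, hSd.trans (hdeg g hg hgd)⟩
  have hirr : ∀ S ≤ U, finrank F S = i → ∀ W ≤ S, W.map X ≤ W → W ≠ ⊥ → W = S := fun S hSU hSd W hWS hW hW0 => by
    obtain ⟨S', hS', -, hS'd⟩ := hmin W (hWS.trans hSU) hW hW0
    exact Submodule.eq_of_le_of_finrank_le hWS (by rw [hSd, ← hS'd]; exact Submodule.finrank_mono hS')
  have hrad : ∀ S ≤ U, S.map X ≤ S → finrank F S = i → ¬ S ≤ f.perp S → f.NdOn S := by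
    intro S hSU hS hSd hnot a ha ha0
    by_contra hc
    push Not at hc
    refine hnot ?_
    have h := hirr S hSU hSd (S ⊓ f.perp S) inf_le_left (inf_inv hS (hperp hS))
      ((Submodule.ne_bot_iff _).2 ⟨a, ⟨ha, fun w hw => by rw [f.skew, hc w hw, neg_zero]⟩, ha0⟩)
    exact fun v hv => (h.symm ▸ hv : v ∈ S ⊓ f.perp S).2
  by_cases hex : ∃ S ≤ U, S.map X ≤ S ∧ finrank F S = i ∧ f.NdOn S
  · obtain ⟨S, hSU, hS, hSd, hSn⟩ := hex
    refine ⟨S, hSU, hSn, hS, ?_⟩
    rw [step, if_pos (hSd ▸ SympInvolConj.even_finrank f hSn), hSd]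
  have hiso' : ∀ S ≤ U, S.map X ≤ S → finrank F S = i → S ≤ f.perp S := fun S hSU hS hSd => by
    by_contra h
    exact hex ⟨S, hSU, hS, hSd, hrad S hSU hS hSd h⟩
  rcases Nat.even_or_odd i with hev | hodd
  · exfalso
    obtain ⟨g, hg, hm, hgd, w₀, hw₀, hw₀0, hgw₀⟩ := hfac U le_rfl hUi hne
    set K := U ⊓ LinearMap.ker (aeval X g) with hK
    have hKv : ∀ v ∈ K, f.B v (X v) = 0 := by
      intro v hv
      by_cases hv0 : v = 0
      · simp [hv0]
      let Z : Submodule F (ι → F) := LinearMap.range ((LinearMap.applyₗ v).comp (aeval X).toLinearMap)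
      have hZ : ∀ h : F[X], aeval X h v ∈ Z := fun h => ⟨h, rfl⟩
      have hvZ : v ∈ Z := by simpa using hZ 1
      have hZU : Z ≤ U := by rintro _ ⟨h, rfl⟩; exact PrimeElem.aeval_mem X hUi h hv.1
      have hZi : Z.map X ≤ Z := by
        rintro _ ⟨_, ⟨h, rfl⟩, rfl⟩
        refine ⟨Polynomial.X * h, ?_⟩
        show aeval X (Polynomial.X * h) v = X (aeval X h v)
        rw [map_mul, aeval_X, End.mul_apply]
      obtain ⟨S, hSZ, hS, hSd⟩ := hmin Z hZU hZi ((Submodule.ne_bot_iff _).2 ⟨v, hvZ, hv0⟩)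
      have hS0 : S ≠ ⊥ := fun e => by rw [e, finrank_bot] at hSd; omega
      obtain ⟨w, hw, hw0⟩ := (Submodule.ne_bot_iff _).1 hS0
      obtain ⟨h, rfl⟩ := hSZ hw
      have hgv : aeval X g v = 0 := hv.2
      have hgh : ¬ g ∣ h := by
        rintro ⟨Q, rfl⟩
        refine hw0 ?_
        show aeval X (g * Q) v = 0
        rw [mul_comm, map_mul, End.mul_apply, hgv, map_zero]
      obtain ⟨a, b, hab⟩ := hg.coprime_iff_not_dvd.2 hgh
      have hvS : v ∈ S := by
        have e := congrArg (fun P => aeval X P v) hab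
        simp only [map_add, map_mul, LinearMap.add_apply, End.mul_apply, hgv, map_zero, zero_add, map_one,
          End.one_apply] at e
        rw [← e]
        exact PrimeElem.aeval_mem X hS b hw
      exact hiso' S (hSZ.trans hZU) hS hSd (hS (Submodule.mem_map_of_mem hvS)) v hvS
    have hKi : K.map X ≤ K := inf_inv hUi (PrimeElem.map_ker_le X g)
    have hK1 : ∀ u ∈ K, ∀ w ∈ K, f.B u (X (X w) - w) = 0 := by
      intro u hu w hw
      have hXw : X w ∈ K := hKi (Submodule.mem_map_of_mem hw)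
      have h := hKv (u + X w) (K.add_mem hu hXw)
      simp only [map_add, LinearMap.add_apply, hKv u hu, hiso] at h
      rw [hKv w hw, f.skew w u] at h
      rw [map_sub]
      linear_combination h
    have hKK : K ≤ f.perp K := by
      let T : K →ₗ[F] K := LinearMap.restrict (X * X - 1) (fun v hv => K.sub_mem
        (hKi (Submodule.mem_map_of_mem (hKi (Submodule.mem_map_of_mem hv)))) hv)
      have hT : Function.Injective T := by
        refine (injective_iff_map_eq_zero T).2 fun v hv => Subtype.ext ?_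
        have h2 : X (X (v : (ι → F))) = (v : (ι → F)) := sub_eq_zero.1 (congrArg Subtype.val hv)
        obtain ⟨m, hm⟩ := hr.out.odd_of_ne_two hr2
        have h3 : ∀ j : ℕ, (X ^ (2 * j)) (v : (ι → F)) = v := fun j => by
          induction j with
          | zero => rfl
          | succ j ih => rw [show 2 * (j + 1) = 2 * j + 1 + 1 by ring, pow_succ, pow_succ, End.mul_apply, End.mul_apply, h2, ih]
        have h4 : X (v : (ι → F)) = v := by
          have h5 := LinearMap.congr_fun hX (v : (ι → F))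
          rw [hm, pow_succ', End.mul_apply, h3, End.one_apply] at h5
          exact h5
        have h6 : (v : (ι → F)) ∈ fixed X ⊓ moved X r := ⟨mem_fixed.2 h4, hUm v.2.1⟩
        rw [pow_moved hr0 hX] at h6
        exact (Submodule.mem_bot F).1 h6
      intro v hv u hu
      obtain ⟨w, hw⟩ := LinearMap.injective_iff_surjective.1 hT ⟨v, hv⟩
      have e : X (X (w : (ι → F))) - w = v := congrArg Subtype.val hw
      rw [← e]
      exact hK1 u hu w w.2
    obtain ⟨Q, hQ⟩ := dvd_recip hrp hr2 hi hev hg hgd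
    obtain ⟨G', hG'⟩ := hgd
    have hco : IsCoprime g G' := by
      refine hg.coprime_iff_not_dvd.2 fun hd => ?_
      obtain ⟨G'', hG''⟩ := hd
      have hsq : Squarefree (cyclotomic r F) := (PrimeElemFlags.sq hr0 one_ne_zero).squarefree_of_dvd
        ⟨Polynomial.X - 1, by rw [map_one, cyclotomic_prime_mul_X_sub_one]⟩
      exact hg.not_isUnit (hsq g ⟨G'', by rw [hG', hG'', mul_assoc]⟩)
    set P := g.comp (Polynomial.X ^ (r - 1)) with hP
    have hXX : (X ^ (r - 1)) ^ (r - 1) = X := by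
      obtain ⟨m, hm⟩ := Nat.exists_eq_add_of_le hr.out.two_le
      rw [← pow_mul, show (r - 1) * (r - 1) = r * m + 1 by subst hm; rw [show 2 + m - 1 = m + 1 by omega]; ring,
        pow_succ, pow_mul, hX, one_pow, one_mul]
    have hPX : aeval X P = aeval (X ^ (r - 1)) g := by rw [hP, aeval_comp, map_pow, aeval_X]
    have hPg : ∀ v, aeval X P v = 0 → aeval X g v = 0 := fun v hv => by
      have h : aeval X g = aeval (X ^ (r - 1)) P := by rw [hP, aeval_comp, map_pow, aeval_X, hXX]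
      rw [h, hQ, mul_comm, map_mul, End.mul_apply, ← hPX, hv, map_zero]
    have hadj : ∀ (Q : F[X]) u v, f.B u (aeval (X ^ (r - 1)) Q v) = f.B (aeval X Q u) v := fun Q u v => by
      induction Q using Polynomial.induction_on generalizing v with
      | C a => simp [Algebra.algebraMap_eq_smul_one]
      | add A B hA hB => simp only [map_add, LinearMap.add_apply, hA, hB]
      | monomial j a ih =>
        have hinv : ∀ a b, f.B a ((X ^ (r - 1)) b) = f.B (X a) b := fun a b => by
          rw [← hiso a, ← End.mul_apply, ← pow_succ', Nat.sub_add_cancel hr.out.one_lt.le, hX, End.one_apply]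
        rw [pow_succ, ← mul_assoc, map_mul, aeval_X, End.mul_apply, ih, hinv, ← End.mul_apply,
          show aeval X (C a * Polynomial.X ^ j * Polynomial.X) = X * aeval X (C a * Polynomial.X ^ j) by
            rw [mul_comm (C a * Polynomial.X ^ j) Polynomial.X, map_mul, aeval_X]]
    let T : U →ₗ[F] U := LinearMap.restrict (aeval X P) (fun v hv => PrimeElem.aeval_mem X hUi P hv)
    have hTd : Disjoint (LinearMap.range T) (LinearMap.ker T) := by
      rw [Submodule.disjoint_def]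
      rintro _ ⟨v, rfl⟩ hv
      have h1 : aeval X g (aeval X P (v : (ι → F))) = 0 := hPg _ (congrArg Subtype.val hv)
      rw [hQ, ← End.mul_apply, ← map_mul, ← mul_assoc] at h1
      refine Subtype.ext ?_
      show aeval X P (v : (ι → F)) = 0
      obtain ⟨a, b, hab⟩ := hco
      have h2 : aeval X (g * G') (v : (ι → F)) = 0 := by rw [← hG']; exact hUm v.2
      rw [hQ, show g * Q = a * (g * g * Q) + b * Q * (g * G') from by
        calc g * Q = (a * g + b * G') * (g * Q) := by rw [hab, one_mul]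
          _ = _ := by ring, map_add, LinearMap.add_apply, map_mul, map_mul (aeval X) (b * Q), End.mul_apply, End.mul_apply,
        h1, h2, map_zero, map_zero, add_zero]
    have htop : LinearMap.range T ⊔ LinearMap.ker T = ⊤ := by
      refine Submodule.eq_top_of_finrank_eq ?_
      have h1 := Submodule.finrank_sup_add_finrank_inf_eq (LinearMap.range T) (LinearMap.ker T)
      rw [hTd.eq_bot, finrank_bot, add_zero, LinearMap.finrank_range_add_finrank_ker] at h1
      exact h1
    obtain ⟨x, hx, hwx⟩ := hU w₀ hw₀ hw₀0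
    obtain ⟨_, ⟨a, rfl⟩, b, hb, hab⟩ := Submodule.mem_sup.1 (htop ▸ Submodule.mem_top : (⟨x, hx⟩ : U) ∈ _)
    have e : aeval X P (a : (ι → F)) + (b : (ι → F)) = x := congrArg Subtype.val hab
    have hb' : (b : (ι → F)) ∈ K := ⟨b.2, hPg _ (congrArg Subtype.val hb)⟩
    refine hwx ?_
    rw [← e, map_add, hKK hb' w₀ ⟨hw₀, hgw₀⟩, hPX, hadj, hgw₀, map_zero, LinearMap.zero_apply, add_zero]
  · obtain ⟨S, hSU, hS, hSd⟩ := hmin U le_rfl hUi hne
    have hS0 : S ≠ ⊥ := fun e => by rw [e, finrank_bot] at hSd; omega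
    set W' := U ⊓ f.perp S
    have hW'i : W'.map X ≤ W' := inf_inv hUi (hperp hS)
    have hy : aeval X (Polynomial.X ^ r - Polynomial.C (1 : F)) = 0 :=
      PrimeElemFlags.aeval_eq_zero (by rw [hX, one_smul])
    obtain ⟨C, hC, hWC⟩ := PrimeElem.exists_compl (PrimeElemFlags.sq hr0 one_ne_zero) hy hW'i
    have hCU : U ⊓ C ≠ ⊥ := by
      intro h0
      obtain ⟨a, ha, ha0⟩ := (Submodule.ne_bot_iff _).1 hS0
      obtain ⟨x, hx, hax⟩ := hU a (hSU ha) ha0
      have : x ∈ W' := by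
        have h1 : U = W' ⊔ U ⊓ C := by
          rw [inf_comm U C, ← sup_inf_assoc_of_le C (show W' ≤ U from inf_le_left), hWC.sup_eq_top, top_inf_eq]
        rw [h0, sup_bot_eq] at h1
        exact h1 ▸ hx
      exact hax (this.2 a ha)
    obtain ⟨S', hS'C, hS', hS'd⟩ := hmin (U ⊓ C) inf_le_left (inf_inv hUi hC) hCU
    have hS'U : S' ≤ U := hS'C.trans inf_le_left
    have hS'0 : S' ≠ ⊥ := fun e => by rw [e, finrank_bot] at hS'd; omega
    have hd1 : S' ⊓ f.perp S = ⊥ := by
      rw [Submodule.eq_bot_iff]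
      rintro v ⟨hv, hv'⟩
      exact (Submodule.mem_bot F).1 (hWC.inf_eq_bot ▸ ⟨⟨hS'U hv, hv'⟩, (hS'C hv).2⟩)
    have hd2 : S ⊓ f.perp S' = ⊥ := by
      by_contra h0
      have h := hirr S hSU hSd _ inf_le_left (inf_inv hS (hperp hS')) h0
      refine hS'0 (le_bot_iff.1 (hd1 ▸ le_inf le_rfl fun v hv w hw => ?_))
      rw [f.skew, (h.symm ▸ hw : w ∈ S ⊓ f.perp S').2 v hv, neg_zero]
    have hSS := hiso' S hSU hS hSd
    have hS'S := hiso' S' hS'U hS' hS'd
    have hdisj : S ⊓ S' = ⊥ := le_bot_iff.1 (hd1 ▸ le_inf inf_le_right (inf_le_left.trans hSS))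
    refine ⟨S ⊔ S', sup_le hSU hS'U, fun v hv hv0 => ?_, sup_inv hS hS', ?_⟩
    · obtain ⟨a, ha, b, hb, rfl⟩ := Submodule.mem_sup.1 hv
      by_contra hc
      push Not at hc
      have ha' : a ∈ f.perp S' := fun w hw => by
        have h1 := hc w (Submodule.mem_sup_right hw)
        rw [map_add, LinearMap.add_apply, f.mem_perp' (hS'S hb) hw, add_zero] at h1
        rw [f.skew, h1, neg_zero]
      have hb' : b ∈ f.perp S := fun w hw => by
        have h1 := hc w (Submodule.mem_sup_left hw)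
        rw [map_add, LinearMap.add_apply, f.mem_perp' (hSS ha) hw, zero_add] at h1
        rw [f.skew, h1, neg_zero]
      apply hv0
      have e1 : a ∈ S ⊓ f.perp S' := ⟨ha, ha'⟩
      have e2 : b ∈ S' ⊓ f.perp S := ⟨hb, hb'⟩
      rw [hd2, Submodule.mem_bot] at e1
      rw [hd1, Submodule.mem_bot] at e2
      rw [e1, e2, add_zero]
    · have h1 := Submodule.finrank_sup_add_finrank_inf_eq S S'
      rw [hdisj, finrank_bot, add_zero, hSd, hS'd] at h1
      rw [h1, step, if_neg (Nat.not_even_iff_odd.2 hodd), two_mul]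

/-- Non-degenerate moved spaces have dimension a multiple of the step, and pieces of all such dimensions. -/
theorem exists_sub (hrp : r ≠ p) (hr2 : r ≠ 2) {i : ℕ} (hi : orderOf ((Fintype.card F : ℕ) : ZMod r) = i)
    (hX : X ^ r = 1) (hiso : ∀ u v, f.B (X u) (X v) = f.B u v) :
    ∀ (N : ℕ) {U : Submodule F (ι → F)}, finrank F U = N → f.NdOn U → U.map X ≤ U → U ≤ moved X r →
      step i ∣ N ∧ ∀ j, step i * j ≤ N → ∃ L ≤ U, f.NdOn L ∧ L.map X ≤ L ∧ finrank F L = step i * j := by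
  intro N
  induction N using Nat.strong_induction_on with
  | _ N ih =>
    intro U hN hU hUi hUm
    by_cases hne : U = ⊥
    · subst hne
      rw [finrank_bot] at hN
      subst hN
      refine ⟨dvd_zero _, fun j hj => ⟨⊥, bot_le, nd_bot f, by simp, ?_⟩⟩
      rw [finrank_bot]; omega
    obtain ⟨A, hAU, hA, hAi, hAd⟩ := exists_atom f hrp hr2 hi hX hiso hU hUi hUm hne
    obtain ⟨hsup, hR, hdim⟩ := split_off f hU hA hAU
    have hc : 0 < step i := by
      have : 0 < i := hi ▸ PrimeElemFlags.order_pos rfl hrp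
      rw [step]; split_ifs <;> omega
    obtain ⟨hd, hsub⟩ := ih _ (by omega) rfl hR (inf_inv hUi (perp_inv f hX hr.out.pos hiso hAi))
      (inf_le_left.trans hUm)
    refine ⟨?_, fun j hj => ?_⟩
    · rw [← hN, ← hdim, hAd]; exact dvd_add dvd_rfl hd
    rcases j with _ | j
    · exact ⟨⊥, bot_le, nd_bot f, by simp, by rw [finrank_bot, mul_zero]⟩
    obtain ⟨L, hLR, hL, hLi, hLd⟩ := hsub j (by rw [Nat.mul_succ] at hj; omega)
    obtain ⟨h1, h2⟩ := nd_sup f hA hL (hLR.trans inf_le_right)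
    refine ⟨A ⊔ L, sup_le hAU (hLR.trans inf_le_left), h1, sup_inv hAi hLi, ?_⟩
    rw [h2, hAd, hLd, Nat.mul_succ]; ring

/-- An invariant non-degenerate piece with a given moved part. -/
theorem exists_piece (hrp : r ≠ p) (hr2 : r ≠ 2) {i : ℕ} (hi : orderOf ((Fintype.card F : ℕ) : ZMod r) = i)
    (hX : X ^ r = 1) (hiso : ∀ u v, f.B (X u) (X v) = f.B u v) {U : Submodule F (ι → F)} (hU : f.NdOn U) (hUi : U.map X ≤ U)
    {h j : ℕ} (hj : step i * j ≤ finrank F (U ⊓ moved X r : Submodule F (ι → F)))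
    (hh : 2 * h ≤ finrank F (U ⊓ fixed X : Submodule F (ι → F))) :
    ∃ L ≤ U, f.NdOn L ∧ L.map X ≤ L ∧ finrank F L = step i * j + 2 * h ∧
      finrank F (U ⊓ f.perp L ⊓ moved X r : Submodule F (ι → F)) + step i * j =
        finrank F (U ⊓ moved X r : Submodule F (ι → F)) := by
  have hr0 : (r : F) ≠ 0 := PrimeElemFlags.cast_ne_zero hrp
  obtain ⟨hF, hM⟩ := nd_parts f hr0 hX hiso hU hUi
  obtain ⟨A, hAU, hA, hAi, hAd⟩ := (exists_sub f hrp hr2 hi hX hiso _ rfl hM (inf_inv hUi moved_inv) inf_le_right).2 j hj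
  obtain ⟨B, hBU, hB, hBd⟩ := exists_even_sub f h hF hh
  obtain ⟨h1, h2⟩ := nd_sup f hA hB fun b hb a ha => by
    rw [f.skew, orth f hr0 hiso (hBU hb).2 (hAU ha).2, neg_zero]
  have hBi := fixed_inv (hBU.trans inf_le_right)
  have hLU : A ⊔ B ≤ U := sup_le (hAU.trans inf_le_left) (hBU.trans inf_le_left)
  refine ⟨A ⊔ B, hLU, h1, sup_inv hAi hBi, by rw [h2, hAd, hBd], ?_⟩
  obtain ⟨-, -, hsd⟩ := split_off f hM hA hAU
  have e : U ⊓ f.perp (A ⊔ B) ⊓ moved X r = U ⊓ moved X r ⊓ f.perp A := by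
    refine le_antisymm (le_inf (le_inf (inf_le_left.trans inf_le_left) inf_le_right)
      ((inf_le_left.trans inf_le_right).trans (f.perp_antitone le_sup_left))) ?_
    rintro v ⟨⟨hvU, hvm⟩, hv⟩
    refine ⟨⟨hvU, fun w hw => ?_⟩, hvm⟩
    obtain ⟨a, ha, b, hb, rfl⟩ := Submodule.mem_sup.1 hw
    rw [map_add, LinearMap.add_apply, hv a ha, orth f hr0 hiso (hBU hb).2 hvm, add_zero]
  rw [e]
  omega

end Cfsg.Agent.Lib.MaxSub.IsoDecomp
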