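import Cfsg.Agent.Lib.MaxSub.SympPrimeElem
import Cfsg.Agent.Lib.MaxSub.IsoDecomp
import Mathlib

/-!
Symplectic elements of prime order with a prescribed displacement.
-/

set_option autoImplicit false
set_option maxHeartbeats 1000000

namespace Cfsg.Agent.Lib.MaxSub.IsoElem

open Matrix Module Cfsg.Agent.Lib.MaxSub
open scoped _root_.Classical

variable {F : Type*} [Field F]

local notation "Mat" d => Matrix (Fin d ⊕ Fin d) (Fin d ⊕ Fin d) F

/-- Two symplectic matrices side by side. -/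
theorem exists_sum {e k : ℕ} {y : Mat e} (hy : y ∈ Matrix.symplecticGroup (Fin e) F) {z : Mat k}
    (hz : z ∈ Matrix.symplecticGroup (Fin k) F) :
    ∃ w : Mat (e + k), w ∈ Matrix.symplecticGroup (Fin (e + k)) F ∧ (∀ r : ℕ, y ^ r = 1 → z ^ r = 1 → w ^ r = 1) ∧
      (w - 1).rank = (y - 1).rank + (z - 1).rank := by
  let E : (Fin (e + k) ⊕ Fin (e + k)) ≃ (Fin e ⊕ Fin e) ⊕ (Fin k ⊕ Fin k) :=
    ((finSumFinEquiv.symm).sumCongr (finSumFinEquiv.symm)).trans (Equiv.sumSumSumComm _ _ _ _)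
  let Re := Matrix.reindexAlgEquiv F F E.symm
  have hJ : Matrix.J (Fin (e + k)) F = Re (Matrix.fromBlocks (Matrix.J (Fin e) F) 0 0 (Matrix.J (Fin k) F)) := by
    have h : ∀ a b, Matrix.J (Fin (e + k)) F (E.symm a) (E.symm b) =
        Matrix.fromBlocks (Matrix.J (Fin e) F) 0 0 (Matrix.J (Fin k) F) a b := by
      rintro ((i | i) | (i | i)) ((j | j) | (j | j)) <;>
        simp [E, Matrix.J, Matrix.one_apply, Fin.ext_iff] <;> (try omega)
    ext a b
    simpa [Re, Matrix.reindexAlgEquiv_apply] using h (E a) (E b)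
  have hT : ∀ M, (Re M)ᵀ = Re Mᵀ := fun M => Matrix.transpose_reindex _ _ M
  refine ⟨Re (Matrix.fromBlocks y 0 0 z), ?_, fun r hyr hzr => ?_, ?_⟩
  · rw [SymplecticGroup.mem_iff', hT, hJ, ← map_mul, ← map_mul, Matrix.fromBlocks_transpose,
      Matrix.fromBlocks_multiply, Matrix.fromBlocks_multiply]
    simp [SymplecticGroup.mem_iff'.1 hy, SymplecticGroup.mem_iff'.1 hz]
  · rw [← map_pow, Matrix.fromBlocks_diagonal_pow, hyr, hzr, Matrix.fromBlocks_one, map_one]
  · rw [← map_one Re, ← map_sub, show Matrix.fromBlocks y 0 0 z - 1 = Matrix.fromBlocks (y - 1) 0 0 (z - 1) by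
      ext (a | a) (b | b) <;> simp [Matrix.one_apply]]
    refine (Matrix.rank_reindex _ _ _).trans ?_
    rw [UnipotentOrth.rank_fromBlocks]

variable [Fintype F] {p : ℕ} [Fact p.Prime] [CharP F p] {r : ℕ} [hr : Fact r.Prime]

/-- One piece. -/
theorem exists_one (hrp : r ≠ p) (hr2 : r ≠ 2) {i : ℕ} (hi : orderOf ((Fintype.card F : ℕ) : ZMod r) = i) :
    ∃ (e : ℕ) (y : Mat e), y ∈ Matrix.symplecticGroup (Fin e) F ∧ y ^ r = 1 ∧ IsoDecomp.step i = 2 * e ∧
      (y - 1).rank = 2 * e := by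
  rcases Nat.even_or_odd i with hev | hodd
  · obtain ⟨e, he⟩ := id hev
    obtain ⟨x, hx, hxr, hrk⟩ := SympPrimeElem.exists_even (d := e) hrp hi hev (by omega)
    refine ⟨e, _, SympPrimeElem.mem_spGL_iff_mat.1 hx, hxr, ?_, by rw [hrk]; omega⟩
    rw [IsoDecomp.step, if_pos hev]; omega
  · have hst : IsoDecomp.step i = 2 * i := by rw [IsoDecomp.step, if_neg (Nat.not_even_iff_odd.2 hodd)]
    by_cases hi1 : i = 1
    · subst hi1
      obtain ⟨u, hu⟩ := exists_prime_orderOf_dvd_card' (G := Fˣ) r (by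
        rw [PrimeElemFlags.card_sub_one rfl]
        exact (PrimeElemFlags.order_eq_one_iff rfl).1 hi)
      have hu1 : (u : F) ≠ 1 := fun h => by
        rw [Units.val_eq_one.1 h, orderOf_one] at hu
        exact hr.out.one_lt.ne hu
      have hu1' : ((u⁻¹ : Fˣ) : F) ≠ 1 := fun h => hu1 (by rw [inv_eq_one.1 (Units.val_eq_one.1 h)]; rfl)
      refine ⟨1, Matrix.fromBlocks (Matrix.diagonal fun _ => (u : F)) 0 0 (Matrix.diagonal fun _ => ((u⁻¹ : Fˣ) : F)),
        ?_, ?_, hst, ?_⟩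
      · rw [SymplecticGroup.mem_iff', Matrix.J, Matrix.fromBlocks_transpose, Matrix.fromBlocks_multiply,
          Matrix.fromBlocks_multiply]
        simp
        ext a b
        simp [Subsingleton.elim a b]
      · have hur : u ^ r = 1 := by rw [← hu]; exact pow_orderOf_eq_one u
        rw [Matrix.fromBlocks_diagonal_pow, Matrix.diagonal_pow, Matrix.diagonal_pow, ← Matrix.fromBlocks_one]
        congr 1
        · rw [← Matrix.diagonal_one]; congr 1; funext j; simp [← Units.val_pow_eq_pow_val, hur]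
        · rw [← Matrix.diagonal_one]; congr 1; funext j; simp [← Units.val_pow_eq_pow_val, hur]
      · rw [Matrix.rank_of_det_ne_zero, Fintype.card_sum, Fintype.card_fin]
        rw [← Matrix.fromBlocks_one, sub_eq_add_neg, Matrix.fromBlocks_neg, Matrix.fromBlocks_add]
        simp only [neg_zero, add_zero, Matrix.det_fromBlocks_zero₂₁, Matrix.det_unique]
        simp [sub_eq_zero, ← sub_eq_add_neg, hu1, hu1']
    · obtain ⟨x, g, hx, hxr, hrk, -⟩ := SympPrimeElem.exists_odd (d := i) hrp hi hodd hi1 le_rfl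
      exact ⟨i, _, SympPrimeElem.mem_spGL_iff_mat.1 hx, hxr, hst, hrk⟩

/-- A prescribed number of pieces. -/
theorem exists_atoms (hrp : r ≠ p) (hr2 : r ≠ 2) {i : ℕ} (hi : orderOf ((Fintype.card F : ℕ) : ZMod r) = i)
    {d s : ℕ} (hs : IsoDecomp.step i * s ≤ 2 * d) :
    ∃ x : Mat d, x ∈ Matrix.symplecticGroup (Fin d) F ∧ x ^ r = 1 ∧ (x - 1).rank = IsoDecomp.step i * s := by
  obtain ⟨e, y, hy, hyr, hst, hrk⟩ := exists_one hrp hr2 hi
  have h : ∀ j : ℕ, ∃ w : Mat (e * j), w ∈ Matrix.symplecticGroup (Fin (e * j)) F ∧ w ^ r = 1 ∧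
      (w - 1).rank = 2 * (e * j) := by
    intro j
    induction j with
    | zero =>
      refine ⟨1, one_mem _, one_pow _, ?_⟩
      rw [sub_self, Matrix.rank_zero, mul_zero, mul_zero]
    | succ j ih =>
      obtain ⟨w, hw, hwr, hwk⟩ := ih
      obtain ⟨v, hv, hvr, hvk⟩ := exists_sum hw hy
      have hje : e * j + e = e * (j + 1) := by ring
      rw [← hje]
      exact ⟨v, hv, hvr r hwr hyr, by rw [hvk, hwk, hrk]; ring⟩
  obtain ⟨w, hw, hwr, hwk⟩ := h s
  have hsum := exists_sum hw (one_mem (Matrix.symplecticGroup (Fin (d - e * s)) F))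
  have hds : e * s + (d - e * s) = d := by
    have : 2 * (e * s) ≤ 2 * d := by rw [← mul_assoc, ← hst]; exact hs
    omega
  rw [hds] at hsum
  obtain ⟨v, hv, hvr, hvk⟩ := hsum
  exact ⟨v, hv, hvr r hwr (one_pow _), by rw [hvk, hwk, sub_self, Matrix.rank_zero, add_zero, hst, mul_assoc]⟩

end Cfsg.Agent.Lib.MaxSub.IsoElem
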