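import Cfsg.Agent.Lib.MaxSub.LinDecomp
import Mathlib

/-!
Bounds for maps of prime order permuting the summands of a decomposition, and the count of decompositions.
-/

set_option autoImplicit false
set_option maxHeartbeats 1000000
set_option linter.unusedSectionVars false

namespace Cfsg.Agent.Lib.MaxSub.LinDecompBound

open Module Polynomial Cfsg.Agent.Lib.MaxSub
open scoped _root_.Classical

variable {ι : Type} [Fintype ι] [DecidableEq ι] {F : Type*} [Field F] {t a : ℕ}

/-- Projections of a decomposition. -/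
theorem exists_proj {D : Fin t → Submodule F (ι → F)} (hD : Cfsg.Geo.IsMDecomposition a D) :
    ∃ pr : Fin t → (ι → F) →ₗ[F] (ι → F), (∀ j v, pr j v ∈ D j) ∧ (∀ v, ∑ j, pr j v = v) ∧
      ∀ j k v, v ∈ D j → pr k v = if j = k then v else 0 := by
  have h := DirectSum.isInternal_submodule_of_iSupIndep_of_iSup_eq_top hD.indep hD.iSup_eq_top
  let e := LinearEquiv.ofBijective (DirectSum.coeLinearMap D) h
  refine ⟨fun j => (D j).subtype ∘ₗ DirectSum.component F (Fin t) (fun i => D i) j ∘ₗ e.symm.toLinearMap,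
    fun j v => ((e.symm v) j).2, fun v => ?_, fun j k v hv => ?_⟩
  · conv_rhs => rw [← e.apply_symm_apply v]
    show ∑ j, ((e.symm v) j : ι → F) = DirectSum.coeLinearMap D (e.symm v)
    conv_rhs => rw [← DirectSum.sum_univ_of (e.symm v), map_sum]
    exact Finset.sum_congr rfl fun j _ => (DirectSum.coeLinearMap_of D j _).symm
  · have he : e.symm v = DirectSum.of (fun i => D i) j ⟨v, hv⟩ := by
      rw [LinearEquiv.symm_apply_eq]
      exact (DirectSum.coeLinearMap_of D j ⟨v, hv⟩).symm
    show ((e.symm v) k : ι → F) = _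
    rw [he]
    split_ifs with hjk
    · subst hjk; rw [DirectSum.of_eq_same]
    · rw [DirectSum.of_eq_of_ne _ _ _ (Ne.symm hjk)]; rfl

theorem injective {D : Fin t → Submodule F (ι → F)} (hD : Cfsg.Geo.IsMDecomposition a D) : Function.Injective D :=
  hD.indep.injective fun i e => by
    have h1 := hD.finrank_eq i
    rw [e, finrank_bot] at h1
    exact hD.pos.ne h1

/-- Spanning families of vectors give decompositions. -/
theorem of_span (ht : 2 ≤ t) (ha : 0 < a) (hn : Fintype.card ι = a * t) (v : Fin t → Fin a → (ι → F))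
    (hv : Submodule.span F (Set.range fun w : Fin t × Fin a => v w.1 w.2) = ⊤) :
    Cfsg.Geo.IsMDecomposition a (fun j => Submodule.span F (Set.range (v j))) := by
  refine LinDecomp.good_of_sup ht ha hn (fun j => (finrank_range_le_card _).trans (le_of_eq (Fintype.card_fin a))) ?_
  rw [eq_top_iff, ← hv, Submodule.span_le]
  rintro _ ⟨⟨j, i⟩, rfl⟩
  exact Submodule.mem_iSup_of_mem j (Submodule.subset_span ⟨i, rfl⟩)

theorem exists_decomp (ht : 2 ≤ t) (ha : 0 < a) (hn : Fintype.card ι = a * t) :
    ∃ D : Fin t → Submodule F (ι → F), Cfsg.Geo.IsMDecomposition a D := by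
  let e : Fin t × Fin a ≃ ι := Fintype.equivOfCardEq (by simp [hn, mul_comm])
  refine ⟨_, of_span ht ha hn (fun j i => Pi.basisFun F ι (e (j, i))) ?_⟩
  rw [show (fun w : Fin t × Fin a => Pi.basisFun F ι (e (w.1, w.2))) = Pi.basisFun F ι ∘ e from rfl,
    Set.range_comp, e.range_eq_univ, Set.image_univ, (Pi.basisFun F ι).span_eq]

theorem map_decomp {D : Fin t → Submodule F (ι → F)} (h : Cfsg.Geo.IsMDecomposition a D) {g : End F (ι → F)}
    (hg : Function.Injective g) : Cfsg.Geo.IsMDecomposition a fun j => (D j).map g := by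
  refine LinDecomp.good_of_sup h.two_le h.pos (by rw [DecompAux.card_eq_mul h, mul_comm]) (fun j => ?_) ?_
  · rw [← (Submodule.equivMapOfInjective g hg (D j)).finrank_eq]
    exact (h.finrank_eq j).le
  · rw [← Submodule.map_iSup, h.iSup_eq_top, Submodule.map_top, LinearMap.range_eq_top.2 (LinearMap.injective_iff_surjective.1 hg)]

/-- The number of decompositions divides the group order. -/
theorem dvd_card [Fintype F] {r : ℕ} (hne : Nonempty {D : Fin t → Submodule F (ι → F) // Cfsg.Geo.IsMDecomposition a D})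
    (hΩ : r ∣ Nat.card {D : Fin t → Submodule F (ι → F) // Cfsg.Geo.IsMDecomposition a D} / Nat.factorial t) :
    r ∣ Nat.card (GL ι F) := by
  let Ω := {D : Fin t → Submodule F (ι → F) // Cfsg.Geo.IsMDecomposition a D}
  have hperm : Nat.factorial t ∣ Nat.card Ω := by
    letI : MulAction (Equiv.Perm (Fin t)) Ω :=
      { smul := fun σ D => ⟨fun j => D.1 (σ.symm j), LinDecomp.good_of_sup D.2.two_le D.2.pos
          (by rw [DecompAux.card_eq_mul D.2, mul_comm]) (fun j => (D.2.finrank_eq _).le)
          (by rw [Equiv.iSup_comp (g := D.1) σ.symm]; exact D.2.iSup_eq_top)⟩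
        one_smul := fun D => rfl
        mul_smul := fun σ τ D => rfl }
    have hfree : ∀ D : Ω, MulAction.stabilizer (Equiv.Perm (Fin t)) D = ⊥ := fun D => by
      rw [Subgroup.eq_bot_iff_forall]
      intro σ hσ
      have h1 := congrArg Subtype.val (MulAction.mem_stabilizer_iff.1 hσ)
      ext j
      have h2 : D.1 (σ.symm (σ j)) = D.1 (σ j) := congrFun h1 (σ j)
      rw [Equiv.symm_apply_apply] at h2
      simp [← injective D.2 h2]
    rw [Nat.card_congr (MulAction.selfEquivOrbitsQuotientProd hfree), Nat.card_prod, Nat.card_perm, Nat.card_fin]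
    exact dvd_mul_left _ _
  refine (hΩ.trans (Nat.div_dvd_of_dvd hperm)).trans ?_
  have hinj : ∀ g : GL ι F, Function.Injective (Matrix.toLin' (g : Matrix ι ι F)) := fun g v w h => by
    have := congrArg (Matrix.toLin' ((g⁻¹ : GL ι F) : Matrix ι ι F)) h
    rwa [← LinearMap.comp_apply, ← LinearMap.comp_apply, ← Matrix.toLin'_mul, ← Units.val_mul, inv_mul_cancel,
      Units.val_one, Matrix.toLin'_one] at this
  letI : MulAction (GL ι F) Ω :=
    { smul := fun g D => ⟨fun j => (D.1 j).map (Matrix.toLin' (g : Matrix ι ι F)), map_decomp D.2 (hinj g)⟩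
      one_smul := fun D => Subtype.ext (funext fun j => by
        show (D.1 j).map (Matrix.toLin' ((1 : GL ι F) : Matrix ι ι F)) = D.1 j
        rw [Units.val_one, Matrix.toLin'_one, Submodule.map_id])
      mul_smul := fun g k D => Subtype.ext (funext fun j => by
        show (D.1 j).map (Matrix.toLin' ((g * k : GL ι F) : Matrix ι ι F)) = ((D.1 j).map _).map _
        rw [← Submodule.map_comp, Units.val_mul, Matrix.toLin'_mul]) }
  haveI : MulAction.IsPretransitive (GL ι F) Ω := by
    constructor
    rintro ⟨D, hD⟩ ⟨D', hD'⟩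
    obtain ⟨pr, hpr, hsum, -⟩ := exists_proj hD
    obtain ⟨pr', -, -, hprj'⟩ := exists_proj hD'
    let φ : ∀ j, D j ≃ₗ[F] D' j := fun j => LinearEquiv.ofFinrankEq _ _ (by rw [hD.finrank_eq, hD'.finrank_eq])
    let Φ : End F (ι → F) := ∑ j, (D' j).subtype ∘ₗ (φ j).toLinearMap ∘ₗ LinearMap.codRestrict (D j) (pr j) (hpr j)
    have hΦ : ∀ v, Φ v = ∑ j, (φ j ⟨pr j v, hpr j v⟩ : ι → F) := fun v => by simp [Φ]; rfl
    have hi : Function.Injective Φ := by
      refine (injective_iff_map_eq_zero Φ).2 fun v hv => ?_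
      rw [← hsum v]
      refine Finset.sum_eq_zero fun j _ => ?_
      have h1 := congrArg (pr' j) hv
      rw [hΦ, map_sum, map_zero, Finset.sum_eq_single j (fun k _ hk => by rw [hprj' k j _ (φ k _).2, if_neg hk])
        (fun h => absurd (Finset.mem_univ j) h), hprj' j j _ (φ j _).2, if_pos rfl] at h1
      exact congrArg Subtype.val ((φ j).map_eq_zero_iff.1 (Subtype.ext h1))
    have hu : IsUnit (LinearMap.toMatrix' Φ) := by
      rw [← Matrix.mulVec_injective_iff_isUnit]
      intro v w h
      rw [LinearMap.toMatrix'_mulVec, LinearMap.toMatrix'_mulVec] at h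
      exact hi h
    refine ⟨hu.unit, Subtype.ext (funext fun j => ?_)⟩
    show (D j).map (Matrix.toLin' (hu.unit : Matrix ι ι F)) = D' j
    rw [IsUnit.unit_spec, Matrix.toLin'_toMatrix']
    refine Submodule.eq_of_le_of_finrank_le ?_ ?_
    · rintro _ ⟨u, hu, rfl⟩
      obtain ⟨pr₀, -, -, hprj⟩ := exists_proj hD
      rw [hΦ]
      refine (D' j).sum_mem fun k _ => ?_
      by_cases hk : k = j
      · exact hk ▸ (φ k _).2
      · have e0 : (⟨pr k u, hpr k u⟩ : D k) = 0 := by
          refine Subtype.ext ?_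
          by_contra hne
          have hd := Submodule.disjoint_def.1 (hD.indep k) (pr k u) (hpr k u) ?_
          · exact hne hd
          · have e : pr k u = u - ∑ l ∈ Finset.univ.erase k, pr l u := by
              rw [eq_sub_iff_add_eq]
              exact (Finset.add_sum_erase Finset.univ (fun l => pr l u) (Finset.mem_univ k)).trans (hsum u)
            rw [e]
            refine Submodule.sub_mem _ (Submodule.mem_iSup_of_mem j (Submodule.mem_iSup_of_mem (Ne.symm hk) hu)) ?_
            exact Submodule.sum_mem _ fun l hl => Submodule.mem_iSup_of_mem l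
              (Submodule.mem_iSup_of_mem (Finset.ne_of_mem_erase hl) (hpr l u))
        rw [e0, map_zero]; exact (D' j).zero_mem
    · rw [← (Submodule.equivMapOfInjective Φ hi (D j)).finrank_eq, hD.finrank_eq, hD'.finrank_eq]
  obtain ⟨D₀⟩ := hne
  rw [← MulAction.index_stabilizer_of_transitive (GL ι F) D₀]
  exact Subgroup.index_dvd_card _

variable [Fintype F] {p : ℕ} [Fact p.Prime] [CharP F p] {r : ℕ} [hr : Fact r.Prime]

/-- If `r` divides the order of the general linear group, the order of `q` is at most the dimension. -/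
theorem order_le (hrp : r ≠ p) {n : ℕ} (h : r ∣ Nat.card (GL (Fin n) F)) :
    orderOf ((Fintype.card F : ℕ) : ZMod r) ≤ n := by
  rw [Matrix.card_GL_field] at h
  obtain ⟨i, -, hi⟩ := (Prime.dvd_finsetProd_iff (Nat.prime_iff.1 hr.out) _).1 h
  obtain ⟨m, hm⟩ : ∃ m, n = i.val + (m + 1) := ⟨n - i.val - 1, by have := i.2; omega⟩
  rw [show Fintype.card F ^ n = Fintype.card F ^ (i.val + (m + 1)) from congrArg _ hm, pow_add, ← Nat.mul_sub_one] at hi
  rcases hr.out.dvd_mul.1 hi with h1 | h1
  · obtain ⟨f, -, hcard⟩ := FiniteField.card F p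
    rw [hcard, ← pow_mul] at h1
    exact absurd ((Nat.prime_dvd_prime_iff_eq hr.out Fact.out).1 (hr.out.dvd_of_dvd_pow h1)) hrp
  · have hd : orderOf ((Fintype.card F : ℕ) : ZMod r) ∣ m + 1 := by
      rw [orderOf_dvd_iff_pow_eq_one, ← sub_eq_zero, ← Nat.cast_pow, ← Nat.cast_one (R := ZMod r),
        ← Nat.cast_sub (Nat.one_le_pow _ _ Fintype.card_pos), ZMod.natCast_eq_zero_iff]
      exact h1
    exact (Nat.le_of_dvd m.succ_pos hd).trans (by omega)

/-- Without non-trivial roots of unity, `u ^ r = 1` forces `u = 1`. -/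
theorem root_one (hc : orderOf ((Fintype.card F : ℕ) : ZMod r) ≠ 1) {u : F} (hu : u ^ r = 1) : u = 1 := by
  have h0 : u ≠ 0 := fun h => by rw [h, zero_pow hr.out.ne_zero] at hu; exact zero_ne_one hu
  have hco : (Nat.card Fˣ).Coprime r := by
    rw [PrimeElemFlags.card_sub_one (q := Fintype.card F) rfl]
    exact ((Nat.Prime.coprime_iff_not_dvd hr.out).2 fun h => hc ((PrimeElemFlags.order_eq_one_iff rfl).2 h)).symm
  have h2 : Units.mk0 _ h0 = 1 := (powCoprime hco).injective (by
    ext; simp [hu])
  simpa using congrArg Units.val h2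

/-- Elements with a prescribed moved space. -/
theorem exists_element (hrp : r ≠ p) {c : ℕ} (hc : orderOf ((Fintype.card F : ℕ) : ZMod r) = c) (hc1 : c ≠ 1) {n s : ℕ}
    (hs : c * s ≤ n) :
    ∃ y : End F (Fin n → F), y ^ r = 1 ∧ LinearMap.det y = 1 ∧ finrank F (IsoDecomp.fixed y) = n - c * s := by
  obtain ⟨g, hg, hgd⟩ := WfDvdMonoid.exists_irreducible_factor
    (not_isUnit_of_natDegree_pos (cyclotomic r F) (by rw [natDegree_cyclotomic]; exact Nat.totient_pos.2 hr.out.pos))
    (cyclotomic_ne_zero r F)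
  have : Fact (Irreducible g) := ⟨hg⟩
  have hgi : g.natDegree = c := (PrimeElemFlags.deg_eq rfl hrp g hg hgd).trans hc
  have : FiniteDimensional F (AdjoinRoot g) := (AdjoinRoot.powerBasis hg.ne_zero).finite
  have hfr : finrank F (AdjoinRoot g) = c := by
    rw [(AdjoinRoot.powerBasis hg.ne_zero).finrank, AdjoinRoot.powerBasis_dim, hgi]
  let α : AdjoinRoot g := AdjoinRoot.root g
  have hcyc : aeval α (cyclotomic r F) = 0 := by
    obtain ⟨Q, hQ⟩ := hgd
    rw [hQ, map_mul, AdjoinRoot.aeval_eq, AdjoinRoot.mk_self, zero_mul]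
  have hα : α ^ r = 1 := by
    have h := congrArg (aeval α) (cyclotomic_prime_mul_X_sub_one F r)
    rw [map_mul, hcyc, zero_mul, map_sub, map_pow, aeval_X, map_one] at h
    exact sub_eq_zero.1 h.symm
  have hα1 : α ≠ 1 := by
    intro h
    rw [h, cyclotomic_prime, map_sum] at hcyc
    simp at hcyc
    exact PrimeElemFlags.cast_ne_zero hrp ((map_eq_zero (algebraMap F (AdjoinRoot g))).1 (by rw [map_natCast]; exact hcyc))
  let W := Fin s → AdjoinRoot g
  let T := Fin (n - c * s) → F
  let y : End F (W × T) := (Algebra.lsmul F F W α).prodMap (1 : End F T)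
  have hWT : finrank F (W × T) = n := by
    rw [Module.finrank_prod, Module.finrank_fin_fun, Module.finrank_pi_fintype, Finset.sum_const, hfr, Finset.card_univ,
      Fintype.card_fin, smul_eq_mul, mul_comm s]
    omega
  have hy : y ^ r = 1 := by
    rw [PrimeElemFlags.prodMap_pow', ← map_pow, hα, map_one, one_pow, LinearMap.prodMap_one]
  let e : (W × T) ≃ₗ[F] (Fin n → F) := LinearEquiv.ofFinrankEq _ _ (by rw [hWT, Module.finrank_fin_fun])
  have hey : (e.conj y) ^ r = 1 := by
    rw [PrimeElemFlags.conj_pow, hy, End.one_eq_id, LinearEquiv.conj_id, ← End.one_eq_id]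
  refine ⟨e.conj y, hey, root_one (hc ▸ hc1) (by rw [← map_pow, hey, map_one]), ?_⟩
  have hk : IsoDecomp.fixed (e.conj y) = (LinearMap.range (LinearMap.inr F W T)).map e.toLinearMap := by
    refine le_antisymm (fun v hv => ?_) ?_
    · obtain ⟨⟨w, u⟩, rfl⟩ := e.surjective v
      refine ⟨(w, u), ⟨u, Prod.ext ?_ rfl⟩, rfl⟩
      rw [IsoDecomp.mem_fixed, LinearEquiv.conj_apply_apply, LinearEquiv.symm_apply_apply] at hv
      have h1 : α • w = w := congrArg Prod.fst (e.injective hv)
      show (0 : W) = w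
      have h2 : (α - 1) • w = 0 := by rw [sub_smul, one_smul, h1, sub_self]
      exact ((smul_eq_zero.1 h2).resolve_left (sub_ne_zero.2 hα1)).symm
    · rintro _ ⟨_, ⟨u, rfl⟩, rfl⟩
      rw [IsoDecomp.mem_fixed]
      simp [y]
  rw [hk, ← (Submodule.equivMapOfInjective _ e.injective _).finrank_eq,
    LinearMap.finrank_range_of_inj LinearMap.inr_injective, Module.finrank_fin_fun]

variable {X : End F (ι → F)} {D : Fin t → Submodule F (ι → F)} {σ : Equiv.Perm (Fin t)}

/-- Projections commute with the map. -/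
theorem proj_comm (hσ : ∀ j, (D j).map X = D (σ j)) {pr : Fin t → (ι → F) →ₗ[F] (ι → F)}
    (hpr : ∀ j v, pr j v ∈ D j) (hsum : ∀ v, ∑ j, pr j v = v)
    (hprj : ∀ j k v, v ∈ D j → pr k v = if j = k then v else 0) (l : Fin t) (v : ι → F) :
    pr (σ l) (X v) = X (pr l v) := by
  conv_lhs => rw [← hsum v, map_sum X]
  rw [map_sum, Finset.sum_eq_single l (fun k _ hk => ?_) (fun h => absurd (Finset.mem_univ l) h),
    hprj (σ l) (σ l) _ (hσ l ▸ Submodule.mem_map_of_mem (hpr l v)), if_pos rfl]
  rw [hprj (σ k) (σ l) _ (hσ k ▸ Submodule.mem_map_of_mem (hpr k v)), if_neg (fun e => hk (σ.injective e))]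

theorem map_pow_eq (hσ : ∀ j, (D j).map X = D (σ j)) (k : ℕ) (l : Fin t) : (D l).map (X ^ k) = D ((σ ^ k) l) := by
  induction k with
  | zero => exact Submodule.map_id _
  | succ k ih => rw [pow_succ', End.mul_eq_comp, Submodule.map_comp, ih, hσ, pow_succ', Equiv.Perm.mul_apply]

theorem sum_fixed (hX : X ^ r = 1) (v : ι → F) : (∑ k ∈ Finset.range r, X ^ k) v ∈ IsoDecomp.fixed X := by
  rw [IsoDecomp.mem_fixed, LinearMap.sum_apply, map_sum, ← sub_eq_zero, ← Finset.sum_sub_distrib]
  have e : ∀ k, X ((X ^ k) v) = (X ^ (k + 1)) v := fun k => by rw [pow_succ', End.mul_apply]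
  simp only [e]
  rw [Finset.sum_range_sub fun k => (X ^ k) v, hX, pow_zero, sub_self]

theorem orbit_inj (hD : Cfsg.Geo.IsMDecomposition a D) (hX : X ^ r = 1) (hσ : ∀ j, (D j).map X = D (σ j)) {j : Fin t}
    (hj : σ j ≠ j) (k l : ℕ) (hk : k < r) (hl : l < r) (e : (σ ^ k) j = (σ ^ l) j) : k = l := by
  have hσr : (σ ^ r) j = j := injective hD (by rw [← map_pow_eq hσ, hX]; exact Submodule.map_id _)
  have hper : Function.minimalPeriod σ j = r := by
    have hdvd : Function.minimalPeriod σ j ∣ r := Function.IsPeriodicPt.minimalPeriod_dvd (by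
      show σ^[r] j = j
      rw [← Equiv.Perm.coe_pow]; exact hσr)
    refine ((Nat.dvd_prime hr.out).1 hdvd).resolve_left fun e => hj ?_
    exact Function.minimalPeriod_eq_one_iff_isFixedPt.1 e
  refine Function.iterate_injOn_Iio_minimalPeriod (f := σ) (x := j) (hper.symm ▸ hk) (hper.symm ▸ hl) ?_
  simpa [Equiv.Perm.coe_pow] using e

/-- A permuted decomposition bounds the fixed or the moved space. -/
theorem bound (hrp : r ≠ p) {c : ℕ} (hc : orderOf ((Fintype.card F : ℕ) : ZMod r) = c)
    (hD : Cfsg.Geo.IsMDecomposition a D) (hX : X ^ r = 1) (hσ : ∀ j, (D j).map X = D (σ j)) :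
    finrank F (IsoDecomp.moved X r) ≤ c * (t * (a / c)) ∨
      (a ≤ finrank F (IsoDecomp.fixed X) ∧ finrank F (IsoDecomp.fixed X) + a * (r - 1) ≤ Fintype.card ι) := by
  have hr0 : (r : F) ≠ 0 := PrimeElemFlags.cast_ne_zero hrp
  obtain ⟨pr, hpr, hsum, hprj⟩ := exists_proj hD
  by_cases h1 : ∀ l, σ l = l
  · left
    have hinv : ∀ l, (D l).map X ≤ D l := fun l => by rw [hσ, h1]
    have hc0 : 0 < c := hc ▸ PrimeElemFlags.order_pos rfl hrp
    have htop : (⊤ : Submodule F (ι → F)) ≤ IsoDecomp.fixed X ⊔ Finset.univ.sup fun l => D l ⊓ IsoDecomp.moved X r := by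
      rw [← hD.iSup_eq_top]
      refine iSup_le fun l => ?_
      rw [← (IsoDecomp.decompose hr0 hX (hinv l)).1]
      exact sup_le_sup inf_le_right (Finset.le_sup (f := fun l => D l ⊓ IsoDecomp.moved X r) (Finset.mem_univ l))
    have h2 := (Submodule.finrank_mono htop).trans (Submodule.finrank_add_le_finrank_add_finrank _ _)
    have h3 := (IsoDecomp.decompose hr0 hX (U := ⊤) le_top).2
    rw [top_inf_eq, top_inf_eq] at h3
    have h4 : finrank F (Finset.univ.sup fun l => D l ⊓ IsoDecomp.moved X r : Submodule F (ι → F)) ≤ c * (t * (a / c)) := by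
      refine (InvBlocks.finrank_finset_sup_le _ _).trans ((Finset.sum_le_card_nsmul _ _ (c * (a / c)) fun l _ => ?_).trans (le_of_eq ?_))
      · obtain ⟨⟨m, hm⟩, -⟩ := LinDecomp.moved_sub hrp hc hX (IsoDecomp.inf_inv (hinv l) IsoDecomp.moved_inv) inf_le_right
        have hle' : finrank F (D l ⊓ IsoDecomp.moved X r : Submodule F (ι → F)) ≤ a :=
          (Submodule.finrank_mono inf_le_left).trans (hD.finrank_eq l).le
        rw [hm] at hle' ⊢
        exact Nat.mul_le_mul_left c ((Nat.le_div_iff_mul_le hc0).2 (by rwa [mul_comm]))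
      · rw [Finset.card_univ, Fintype.card_fin, smul_eq_mul]; ring
    omega
  right
  push Not at h1
  obtain ⟨j, hj⟩ := h1
  have horb := orbit_inj hD hX hσ hj
  refine ⟨?_, ?_⟩
  · let Sj : D j →ₗ[F] IsoDecomp.fixed X :=
      LinearMap.codRestrict _ ((∑ k ∈ Finset.range r, X ^ k) ∘ₗ (D j).subtype) fun v => sum_fixed hX v
    have hinj : Function.Injective Sj := by
      refine (injective_iff_map_eq_zero Sj).2 fun u hu => Subtype.ext ?_
      have h0 : (∑ k ∈ Finset.range r, X ^ k) (u : ι → F) = 0 := congrArg Subtype.val hu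
      have h2 := congrArg (pr j) h0
      rw [LinearMap.sum_apply, map_sum, map_zero, Finset.sum_eq_single 0 (fun k hk hk0 => ?_)
        (fun h => absurd (Finset.mem_range.2 hr.out.pos) h)] at h2
      · rwa [pow_zero, End.one_apply, hprj j j _ u.2, if_pos rfl] at h2
      · rw [hprj _ j _ (map_pow_eq hσ k j ▸ Submodule.mem_map_of_mem u.2),
          if_neg fun e => hk0 (horb k 0 (Finset.mem_range.1 hk) hr.out.pos (by rw [pow_zero]; exact e))]
    rw [← hD.finrank_eq j]
    exact LinearMap.finrank_le_finrank_of_injective hinj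
  · set T : Finset (Fin t) := Finset.univ \ ((Finset.Ico 1 r).image fun k => (σ ^ k) j) with hT
    have hTc : T.card + (r - 1) = t := by
      have hinj : Set.InjOn (fun k => (σ ^ k) j) (Finset.Ico 1 r : Finset ℕ) := fun k hk l hl e => by
        simp only [Finset.coe_Ico, Set.mem_Ico] at hk hl
        exact horb k l hk.2 hl.2 e
      have h2 := Finset.card_sdiff_add_card_eq_card (Finset.subset_univ ((Finset.Ico 1 r).image fun k => (σ ^ k) j))
      rw [Finset.card_image_of_injOn hinj, Nat.card_Ico, Finset.card_univ, Fintype.card_fin] at h2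
      exact h2
    let P : IsoDecomp.fixed X →ₗ[F] ((l : T) → D l) := LinearMap.pi fun l =>
      LinearMap.codRestrict _ (pr (l : Fin t) ∘ₗ (IsoDecomp.fixed X).subtype) fun v => hpr _ _
    have hinj : Function.Injective P := by
      refine (injective_iff_map_eq_zero P).2 fun v hv => Subtype.ext ?_
      have hzero : ∀ l ∈ T, pr l (v : ι → F) = 0 := fun l hl => congrArg Subtype.val (congrFun hv ⟨l, hl⟩)
      have hj0 : pr j (v : ι → F) = 0 := hzero j (by
        simp only [hT, Finset.mem_sdiff, Finset.mem_univ, true_and, Finset.mem_image, Finset.mem_Ico, not_exists, not_and]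
        intro k hk e
        exact absurd (horb k 0 hk.2 hr.out.pos (by rw [pow_zero]; exact e)) (by omega))
      have hall : ∀ k, pr ((σ ^ k) j) (v : ι → F) = 0 := fun k => by
        induction k with
        | zero => exact hj0
        | succ k ih =>
          rw [pow_succ', Equiv.Perm.mul_apply, ← IsoDecomp.mem_fixed.1 v.2, proj_comm hσ hpr hsum hprj, ih, map_zero]
      show (v : ι → F) = 0
      rw [← hsum v]
      refine Finset.sum_eq_zero fun l _ => ?_
      by_cases hl : l ∈ T
      · exact hzero l hl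
      · simp only [hT, Finset.mem_sdiff, Finset.mem_univ, true_and, not_not, Finset.mem_image] at hl
        obtain ⟨k, -, rfl⟩ := hl
        exact hall k
    have h3 := LinearMap.finrank_le_finrank_of_injective hinj
    rw [Module.finrank_pi_fintype] at h3
    simp only [hD.finrank_eq, Finset.sum_const, Finset.card_univ, Fintype.card_coe, smul_eq_mul] at h3
    have h4 := DecompAux.card_eq_mul hD
    rw [← hTc, add_mul] at h4
    rw [mul_comm a]
    omega

/-- Permuted lines have many fixed vectors. -/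
theorem orbit_le (hrp : r ≠ p) (hc : orderOf ((Fintype.card F : ℕ) : ZMod r) ≠ 1)
    (hD : Cfsg.Geo.IsMDecomposition 1 D) (hX : X ^ r = 1) (hσ : ∀ j, (D j).map X = D (σ j)) :
    t ≤ r * finrank F (IsoDecomp.fixed X) := by
  have hr0 : (r : F) ≠ 0 := PrimeElemFlags.cast_ne_zero hrp
  obtain ⟨pr, hpr, -, hprj⟩ := exists_proj hD
  choose v hv hv0 using fun j => (Submodule.ne_bot_iff (D j)).1 (fun e => by
    have h := hD.finrank_eq j
    rw [e, finrank_bot] at h
    exact zero_ne_one h)
  let Q := Quotient (Equiv.Perm.SameCycle.setoid σ)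
  let w : Q → IsoDecomp.fixed X := fun o => ⟨_, sum_fixed (r := r) hX (v o.out)⟩
  have hval : ∀ o o' : Q, pr o.out ((∑ k ∈ Finset.range r, X ^ k) (v o'.out)) =
      if o' = o then (∑ k ∈ Finset.range r, if (σ ^ k) o.out = o.out then (X ^ k) (v o.out) else 0) else 0 := by
    intro o o'
    rw [LinearMap.sum_apply, map_sum]
    split_ifs with h
    · subst h
      exact Finset.sum_congr rfl fun k _ => hprj _ _ _ (map_pow_eq hσ k o'.out ▸ Submodule.mem_map_of_mem (hv _))
    · refine Finset.sum_eq_zero fun k _ => ?_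
      rw [hprj _ _ _ (map_pow_eq hσ k o'.out ▸ Submodule.mem_map_of_mem (hv _)), if_neg]
      intro e
      apply h
      rw [← o.out_eq, ← o'.out_eq]
      exact Quotient.sound ⟨(k : ℤ), by rwa [zpow_natCast]⟩
  have hne : ∀ o : Q, (∑ k ∈ Finset.range r, if (σ ^ k) o.out = o.out then (X ^ k) (v o.out) else 0) ≠ 0 := by
    intro o
    by_cases hfx : σ o.out = o.out
    · have hXv : X (v o.out) = v o.out := by
        have hsp : F ∙ v o.out = D o.out := Submodule.eq_of_le_of_finrank_le
          ((Submodule.span_singleton_le_iff_mem _ _).2 (hv _)) (by rw [finrank_span_singleton (hv0 _), hD.finrank_eq])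
        have hm : X (v o.out) ∈ F ∙ v o.out := by
          have e : (D o.out).map X = D o.out := by rw [hσ, hfx]
          rw [hsp]
          exact e.le (Submodule.mem_map_of_mem (hv _))
        obtain ⟨μ, hμ⟩ := Submodule.mem_span_singleton.1 hm
        have hk : ∀ k : ℕ, (X ^ k) (v o.out) = μ ^ k • v o.out := fun k => by
          induction k with
          | zero => simp
          | succ k ih => rw [pow_succ', End.mul_apply, ih, map_smul, ← hμ, smul_smul, pow_succ]
        have h1 := hk r
        rw [hX, End.one_apply] at h1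
        have h2 : μ ^ r = 1 := by
          have h3 : (μ ^ r - 1) • v o.out = 0 := by rw [sub_smul, one_smul, ← h1, sub_self]
          exact sub_eq_zero.1 ((smul_eq_zero.1 h3).resolve_right (hv0 _))
        rw [← hμ, root_one hc h2, one_smul]
      have hk : ∀ k : ℕ, (σ ^ k) o.out = o.out ∧ (X ^ k) (v o.out) = v o.out := fun k => by
        induction k with
        | zero => exact ⟨rfl, rfl⟩
        | succ k ih => exact ⟨by rw [pow_succ', Equiv.Perm.mul_apply, ih.1, hfx], by rw [pow_succ', End.mul_apply, ih.2, hXv]⟩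
      rw [Finset.sum_congr rfl fun k _ => (if_pos (hk k).1).trans (hk k).2, Finset.sum_const, Finset.card_range,
        ← Nat.cast_smul_eq_nsmul F]
      exact smul_ne_zero hr0 (hv0 _)
    · rw [Finset.sum_eq_single 0 (fun k hk hk0 => if_neg fun e => hk0
        (orbit_inj hD hX hσ hfx k 0 (Finset.mem_range.1 hk) hr.out.pos (by rw [e, pow_zero]; rfl)))
        (fun h => absurd (Finset.mem_range.2 hr.out.pos) h), pow_zero, pow_zero, if_pos (Equiv.Perm.one_apply _)]
      exact hv0 _
  have hli : LinearIndependent F w := by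
    rw [Fintype.linearIndependent_iff]
    intro g hg o
    have h := congrArg (fun z : IsoDecomp.fixed X => pr o.out (z : ι → F)) hg
    simp only [Submodule.coe_sum, Submodule.coe_smul, map_sum, map_smul, w, Submodule.coe_zero, map_zero, hval] at h
    rw [Finset.sum_eq_single o (fun o' _ ho' => by rw [if_neg ho', smul_zero]) (fun h => absurd (Finset.mem_univ o) h),
      if_pos rfl] at h
    exact (smul_eq_zero.1 h).resolve_right (hne o)
  have hsurj : Function.Surjective fun z : Q × Fin r => (σ ^ (z.2 : ℕ)) z.1.out := by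
    intro j
    let o : Q := Quotient.mk _ j
    have hsame : σ.SameCycle o.out j := Quotient.exact (o.out_eq)
    obtain ⟨k, -, hk⟩ := hsame.exists_pow_eq'
    have hσr : (σ ^ r) o.out = o.out := injective hD (by rw [← map_pow_eq hσ, hX]; exact Submodule.map_id _)
    refine ⟨(o, ⟨k % r, Nat.mod_lt _ hr.out.pos⟩), ?_⟩
    show (σ ^ (k % r)) o.out = j
    have hmul : ∀ b : ℕ, (σ ^ (r * b)) o.out = o.out := fun b => by
      induction b with
      | zero => rfl
      | succ b ih => rw [Nat.mul_succ, pow_add, Equiv.Perm.mul_apply, hσr, ih]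
    rw [← hk]
    conv_rhs => rw [← Nat.mod_add_div k r, pow_add, Equiv.Perm.mul_apply, hmul]
  have h1 := Fintype.card_le_of_surjective _ hsurj
  rw [Fintype.card_fin, Fintype.card_prod, Fintype.card_fin, mul_comm] at h1
  exact h1.trans (Nat.mul_le_mul_left r hli.fintype_card_le_finrank)

end Cfsg.Agent.Lib.MaxSub.LinDecompBound
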