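import Cfsg.Agent.Lib.MaxSub.Subfield
import Cfsg.Agent.Lib.MaxSub.LinSubfieldDickson

/-!
A subgroup containing all rational transvections and one with an irrational centre contains the special linear group.
-/

set_option autoImplicit false

namespace Cfsg.Agent.Lib.MaxSub.LinSubfield

open Matrix
open scoped MatrixGroups Matrix

variable {ι : Type} [Fintype ι] [DecidableEq ι] {F : Type*} [Field F] (F₀ : Subfield F)

/-- All coordinates in the subfield. -/
def Rat (x : ι → F) : Prop := ∀ i, x i ∈ F₀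

/-- All rational transvections lie in `K`. -/
def Base (K : Subgroup (GL ι F)) : Prop :=
  ∀ v a : ι → F, Rat F₀ v → Rat F₀ a → a ⬝ᵥ v = 0 → InK K v a

variable {F₀} {K : Subgroup (GL ι F)}

theorem rat_single (i : ι) {c : F} (hc : c ∈ F₀) : Rat F₀ (Pi.single i c : ι → F) := fun j => by
  rw [Pi.single_apply]; split_ifs; exacts [hc, F₀.zero_mem]

theorem add_left {u w b : ι → F} (hu : InK K u b) (hw : InK K w b) : InK K (u + w) b := by
  obtain ⟨h1, hk1⟩ := hu
  obtain ⟨h2, hk2⟩ := hw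
  have h : b ⬝ᵥ (u + w) = 0 := by rw [dotProduct_add, h1, h2, add_zero]
  refine ⟨h, ?_⟩
  have := K.mul_mem hk1 hk2
  rwa [show tv u b h1 * tv w b h2 = tv (u + w) b h from Units.ext (eq_of_mulVec_eq fun x => by
    rw [Units.val_mul, ← Matrix.mulVec_mulVec, tv_mulVec, tv_mulVec, tv_mulVec, dotProduct_add, dotProduct_smul, h2,
      smul_zero, add_zero, smul_add]
    abel)] at this

theorem neg_left {u b : ι → F} (hu : InK K u b) : InK K (-u) b := by
  rw [← neg_one_smul F u]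
  exact InK.smul (by rw [neg_one_smul]; exact hu.neg) (neg_ne_zero.mpr one_ne_zero)

/-- The commutator rule. -/
theorem comm {x a y b : ι → F} (hs : InK K x a) (ht : InK K y b) (h : b ⬝ᵥ x = 0) :
    InK K x ((a ⬝ᵥ y) • b) := by
  have h1 := ht.conj hs.2
  rw [tv_mulVec, tv_inv, show b ᵥ* (tv x (-a) (by rw [neg_dotProduct, hs.1, neg_zero]) : Matrix ι ι F) = b from by
    show b ᵥ* (1 + Matrix.vecMulVec x (-a)) = b
    rw [Matrix.vecMul_add, Matrix.vecMul_one, Matrix.vecMul_vecMulVec, h, zero_smul, add_zero]] at h1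
  have h2 := add_left h1 (neg_left ht)
  rw [← sub_eq_add_neg, add_sub_cancel_left] at h2
  exact h2.of_smul

/-- A non-zero rational vector orthogonal to two rational ones. -/
theorem rat_perp (hn : 3 ≤ Fintype.card ι) {a b : ι → F} (ha : Rat F₀ a) (hb : Rat F₀ b) :
    ∃ u, Rat F₀ u ∧ u ≠ 0 ∧ a ⬝ᵥ u = 0 ∧ b ⬝ᵥ u = 0 := by
  let a' : ι → F₀ := fun i => ⟨a i, ha i⟩
  let b' : ι → F₀ := fun i => ⟨b i, hb i⟩
  let L : (ι → F₀) →ₗ[F₀] F₀ × F₀ :=
    { toFun := fun u => (a' ⬝ᵥ u, b' ⬝ᵥ u)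
      map_add' := fun u v => by simp [dotProduct_add]
      map_smul' := fun c u => by simp [dotProduct_smul] }
  obtain ⟨u, hu, hu0⟩ := (Submodule.ne_bot_iff _).mp
    (LinearMap.ker_ne_bot_of_finrank_lt (f := L) (by simp; omega))
  obtain ⟨h1, h2⟩ := Prod.mk_eq_zero.mp (LinearMap.mem_ker.mp hu)
  refine ⟨fun i => (u i : F), fun i => (u i).2, fun h => hu0 (funext fun i => Subtype.ext (congrFun h i)), ?_, ?_⟩
  · simpa [a', dotProduct] using congrArg Subtype.val h1
  · simpa [b', dotProduct] using congrArg Subtype.val h2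

/-- A vector killed by the rational functionals killing a rational vector is a multiple of it. -/
theorem eq_smul_of_perp {φ ψ : ι → F} (hφ : Rat F₀ φ) (hφ0 : φ ≠ 0)
    (h : ∀ w, Rat F₀ w → φ ⬝ᵥ w = 0 → ψ ⬝ᵥ w = 0) : ∃ c : F, ψ = c • φ := by
  obtain ⟨i, hi⟩ : ∃ i, φ i ≠ 0 := by by_contra hc; push Not at hc; exact hφ0 (funext hc)
  refine ⟨ψ i / φ i, funext fun j => ?_⟩
  have h1 := h (Pi.single j 1 - (φ j / φ i) • Pi.single i 1)
    (fun k => F₀.sub_mem (rat_single j F₀.one_mem k) (F₀.mul_mem (F₀.div_mem (hφ j) (hφ i)) (rat_single i F₀.one_mem k)))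
    (by simp [dotProduct_sub, dotProduct_smul, div_mul_cancel₀ _ hi])
  simp only [dotProduct_sub, dotProduct_smul, dotProduct_single_one, smul_eq_mul, sub_eq_zero] at h1
  rw [h1, Pi.smul_apply, smul_eq_mul]
  ring

section endgame

variable (hK : Base F₀ K) (hn : 3 ≤ Fintype.card ι) [Finite F] {r : ℕ} (hr : r.Prime)
  (hcard : Nat.card F = Nat.card F₀ ^ r)

include hn in
theorem exists_third (a b : ι) : ∃ c, c ≠ a ∧ c ≠ b := by
  by_contra h
  push Not at h
  have hsub : (Finset.univ : Finset ι) ⊆ {a, b} := fun c _ => by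
    by_cases hc : c = a
    · simp [hc]
    · simp [h c hc]
  have := (Finset.card_le_card hsub).trans Finset.card_le_two
  rw [Finset.card_univ] at this
  omega

include hr hcard in
/-- No proper intermediate field. -/
theorem eq_top_of_lt (S : Subfield F) (hle : F₀ ≤ S) {c : F} (hc : c ∈ S) (hc0 : c ∉ F₀) : S = ⊤ := by
  letI : Algebra F₀ S := (Subfield.inclusion hle).toAlgebra
  haveI : Fintype F := Fintype.ofFinite F
  have hS : Nat.card S = Nat.card F₀ ^ Module.finrank F₀ S := Module.natCard_eq_pow_finrank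
  have hF : Nat.card F = Nat.card S ^ Module.finrank S F := Module.natCard_eq_pow_finrank
  have h2 : 2 ≤ Nat.card F₀ := Finite.one_lt_card
  rw [hF, hS, ← pow_mul] at hcard
  rcases hr.eq_one_or_self_of_dvd _ (Dvd.intro _ (Nat.pow_right_injective h2 hcard)) with h | h
  · exfalso
    rw [h, pow_one] at hS
    have : (F₀ : Set F) = (S : Set F) := Set.eq_of_subset_of_ncard_le hle
      (by rw [← Nat.card_coe_set_eq, ← Nat.card_coe_set_eq]; exact hS.le) (Set.toFinite _)
    exact hc0 (this.symm ▸ hc : c ∈ (F₀ : Set F))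
  · have h1 := Nat.pow_right_injective h2 hcard
    rw [h] at h1
    have h3 : Module.finrank S F = 1 := by
      have := hr.pos
      exact (Nat.mul_eq_left (by omega)).mp h1
    rw [h3, pow_one] at hF
    refine SetLike.coe_injective ?_
    rw [Subfield.coe_top]
    exact Set.eq_of_subset_of_ncard_le (Set.subset_univ _)
      (by rw [Set.ncard_univ, ← Nat.card_coe_set_eq]; exact hF.le) (Set.toFinite _)

include hK hn in
/-- The scalars of the elementary transvections in `K` spread to every pair. -/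
theorem spread {k i : ι} (hki : k ≠ i) {c : F} (h : InK K (Pi.single k 1) (Pi.single i c)) :
    ∀ j l, j ≠ l → InK K (Pi.single j 1) (Pi.single l c) := by
  have e1 : ∀ {j i l : ι}, j ≠ i → i ≠ l → j ≠ l → InK K (Pi.single j 1) (Pi.single i c) →
      InK K (Pi.single j 1) (Pi.single l c) := by
    intro j i l hji hil hjl h
    have h2 := comm h (hK (Pi.single i 1) (Pi.single l 1) (rat_single i F₀.one_mem) (rat_single l F₀.one_mem)
      (by simp [hil])) (by simp [hjl])
    simpa [← Pi.single_smul] using h2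
  have e2 : ∀ {j k i : ι}, j ≠ k → k ≠ i → j ≠ i → InK K (Pi.single k 1) (Pi.single i c) →
      InK K (Pi.single j 1) (Pi.single i c) := by
    intro j k i hjk hki hji h
    have h2 := comm (hK (Pi.single j 1) (Pi.single k 1) (rat_single j F₀.one_mem) (rat_single k F₀.one_mem)
      (by simp [hjk])) h (by simp [hji])
    simpa using h2
  have hrow : ∀ l, l ≠ k → InK K (Pi.single k 1) (Pi.single l c) := fun l hl => by
    by_cases hli : l = i
    · exact hli ▸ h
    · exact e1 hki (Ne.symm hli) (Ne.symm hl) h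
  intro j l hjl
  by_cases hjk : j = k
  · exact hjk ▸ hrow l (fun e => hjl (hjk.trans e.symm))
  by_cases hlk : l = k
  · obtain ⟨m, hmj, hmk⟩ := exists_third hn j k
    exact e1 hmj.symm (hlk ▸ hmk) hjl (e2 hjk hmk.symm hmj.symm (hrow m hmk))
  · exact e2 hjk (Ne.symm hlk) hjl (hrow l hlk)

include hK hn hr hcard in
/-- An elementary transvection with an irrational scalar gives everything. -/
theorem finish {k i : ι} (hki : k ≠ i) {c : F} (hc : c ∉ F₀) (h : InK K (Pi.single k 1) (Pi.single i c)) :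
    Cfsg.Geo.specialLinear ι F ≤ K := by
  haveI : Fintype F := Fintype.ofFinite F
  let T : Set F := {z | ∀ j l : ι, j ≠ l → InK K (Pi.single j 1) (Pi.single l z)}
  have hmul : ∀ {y z}, y ∈ T → z ∈ T → y * z ∈ T := fun {y z} hy hz j l hjl => by
    obtain ⟨m, hmj, hml⟩ := exists_third hn j l
    have h2 := comm (hy j m hmj.symm) (hz m l hml) (by simp [hjl])
    simpa [← Pi.single_smul] using h2
  have hone : (1 : F) ∈ T := fun j l hjl =>
    hK _ _ (rat_single j F₀.one_mem) (rat_single l F₀.one_mem) (by simp [hjl.symm])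
  let S : Subfield F :=
    { carrier := T
      add_mem' := fun {y z} hy hz j l hjl => by rw [Pi.single_add]; exact (hy j l hjl).add (hz j l hjl)
      zero_mem' := fun j l _ => by rw [Pi.single_zero]; exact InK.zero _
      neg_mem' := fun {y} hy j l hjl => by rw [Pi.single_neg]; exact (hy j l hjl).neg
      one_mem' := hone
      mul_mem' := hmul
      inv_mem' := fun y hy => by
        rcases eq_or_ne y 0 with rfl | hy0
        · rw [_root_.inv_zero]; intro j l _; rw [Pi.single_zero]; exact InK.zero _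
        · have h2 : 2 ≤ Fintype.card F := Fintype.one_lt_card
          have hinv : y⁻¹ = y ^ (Fintype.card F - 2) := by
            refine inv_eq_of_mul_eq_one_right ?_
            rw [← pow_succ', show Fintype.card F - 2 + 1 = Fintype.card F - 1 by omega]
            exact FiniteField.pow_card_sub_one_eq_one y hy0
          rw [hinv]
          induction (Fintype.card F - 2) with
          | zero => rw [pow_zero]; exact hone
          | succ n ih => rw [pow_succ]; exact hmul ih hy }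
  have hle : F₀ ≤ S := fun z hz j l hjl => hK _ _ (rat_single j F₀.one_mem) (rat_single l hz) (by simp [hjl.symm])
  have htop := eq_top_of_lt hr hcard S hle (show c ∈ S from spread hK hn hki h) hc
  have hall : K.comap (Matrix.SpecialLinearGroup.toGL : Matrix.SpecialLinearGroup ι F →* GL ι F) = ⊤ := by
    refine Cfsg.Agent.Lib.Classical.SL_eq_top_of_transvection_mem fun i j hij b => ?_
    have hb : b ∈ S := htop.symm ▸ Subfield.mem_top b
    obtain ⟨h1, hk⟩ := hb i j hij
    show Matrix.SpecialLinearGroup.toGL _ ∈ K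
    convert hk using 1
    refine Units.ext ?_
    show (1 : Matrix ι ι F) + Matrix.single i j b = 1 + Matrix.vecMulVec _ _
    rw [Matrix.vecMulVec_eq Unit]
    congr 1
    ext p q
    by_cases hp : p = i <;> by_cases hq : q = j <;> simp [Matrix.single, Matrix.mul_apply, hp, hq, Ne.symm]
  intro g hg
  have hrange : g ∈ (Matrix.SpecialLinearGroup.toGL : Matrix.SpecialLinearGroup ι F →* GL ι F).range := by
    refine ⟨⟨(g : Matrix ι ι F), congrArg Units.val (MonoidHom.mem_ker.mp hg)⟩, Units.ext rfl⟩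
  obtain ⟨s, rfl⟩ := hrange
  have : s ∈ K.comap (Matrix.SpecialLinearGroup.toGL : Matrix.SpecialLinearGroup ι F →* GL ι F) := by
    rw [hall]; trivial
  exact this

include hK hn hr hcard in
/-- A rational pair with an irrational scalar gives everything. -/
theorem of_scalar {v b : ι → F} (hv : Rat F₀ v) (hv0 : v ≠ 0) (hb : Rat F₀ b) (hb0 : b ≠ 0) {c : F} (hc : c ∉ F₀)
    (h : InK K v (c • b)) : Cfsg.Geo.specialLinear ι F ≤ K := by
  have hne : ∀ {d : F}, d ∈ F₀ → d ≠ 0 → c * d ∉ F₀ := fun {d} hd hd0 hm => hc (by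
    have := F₀.mul_mem hm (F₀.inv_mem hd)
    rwa [mul_assoc, mul_inv_cancel₀ hd0, mul_one] at this)
  -- the axis gets a zero coordinate
  obtain ⟨k, hk⟩ : ∃ k, b k ≠ 0 := by by_contra hh; push Not at hh; exact hb0 (funext hh)
  obtain ⟨β, hβ, hβ0, hβv, hβk⟩ := rat_perp hn hv (rat_single k F₀.one_mem)
  rw [single_one_dotProduct] at hβk
  have h1 := comm h (hK (Pi.single k 1) β (rat_single k F₀.one_mem) hβ (by simp [hβk]))
    (by rw [dotProduct_comm]; exact hβv)
  rw [dotProduct_single_one, Pi.smul_apply, smul_eq_mul] at h1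
  -- the centre becomes a basis vector
  obtain ⟨c', hc', h2⟩ : ∃ c', c' ∉ F₀ ∧ InK K (Pi.single k 1) (c' • β) := by
    by_cases hvk : ∃ l, l ≠ k ∧ v l ≠ 0
    · obtain ⟨l, hlk, hvl⟩ := hvk
      have h2 := comm (hK (Pi.single k 1) (Pi.single l 1) (rat_single k F₀.one_mem) (rat_single l F₀.one_mem)
        (by simp [hlk])) h1 (by simp [hβk])
      rw [single_one_dotProduct, smul_smul] at h2
      exact ⟨_, by rw [mul_comm (v l), mul_assoc]; exact hne (F₀.mul_mem (hb k) (hv l)) (mul_ne_zero hk hvl), h2⟩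
    · push Not at hvk
      have hvv : v = (v k) • Pi.single k 1 := funext fun l => by
        by_cases hl : l = k
        · subst hl; simp
        · simp [hl, hvk l hl]
      have hvk0 : v k ≠ 0 := fun h0 => hv0 (by rw [hvv, h0, zero_smul])
      rw [hvv] at h1
      have h2 := h1.of_smul
      rw [smul_smul] at h2
      exact ⟨_, by rw [mul_comm (v k), mul_assoc]; exact hne (F₀.mul_mem (hb k) (hv k)) (mul_ne_zero hk hvk0), h2⟩
  obtain ⟨l, hl⟩ : ∃ l, β l ≠ 0 := by by_contra hh; push Not at hh; exact hβ0 (funext hh)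
  have hlk : l ≠ k := fun e => hl (e ▸ hβk)
  obtain ⟨i, hik, hil⟩ := exists_third hn k l
  have h3 := comm h2 (hK (Pi.single l 1) (Pi.single i 1) (rat_single l F₀.one_mem) (rat_single i F₀.one_mem)
    (by simp [hil])) (by simp [hik])
  rw [dotProduct_single_one, Pi.smul_apply, smul_eq_mul, ← Pi.single_smul, smul_eq_mul, mul_one] at h3
  refine finish hK hn hr hcard hik.symm (fun hm => hc' ?_) h3
  have := F₀.mul_mem hm (F₀.inv_mem (hβ l))
  rwa [mul_assoc, mul_inv_cancel₀ hl, mul_one] at this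

include hK hn hr hcard in
/-- A rational centre with an irrational functional gives everything. -/
theorem of_functional {v η : ι → F} (hv : Rat F₀ v) (hv0 : v ≠ 0) (hη : ¬ Rat F₀ η) (h : InK K v η) :
    Cfsg.Geo.specialLinear ι F ≤ K := by
  obtain ⟨i, hi⟩ := not_forall.mp hη
  obtain ⟨b, hb, hb0, hbv, hbi⟩ := rat_perp hn hv (rat_single i F₀.one_mem)
  rw [single_one_dotProduct] at hbi
  have h1 := comm h (hK (Pi.single i 1) b (rat_single i F₀.one_mem) hb (by simp [hbi]))
    (by rw [dotProduct_comm]; exact hbv)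
  rw [dotProduct_single_one] at h1
  exact of_scalar hK hn hr hcard hv hv0 hb hb0 hi h1

include hK hn hr hcard in
/-- A rational functional killing the irrational centre. -/
theorem of_killed {x ψ φ : ι → F} (hx : ∀ (c : F) y, Rat F₀ y → x ≠ c • y) (hψ : ψ ≠ 0) (hT : InK K x ψ)
    (hφ : Rat F₀ φ) (hφ0 : φ ≠ 0) (hφx : φ ⬝ᵥ x = 0) : Cfsg.Geo.specialLinear ι F ≤ K := by
  obtain ⟨c, hc0, h1⟩ : ∃ c : F, c ≠ 0 ∧ InK K x (c • φ) := by
    by_cases hw : ∀ w, Rat F₀ w → φ ⬝ᵥ w = 0 → ψ ⬝ᵥ w = 0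
    · obtain ⟨c, rfl⟩ := eq_smul_of_perp hφ hφ0 hw
      exact ⟨c, fun h0 => hψ (by rw [h0, zero_smul]), hT⟩
    · push Not at hw
      obtain ⟨w, hwR, hφw, hψw⟩ := hw
      exact ⟨_, hψw, comm hT (hK w φ hwR hφ hφw) hφx⟩
  obtain ⟨j, hj⟩ : ∃ j, x j * c ∉ F₀ := by
    by_contra hall
    push Not at hall
    refine hx c⁻¹ (fun j => x j * c) hall ?_
    funext j
    simp [hc0, mul_comm (x j) c]
  obtain ⟨u, hu, hu0, hφu, hju⟩ := rat_perp hn hφ (rat_single j F₀.one_mem)
  have h2 := comm (hK u (Pi.single j 1) hu (rat_single j F₀.one_mem) hju) h1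
    (by rw [smul_dotProduct, hφu, smul_zero])
  rw [single_one_dotProduct, smul_smul] at h2
  exact of_scalar hK hn hr hcard hu hu0 hφ hφ0 hj h2

include hK hn hr hcard in
/-- A rational vector killed by the axis of a transvection with irrational centre. -/
theorem of_axis {x ψ v : ι → F} (hx : ∀ (c : F) y, Rat F₀ y → x ≠ c • y) (hψ : ψ ≠ 0) (hT : InK K x ψ)
    (hv : Rat F₀ v) (hv0 : v ≠ 0) (hψv : ψ ⬝ᵥ v = 0) : Cfsg.Geo.specialLinear ι F ≤ K := by
  obtain ⟨b, hb, hbv, hbx⟩ : ∃ b, Rat F₀ b ∧ v ⬝ᵥ b = 0 ∧ x ⬝ᵥ b ≠ 0 := by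
    by_contra hc
    push Not at hc
    obtain ⟨c, hcx⟩ := eq_smul_of_perp hv hv0 hc
    exact hx c v hv hcx
  have h1 := comm (hK v b hv hb (by rw [dotProduct_comm]; exact hbv)) hT hψv
  by_cases hrat : Rat F₀ ((b ⬝ᵥ x) • ψ)
  · refine of_killed hK hn hr hcard hx hψ hT hrat (fun h0 => ?_) (by rw [smul_dotProduct, hT.dot, smul_zero])
    rcases smul_eq_zero.mp h0 with h | h
    · exact hbx (by rw [dotProduct_comm]; exact h)
    · exact hψ h
  · exact of_functional hK hn hr hcard hv hv0 hrat h1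

/-- The elements of `K` acting on the plane of `v` and `x` through the matrices of `SL₂`. -/
def planeGroup (K : Subgroup (GL ι F)) (v x : ι → F) : Subgroup (Matrix.SpecialLinearGroup (Fin 2) F) where
  carrier := {M | ∃ g ∈ K, (g : Matrix ι ι F) *ᵥ v = M 0 0 • v + M 1 0 • x ∧
    (g : Matrix ι ι F) *ᵥ x = M 0 1 • v + M 1 1 • x}
  mul_mem' := by
    rintro M N ⟨g, hg, hgv, hgx⟩ ⟨h, hh, hhv, hhx⟩
    refine ⟨g * h, K.mul_mem hg hh, ?_, ?_⟩ <;>
      simp only [Units.val_mul, ← Matrix.mulVec_mulVec, hhv, hhx, Matrix.mulVec_add, Matrix.mulVec_smul, hgv, hgx,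
        Matrix.SpecialLinearGroup.coe_mul, Matrix.mul_apply, Fin.sum_univ_two] <;> module
  one_mem' := ⟨1, K.one_mem, by simp, by simp⟩
  inv_mem' := by
    rintro M ⟨g, hg, hgv, hgx⟩
    have hd : (M 0 0 : F) * M 1 1 - M 0 1 * M 1 0 = 1 := by rw [← Matrix.det_fin_two]; exact M.2
    refine ⟨g⁻¹, K.inv_mem hg, ?_, ?_⟩ <;>
    · apply Matrix.mulVec_injective_iff_isUnit.mpr g.isUnit
      simp only [Matrix.mulVec_mulVec, ← Units.val_mul, mul_inv_cancel, Units.val_one, Matrix.one_mulVec,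
        Matrix.mulVec_add, Matrix.mulVec_smul, hgv, hgx, Matrix.SpecialLinearGroup.coe_inv, Matrix.adjugate_fin_two,
        Matrix.of_apply, Matrix.cons_val', Matrix.cons_val_zero, Matrix.cons_val_one, Matrix.empty_val',
        Matrix.cons_val_fin_one]
      match_scalars <;> first | linear_combination hd | linear_combination -hd | ring

open Cfsg.Agent.Lib.Geometry.Dickson in
include hK hr hcard in
/-- The general position case. -/
theorem of_general (hn' : 8 ≤ Fintype.card ι) {x ψ : ι → F} (hA : ∀ φ, Rat F₀ φ → φ ≠ 0 → φ ⬝ᵥ x ≠ 0)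
    (hB : ∀ v, Rat F₀ v → v ≠ 0 → ψ ⬝ᵥ v ≠ 0) (hT : InK K x ψ) : Cfsg.Geo.specialLinear ι F ≤ K := by
  classical
  haveI : Fintype F := Fintype.ofFinite F
  have hn : 3 ≤ Fintype.card ι := by omega
  obtain ⟨i₀⟩ : Nonempty ι := Fintype.card_pos_iff.mp (by omega)
  set v : ι → F := Pi.single i₀ 1 with hv
  have hvR : Rat F₀ v := rat_single i₀ F₀.one_mem
  have hv0 : v ≠ 0 := fun h => one_ne_zero (α := F) (by simpa [hv] using congrFun h i₀)
  set t := ψ ⬝ᵥ v with ht
  have ht0 : t ≠ 0 := hB v hvR hv0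
  set ψ' := t⁻¹ • ψ with hψ'
  have hT' : InK K (t • x) ψ' := InK.smul (by rwa [hψ', smul_smul, mul_inv_cancel₀ ht0, one_smul]) ht0
  set x' := t • x with hx'
  have hψv : ψ' ⬝ᵥ v = 1 := by rw [hψ', smul_dotProduct, ← ht, smul_eq_mul, inv_mul_cancel₀ ht0]
  have hA' : ∀ φ, Rat F₀ φ → φ ≠ 0 → φ ⬝ᵥ x' ≠ 0 := fun φ h h0 => by
    rw [hx', dotProduct_smul, smul_eq_mul]
    exact mul_ne_zero ht0 (hA φ h h0)
  let G := planeGroup K v x'
  have hlow : lower 1 ∈ G := by
    obtain ⟨h1, hk⟩ := hT'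
    exact ⟨_, hk, by simp [tv_mulVec, hψv, coe_lower], by simp [tv_mulVec, h1, coe_lower]⟩
  have hup : ∀ φ, Rat F₀ φ → φ ⬝ᵥ v = 0 → upper (φ ⬝ᵥ x') ∈ G := fun φ hφ hφv => by
    obtain ⟨h1, hk⟩ := hK v φ hvR hφ hφv
    exact ⟨_, hk, by simp [tv_mulVec, hφv, coe_upper], by simp [tv_mulVec, coe_upper, add_comm]⟩
  set G' := G ⊔ Subgroup.center (Matrix.SpecialLinearGroup (Fin 2) F) with hG'
  -- many parameters
  let B := {φ : ι → F₀ // φ i₀ = 0}
  have hBrat : ∀ φ : B, Rat F₀ (fun i => (φ.1 i : F)) ∧ (fun i => (φ.1 i : F)) ⬝ᵥ v = 0 := fun φ =>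
    ⟨fun i => (φ.1 i).2, by rw [hv, dotProduct_single_one]; exact congrArg Subtype.val φ.2⟩
  let ev : B → upperParams G' := fun φ =>
    ⟨(fun i => (φ.1 i : F)) ⬝ᵥ x', Subgroup.mem_sup_left (hup _ (hBrat φ).1 (hBrat φ).2)⟩
  have hev : Function.Injective ev := by
    intro φ χ h
    have h' : (fun i => (φ.1 i : F)) ⬝ᵥ x' = (fun i => (χ.1 i : F)) ⬝ᵥ x' := congrArg Subtype.val h
    by_contra hne
    refine hA' ((fun i => (φ.1 i : F)) - fun i => (χ.1 i : F)) (fun i => F₀.sub_mem (φ.1 i).2 (χ.1 i).2)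
      (fun h0 => hne (Subtype.ext (funext fun i => Subtype.ext (sub_eq_zero.mp (congrFun h0 i))))) ?_
    rw [sub_dotProduct, h', sub_self]
  have hBcard : Nat.card F₀ ^ (Fintype.card ι - 1) = Nat.card B := by
    let e : B ≃ ({i : ι // i ≠ i₀} → F₀) :=
      { toFun := fun φ i => φ.1 i
        invFun := fun f => ⟨fun i => if h : i = i₀ then 0 else f ⟨i, h⟩, dif_pos rfl⟩
        left_inv := fun φ => Subtype.ext (funext fun i => by
          by_cases h : i = i₀
          · subst h; simp [φ.2]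
          · simp [h])
        right_inv := fun f => funext fun i => by simp [i.2] }
    rw [Nat.card_congr e, Nat.card_fun, Nat.card_eq_fintype_card (α := {i : ι // i ≠ i₀}),
      Fintype.card_subtype_compl, Fintype.card_subtype_eq]
  have h2 : 2 ≤ Nat.card F₀ := Finite.one_lt_card
  have hbig : 2 ^ 7 ≤ Nat.card F₀ ^ (Fintype.card ι - 1) :=
    (Nat.pow_le_pow_left h2 7).trans (Nat.pow_le_pow_right (by omega) (by omega))
  have hparams := hBcard ▸ Nat.card_le_card_of_injective ev hev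
  obtain ⟨S, hSu, hSl⟩ := exists_subfield G' le_sup_right (Subgroup.mem_sup_left hlow) (by omega)
  have hmemS : ∀ φ : B, (fun i => (φ.1 i : F)) ⬝ᵥ x' ∈ S := fun φ => (hSu _).mp (ev φ).2
  obtain ⟨i₁, hi₁, -⟩ := exists_third hn i₀ i₀
  have hle : F₀ ≤ S := by
    intro z hz
    have hsingle : ∀ (z : F) (hz : z ∈ F₀), z * x' i₁ ∈ S := fun z hz => by
      have := hmemS ⟨Pi.single i₁ ⟨z, hz⟩, by simp [hi₁.symm]⟩
      rwa [show (fun i => ((Pi.single i₁ (⟨z, hz⟩ : F₀) : ι → F₀) i : F)) = Pi.single i₁ z from funext fun i => by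
        by_cases h : i = i₁ <;> simp [h], single_dotProduct] at this
    have hx1 : x' i₁ ≠ 0 := fun h0 => hA' (Pi.single i₁ 1) (rat_single i₁ F₀.one_mem)
      (fun h => one_ne_zero (α := F) (by simpa using congrFun h i₁)) (by rw [single_one_dotProduct, h0])
    have h1 := hsingle 1 F₀.one_mem
    rw [one_mul] at h1
    have := S.div_mem (hsingle z hz) h1
    rwa [mul_div_cancel_right₀ _ hx1] at this
  have htop : S = ⊤ := by
    obtain ⟨c, hc, hc0⟩ : ∃ c ∈ S, c ∉ F₀ := by
      by_contra hc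
      push Not at hc
      have h1 : Nat.card (upperParams G') ≤ Nat.card F₀ :=
        Nat.card_le_card_of_injective (fun z => (⟨z.1, hc _ ((hSu _).mp z.2)⟩ : F₀))
          fun a b h => Subtype.ext (Subtype.mk.injEq _ _ _ _ ▸ h)
      have h3 := hparams.trans h1
      have h4 : Nat.card F₀ ^ 2 ≤ Nat.card F₀ ^ (Fintype.card ι - 1) := Nat.pow_le_pow_right (by omega) (by omega)
      rw [pow_two] at h4
      have h5 : 2 * Nat.card F₀ ≤ Nat.card F₀ * Nat.card F₀ := Nat.mul_le_mul_right _ h2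
      omega
    exact eq_top_of_lt hr hcard S hle hc hc0
  have hG'top : G' = ⊤ := eq_top_of_upper_lower (fun y => (hSu y).mpr (htop ▸ Subfield.mem_top y))
    (fun y => (hSl y).mpr (htop ▸ Subfield.mem_top y))
  -- an element scaling the rational centre
  set A : Set F := Set.range fun φ : B => (fun i => (φ.1 i : F)) ⬝ᵥ x' with hAdef
  have hAcard : A.ncard < Nat.card F := by
    have hfull : Function.Injective fun φ : ι → F₀ => (fun i => (φ i : F)) ⬝ᵥ x' := by
      intro φ χ h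
      by_contra hne
      refine hA' ((fun i => (φ i : F)) - fun i => (χ i : F)) (fun i => F₀.sub_mem (φ i).2 (χ i).2)
        (fun h0 => hne (funext fun i => Subtype.ext (sub_eq_zero.mp (congrFun h0 i)))) ?_
      rw [sub_dotProduct]
      exact sub_eq_zero.mpr h
    have h1 := Nat.card_le_card_of_injective _ hfull
    rw [Nat.card_fun, Nat.card_eq_fintype_card (α := ι)] at h1
    have h3 : A.ncard ≤ Nat.card B := by
      rw [← Nat.card_coe_set_eq]
      exact Finite.card_range_le _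
    rw [← hBcard] at h3
    refine lt_of_le_of_lt h3 (lt_of_lt_of_le (Nat.pow_lt_pow_right (by omega) (by omega)) h1)
  have hsingle1 : (fun i => ((Pi.single i₁ (1 : F₀) : ι → F₀) i : F)) = Pi.single i₁ (1 : F) := funext fun i => by
    by_cases h : i = i₁ <;> simp [h]
  set φ₀ : ι → F := Pi.single i₁ 1 with hφ₀
  have hφ₀v : φ₀ ⬝ᵥ v = 0 := by simp [hφ₀, hv, hi₁.symm]
  have ha0 : φ₀ ⬝ᵥ x' ≠ 0 := hA' φ₀ (rat_single i₁ F₀.one_mem)
    (fun h => one_ne_zero (α := F) (by simpa [hφ₀] using congrFun h i₁))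
  obtain ⟨d, hd0, hd⟩ : ∃ d : F, d ≠ 0 ∧ d * d * (φ₀ ⬝ᵥ x') ∉ A := by
    by_contra hc
    push Not at hc
    have hadd : ∀ {y z}, y ∈ A → z ∈ A → y - z ∈ A := by
      rintro _ _ ⟨φ, rfl⟩ ⟨χ, rfl⟩
      exact ⟨⟨φ.1 - χ.1, by simp [φ.2, χ.2]⟩, by
        rw [← sub_dotProduct]; exact congrArg (· ⬝ᵥ x') (funext fun i => by simp)⟩
    have hsq : ∀ d : F, d * d * (φ₀ ⬝ᵥ x') ∈ A := fun d => by
      by_cases hd : d = 0
      · exact ⟨⟨0, rfl⟩, by simp [hd, dotProduct]⟩
      · exact hc d hd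
    refine absurd hAcard (not_lt.mpr (le_of_eq ?_))
    rw [show A = Set.univ from Set.eq_univ_of_forall fun y => ?_, Set.ncard_univ]
    set a₀ := φ₀ ⬝ᵥ x'
    by_cases h2F : (2 : F) = 0
    · haveI : CharP F 2 := CharTwo.of_one_ne_zero_of_two_eq_zero one_ne_zero h2F
      obtain ⟨d, hd⟩ := isSquare_of_charTwo' (y / a₀)
      have := hsq d
      rwa [← hd, div_mul_cancel₀ _ ha0] at this
    · have := hadd (hsq ((y / a₀ + 1) / 2)) (hsq ((y / a₀ - 1) / 2))
      rwa [show (y / a₀ + 1) / 2 * ((y / a₀ + 1) / 2) * a₀ - (y / a₀ - 1) / 2 * ((y / a₀ - 1) / 2) * a₀ = y by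
        field_simp; ring] at this
  let D : Matrix.SpecialLinearGroup (Fin 2) F := ⟨!![d, 0; 0, d⁻¹], by simp [Matrix.det_fin_two, hd0]⟩
  have hD : D ∈ G' := by rw [hG'top]; trivial
  rw [hG'] at hD
  obtain ⟨M, hM, z, hz, hMz⟩ := (Subgroup.mem_sup_of_normal_right).mp hD
  obtain ⟨ε, hε, hMD⟩ : ∃ ε : F, ε * ε = 1 ∧ ∀ i j, M i j = ε * D i j := by
    rcases Cfsg.Agent.Lib.SL2Trace.mem_center_iff.mp hz with rfl | rfl
    · exact ⟨1, one_mul 1, fun i j => by rw [← hMz, mul_one, one_mul]⟩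
    · exact ⟨-1, by ring, fun i j => by rw [← hMz, mul_neg, mul_one, Matrix.SpecialLinearGroup.coe_neg]; simp⟩
  obtain ⟨g, hgK, hgv, hgx⟩ := hM
  rw [hMD, hMD] at hgv hgx
  simp [D] at hgv hgx
  have hed : ε * d ≠ 0 := mul_ne_zero (left_ne_zero_of_mul_eq_one hε) hd0
  have h1 := (hK v φ₀ hvR (rat_single i₁ F₀.one_mem) hφ₀v).conj hgK
  rw [hgv] at h1
  have h2 := h1.of_smul
  refine of_functional hK hn hr hcard hvR hv0 (fun hrat => hd ?_) h2
  set η := (ε * d) • (φ₀ ᵥ* ((g⁻¹ : GL ι F) : Matrix ι ι F)) with hη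
  have hgx' : ((g⁻¹ : GL ι F) : Matrix ι ι F) *ᵥ x' = (ε * d) • x' := by
    apply Matrix.mulVec_injective_iff_isUnit.mpr g.isUnit
    rw [Matrix.mulVec_mulVec, ← Units.val_mul, mul_inv_cancel, Units.val_one, Matrix.one_mulVec, Matrix.mulVec_smul,
      hgx, smul_smul, show ε * d * (ε * d⁻¹) = 1 by field_simp; linear_combination hε, one_smul]
  have hηx : η ⬝ᵥ x' = d * d * (φ₀ ⬝ᵥ x') := by
    rw [hη, smul_dotProduct, ← Matrix.dotProduct_mulVec, hgx', dotProduct_smul, smul_eq_mul, smul_eq_mul]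
    linear_combination (d * d * (φ₀ ⬝ᵥ x')) * hε
  refine ⟨⟨fun i => ⟨η i, hrat i⟩, Subtype.ext ?_⟩, hηx⟩
  have := h2.dot
  rw [hv, dotProduct_single_one] at this
  exact this

include hK hr hcard in
/-- The criterion. -/
theorem specialLinear_le (hn' : 8 ≤ Fintype.card ι) {x ψ : ι → F} (hx : ∀ (c : F) y, Rat F₀ y → x ≠ c • y)
    (hψ : ψ ≠ 0) (hT : InK K x ψ) : Cfsg.Geo.specialLinear ι F ≤ K := by
  by_cases hA : ∀ φ, Rat F₀ φ → φ ≠ 0 → φ ⬝ᵥ x ≠ 0
  · by_cases hB : ∀ v, Rat F₀ v → v ≠ 0 → ψ ⬝ᵥ v ≠ 0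
    · exact of_general hK hr hcard hn' hA hB hT
    · push Not at hB
      obtain ⟨v, hv, hv0, hψv⟩ := hB
      exact of_axis hK (by omega) hr hcard hx hψ hT hv hv0 hψv
  · push Not at hA
    obtain ⟨φ, hφ, hφ0, hφx⟩ := hA
    exact of_killed hK (by omega) hr hcard hx hψ hT hφ hφ0 hφx

end endgame

end Cfsg.Agent.Lib.MaxSub.LinSubfield
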