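import Cfsg.Agent.Lib.QuadFin.Normal
import Cfsg.Agent.Lib.QuadFin.WittIndex
import Cfsg.Agent.Lib.Geometry.OrthNegOne
import Cfsg.Prelude.Def_GeometricClasses
import Mathlib

/-!
The elliptic quadratic form on a field with `q ^ (2 * d)` elements, and the elements of odd prime order dividing
`q ^ d + 1` that it gives in `Ω⁻`.
-/

set_option autoImplicit false
set_option maxHeartbeats 1000000

namespace Cfsg.Agent.Lib.MaxSub.MinusModel

open Matrix
open QuadraticMap (polarBilin)
open Cfsg.Agent.Lib.Geometry (matQuad plusMatrix minusMatrix quad_polar_self quad_polar_comm)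
open Cfsg.Agent.Lib.QuadFin (IsHypBasis IsEllBasis quad_ext_basis)

attribute [-simp] QuadraticMap.polarBilin_apply_apply

section Normal

variable {F V : Type*} [Field F] [AddCommGroup V] [Module F V] [FiniteDimensional F V] {Q : QuadraticForm F V}

theorem hyp_apply {m : ℕ} {b : Module.Basis (Fin m ⊕ Fin m) F V} (hb : IsHypBasis Q b) (v : V) :
    Q v = Cfsg.quadFormPlus m F (b.equivFun v) := by
  classical
  obtain ⟨h1, h2, h3⟩ := hb
  rw [congrFun (Geometry.quadFormPlus_eq m) (b.equivFun v)]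
  refine quad_ext_basis Q b ((matQuad (plusMatrix m F)).comp b.equivFun.toLinearMap) ?_ ?_ v
  · intro k
    rw [QuadraticMap.comp_apply, LinearEquiv.coe_coe, Module.Basis.equivFun_apply, Module.Basis.repr_self,
      Finsupp.single_eq_pi_single, ← congrFun (Geometry.quadFormPlus_eq m)]
    rcases k with i | i <;> simp [(h1 i).1, (h1 i).2, Cfsg.quadFormPlus]
  · intro k l
    have hcomp : ∀ x y, polarBilin ((matQuad (plusMatrix m F)).comp b.equivFun.toLinearMap) x y =
        polarBilin (matQuad (plusMatrix m F)) (b.equivFun x) (b.equivFun y) := fun x y => by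
      simp [QuadraticMap.polarBilin_apply_apply, QuadraticMap.polar, map_add]
    have e1 : ∀ i j, polarBilin Q (b (Sum.inl i)) (b (Sum.inr j)) = if i = j then 1 else 0 := h2
    have e4 : ∀ i j, polarBilin Q (b (Sum.inr i)) (b (Sum.inl j)) = if j = i then 1 else 0 := fun i j => by
      rw [quad_polar_comm]; exact e1 j i
    have e2 : ∀ i j, polarBilin Q (b (Sum.inl i)) (b (Sum.inl j)) = 0 := fun i j => (h3 i j).1
    have e3 : ∀ i j, polarBilin Q (b (Sum.inr i)) (b (Sum.inr j)) = 0 := fun i j => (h3 i j).2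
    rw [hcomp]
    simp only [Module.Basis.equivFun_apply, Module.Basis.repr_self, Finsupp.single_eq_pi_single,
      Geometry.polarBilin_matQuad_single]
    rcases k with i | i <;> rcases l with j | j <;>
      (try simp only [e1, e2, e3, e4]) <;>
      simp [plusMatrix, Matrix.fromBlocks, Matrix.one_apply, eq_comm]

theorem ell_apply {k : ℕ} {b : Module.Basis ((Fin k ⊕ Fin k) ⊕ Fin 2) F V} {ζ : F} (hb : IsEllBasis Q b ζ) (v : V) :
    Q v = Cfsg.quadFormMinus k F 1 ζ (b.equivFun v) := by
  classical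
  obtain ⟨-, h1, h2, h3, h4, h5, h6, h7⟩ := hb
  rw [congrFun (Geometry.quadFormMinus_eq k (1 : F) ζ) (b.equivFun v)]
  refine quad_ext_basis Q b ((matQuad (minusMatrix k (1 : F) ζ)).comp b.equivFun.toLinearMap) ?_ ?_ v
  · intro j
    rw [QuadraticMap.comp_apply, LinearEquiv.coe_coe, Module.Basis.equivFun_apply, Module.Basis.repr_self,
      Finsupp.single_eq_pi_single, ← congrFun (Geometry.quadFormMinus_eq k (1 : F) ζ)]
    rcases j with (i | i) | j
    · simp [(h1 i).1, Cfsg.quadFormMinus]
    · simp [(h1 i).2, Cfsg.quadFormMinus]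
    · fin_cases j
      · simp [h5, Cfsg.quadFormMinus]
      · simp [h7, Cfsg.quadFormMinus]
  · intro x y
    have hcomp : ∀ x y, polarBilin ((matQuad (minusMatrix k (1 : F) ζ)).comp b.equivFun.toLinearMap) x y =
        polarBilin (matQuad (minusMatrix k (1 : F) ζ)) (b.equivFun x) (b.equivFun y) := fun x y => by
      simp [QuadraticMap.polarBilin_apply_apply, QuadraticMap.polar, map_add]
    have s0 : polarBilin Q (b (Sum.inr 0)) (b (Sum.inr 0)) = 1 + 1 := by rw [quad_polar_self, h5]; ring
    have s1 : polarBilin Q (b (Sum.inr 1)) (b (Sum.inr 1)) = ζ + ζ := by rw [quad_polar_self, h7]; ring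
    have h6' : polarBilin Q (b (Sum.inr 0)) (b (Sum.inr 1)) = 1 := h6
    have h6c : polarBilin Q (b (Sum.inr 1)) (b (Sum.inr 0)) = 1 := by rw [quad_polar_comm]; exact h6'
    have hA : ∀ i (j : Fin 2), polarBilin Q (b (Sum.inl (Sum.inl i))) (b (Sum.inr j)) = 0 := fun i j => (h4 i j).1
    have hB : ∀ i (j : Fin 2), polarBilin Q (b (Sum.inl (Sum.inr i))) (b (Sum.inr j)) = 0 := fun i j => (h4 i j).2
    have hA' : ∀ i (j : Fin 2), polarBilin Q (b (Sum.inr j)) (b (Sum.inl (Sum.inl i))) = 0 := fun i j => by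
      rw [quad_polar_comm]; exact hA i j
    have hB' : ∀ i (j : Fin 2), polarBilin Q (b (Sum.inr j)) (b (Sum.inl (Sum.inr i))) = 0 := fun i j => by
      rw [quad_polar_comm]; exact hB i j
    have hC : ∀ i j, polarBilin Q (b (Sum.inl (Sum.inl i))) (b (Sum.inl (Sum.inr j))) = if i = j then 1 else 0 := h2
    have hC' : ∀ i j, polarBilin Q (b (Sum.inl (Sum.inr i))) (b (Sum.inl (Sum.inl j))) = if j = i then 1 else 0 :=
      fun i j => by rw [quad_polar_comm]; exact hC j i
    have hD : ∀ i j, polarBilin Q (b (Sum.inl (Sum.inl i))) (b (Sum.inl (Sum.inl j))) = 0 := fun i j => (h3 i j).1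
    have hE : ∀ i j, polarBilin Q (b (Sum.inl (Sum.inr i))) (b (Sum.inl (Sum.inr j))) = 0 := fun i j => (h3 i j).2
    rw [hcomp]
    simp only [Module.Basis.equivFun_apply, Module.Basis.repr_self, Finsupp.single_eq_pi_single,
      Geometry.polarBilin_matQuad_single]
    rcases x with (i | i) | x <;> rcases y with (j | j) | y <;> (try fin_cases x) <;> (try fin_cases y) <;>
      (try simp only [hA, hA', hB, hB', hC, hC', hD, hE, h6', h6c, s0, s1]) <;>
      simp [minusMatrix, plusMatrix, Matrix.fromBlocks, Matrix.one_apply, eq_comm, hA, hA', hB, hB', hC, hC', hD, hE, h6', h6c, s0, s1]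

/-- Two anisotropic forms `x² + x y + ζ y²` are isometric. -/
theorem zeta_change [Finite F] {ζ ζ' : F} (hζ : ∀ t : F, t ^ 2 + t + ζ ≠ 0) (hζ' : ∀ t : F, t ^ 2 + t + ζ' ≠ 0) (k : ℕ) :
    ∃ e : ((Fin k ⊕ Fin k) ⊕ Fin 2 → F) ≃ₗ[F] ((Fin k ⊕ Fin k) ⊕ Fin 2 → F),
      ∀ v, Cfsg.quadFormMinus k F 1 ζ' v = Cfsg.quadFormMinus k F 1 ζ (e v) := by
  classical
  letI := Fintype.ofFinite F
  obtain ⟨α, hα, hα1⟩ : ∃ α : F, (α - α ^ 2) * (1 - 4 * ζ) = ζ' - ζ ∧ 1 - 2 * α ≠ 0 := by
    by_cases h2 : (2 : F) = 0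
    · haveI : CharP F 2 := CharTwo.of_one_ne_zero_of_two_eq_zero one_ne_zero h2
      let P : F →+ F :=
        { toFun := fun t => t ^ 2 + t
          map_zero' := by simp
          map_add' := fun s t => by rw [CharTwo.add_sq]; abel }
      have hker : P.ker.index = 2 ∨ True := Or.inr trivial
      have hk : Nat.card P.ker = 2 := by
        rw [Nat.card_eq_two_iff]
        refine ⟨⟨0, by simp⟩, ⟨1, by
          show (1 : F) ^ 2 + 1 = 0
          linear_combination h2⟩, by simp, Set.eq_univ_of_forall fun x => ?_⟩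
        have hx : (x : F) * ((x : F) + 1) = 0 := by
          have : (x : F) ^ 2 + x = 0 := x.2
          linear_combination this
        rcases mul_eq_zero.1 hx with h | h
        · exact Or.inl (Subtype.ext h)
        · exact Or.inr (Subtype.ext (show (x : F) = 1 by linear_combination h - h2))
      have hidx : P.range.index = 2 := by
        have h1 := P.range.card_mul_index
        have h3 := P.ker.card_mul_index
        rw [AddSubgroup.index_ker, hk] at h3
        have hpos : 0 < Nat.card P.range := Nat.card_pos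
        rw [← h3, Nat.mul_comm 2] at h1
        exact Nat.eq_of_mul_eq_mul_left hpos h1
      have hz : ζ ∉ P.range ∧ ζ' ∉ P.range := by
        refine ⟨?_, ?_⟩
        · rintro ⟨t, ht⟩
          exact hζ t (by rw [show t ^ 2 + t = ζ from ht]; linear_combination ζ * h2)
        · rintro ⟨t, ht⟩
          exact hζ' t (by rw [show t ^ 2 + t = ζ' from ht]; linear_combination ζ' * h2)
      obtain ⟨t, ht⟩ : ζ' + ζ ∈ P.range := (AddSubgroup.add_mem_iff_of_index_two hidx).2 (iff_of_false hz.2 hz.1)
      refine ⟨t, ?_, ?_⟩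
      · have ht' : t ^ 2 + t = ζ' + ζ := ht
        linear_combination ht' + (-(t ^ 2) - 2 * (t - t ^ 2) * ζ + ζ) * h2
      · rw [h2, zero_mul, sub_zero]; exact one_ne_zero
    · have hD : ∀ z : F, (∀ t : F, t ^ 2 + t + z ≠ 0) → ¬ IsSquare (1 - 4 * z) := by
        rintro z hz ⟨s, hs⟩
        refine hz ((-1 + s) / 2) ?_
        field_simp
        linear_combination -hs
      have h1 := hD ζ hζ
      have h1' := hD ζ' hζ'
      have hne : 1 - 4 * ζ ≠ 0 := fun h => h1 ⟨0, by rw [h, mul_zero]⟩
      have hne' : 1 - 4 * ζ' ≠ 0 := fun h => h1' ⟨0, by rw [h, mul_zero]⟩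
      have hsq : IsSquare ((1 - 4 * ζ') / (1 - 4 * ζ)) := by
        rw [← quadraticChar_one_iff_isSquare (div_ne_zero hne' hne), div_eq_mul_inv, map_mul,
          (quadraticChar_neg_one_iff_not_isSquare (F := F)).2 h1']
        have : quadraticChar F (1 - 4 * ζ)⁻¹ = -1 := by
          refine (quadraticChar_neg_one_iff_not_isSquare (F := F)).2 fun h => h1 ?_
          rw [← inv_inv (1 - 4 * ζ)]
          exact h.inv
        rw [this]; ring
      obtain ⟨s, hs⟩ := hsq
      have hs0 : s ≠ 0 := fun h => div_ne_zero hne' hne (by rw [hs, h, mul_zero])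
      refine ⟨(1 - s) / 2, ?_, ?_⟩
      · field_simp at hs ⊢
        linear_combination hs
      · rw [show 1 - 2 * ((1 - s) / 2) = s by field_simp; ring]; exact hs0
  let L : ((Fin k ⊕ Fin k) ⊕ Fin 2 → F) →ₗ[F] ((Fin k ⊕ Fin k) ⊕ Fin 2 → F) :=
    { toFun := fun v => Sum.elim (fun i => v (.inl i)) ![v (.inr 0) + α * v (.inr 1), (1 - 2 * α) * v (.inr 1)]
      map_add' := fun v w => by
        funext i
        rcases i with i | i
        · simp
        · fin_cases i <;> simp <;> ring
      map_smul' := fun c v => by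
        funext i
        rcases i with i | i
        · simp
        · fin_cases i <;> simp <;> ring }
  have hinj : Function.Injective L := by
    refine (injective_iff_map_eq_zero L).2 fun v hv => ?_
    have h0 : v (.inr 0) + α * v (.inr 1) = 0 := congrFun hv (.inr 0)
    have h1 : (1 - 2 * α) * v (.inr 1) = 0 := congrFun hv (.inr 1)
    have h1' := (mul_eq_zero.1 h1).resolve_left hα1
    funext i
    rcases i with i | i
    · exact congrFun hv (.inl i)
    · fin_cases i
      · simpa [h1'] using h0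
      · exact h1'
  refine ⟨LinearEquiv.ofInjectiveEndo L hinj, fun v => ?_⟩
  show _ = Cfsg.quadFormMinus k F 1 ζ (L v)
  unfold Cfsg.quadFormMinus
  simp [L]
  linear_combination -(v (.inr 1)) ^ 2 * hα

end Normal

variable {F : Type*} [Field F] [Fintype F]

/-- The quadratic form of the model, with its symmetries. -/
theorem exists_model {d : ℕ} (hd : 2 ≤ d) (a b : F)
    (hab : ∀ x y : F, x ^ 2 + a * x * y + b * y ^ 2 = 0 → x = 0 ∧ y = 0) :
    ∃ (K : Type) (_ : Field K) (_ : Algebra F K) (_ : Fintype K) (σ : K ≃ₐ[F] K) (c : K)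
      (e : ((Fin (d - 1) ⊕ Fin (d - 1)) ⊕ Fin 2 → F) ≃ₗ[F] K),
      Fintype.card K = Fintype.card F ^ (2 * d) ∧ (∀ z, σ z = z ^ (Fintype.card F ^ d)) ∧
      c + σ c = 1 ∧ ∀ v, Cfsg.quadFormMinus (d - 1) F a b v = Algebra.trace F K (c * (e v * σ (e v))) := by
  classical
  obtain ⟨p, hp⟩ := CharP.exists F
  haveI : Fact p.Prime := ⟨CharP.char_is_prime F p⟩
  haveI : NeZero (2 * d) := ⟨by omega⟩
  let K := FiniteField.Extension F p (2 * d)
  have hKd : Module.finrank F K = 2 * d := FiniteField.finrank_extension F p (2 * d)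
  haveI : Finite K := Module.finite_of_finite F
  letI : Fintype K := Fintype.ofFinite K
  set q := Fintype.card F with hq
  have hq1 : 1 < q := Fintype.one_lt_card
  have hcK : Fintype.card K = q ^ (2 * d) := by rw [Module.card_eq_pow_finrank (K := F) (V := K), hKd]
  let σ : K ≃ₐ[F] K := FiniteField.frobeniusAlgEquivOfAlgebraic F K ^ d
  have hσ : ∀ z, σ z = z ^ (q ^ d) := fun z => by
    have := congrFun (AlgEquiv.coe_pow (FiniteField.frobeniusAlgEquivOfAlgebraic F K) d) z
    rw [show σ z = (⇑(FiniteField.frobeniusAlgEquivOfAlgebraic F K))^[d] z from this]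
    rw [FiniteField.coe_frobeniusAlgEquivOfAlgebraic, pow_iterate]
  have hσσ : ∀ z, σ (σ z) = z := fun z => by
    rw [hσ, hσ, ← pow_mul, ← pow_add, ← two_mul, ← hcK]
    exact FiniteField.pow_card z
  obtain ⟨θ, hθ⟩ : ∃ θ : K, θ + σ θ ≠ 0 := by
    by_contra hc
    push Not at hc
    have h1 := hc 1
    rw [map_one] at h1
    have hfix : ∀ z : K, z ^ (q ^ d) = z := fun z => by
      rw [← hσ]
      linear_combination hc z - z * h1
    have hle : Fintype.card K ≤ q ^ d := by
      have h1 : (Finset.univ : Finset K) ⊆ (Polynomial.X ^ (q ^ d) - Polynomial.X : Polynomial K).roots.toFinset := by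
        intro z _
        rw [Multiset.mem_toFinset, Polynomial.mem_roots (FiniteField.X_pow_card_sub_X_ne_zero K (Nat.one_lt_pow (by omega) hq1))]
        simp [hfix z]
      refine le_trans (Finset.card_le_card h1) ((Multiset.toFinset_card_le _).trans ((Polynomial.card_roots' _).trans ?_))
      rw [FiniteField.X_pow_card_sub_X_natDegree_eq K (Nat.one_lt_pow (by omega) hq1)]
    rw [hcK] at hle
    exact absurd hle (not_le.2 (Nat.pow_lt_pow_right hq1 (by omega)))
  set c := θ / (θ + σ θ) with hc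
  have hcc : c + σ c = 1 := by
    rw [hc, map_div₀, map_add, hσσ, add_comm (σ θ) θ, ← add_div, div_self hθ]
  have htr : ∀ z, Algebra.trace F K (σ z) = Algebra.trace F K z := fun z => Algebra.trace_eq_of_algEquiv σ z
  let B : K →ₗ[F] K →ₗ[F] F := LinearMap.mk₂ F (fun z w => Algebra.trace F K (c * (z * σ w)))
    (fun x y z => by rw [add_mul, mul_add, map_add]) (fun r x z => by rw [smul_mul_assoc, mul_smul_comm, map_smul])
    (fun x y z => by rw [map_add, mul_add, mul_add, map_add]) (fun r x z => by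
      rw [map_smul, mul_smul_comm, mul_smul_comm, map_smul])
  let QK : QuadraticForm F K := LinearMap.BilinMap.toQuadraticMap B
  have hQK : ∀ z, QK z = Algebra.trace F K (c * (z * σ z)) := fun z => rfl
  have hnd : (polarBilin QK).Nondegenerate := by
    have hp' : ∀ z w, polarBilin QK z w = Algebra.traceForm F K z (σ w) := by
      intro z w
      rw [QuadraticMap.polarBilin_apply_apply, LinearMap.BilinMap.polar_toQuadraticMap]
      show Algebra.trace F K (c * (z * σ w)) + Algebra.trace F K (c * (w * σ z)) = _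
      rw [← htr (c * (w * σ z)), map_mul σ, map_mul σ, hσσ, ← map_add, Algebra.traceForm_apply]
      congr 1
      linear_combination (z * σ w) * hcc
    have hN := traceForm_nondegenerate F K
    refine ⟨fun z hz => hN.1 z fun w => ?_, fun w hw => σ.injective ((hN.2 (σ w) fun z => ?_).trans (map_zero σ).symm)⟩
    · have := hz (σ w); rwa [hp', hσσ] at this
    · have := hw z; rwa [hp'] at this
  rcases QuadFin.exists_normal_basis QK hnd (m := d) (by omega) hKd with ⟨b', hb'⟩ | ⟨b', ζ, hb'⟩
  · -- the model is not hyperbolic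
    exfalso
    have hη : Nat.card (powMonoidHom (q ^ d + 1) : Kˣ →* Kˣ).ker = q ^ d + 1 := by
      rw [IsCyclic.card_powMonoidHom_ker, Nat.card_units, Nat.card_eq_fintype_card, hcK]
      refine Nat.gcd_eq_right ⟨q ^ d - 1, ?_⟩
      rw [← Nat.sq_sub_sq, one_pow, ← pow_mul, mul_comm]
    set H := (powMonoidHom (q ^ d + 1) : Kˣ →* Kˣ).ker
    let S := {u : Kˣ // QK (u : K) = 0}
    have hmul : ∀ (h : H) (u : Kˣ), QK ((h.1 * u : Kˣ) : K) = QK (u : K) := by
      intro h u
      have e : (h.1 : K) * σ (h.1 : K) = 1 := by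
        rw [hσ, ← pow_succ', ← Units.val_pow_eq_pow_val]
        exact congrArg Units.val (MonoidHom.mem_ker.1 h.2)
      rw [hQK, hQK, Units.val_mul, map_mul σ]
      refine congrArg (Algebra.trace F K) ?_
      linear_combination (c * ((u : K) * σ (u : K))) * e
    letI : MulAction H S :=
      { smul := fun h u => ⟨h.1 * u.1, by rw [hmul]; exact u.2⟩
        one_smul := fun u => Subtype.ext (one_mul _)
        mul_smul := fun g h u => Subtype.ext (mul_assoc _ _ _) }
    have hdvd : q ^ d + 1 ∣ Nat.card S := by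
      rw [← hη, Nat.card_congr (MulAction.selfEquivSigmaOrbits H S), Nat.card_sigma]
      refine Finset.dvd_sum fun o _ => ?_
      rw [Nat.card_congr (MulAction.orbitEquivQuotientStabilizer H o.out)]
      have hst : MulAction.stabilizer H o.out = ⊥ := by
        rw [Subgroup.eq_bot_iff_forall]
        intro h hh
        have e : h.1 * o.out.1 = o.out.1 := congrArg Subtype.val (MulAction.mem_stabilizer_iff.1 hh)
        exact Subtype.ext (mul_eq_right.1 e)
      rw [hst, ← Subgroup.index, Subgroup.index_bot]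
    -- count the singular vectors of the hyperbolic form
    let Z := {v : Fin d ⊕ Fin d → F // Cfsg.quadFormPlus d F v = 0 ∧ v ≠ 0}
    have hSZ : Nat.card S = Nat.card Z := by
      refine Nat.card_congr (Equiv.ofBijective (fun u => ⟨b'.equivFun (u.1 : K), by rw [← hyp_apply hb']; exact u.2,
        fun h => u.1.ne_zero (b'.equivFun.injective (h.trans (map_zero _).symm))⟩) ⟨?_, ?_⟩)
      · intro u w h
        exact Subtype.ext (Units.ext (b'.equivFun.injective (congrArg Subtype.val h)))
      · rintro ⟨v, hv, hv0⟩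
        refine ⟨⟨Units.mk0 (b'.equivFun.symm v) (fun h => hv0 ((LinearEquiv.map_eq_zero_iff _).1 h)), ?_⟩,
          Subtype.ext ?_⟩
        · rw [Units.val_mk0, hyp_apply hb', LinearEquiv.apply_symm_apply, hv]
        · exact LinearEquiv.apply_symm_apply _ _
    have hZ : Nat.card Z = (q ^ d - 1) * (q ^ (d - 1) + 1) := by
      have hpair : {v : Fin d ⊕ Fin d → F // Cfsg.quadFormPlus d F v = 0} ≃
          (x : Fin d → F) × {y : Fin d → F // ∑ i, x i * y i = 0} :=
        ((Equiv.sumArrowEquivProdArrow (Fin d) (Fin d) F).subtypeEquiv (q := fun P => ∑ i, P.1 i * P.2 i = 0)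
          (fun v => Iff.rfl)).trans (Equiv.subtypeProdEquivSigmaSubtype fun (x y : Fin d → F) => ∑ i, x i * y i = 0)
      have hfib : ∀ x : Fin d → F, Nat.card {y : Fin d → F // ∑ i, x i * y i = 0} =
          if x = 0 then q ^ d else q ^ (d - 1) := by
        intro x
        let φ : (Fin d → F) →ₗ[F] F := ∑ i, x i • LinearMap.proj i
        have hφ : ∀ y, φ y = ∑ i, x i * y i := fun y => by simp [φ, LinearMap.sum_apply]
        have heq : {y : Fin d → F // ∑ i, x i * y i = 0} ≃ LinearMap.ker φ :=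
          Equiv.subtypeEquivRight fun y => by rw [LinearMap.mem_ker, hφ]
        rw [Nat.card_congr heq, Nat.card_eq_fintype_card, Module.card_eq_pow_finrank (K := F)]
        have hrk := φ.finrank_range_add_finrank_ker
        rw [Module.finrank_fintype_fun_eq_card, Fintype.card_fin] at hrk
        split_ifs with hx
        · subst hx
          congr 1
          have : LinearMap.range φ = ⊥ := LinearMap.range_eq_bot.2 (LinearMap.ext fun y => by simp [hφ])
          rw [this, finrank_bot] at hrk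
          omega
        · obtain ⟨i0, hi0⟩ : ∃ i, x i ≠ 0 := Function.ne_iff.1 hx
          have hs : LinearMap.range φ = ⊤ := LinearMap.range_eq_top.2 fun y => ⟨Pi.single i0 (y / x i0), by
            rw [hφ, Finset.sum_eq_single i0]
            · simp only [Pi.single_eq_same]
              field_simp
            · intro i _ hi; simp [hi]
            · simp⟩
          rw [hs, finrank_top, Module.finrank_self] at hrk
          congr 1
          omega
      have hall : Nat.card {v : Fin d ⊕ Fin d → F // Cfsg.quadFormPlus d F v = 0} = (q ^ d - 1) * q ^ (d - 1) + q ^ d := by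
        rw [Nat.card_congr hpair, Nat.card_sigma]
        simp only [hfib]
        rw [Finset.sum_ite, Finset.sum_const, Finset.sum_const, smul_eq_mul, smul_eq_mul, Finset.filter_not,
          Finset.filter_eq', if_pos (Finset.mem_univ _), Finset.card_sdiff_of_subset (Finset.subset_univ _),
          Finset.card_singleton, Finset.card_univ, Fintype.card_fun, Fintype.card_fin]
        ring
      have hsub : Nat.card Z + 1 = Nat.card {v : Fin d ⊕ Fin d → F // Cfsg.quadFormPlus d F v = 0} := by
        rw [Nat.card_eq_fintype_card, Nat.card_eq_fintype_card, Fintype.card_subtype, Fintype.card_subtype]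
        have : (Finset.univ.filter fun v : Fin d ⊕ Fin d → F => Cfsg.quadFormPlus d F v = 0 ∧ v ≠ 0) =
            (Finset.univ.filter fun v : Fin d ⊕ Fin d → F => Cfsg.quadFormPlus d F v = 0).erase 0 := by
          ext v; simp [and_comm]
        rw [this]
        exact Finset.card_erase_add_one (Finset.mem_filter.2 ⟨Finset.mem_univ _, by simp [Cfsg.quadFormPlus]⟩)
      rw [hall] at hsub
      have : 1 ≤ q ^ d := Nat.one_le_pow _ _ (by omega)
      rw [Nat.mul_add, Nat.mul_one]
      omega
    rw [hSZ, hZ] at hdvd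
    -- `q ^ d - 1 ≡ -2` modulo `q ^ d + 1`
    have h1 : 1 ≤ q ^ d := Nat.one_le_pow _ _ (by omega)
    have h2 : q ^ d + 1 ∣ 2 * (q ^ (d - 1) + 1) := by
      have h3 : q ^ d + 1 ∣ (q ^ d - 1) * (q ^ (d - 1) + 1) + 2 * (q ^ (d - 1) + 1) := by
        rw [← Nat.add_mul, show q ^ d - 1 + 2 = q ^ d + 1 by omega]
        exact Dvd.intro _ rfl
      exact (Nat.dvd_add_right hdvd).1 h3
    have h4 : q * q ^ (d - 1) = q ^ d := by rw [← pow_succ']; congr 1; omega
    have h5 : 2 ≤ q ^ (d - 1) := le_trans (by omega : 2 ≤ q) (Nat.le_self_pow (by omega) q)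
    obtain ⟨k, hk⟩ := h2
    rcases k with _ | _ | k
    · omega
    · rcases Nat.lt_or_ge q 3 with hq3 | hq3
      · have : q = 2 := by omega
        rw [this] at h4 hk
        omega
      · have : 3 * q ^ (d - 1) ≤ q * q ^ (d - 1) := Nat.mul_le_mul_right _ hq3
        omega
    · have : 2 * q ^ (d - 1) ≤ q * q ^ (d - 1) := Nat.mul_le_mul_right _ (by omega)
      have : (q ^ d + 1) * 2 ≤ (q ^ d + 1) * (k + 1 + 1) := Nat.mul_le_mul_left _ (by omega)
      omega
  · have hQm : Cfsg.quadFormMinus (d - 1) F a b = ⇑(matQuad (minusMatrix (d - 1) a b)) := Geometry.quadFormMinus_eq _ a b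
    have hnd' : (polarBilin (matQuad (minusMatrix (d - 1) a b))).Nondegenerate := by
      refine Geometry.polarBilin_matQuad_nondegenerate ?_
      rw [Geometry.det_minusGram]
      refine mul_ne_zero (pow_ne_zero _ (neg_ne_zero.2 one_ne_zero)) fun h => ?_
      by_cases h2 : (2 : F) = 0
      · haveI : CharP F 2 := CharTwo.of_one_ne_zero_of_two_eq_zero one_ne_zero h2
        have ha : a = 0 := pow_eq_zero_iff (n := 2) (by norm_num) |>.1 (by linear_combination -h + 2 * b * h2)
        obtain ⟨s, hs⟩ := FiniteField.isSquare_of_char_two (ringChar.eq F 2) b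
        have := hab s 1 (by rw [ha, hs]; linear_combination (s * s) * h2)
        exact one_ne_zero this.2
      · have := hab (-a / 2) 1 (by field_simp; linear_combination h)
        exact one_ne_zero this.2
    rcases QuadFin.exists_normal_basis (matQuad (minusMatrix (d - 1) a b)) hnd' (m := d) (by omega)
        (by rw [Module.finrank_fintype_fun_eq_card]; simp; omega) with ⟨b₁, hb₁⟩ | ⟨b₁, ζ₁, hb₁⟩
    · exfalso
      let U : Submodule F ((Fin (d - 1) ⊕ Fin (d - 1)) ⊕ Fin 2 → F) :=
        (QuadFin.xSubspace F d).map b₁.equivFun.symm.toLinearMap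
      have hU : ∀ u ∈ U, Cfsg.quadFormMinus (d - 1) F a b u = 0 := by
        rintro _ ⟨v, hv, rfl⟩
        rw [hQm, hyp_apply hb₁, LinearEquiv.coe_coe, LinearEquiv.apply_symm_apply]
        exact QuadFin.xSubspace_singular hv
      have h1 := QuadFin.finrank_singular_minus_le a b hab U hU
      rw [LinearEquiv.finrank_map_eq, QuadFin.finrank_xSubspace] at h1
      omega
    · obtain ⟨e₀, he₀⟩ := zeta_change hb'.1 hb₁.1 (d - 1)
      refine ⟨K, inferInstance, inferInstance, inferInstance, σ, c, (b₁.equivFun.trans e₀).trans b'.equivFun.symm,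
        hcK, hσ, hcc, fun v => ?_⟩
      rw [hQm, ell_apply hb₁, he₀, ← hQK, ell_apply hb', LinearEquiv.trans_apply, LinearEquiv.trans_apply,
        LinearEquiv.apply_symm_apply]

/-- An element of order `r` of `Ω⁻` without fixed vectors. -/
theorem exists_fpf {d : ℕ} (hd : 2 ≤ d) (a b : F) (hab : ∀ x y : F, x ^ 2 + a * x * y + b * y ^ 2 = 0 → x = 0 ∧ y = 0)
    {r : ℕ} [Fact r.Prime] (hr2 : r ≠ 2) (hr : r ∣ Fintype.card F ^ d + 1) :
    ∃ x : GL ((Fin (d - 1) ⊕ Fin (d - 1)) ⊕ Fin 2) F, x ∈ Cfsg.Geo.omegaGL (Cfsg.quadFormMinus (d - 1) F a b) ∧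
      x ^ r = 1 ∧
      ∀ v, (x : Matrix ((Fin (d - 1) ⊕ Fin (d - 1)) ⊕ Fin 2) ((Fin (d - 1) ⊕ Fin (d - 1)) ⊕ Fin 2) F) *ᵥ v = v → v = 0 := by
  classical
  obtain ⟨K, _, _, _, σ, c, e, hcK, hσ, hcc, hQ⟩ := exists_model hd a b hab
  set q := Fintype.card F with hq
  have hσσ : ∀ z, σ (σ z) = z := fun z => by
    rw [hσ, hσ, ← pow_mul, ← pow_add, ← two_mul, ← hcK]
    exact FiniteField.pow_card z
  have hdvd : q ^ d + 1 ∣ q ^ (2 * d) - 1 := by
    refine ⟨q ^ d - 1, ?_⟩
    rw [← Nat.sq_sub_sq, one_pow, ← pow_mul, mul_comm]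
  obtain ⟨η, hη⟩ := exists_prime_orderOf_dvd_card' (G := Kˣ) r (by
    rw [Nat.card_units, Nat.card_eq_fintype_card, hcK]
    exact hr.trans hdvd)
  have hηN : (η : K) * σ (η : K) = 1 := by
    rw [hσ, ← pow_succ', ← Units.val_pow_eq_pow_val,
      orderOf_dvd_iff_pow_eq_one.1 (show orderOf η ∣ q ^ d + 1 by rw [hη]; exact hr), Units.val_one]
  let G : (K ≃ₗ[F] K) → GL ((Fin (d - 1) ⊕ Fin (d - 1)) ⊕ Fin 2) F := fun T =>
    ⟨LinearMap.toMatrix' ((e.trans T).trans e.symm).toLinearMap,
      LinearMap.toMatrix' ((e.trans T.symm).trans e.symm).toLinearMap,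
      by rw [← LinearMap.toMatrix'_comp, ← LinearMap.toMatrix'_id]; congr 1; ext; simp,
      by rw [← LinearMap.toMatrix'_comp, ← LinearMap.toMatrix'_id]; congr 1; ext; simp⟩
  have hG : ∀ T v, (G T : Matrix _ _ F) *ᵥ v = e.symm (T (e v)) := fun T v => by
    rw [← Matrix.toLin'_apply, Matrix.toLin'_toMatrix']; rfl
  have hGi : ∀ T v, (((G T)⁻¹ : GL ((Fin (d - 1) ⊕ Fin (d - 1)) ⊕ Fin 2) F) : Matrix _ _ F) *ᵥ v =
      e.symm (T.symm (e v)) := fun T v => by
    show (LinearMap.toMatrix' ((e.trans T.symm).trans e.symm).toLinearMap) *ᵥ v = _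
    rw [← Matrix.toLin'_apply, Matrix.toLin'_toMatrix']; rfl
  have hGiso : ∀ T : K ≃ₗ[F] K, (∀ z, T z * σ (T z) = z * σ z) →
      G T ∈ Cfsg.isometryGroup F (Cfsg.quadFormMinus (d - 1) F a b) := by
    intro T hT u _
    show Cfsg.quadFormMinus (d - 1) F a b ((G T : Matrix _ _ F) *ᵥ u) = Cfsg.quadFormMinus (d - 1) F a b u
    rw [hG, hQ, hQ, LinearEquiv.apply_symm_apply, hT]
  let m : K ≃ₗ[F] K :=
    { toFun := fun z => (η : K) * z
      invFun := fun z => ((η⁻¹ : Kˣ) : K) * z
      left_inv := fun z => by simp [← mul_assoc]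
      right_inv := fun z => by simp [← mul_assoc]
      map_add' := fun z w => by simp [mul_add]
      map_smul' := fun t z => by simp }
  have hm := hGiso m fun z => by
    show (η : K) * z * σ ((η : K) * z) = _
    rw [map_mul, mul_mul_mul_comm, hηN, one_mul]
  have hs := hGiso σ.toLinearEquiv fun z => by
    show σ z * σ (σ z) = _
    rw [hσσ, mul_comm]
  set x := G σ.toLinearEquiv * G m * (G σ.toLinearEquiv)⁻¹ * (G m)⁻¹ with hx
  set ζ : Kˣ := η⁻¹ * η⁻¹ with hζ
  have hση : σ (η : K) = ((η⁻¹ : Kˣ) : K) := by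
    rw [← mul_right_inj' η.ne_zero, hηN, Units.mul_inv]
  have hxv : ∀ v, (x : Matrix _ _ F) *ᵥ v = e.symm ((ζ : K) * e v) := by
    intro v
    rw [hx, Units.val_mul, Units.val_mul, Units.val_mul, ← Matrix.mulVec_mulVec, ← Matrix.mulVec_mulVec,
      ← Matrix.mulVec_mulVec, hGi, hGi, hG, hG]
    simp only [LinearEquiv.apply_symm_apply]
    congr 1
    show σ ((η : K) * σ.symm (((η⁻¹ : Kˣ) : K) * e v)) = _
    rw [map_mul, AlgEquiv.apply_symm_apply, hση, hζ, Units.val_mul, mul_assoc]
  have hζr : orderOf ζ = r := by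
    have h1 : ζ = (η⁻¹) ^ 2 := (pow_two _).symm
    rw [h1, orderOf_pow, orderOf_inv, hη,
      (Nat.coprime_primes Fact.out Nat.prime_two).2 hr2 |>.gcd_eq_one, Nat.div_one]
  have hxk : ∀ (k : ℕ) v, ((x ^ k : GL ((Fin (d - 1) ⊕ Fin (d - 1)) ⊕ Fin 2) F) : Matrix _ _ F) *ᵥ v =
      e.symm (((ζ ^ k : Kˣ) : K) * e v) := by
    intro k
    induction k with
    | zero => intro v; simp
    | succ k ih =>
      intro v
      rw [pow_succ', Units.val_mul, ← Matrix.mulVec_mulVec, ih, hxv, LinearEquiv.apply_symm_apply]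
      congr 1
      simp [pow_succ', mul_assoc]
  have hxΩ : x ∈ Cfsg.Geo.omegaGL (Cfsg.quadFormMinus (d - 1) F a b) := by
    set gs : Cfsg.isometryGroup F (Cfsg.quadFormMinus (d - 1) F a b) := ⟨G σ.toLinearEquiv, hs⟩ with hgs
    set gm : Cfsg.isometryGroup F (Cfsg.quadFormMinus (d - 1) F a b) := ⟨G m, hm⟩ with hgm
    have hmem : gs * gm * gs⁻¹ * gm⁻¹ ∈ Cfsg.Omega F (Cfsg.quadFormMinus (d - 1) F a b) := by
      rw [← commutatorElement_def]
      exact Subgroup.commutator_mem_commutator (Subgroup.mem_top gs) (Subgroup.mem_top gm)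
    have e' : (gs * gm * gs⁻¹ * gm⁻¹ : Cfsg.isometryGroup F (Cfsg.quadFormMinus (d - 1) F a b)).1 = x := by
      rw [hx, Subgroup.coe_mul, Subgroup.coe_mul, Subgroup.coe_mul, Subgroup.coe_inv, Subgroup.coe_inv]
    rw [← e']
    exact Subgroup.mem_map_of_mem (Cfsg.isometryGroup F (Cfsg.quadFormMinus (d - 1) F a b)).subtype hmem
  refine ⟨x, hxΩ, ?_, fun v hv => ?_⟩
  · refine Units.ext (Matrix.ext_of_mulVec_single fun i => ?_)
    rw [hxk, ← hζr, pow_orderOf_eq_one, Units.val_one, one_mul, LinearEquiv.symm_apply_apply, Units.val_one,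
      Matrix.one_mulVec]
  · have h := congrArg e (hv.symm.trans (hxv v))
    rw [LinearEquiv.apply_symm_apply] at h
    have h1 : ((ζ : K) - 1) * e v = 0 := by rw [sub_mul, one_mul, ← h, sub_self]
    rcases mul_eq_zero.1 h1 with h2 | h2
    · exfalso
      rw [sub_eq_zero, Units.val_eq_one] at h2
      rw [h2, orderOf_one] at hζr
      exact (Fact.out : r.Prime).one_lt.ne hζr
    · exact e.injective (h2.trans (map_zero e).symm)

/-- In characteristic two the form takes each non-zero value `q ^ (d - 1) * (q ^ d + 1)` times. -/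
theorem card_value_one {d : ℕ} (hd : 2 ≤ d) (a b : F)
    (hab : ∀ x y : F, x ^ 2 + a * x * y + b * y ^ 2 = 0 → x = 0 ∧ y = 0) :
    Nat.card {v : (Fin (d - 1) ⊕ Fin (d - 1)) ⊕ Fin 2 → F // Cfsg.quadFormMinus (d - 1) F a b v = 1} =
      Fintype.card F ^ (d - 1) * (Fintype.card F ^ d + 1) := by
  classical
  obtain ⟨K, _, _, _, σ, c, e, hcK, hσ, hcc, hQ⟩ := exists_model hd a b hab
  set q := Fintype.card F with hq
  have hq1 : 1 < q := Fintype.one_lt_card
  -- the fixed field and the norm
  let K0 : Submodule F K := LinearMap.ker (σ.toLinearMap - LinearMap.id)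
  have hK0 : ∀ z, z ∈ K0 ↔ σ z = z := fun z => by
    simp [K0, LinearMap.mem_ker, sub_eq_zero]
  let N : Kˣ →* Kˣ := powMonoidHom (q ^ d + 1)
  have hN : ∀ u : Kˣ, ((N u : Kˣ) : K) = (u : K) * σ (u : K) := fun u => by
    rw [hσ, ← pow_succ']; rfl
  have hker : Nat.card N.ker = q ^ d + 1 := by
    rw [IsCyclic.card_powMonoidHom_ker, Nat.card_units, Nat.card_eq_fintype_card, hcK]
    refine Nat.gcd_eq_right ⟨q ^ d - 1, ?_⟩
    rw [← Nat.sq_sub_sq, one_pow, ← pow_mul, mul_comm]
  have hqd : 1 ≤ q ^ d := Nat.one_le_pow _ _ (by omega)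
  have hrange : Nat.card N.range = q ^ d - 1 := by
    have h := N.ker.card_mul_index
    rw [Subgroup.index_ker, hker, Nat.card_units, Nat.card_eq_fintype_card (α := K), hcK] at h
    have e1 : q ^ (2 * d) - 1 = (q ^ d + 1) * (q ^ d - 1) := by
      rw [← Nat.sq_sub_sq, one_pow, ← pow_mul, mul_comm]
    rw [e1] at h
    exact Nat.eq_of_mul_eq_mul_left (by omega) h
  have hfixle : (Finset.univ.filter fun z : K => σ z = z).card ≤ q ^ d := by
    refine le_trans (Finset.card_le_card (t := (Polynomial.X ^ (q ^ d) - Polynomial.X : Polynomial K).roots.toFinset) ?_)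
      ((Multiset.toFinset_card_le _).trans ((Polynomial.card_roots' _).trans ?_))
    · intro z hz
      rw [Multiset.mem_toFinset, Polynomial.mem_roots (FiniteField.X_pow_card_sub_X_ne_zero K (Nat.one_lt_pow (by omega) hq1))]
      simp [← hσ, (Finset.mem_filter.1 hz).2]
    · rw [FiniteField.X_pow_card_sub_X_natDegree_eq K (Nat.one_lt_pow (by omega) hq1)]
  have hσσ : ∀ z, σ (σ z) = z := fun z => by
    rw [hσ, hσ, ← pow_mul, ← pow_add, ← two_mul, ← hcK]
    exact FiniteField.pow_card z
  let R0 : Finset K := insert 0 ((Finset.univ.filter fun w : Kˣ => w ∈ N.range).image fun w : Kˣ => (w : K))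
  have hR0sub : R0 ⊆ Finset.univ.filter fun z : K => σ z = z := by
    intro z hz
    refine Finset.mem_filter.2 ⟨Finset.mem_univ z, ?_⟩
    rcases Finset.mem_insert.1 hz with rfl | hz
    · exact map_zero σ
    · obtain ⟨w, hw, rfl⟩ := Finset.mem_image.1 hz
      obtain ⟨u, rfl⟩ := (Finset.mem_filter.1 hw).2
      rw [hN, map_mul, hσσ, mul_comm]
  have hR0 : R0.card = q ^ d := by
    rw [Finset.card_insert_of_notMem, Finset.card_image_of_injective _ Units.val_injective, ← Fintype.card_subtype,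
      ← Nat.card_eq_fintype_card]
    · rw [show Nat.card {w : Kˣ // w ∈ N.range} = Nat.card N.range from rfl, hrange]
      omega
    · intro h
      obtain ⟨w, -, hw⟩ := Finset.mem_image.1 h
      exact w.ne_zero hw
  have hR0eq : R0 = Finset.univ.filter fun z : K => σ z = z :=
    Finset.eq_of_subset_of_card_le hR0sub (by rw [hR0]; exact hfixle)
  have hcard0 : Fintype.card K0 = q ^ d := by
    rw [Fintype.card_congr (Equiv.subtypeEquivRight hK0 : K0 ≃ {z : K // σ z = z}), Fintype.card_subtype, ← hR0eq, hR0]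
  have hdim : Module.finrank F K0 = d := by
    have h := Module.card_eq_pow_finrank (K := F) (V := K0)
    rw [hcard0] at h
    exact (Nat.pow_right_injective hq1 h).symm
  let φ : K0 →ₗ[F] F := (Algebra.trace F K) ∘ₗ (LinearMap.mulLeft F c) ∘ₗ K0.subtype
  have hφs : LinearMap.range φ = ⊤ := by
    rcases (inferInstance : IsSimpleModule F F).1.eq_bot_or_eq_top (LinearMap.range φ) with h | h
    · exfalso
      rw [LinearMap.range_eq_bot] at h
      let v : (Fin (d - 1) ⊕ Fin (d - 1)) ⊕ Fin 2 → F := Pi.single (.inr 0) 1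
      have hv : Cfsg.quadFormMinus (d - 1) F a b v = 1 := by simp [v, Cfsg.quadFormMinus]
      have hm : e v * σ (e v) ∈ K0 := (hK0 _).2 (by rw [map_mul, hσσ, mul_comm])
      have := LinearMap.congr_fun h ⟨_, hm⟩
      rw [hQ] at hv
      simp [φ, hv] at this
    · exact h
  obtain ⟨k1, hk1⟩ : ∃ k1, φ k1 = 1 := LinearMap.range_eq_top.1 hφs 1
  have hhyp : Nat.card {k : K0 // φ k = 1} = q ^ (d - 1) := by
    have hequiv : {k : K0 // φ k = 1} ≃ LinearMap.ker φ :=
      { toFun := fun k => ⟨k.1 - k1, by rw [LinearMap.mem_ker, map_sub, hk1, k.2, sub_self]⟩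
        invFun := fun k => ⟨k.1 + k1, by rw [map_add, LinearMap.mem_ker.1 k.2, hk1, zero_add]⟩
        left_inv := fun k => Subtype.ext (sub_add_cancel _ _)
        right_inv := fun k => Subtype.ext (add_sub_cancel_right _ _) }
    have hrk := φ.finrank_range_add_finrank_ker
    rw [hφs, finrank_top, Module.finrank_self, hdim] at hrk
    rw [Nat.card_congr hequiv, Nat.card_eq_fintype_card, Module.card_eq_pow_finrank (K := F)]
    congr 1
    omega
  -- fibres of the norm
  have hne : ∀ v, Cfsg.quadFormMinus (d - 1) F a b v = 1 → e v ≠ 0 := by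
    intro v hv h
    rw [hQ, h, zero_mul, mul_zero, map_zero] at hv
    exact zero_ne_one hv
  let T := {u : Kˣ // Algebra.trace F K (c * ((u : K) * σ (u : K))) = 1}
  have hT : Nat.card {v : (Fin (d - 1) ⊕ Fin (d - 1)) ⊕ Fin 2 → F // Cfsg.quadFormMinus (d - 1) F a b v = 1} = Nat.card T := by
    refine Nat.card_congr
      { toFun := fun v => ⟨Units.mk0 (e v.1) (hne v.1 v.2), by rw [Units.val_mk0, ← hQ]; exact v.2⟩
        invFun := fun u => ⟨e.symm (u.1 : K), by rw [hQ, LinearEquiv.apply_symm_apply]; exact u.2⟩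
        left_inv := fun v => Subtype.ext (by simp)
        right_inv := fun u => Subtype.ext (Units.ext (by simp)) }
  rw [hT]
  have hT2 : Nat.card T = Nat.card N.ker * Nat.card {k : K0 // φ k = 1} := by
    have hlift : ∀ k : {k : K0 // φ k = 1}, ∃ u : Kˣ, ((N u : Kˣ) : K) = ((k.1 : K0) : K) := by
      intro k
      have hk : ((k.1 : K0) : K) ∈ R0 := by
        rw [hR0eq]
        exact Finset.mem_filter.2 ⟨Finset.mem_univ _, (hK0 _).1 k.1.2⟩
      rcases Finset.mem_insert.1 hk with h | h
      · exfalso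
        have h2 := k.2
        rw [show k.1 = 0 from Subtype.ext h, map_zero] at h2
        exact zero_ne_one h2
      · obtain ⟨w, hw, hwk⟩ := Finset.mem_image.1 h
        obtain ⟨u, rfl⟩ := (Finset.mem_filter.1 hw).2
        exact ⟨u, hwk⟩
    choose lift hlift using hlift
    rw [← Nat.card_prod]
    refine Nat.card_congr (Equiv.symm (Equiv.ofBijective (fun P => ⟨P.1.1 * lift P.2, ?_⟩) ⟨?_, ?_⟩))
    · rw [← hN, N.map_mul, MonoidHom.mem_ker.1 P.1.2, one_mul, hlift]
      exact P.2.2
    · intro P P' h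
      have h' : P.1.1 * lift P.2 = P'.1.1 * lift P'.2 := congrArg Subtype.val h
      have h2 := congrArg (fun u => ((N u : Kˣ) : K)) h'
      simp only [map_mul, MonoidHom.mem_ker.1 P.1.2, MonoidHom.mem_ker.1 P'.1.2, one_mul, hlift] at h2
      have e2 : P.2 = P'.2 := Subtype.ext (Subtype.ext h2)
      rw [e2, mul_left_inj] at h'
      exact Prod.ext (Subtype.ext h') e2
    · rintro ⟨u, hu⟩
      have hm : (u : K) * σ (u : K) ∈ K0 := (hK0 _).2 (by rw [map_mul, hσσ, mul_comm])
      let k : {k : K0 // φ k = 1} := ⟨⟨_, hm⟩, hu⟩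
      refine ⟨(⟨u * (lift k)⁻¹, ?_⟩, k), Subtype.ext (inv_mul_cancel_right u (lift k))⟩
      rw [MonoidHom.mem_ker, map_mul, map_inv, mul_inv_eq_one]
      exact Units.ext (by rw [hlift, hN])
  rw [hT2, hker, hhyp, mul_comm]

end Cfsg.Agent.Lib.MaxSub.MinusModel
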