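import Cfsg.Agent.Lib.MaxSub.IsoDecomp
import Mathlib

/-!
The number of non-degenerate subspaces of a given dimension.
-/

set_option autoImplicit false
set_option maxHeartbeats 1000000
set_option linter.unusedSectionVars false

namespace Cfsg.Agent.Lib.MaxSub.NdCount

open Module Cfsg.Agent.Lib.MaxSub
open scoped _root_.Classical

variable {ι : Type} [Fintype ι] [DecidableEq ι] {F : Type*} [Field F] [Fintype F] (f : AltForm ι F)

/-- Hyperbolic pairs. -/
abbrev Pairs (U : Submodule F (ι → F)) : Type _ :=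
  {pr : (ι → F) × (ι → F) // pr.1 ∈ U ∧ pr.2 ∈ U ∧ f.B pr.1 pr.2 = 1}

/-- Non-degenerate subspaces. -/
abbrev Sub (U : Submodule F (ι → F)) (h : ℕ) : Type _ :=
  {W : Submodule F (ι → F) // W ≤ U ∧ f.NdOn W ∧ finrank F W = 2 * h}

/-- The number of pairs. -/
def P (q n : ℕ) : ℕ := (q ^ n - 1) * q ^ (n - 1)

theorem card_pairs {U : Submodule F (ι → F)} (hU : f.NdOn U) :
    Nat.card (Pairs f U) = P (Fintype.card F) (finrank F U) := by
  let e : Pairs f U ≃ Σ u : {u : U // u ≠ 0}, {v : U // f.B (u.1 : ι → F) v = 1} :=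
    { toFun := fun pr => ⟨⟨⟨pr.1.1, pr.2.1⟩, fun h => by
          have h' : pr.1.1 = 0 := congrArg Subtype.val h
          simpa [h'] using pr.2.2.2⟩, ⟨⟨pr.1.2, pr.2.2.1⟩, pr.2.2.2⟩⟩
      invFun := fun s => ⟨((s.1.1 : ι → F), (s.2.1 : ι → F)), s.1.1.2, s.2.1.2, s.2.2⟩
      left_inv := fun pr => rfl
      right_inv := fun s => rfl }
  haveI := Fintype.ofFinite {u : U // u ≠ 0}
  have hfib : ∀ u : {u : U // u ≠ 0},
      Nat.card {v : U // f.B (u.1 : ι → F) v = 1} = Fintype.card F ^ (finrank F U - 1) := by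
    intro u
    let φ : U →ₗ[F] F := (f.B (u.1 : ι → F)).comp U.subtype
    obtain ⟨x, hx, hux⟩ := hU _ u.1.2 (fun h => u.2 (Subtype.ext h))
    let v0 : U := (f.B (u.1 : ι → F) x)⁻¹ • ⟨x, hx⟩
    have hv0 : φ v0 = 1 := by simp [φ, v0, hux]
    let g : {v : U // f.B (u.1 : ι → F) v = 1} ≃ LinearMap.ker φ :=
      { toFun := fun v => ⟨v.1 - v0, by rw [LinearMap.mem_ker, map_sub, hv0]; exact sub_eq_zero.2 v.2⟩
        invFun := fun w => ⟨w.1 + v0, by
          show φ (w.1 + v0) = 1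
          rw [map_add, w.2, hv0, zero_add]⟩
        left_inv := fun v => Subtype.ext (sub_add_cancel _ _)
        right_inv := fun w => Subtype.ext (add_sub_cancel_right _ _) }
    rw [Nat.card_congr g, Module.natCard_eq_pow_finrank (K := F), Nat.card_eq_fintype_card]
    congr 1
    have h := φ.finrank_range_add_finrank_ker
    rw [LinearMap.range_eq_top.2 fun c => ⟨c • v0, by rw [map_smul, hv0, smul_eq_mul, mul_one]⟩, finrank_top,
      finrank_self] at h
    omega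
  rw [Nat.card_congr e, Nat.card_sigma, Finset.sum_congr rfl fun u _ => hfib u, Finset.sum_const, Finset.card_univ,
    smul_eq_mul, P]
  congr 1
  haveI : Fintype U := Fintype.ofFinite U
  rw [Fintype.card_subtype_compl, Fintype.card_subtype_eq, Module.card_eq_pow_finrank (K := F)]

theorem ext_left {U : Submodule F (ι → F)} {h : ℕ} (x y : Σ W : Sub f U h, Pairs f W.1)
    (h1 : x.1.1 = y.1.1) (h2 : x.2.1 = y.2.1) : x = y := by
  obtain ⟨⟨W, hW⟩, ⟨pr, hpr⟩⟩ := x
  obtain ⟨⟨W', hW'⟩, ⟨pr', hpr'⟩⟩ := y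
  change W = W' at h1
  change pr = pr' at h2
  subst h1
  subst h2
  rfl

theorem ext_right {U : Submodule F (ι → F)} {h : ℕ}
    (x y : Σ pr : Pairs f U, Sub f (InvBlocks.rest f U pr.1.1 pr.1.2) h)
    (h1 : x.1.1 = y.1.1) (h2 : x.2.1 = y.2.1) : x = y := by
  obtain ⟨⟨pr, hpr⟩, ⟨W, hW⟩⟩ := x
  obtain ⟨⟨pr', hpr'⟩, ⟨W', hW'⟩⟩ := y
  change pr = pr' at h1
  change W = W' at h2
  subst h1
  subst h2
  rfl

/-- Removing a pair. -/
def cut {U : Submodule F (ι → F)} (h : ℕ) (s : Σ W : Sub f U (h + 1), Pairs f W.1) :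
    Σ pr : Pairs f U, Sub f (InvBlocks.rest f U pr.1.1 pr.1.2) h :=
  ⟨⟨s.2.1, s.1.2.1 s.2.2.1, s.1.2.1 s.2.2.2.1, s.2.2.2.2⟩, InvBlocks.rest f s.1.1 s.2.1.1 s.2.1.2,
    fun _ hw => ⟨s.1.2.1 hw.1, hw.2⟩,
    (InvBlocks.rest_spec f s.1.2.2.1 s.2.2.1 s.2.2.2.1 s.2.2.2.2).1, by
      have h1 := (InvBlocks.rest_spec f s.1.2.2.1 s.2.2.1 s.2.2.2.1 s.2.2.2.2).2.2.1
      have h2 := s.1.2.2.2
      omega⟩

/-- Adding a pair. -/
def glue {U : Submodule F (ι → F)} (hU : f.NdOn U) (h : ℕ)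
    (s : Σ pr : Pairs f U, Sub f (InvBlocks.rest f U pr.1.1 pr.1.2) h) : Σ W : Sub f U (h + 1), Pairs f W.1 :=
  ⟨⟨((F ∙ s.1.1.1) ⊔ (F ∙ s.1.1.2)) ⊔ s.2.1, by
      obtain ⟨-, r2, -, r4, r5⟩ := InvBlocks.rest_spec f hU s.1.2.1 s.1.2.2.1 s.1.2.2.2
      obtain ⟨g1, g2⟩ := IsoDecomp.nd_sup f r4 s.2.2.2.1 (fun w hw x hx => r5 x hx w (s.2.2.1 hw))
      refine ⟨(sup_le_sup_left s.2.2.1 _).trans r2.le, g1, ?_⟩
      rw [g2, InvBlocks.pair_dim f s.1.2.2.2, s.2.2.2.2]
      ring⟩, s.1.1, Submodule.mem_sup_left (Submodule.mem_sup_left (Submodule.mem_span_singleton_self _)),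
        Submodule.mem_sup_left (Submodule.mem_sup_right (Submodule.mem_span_singleton_self _)), s.1.2.2.2⟩

/-- The pairs inside all subspaces. -/
noncomputable def pairEquiv {U : Submodule F (ι → F)} (hU : f.NdOn U) (h : ℕ) :
    (Σ W : Sub f U (h + 1), Pairs f W.1) ≃ Σ pr : Pairs f U, Sub f (InvBlocks.rest f U pr.1.1 pr.1.2) h where
  toFun := cut f h
  invFun := glue f hU h
  left_inv s := ext_left f _ _ (InvBlocks.rest_spec f s.1.2.2.1 s.2.2.1 s.2.2.2.1 s.2.2.2.2).2.1 rfl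
  right_inv s := by
    obtain ⟨-, -, -, r4, r5⟩ := InvBlocks.rest_spec f hU s.1.2.1 s.1.2.2.1 s.1.2.2.2
    obtain ⟨g1, g2⟩ := IsoDecomp.nd_sup f r4 s.2.2.2.1 (fun w hw x hx => r5 x hx w (s.2.2.1 hw))
    obtain ⟨-, -, t3, -, -⟩ := InvBlocks.rest_spec f g1
      (Submodule.mem_sup_left (Submodule.mem_sup_left (Submodule.mem_span_singleton_self s.1.1.1)))
      (Submodule.mem_sup_left (Submodule.mem_sup_right (Submodule.mem_span_singleton_self s.1.1.2))) s.1.2.2.2
    rw [g2, InvBlocks.pair_dim f s.1.2.2.2] at t3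
    refine ext_right f _ _ rfl ?_
    refine (Submodule.eq_of_le_of_finrank_le (fun w hw => (InvBlocks.mem_rest f).2 ⟨Submodule.mem_sup_right hw,
      ((InvBlocks.mem_rest f).1 (s.2.2.1 hw)).2⟩) ?_).symm
    have h2 := s.2.2.2.2
    show finrank F (InvBlocks.rest f (((F ∙ s.1.1.1) ⊔ (F ∙ s.1.1.2)) ⊔ s.2.1) s.1.1.1 s.1.1.2) ≤ _
    omega

/-- The counting formula. -/
theorem card_mul : ∀ (h : ℕ) {U : Submodule F (ι → F)}, f.NdOn U →
    Nat.card (Sub f U h) * (∏ l ∈ Finset.range h, P (Fintype.card F) (2 * h - 2 * l)) =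
      ∏ l ∈ Finset.range h, P (Fintype.card F) (finrank F U - 2 * l) := by
  intro h
  induction h with
  | zero =>
    intro U _
    simp only [Finset.range_zero, Finset.prod_empty, mul_one]
    haveI : Unique (Sub f U 0) :=
      { default := ⟨⊥, bot_le, IsoDecomp.nd_bot f, finrank_bot F _⟩
        uniq := fun W => Subtype.ext (Submodule.finrank_eq_zero.1 W.2.2.2) }
    exact Nat.card_unique
  | succ h ih =>
    intro U hU
    haveI := Fintype.ofFinite (Sub f U (h + 1))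
    haveI := Fintype.ofFinite (Pairs f U)
    set q := Fintype.card F
    have key := congrArg (fun N => N * ∏ l ∈ Finset.range h, P q (2 * h - 2 * l)) (Nat.card_congr (pairEquiv f hU h))
    simp only [Nat.card_sigma] at key
    rw [Finset.sum_mul, Finset.sum_mul, Finset.sum_congr rfl fun (W : Sub f U (h + 1)) _ => by
        rw [card_pairs f W.2.2.1, W.2.2.2],
      Finset.sum_congr rfl fun (pr : Pairs f U) _ => ih (InvBlocks.rest_spec f hU pr.2.1 pr.2.2.1 pr.2.2.2).1,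
      Finset.sum_congr rfl fun (pr : Pairs f U) _ => by
        rw [show finrank F (InvBlocks.rest f U pr.1.1 pr.1.2) = finrank F U - 2 by
          have := (InvBlocks.rest_spec f hU pr.2.1 pr.2.2.1 pr.2.2.2).2.2.1; omega]] at key
    simp only [Finset.sum_const, Finset.card_univ, smul_eq_mul, ← Nat.card_eq_fintype_card,
      card_pairs f hU] at key
    rw [Finset.prod_range_succ', Finset.prod_range_succ', mul_zero, Nat.sub_zero, Nat.sub_zero]
    have e1 : ∏ l ∈ Finset.range h, P q (2 * (h + 1) - 2 * (l + 1)) = ∏ l ∈ Finset.range h, P q (2 * h - 2 * l) :=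
      Finset.prod_congr rfl fun l _ => by congr 1; omega
    have e2 : ∏ l ∈ Finset.range h, P q (finrank F U - 2 * (l + 1)) = ∏ l ∈ Finset.range h, P q (finrank F U - 2 - 2 * l) :=
      Finset.prod_congr rfl fun l _ => by congr 1; omega
    rw [e1, e2, mul_comm _ (P q (2 * (h + 1)))]
    rw [show Nat.card F = q from Nat.card_eq_fintype_card] at key
    linarith [key]

/-- A prime divisor of the number divides one of the factors. -/
theorem exists_dvd {r : ℕ} (hr : r.Prime) (hrq : ¬ r ∣ Fintype.card F) {U : Submodule F (ι → F)} (hU : f.NdOn U)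
    {h : ℕ} (hd : r ∣ Nat.card (Sub f U h)) : ∃ l < h, r ∣ Fintype.card F ^ (finrank F U - 2 * l) - 1 := by
  have h1 : r ∣ ∏ l ∈ Finset.range h, P (Fintype.card F) (finrank F U - 2 * l) := by
    rw [← card_mul f h hU]; exact dvd_mul_of_dvd_left hd _
  obtain ⟨l, hl, hl'⟩ := (Prime.dvd_finsetProd_iff (Nat.prime_iff.1 hr) _).1 h1
  exact ⟨l, Finset.mem_range.1 hl, (hr.dvd_mul.1 hl').resolve_right fun e => hrq (hr.dvd_of_dvd_pow e)⟩

end Cfsg.Agent.Lib.MaxSub.NdCount
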