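import Cfsg.Agent.Lib.MaxSub.OrthDecomp
import Mathlib

/-!
Invariant non-degenerate subspaces of given type for elements of prime order of odd dimensional orthogonal groups.
-/

set_option autoImplicit false
set_option maxHeartbeats 1000000
set_option linter.unusedSectionVars false

namespace Cfsg.Agent.Lib.MaxSub.OrthNdSub

open Module Polynomial Cfsg.Agent.Lib.MaxSub Cfsg.Agent.Lib.Geometry
open Cfsg.Agent.Lib.MaxSub.QuadType (Nd TS Plus perp)
open Cfsg.Agent.Lib.MaxSub.IsoDecomp (step fixed moved mem_fixed moved_inv map_eq inf_inv sup_inv fixed_inv decompose)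
open Cfsg.Agent.Lib.MaxSub.OrthDecomp (typ fixer fixer_mem)
open QuadraticMap (polarBilin)
open scoped _root_.Classical

attribute [-simp] QuadraticMap.polarBilin_apply_apply

variable {ι : Type} [Fintype ι] [DecidableEq ι] {F : Type*} [Field F] (Q : QuadraticForm F (ι → F))

/-- Non-degenerate subspaces of dimension `m` and given type. -/
def Sub (m : ℕ) (pl : Prop) (W : Submodule F (ι → F)) : Prop :=
  finrank F W = m ∧ Nd Q W ∧ (Plus Q W ↔ pl)

/-- An invariant non-degenerate subspace of dimension `m` and given type. -/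
def Good (m : ℕ) (pl : Prop) (X : End F (ι → F)) : Prop := ∃ W, Sub Q m pl W ∧ W.map X ≤ W

theorem sub_iff {m : ℕ} {pl : Prop} {W : Submodule F (ι → F)} :
    Sub Q m pl W ↔ finrank F W = m ∧ Cfsg.Geo.IsNondegenerateOn (QuadraticMap.polar ⇑Q) W ∧
      (Cfsg.Geo.IsPlusTypeOn (⇑Q) W ↔ pl) := by
  refine and_congr Iff.rfl (and_congr ⟨fun h w hw hw0 => ?_, fun h w hw hw0 => ?_⟩ Iff.rfl)
  · obtain ⟨x, hx, hwx⟩ := h w hw hw0
    refine ⟨⟨x, hx, ?_⟩, x, hx, ?_⟩
    · rw [QuadraticMap.polar_comm]; simpa [QuadraticMap.polarBilin_apply_apply] using hwx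
    · simpa [QuadraticMap.polarBilin_apply_apply] using hwx
  · obtain ⟨x, hx, hwx⟩ := (h w hw hw0).2
    exact ⟨x, hx, by simpa [QuadraticMap.polarBilin_apply_apply] using hwx⟩

theorem sub_map {m : ℕ} {pl : Prop} {g : End F (ι → F)} (hinj : Function.Injective g) (hiso : ∀ v, Q (g v) = Q v)
    {W : Submodule F (ι → F)} (h : Sub Q m pl W) : Sub Q m pl (W.map g) := by
  have hd : ∀ U : Submodule F (ι → F), finrank F (U.map g) = finrank F U := fun U =>
    (Submodule.equivMapOfInjective g hinj U).finrank_eq.symm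
  refine ⟨(hd W).trans h.1, ?_, Iff.trans ?_ h.2.2⟩
  · rintro _ ⟨a, ha, rfl⟩ hne
    obtain ⟨x, hx, hax⟩ := h.2.1 a ha (fun e => hne (by rw [e, map_zero]))
    exact ⟨g x, Submodule.mem_map_of_mem hx, by rwa [quad_polar_map Q hiso]⟩
  constructor
  · rintro ⟨U, hU, hts, hUd⟩
    refine ⟨U.comap g, fun u hu => ?_, fun u hu => by rw [← hiso]; exact hts _ hu, ?_⟩
    · obtain ⟨w, hw, e⟩ := hU hu
      rwa [← hinj e]
    · rw [hd] at hUd
      rw [← hUd, ← hd (U.comap g), Submodule.map_comap_eq_self (hU.trans LinearMap.map_le_range)]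
  · rintro ⟨U, hU, hts, hUd⟩
    refine ⟨U.map g, Submodule.map_mono hU, ?_, by rw [hd, hd, hUd]⟩
    rintro _ ⟨w, hw, rfl⟩
    rw [hiso]; exact hts w hw

variable [Fintype F] {p : ℕ} [Fact p.Prime] [CharP F p] {r : ℕ} [hr : Fact r.Prime]
variable (hQ : (polarBilin Q).Nondegenerate) (h2 : (2 : F) ≠ 0)

/-- The moved space of an isometry: its dimension is a multiple of the step. -/
theorem moved_dim (hQ : (polarBilin Q).Nondegenerate) (h2 : (2 : F) ≠ 0) {i : ℕ} (hrp : r ≠ p) (hr2 : r ≠ 2)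
    (hi : orderOf ((Fintype.card F : ℕ) : ZMod r) = i)
    {X : End F (ι → F)} (hX : X ^ r = 1) (hiso : ∀ v, Q (X v) = Q v) :
    Nd Q (fixed X) ∧ Nd Q (moved X r) ∧ ∃ e, finrank F (moved X r) = step i * e ∧
      finrank F (fixed X) + step i * e = Fintype.card ι := by
  have hr0 : (r : F) ≠ 0 := PrimeElemFlags.cast_ne_zero hrp
  have hsum := (decompose hr0 hX (U := (⊤ : Submodule F (ι → F))) le_top).2
  obtain ⟨hF, hM⟩ := OrthDecomp.nd_parts Q hr0 hX hiso (QuadType.nd_top Q hQ) (le_top : (⊤ : Submodule F (ι → F)).map X ≤ ⊤)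
  rw [top_inf_eq] at hF hM
  rw [top_inf_eq, top_inf_eq, finrank_top, Module.finrank_fintype_fun_eq_card] at hsum
  obtain ⟨s, hs, -, -⟩ := OrthDecomp.exists_sub Q hQ h2 hrp hr2 hi hX hiso _ rfl hM moved_inv le_rfl
  exact ⟨hF, hM, s, hs, hs ▸ hsum⟩

theorem step_pos {i : ℕ} (hi : orderOf ((Fintype.card F : ℕ) : ZMod r) = i) (hrp : r ≠ p) :
    0 < step i ∧ Even (step i) := by
  have hi0 : 0 < i := hi ▸ PrimeElemFlags.order_pos rfl hrp
  rw [step]; split_ifs with h
  · exact ⟨hi0, h⟩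
  · exact ⟨by omega, even_two_mul i⟩

include hQ h2 in
/-- Existence of an invariant subspace in terms of the number of moved pieces. -/
theorem good_iff {i d m : ℕ} {pl : Prop} (hrp : r ≠ p) (hr2 : r ≠ 2)
    (hi : orderOf ((Fintype.card F : ℕ) : ZMod r) = i) (hn : Fintype.card ι = 2 * d + 1) (hme : Even m)
    {X : End F (ι → F)} (hX : X ^ r = 1) (hiso : ∀ v, Q (X v) = Q v) :
    Good Q m pl X ↔ ∃ j, step i * j ≤ m ∧ m < finrank F (fixed X) + step i * j ∧
      step i * j + finrank F (fixed X) ≤ 2 * d + 1 ∧ (m = step i * j → (typ i j ↔ pl)) := by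
  have hr0 : (r : F) ≠ 0 := PrimeElemFlags.cast_ne_zero hrp
  obtain ⟨hF, hM, e, he, hfe⟩ := moved_dim Q hQ h2 hrp hr2 hi hX hiso
  rw [hn] at hfe
  obtain ⟨hc0, hce⟩ := step_pos (F := F) hi hrp
  have hce' : ∀ j, (step i * j) % 2 = 0 := fun j => Nat.even_iff.1 (hce.mul_right j)
  have hf2 : finrank F (fixed X) % 2 = 1 := by have := hce' e; omega
  have hm2 := Nat.even_iff.1 hme
  constructor
  · rintro ⟨W, ⟨hWd, hW, hWp⟩, hWi⟩
    obtain ⟨hsup, hdim⟩ := decompose hr0 hX hWi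
    obtain ⟨hA, hB⟩ := OrthDecomp.nd_parts Q hr0 hX hiso hW hWi
    obtain ⟨s, hs, hst, -⟩ := OrthDecomp.exists_sub Q hQ h2 hrp hr2 hi hX hiso _ rfl hB
      (inf_inv hWi moved_inv) inf_le_right
    have h1 := Submodule.finrank_mono (inf_le_right : W ⊓ fixed X ≤ fixed X)
    have h3 := Submodule.finrank_mono (inf_le_right : W ⊓ moved X r ≤ moved X r)
    have := hce' s
    refine ⟨s, by omega, by omega, by omega, fun hms => ?_⟩
    have hWB : W ⊓ moved X r = W := Submodule.eq_of_le_of_finrank_le inf_le_left (by omega)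
    rw [hWB] at hst
    exact hst.symm.trans hWp
  · rintro ⟨j, hj1, hj2, hj3, hjt⟩
    obtain ⟨s, hs, -, hsub⟩ := OrthDecomp.exists_sub Q hQ h2 hrp hr2 hi hX hiso _ rfl hM moved_inv le_rfl
    obtain ⟨L, hLM, hL, hLi, hLd⟩ := hsub j (Nat.le_of_mul_le_mul_left (by omega) hc0)
    obtain ⟨s', hs', hLt, -⟩ := OrthDecomp.exists_sub Q hQ h2 hrp hr2 hi hX hiso _ rfl hL hLi hLM
    obtain rfl : j = s' := Nat.eq_of_mul_eq_mul_left hc0 (hLd.symm.trans hs')
    have := hce' j
    obtain ⟨A, hAF, hA, hAd, hAp⟩ := QuadType.exists_type Q hQ h2 ((m - step i * j) / 2) hF (by omega) (typ i j ↔ pl)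
      (fun h => hjt (by omega))
    have hperp : L ≤ perp Q A := fun v hv a ha => OrthDecomp.orth Q hr0 hiso (hAF ha) (hLM hv)
    obtain ⟨g1, g2⟩ := QuadType.nd_sup Q hA hL hperp
    refine ⟨A ⊔ L, ⟨by omega, g1, ?_⟩, sup_inv (fixed_inv hAF) hLi⟩
    rw [QuadType.sup_iff Q hQ h2 hA hL hperp (Nat.even_iff.2 (by omega)) (hLd ▸ hce.mul_right j), hAp, hLt]
    by_cases h1 : typ i j <;> simp [h1]

include hQ h2 in
/-- The number of subspaces is prime to `r` if they fit into the fixed space of a maximal element. -/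
theorem not_dvd {i d m : ℕ} {pl : Prop} (hrp : r ≠ p) (hr2 : r ≠ 2)
    (hi : orderOf ((Fintype.card F : ℕ) : ZMod r) = i) (hn : Fintype.card ι = 2 * d + 1) (hme : Even m) (hm0 : m ≠ 0)
    {X : End F (ι → F)} (hX : X ^ r = 1) (hiso : ∀ v, Q (X v) = Q v) (hfc : finrank F (fixed X) < step i)
    (hmf : m < finrank F (fixed X)) : ¬ r ∣ Nat.card {W // Sub Q m pl W} := by
  intro hdiv
  have hr0 : (r : F) ≠ 0 := PrimeElemFlags.cast_ne_zero hrp
  obtain ⟨hF, -, -⟩ := moved_dim Q hQ h2 hrp hr2 hi hX hiso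
  haveI : Finite (Submodule F (ι → F)) := Finite.of_injective (fun W => (W : Set (ι → F))) SetLike.coe_injective
  haveI := Fintype.ofFinite {W // Sub Q m pl W}
  have hXi : Function.Injective X := IsoDecomp.inj hX hr.out.pos
  let φ : Function.End {W // Sub Q m pl W} := fun W => ⟨W.1.map X, sub_map Q hXi hiso W.2⟩
  have hφ : ∀ (j : ℕ) (W : {W // Sub Q m pl W}), ((φ ^ j) W).1 = W.1.map (X ^ j) := fun j => by
    induction j with
    | zero => intro W; exact (Submodule.map_id _).symm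
    | succ j ih =>
      intro W
      rw [pow_succ' X, End.mul_eq_comp, Submodule.map_comp, ← ih W, pow_succ' φ]
      rfl
  have hφr : φ ^ r ^ 1 = 1 := by
    funext W
    apply Subtype.ext
    rw [hφ, pow_one, hX]
    exact Submodule.map_id _
  have h := Equiv.Perm.card_fixedPoints_modEq hφr
  have hle : ∀ W, Sub Q m pl W → W.map X ≤ W → W ≤ fixed X := fun W hW hWi => by
    obtain ⟨hsup, hdim⟩ := decompose hr0 hX hWi
    obtain ⟨-, hB⟩ := OrthDecomp.nd_parts Q hr0 hX hiso hW.2.1 hWi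
    obtain ⟨s, hs, -, -⟩ := OrthDecomp.exists_sub Q hQ h2 hrp hr2 hi hX hiso _ rfl hB (inf_inv hWi moved_inv) inf_le_right
    have hs0 : s = 0 := by
      rcases s with _ | s
      · rfl
      · rw [Nat.mul_succ] at hs; have := hW.1; omega
    rw [hs0, mul_zero] at hs
    rw [Submodule.finrank_eq_zero.1 hs, sup_bot_eq] at hsup
    rw [← hsup]; exact inf_le_right
  let α := {W // Sub Q m pl W ∧ W ≤ fixed X}
  let e : Function.fixedPoints φ ≃ α :=
    { toFun := fun W => ⟨W.1.1, W.1.2, hle _ W.1.2 (congrArg Subtype.val W.2).le⟩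
      invFun := fun W => ⟨⟨W.1, W.2.1⟩, Subtype.ext (map_eq hX hr.out.pos (fixed_inv W.2.2))⟩
      left_inv := fun _ => rfl
      right_inv := fun _ => rfl }
  have hd' : r ∣ Fintype.card {W // Sub Q m pl W} := by rw [← Nat.card_eq_fintype_card]; exact hdiv
  have hα : r ∣ Nat.card α := by
    rw [← Nat.card_congr e, Nat.card_eq_fintype_card]
    exact Nat.modEq_zero_iff_dvd.1 (h.symm.trans (Nat.modEq_zero_iff_dvd.2 hd'))
  obtain ⟨h', rfl⟩ := hme
  obtain ⟨A, hAF, hA, hAd, hAp⟩ := QuadType.exists_type Q hQ h2 h' hF (by omega) pl (fun e => absurd e (by omega))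
  haveI : Nonempty α := ⟨⟨A, ⟨by omega, hA, hAp⟩, hAF⟩⟩
  haveI : Finite ((ι → F) ≃ₗ[F] (ι → F)) := Finite.of_injective (fun g => (g : (ι → F) → (ι → F))) DFunLike.coe_injective
  let lin : fixer Q (fixed X) → End F (ι → F) := fun g => (((g : quadIsometries Q) : (ι → F) ≃ₗ[F] (ι → F)) : (ι → F) →ₗ[F] (ι → F))
  let act : fixer Q (fixed X) → α → α := fun g W => ⟨W.1.map (lin g),
    sub_map Q ((g : quadIsometries Q) : (ι → F) ≃ₗ[F] (ι → F)).injective (g : quadIsometries Q).2 W.2.1, by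
      rintro _ ⟨w, hw, rfl⟩
      exact fixer_mem Q hQ hF g.2 (W.2.2 hw)⟩
  obtain ⟨y, hy⟩ := QuadCount.exists_prime_order act (fun W => Subtype.ext (Submodule.map_id _))
    (fun g k W => Subtype.ext (Submodule.map_comp (lin k) (lin g) W.1)) (fun W W' => by
      obtain ⟨χ, hχ⟩ := QuadType.exists_carries Q hQ h2 h' W.2.1.2.1 W'.2.1.2.1 (by rw [W.2.1.1]; omega)
        (by rw [W'.2.1.1]; omega) (W.2.1.2.2.trans W'.2.1.2.2.symm)
      obtain ⟨g, hg1, hg2⟩ := QuadType.witt_on Q hQ hF W.2.2 χ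
        (fun a ha => W'.2.2 (hχ.1 ▸ Submodule.mem_map_of_mem ha)) (QuadType.carries_inj Q W.2.1.2.1 hχ) hχ.2
      refine ⟨⟨g, hg2⟩, Subtype.ext ?_⟩
      show W.1.map (lin ⟨g, hg2⟩) = W'.1
      rw [← hχ.1]
      exact SetLike.coe_injective (Set.image_congr fun a ha => hg1 a ha)) hα
  exact OrthDecomp.fixer_small Q hQ hrp hi hr2 h2 hF hfc y hy

omit [Fintype F] [Fact p.Prime] [CharP F p] in
/-- The matrix of an isometry of finite order. -/
theorem exists_matrix {X : End F (ι → F)} (hX : X ^ r = 1) (hiso : ∀ v, Q (X v) = Q v) :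
    ∃ x : GL ι F, x ∈ Cfsg.isometryGroup F ⇑Q ∧ x ^ r = 1 ∧ Matrix.toLin' (x : Matrix ι ι F) = X := by
  obtain ⟨t, ht⟩ := Nat.exists_eq_succ_of_ne_zero hr.out.ne_zero
  have h1 : X * X ^ t = 1 := by rw [← pow_succ', ← hX, ht]
  have h3 : X ^ t * X = 1 := by rw [← pow_succ, ← hX, ht]
  let x : GL ι F := ⟨LinearMap.toMatrix' X, LinearMap.toMatrix' (X ^ t),
    by rw [← LinearMap.toMatrix'_mul, h1, LinearMap.toMatrix'_one],
    by rw [← LinearMap.toMatrix'_mul, h3, LinearMap.toMatrix'_one]⟩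
  have hx : Matrix.toLin' (x : Matrix ι ι F) = X := Matrix.toLin'_toMatrix' X
  refine ⟨x, mem_isometryGroup_iff.2 fun v => ?_, ?_, hx⟩
  · rw [← Matrix.toLin'_apply, hx]; exact hiso v
  · refine Units.ext (Matrix.toLin'.injective ?_)
    rw [Units.val_pow_eq_pow_val, Units.val_one, Matrix.toLin'_one]
    show Matrix.toLinAlgEquiv' ((x : Matrix ι ι F) ^ r) = LinearMap.id
    rw [map_pow]
    show (Matrix.toLin' (x : Matrix ι ι F)) ^ r = LinearMap.id
    rw [hx, hX]; rfl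

omit [Fintype F] [Fact p.Prime] [CharP F p] in
theorem toLin_props {x : GL ι F} (hx : x ∈ Cfsg.Geo.omegaGL (⇑Q)) (hxr : orderOf x = r) :
    (Matrix.toLin' (x : Matrix ι ι F)) ^ r = 1 ∧ (∀ v, Q (Matrix.toLin' (x : Matrix ι ι F) v) = Q v) ∧
      Matrix.toLin' (x : Matrix ι ι F) ≠ 1 := by
  obtain ⟨g, -, rfl⟩ := hx
  refine ⟨?_, fun v => by rw [Matrix.toLin'_apply]; exact mem_isometryGroup_iff.1 g.2 v, fun h => ?_⟩
  · have h := congrArg Units.val (hxr ▸ pow_orderOf_eq_one ((Cfsg.isometryGroup F ⇑Q).subtype g))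
    rw [Units.val_pow_eq_pow_val, Units.val_one] at h
    have h' := congrArg Matrix.toLinAlgEquiv' h
    rw [map_pow, map_one] at h'
    exact h'
  · have hg : (Cfsg.isometryGroup F ⇑Q).subtype g = 1 := Units.ext (Matrix.toLin'.injective
      (by rw [Units.val_one, Matrix.toLin'_one]; exact h))
    rw [hg, orderOf_one] at hxr
    exact hr.out.one_lt.ne hxr

include hQ h2 in
/-- The criterion for odd primes. -/
theorem main_odd {i d m : ℕ} {pl : Prop} (hrp : r ≠ p) (hr2 : r ≠ 2)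
    (hi : orderOf ((Fintype.card F : ℕ) : ZMod r) = i) (hn : Fintype.card ι = 2 * d + 1) (hme : Even m) (hm0 : m ≠ 0)
    (hmn : m ≤ 2 * d) (hdiv : r ∣ Nat.card {W // Sub Q m pl W}) :
    (∀ x : GL ι F, x ∈ Cfsg.Geo.omegaGL (⇑Q) → orderOf x = r → Good Q m pl (Matrix.toLin' (x : Matrix ι ι F))) ↔
      step i ≤ m ∧ m % step i < (2 * d + 1) % step i ∧ (m % step i = 0 → (typ i (m / step i) ↔ pl)) := by
  obtain ⟨hc0, hce⟩ := step_pos (F := F) hi hrp
  constructor
  · intro h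
    have hcn : step i ≤ 2 * d + 1 := by
      by_contra hlt
      have hf : finrank F (fixed (1 : End F (ι → F))) = 2 * d + 1 := by
        rw [show fixed (1 : End F (ι → F)) = ⊤ from eq_top_iff.2 fun v _ => mem_fixed.2 rfl, finrank_top,
          Module.finrank_fintype_fun_eq_card, hn]
      exact not_dvd Q hQ h2 hrp hr2 hi hn hme hm0 (one_pow r) (fun _ => rfl) (by omega) (by omega) hdiv
    obtain ⟨X, hX, hiso, hf⟩ := OrthDecomp.exists_max Q hQ hrp hr2 hi h2 hn
    have hk := Nat.mod_lt (2 * d + 1) hc0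
    obtain ⟨x, hxi, hxr, hxX⟩ := exists_matrix Q hX hiso
    have hx1 : x ≠ 1 := fun e => by
      rw [e, Units.val_one, Matrix.toLin'_one] at hxX
      rw [← hxX, show fixed (LinearMap.id : End F (ι → F)) = ⊤ from eq_top_iff.2 fun v _ => mem_fixed.2 rfl, finrank_top,
        Module.finrank_fintype_fun_eq_card, hn] at hf
      omega
    have hg := h x (OrthDecomp.mem_omega Q hQ h2 hr2 (by omega) hxi hxr) (orderOf_eq_prime hxr hx1)
    rw [hxX, good_iff Q hQ h2 hrp hr2 hi hn hme hX hiso, hf] at hg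
    obtain ⟨j, hj1, hj2, -, hjt⟩ := hg
    have hj0 : j ≠ 0 := fun e => by
      subst e
      rw [mul_zero] at hj2
      exact not_dvd Q hQ h2 hrp hr2 hi hn hme hm0 hX hiso (by omega) (by omega) hdiv
    have hle : step i ≤ step i * j := Nat.le_mul_of_pos_right _ (Nat.pos_of_ne_zero hj0)
    have hj : m / step i = j := Nat.div_eq_of_lt_le (by rw [mul_comm]; exact hj1) (by rw [mul_comm, Nat.mul_succ]; omega)
    have := Nat.div_add_mod m (step i)
    rw [hj] at this ⊢
    exact ⟨by omega, by omega, fun h0 => hjt (by omega)⟩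
  · rintro ⟨-, hlt, ht⟩ x hx hxr
    obtain ⟨hX, hiso, -⟩ := toLin_props Q hx hxr
    rw [good_iff Q hQ h2 hrp hr2 hi hn hme hX hiso]
    obtain ⟨-, -, e, -, hfe⟩ := moved_dim Q hQ h2 hrp hr2 hi hX hiso
    rw [hn] at hfe
    have hdm := Nat.div_add_mod m (step i)
    rcases le_or_gt e (m / step i) with he | he
    · have := Nat.mul_le_mul_left (step i) he
      refine ⟨e, by omega, by omega, by omega, fun hme' => ?_⟩
      have h0 : m % step i = 0 := by rw [hme']; exact Nat.mul_mod_right _ _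
      have h1 : m / step i = e := by rw [hme']; exact Nat.mul_div_cancel_left e hc0
      exact h1 ▸ ht h0
    · have := Nat.mul_le_mul_left (step i) he.le
      have hkf : (2 * d + 1) % step i ≤ finrank F (fixed (Matrix.toLin' (x : Matrix ι ι F))) := by
        rw [← hfe, Nat.add_mul_mod_self_left]; exact Nat.mod_le _ _
      exact ⟨m / step i, by omega, by omega, by omega, fun hme' => ht (by omega)⟩

include hQ h2 in
/-- Involutions always fix a subspace of given type. -/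
theorem involution {d m : ℕ} {pl : Prop} (hn : Fintype.card ι = 2 * d + 1) (hme : Even m) (hm0 : m ≠ 0)
    (hmn : m ≤ 2 * d) {X : End F (ι → F)} (hX : X ^ 2 = 1) (hiso : ∀ v, Q (X v) = Q v) : Good Q m pl X := by
  have hXX : ∀ v, X (X v) = v := fun v => by
    have := LinearMap.congr_fun hX v
    rwa [pow_two] at this
  let A : Submodule F (ι → F) := LinearMap.ker (X - 1)
  let B : Submodule F (ι → F) := LinearMap.ker (X + 1)
  have hA : ∀ a ∈ A, X a = a := fun a ha => by simpa [A, sub_eq_zero] using ha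
  have hB : ∀ b ∈ B, X b = -b := fun b hb => by
    have : X b + b = 0 := by simpa [B] using hb
    exact eq_neg_of_add_eq_zero_left this
  have hAB : ∀ a ∈ A, ∀ b ∈ B, polarBilin Q a b = 0 := fun a ha b hb => by
    have h := quad_polar_map Q hiso a b
    rw [hA a ha, hB b hb, map_neg] at h
    have h' : (2 : F) * polarBilin Q a b = 0 := by linear_combination -h
    exact (mul_eq_zero.1 h').resolve_left h2
  have hsup : ∀ v, ∃ a ∈ A, ∃ b ∈ B, a + b = v := fun v => by
    refine ⟨(2 : F)⁻¹ • (v + X v), ?_, (2 : F)⁻¹ • (v - X v), ?_, ?_⟩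
    · simp [A, hXX]; abel_nf
    · simp [B, hXX]
    · rw [← smul_add, show v + X v + (v - X v) = (2 : F) • v by rw [two_smul]; abel, smul_smul,
        inv_mul_cancel₀ h2, one_smul]
  have hnd : Nd Q A ∧ Nd Q B := by
    constructor <;> intro v hv hv0 <;> obtain ⟨x, -, hvx⟩ := QuadType.nd_top Q hQ v Submodule.mem_top hv0 <;>
      obtain ⟨a, ha, b, hb, rfl⟩ := hsup x
    · exact ⟨a, ha, by rwa [map_add, hAB v hv b hb, add_zero] at hvx⟩
    · exact ⟨b, hb, by rwa [map_add, quad_polar_comm Q v a, hAB a ha v hv, zero_add] at hvx⟩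
  have hinvA : ∀ W ≤ A, W.map X ≤ W := fun W hW => by
    rintro _ ⟨w, hw, rfl⟩; rwa [hA w (hW hw)]
  have hinvB : ∀ W ≤ B, W.map X ≤ W := fun W hW => by
    rintro _ ⟨w, hw, rfl⟩; rw [hB w (hW hw)]; exact W.neg_mem hw
  have hdimAB : finrank F A + finrank F B = 2 * d + 1 := by
    obtain ⟨g1, g2⟩ := QuadType.nd_sup Q hnd.1 hnd.2 (fun b hb a ha => hAB a ha b hb)
    rw [← g2, show A ⊔ B = ⊤ from eq_top_iff.2 fun v _ => by
      obtain ⟨a, ha, b, hb, rfl⟩ := hsup v
      exact Submodule.add_mem_sup ha hb, finrank_top, Module.finrank_fintype_fun_eq_card, hn]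
  obtain ⟨O, E, hO, hE, hperp, hOi, hEi, hdim, hodd⟩ : ∃ O E : Submodule F (ι → F), Nd Q O ∧ Nd Q E ∧ E ≤ perp Q O ∧
      (∀ W ≤ O, W.map X ≤ W) ∧ (∀ W ≤ E, W.map X ≤ W) ∧ finrank F O + finrank F E = 2 * d + 1 ∧
      finrank F O % 2 = 1 := by
    rcases Nat.mod_two_eq_zero_or_one (finrank F A) with h | h
    · exact ⟨B, A, hnd.2, hnd.1, fun a ha b hb => by rw [quad_polar_comm]; exact hAB a ha b hb, hinvB, hinvA,
        by omega, by omega⟩
    · exact ⟨A, B, hnd.1, hnd.2, fun b hb a ha => hAB a ha b hb, hinvA, hinvB, hdimAB, h⟩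
  obtain ⟨h', rfl⟩ := hme
  rcases eq_or_lt_of_le hmn with heq | hlt
  · -- the perpendicular space of a vector in an eigenspace
    obtain ⟨W₀, -, hW₀, hW₀d, hW₀p⟩ := QuadType.exists_type Q hQ h2 h' (QuadType.nd_top Q hQ)
      (by rw [finrank_top, Module.finrank_fintype_fun_eq_card, hn]; omega) pl (fun e => absurd e (by omega))
    obtain ⟨-, hP, hPd, hPP⟩ := QuadType.compl_perp Q hQ hW₀
    rw [Module.finrank_fintype_fun_eq_card, hn] at hPd
    obtain ⟨v, hv, hv0⟩ := (Submodule.ne_bot_iff (perp Q W₀)).1 fun e => by rw [e, finrank_bot] at hPd; omega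
    have hspan : (F ∙ v) = perp Q W₀ := Submodule.eq_of_le_of_finrank_le ((Submodule.span_singleton_le_iff_mem _ _).2 hv)
      (by rw [finrank_span_singleton hv0]; omega)
    have hQv : Q v ≠ 0 := fun e => by
      obtain ⟨x, hx, hvx⟩ := hP v hv hv0
      rw [← hspan] at hx
      obtain ⟨c, rfl⟩ := Submodule.mem_span_singleton.1 hx
      exact hvx (by simp [quad_polar_self, e])
    obtain ⟨U, hU, hUd, hUi⟩ : ∃ U : Submodule F (ι → F), Nd Q U ∧ 2 ≤ finrank F U ∧ (∀ W ≤ U, W.map X ≤ W) := by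
      by_cases h : 2 ≤ finrank F O
      · exact ⟨O, hO, h, hOi⟩
      · exact ⟨E, hE, by omega, hEi⟩
    obtain ⟨u, hu, hQu⟩ := QuadType.exists_val Q hQ h2 hU hUd hQv
    have hu0 : u ≠ 0 := fun e => hQv (by rw [← hQu, e, QuadraticMap.map_zero])
    let ξ : (ι → F) →ₗ[F] F := (2 * Q v)⁻¹ • polarBilin Q v
    have hξ : ξ v = 1 := by
      rw [LinearMap.smul_apply, quad_polar_self, smul_eq_mul, inv_mul_cancel₀ (mul_ne_zero h2 hQv)]
    obtain ⟨g, hg1, -⟩ := QuadType.witt_on Q hQ (QuadType.nd_top Q hQ) (A := F ∙ v) le_top (ξ.smulRight u)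
      (fun a _ => Submodule.mem_top) (fun a ha h => by
        obtain ⟨c, rfl⟩ := Submodule.mem_span_singleton.1 ha
        rw [LinearMap.smulRight_apply, ξ.map_smul, hξ, smul_eq_mul, mul_one, smul_eq_zero] at h
        rw [h.resolve_right hu0, zero_smul])
      (fun a ha => by
        obtain ⟨c, rfl⟩ := Submodule.mem_span_singleton.1 ha
        rw [LinearMap.smulRight_apply, ξ.map_smul, hξ, smul_eq_mul, mul_one, quad_smul, quad_smul, hQu])
    have hgv : (g : (ι → F) ≃ₗ[F] (ι → F)) v = u := by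
      rw [hg1 v (Submodule.mem_span_singleton_self v), LinearMap.smulRight_apply, hξ, one_smul]
    have hsub : Sub Q (h' + h') pl (W₀.map ((g : (ι → F) ≃ₗ[F] (ι → F)) : (ι → F) →ₗ[F] (ι → F))) :=
      sub_map Q (g : (ι → F) ≃ₗ[F] (ι → F)).injective g.2 ⟨by omega, hW₀, hW₀p⟩
    have hline : Nd Q (F ∙ u) := fun a ha ha0 => by
      obtain ⟨c, rfl⟩ := Submodule.mem_span_singleton.1 ha
      exact ⟨u, Submodule.mem_span_singleton_self u, by
        simp [quad_polar_self, hQu, hQv, h2, (smul_ne_zero_iff.1 ha0).1]⟩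
    have hpd := (QuadType.compl_perp Q hQ hline).2.2.1
    rw [finrank_span_singleton hu0, Module.finrank_fintype_fun_eq_card, hn] at hpd
    have hWu : W₀.map ((g : (ι → F) ≃ₗ[F] (ι → F)) : (ι → F) →ₗ[F] (ι → F)) = perp Q (F ∙ u) := by
      refine Submodule.eq_of_le_of_finrank_le ?_ (by rw [hsub.1]; omega)
      rintro _ ⟨w, hw, rfl⟩ x hx
      obtain ⟨c, rfl⟩ := Submodule.mem_span_singleton.1 hx
      have e := quad_polar_map Q (T := ((g : (ι → F) ≃ₗ[F] (ι → F)) : (ι → F) →ₗ[F] (ι → F))) g.2 v w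
      simp only [LinearEquiv.coe_coe, hgv, QuadType.mem_perp' Q hv hw] at e ⊢
      rw [map_smul, LinearMap.smul_apply, e, smul_zero]
    refine ⟨_, hsub, ?_⟩
    rw [hWu]
    exact OrthDecomp.perp_inv Q hX two_pos hiso (hUi _ ((Submodule.span_singleton_le_iff_mem _ _).2 hu))
  by_cases hmo : h' + h' < finrank F O
  · obtain ⟨W, hWO, hW, hWd, hWp⟩ := QuadType.exists_type Q hQ h2 h' hO (by omega) pl (fun e => absurd e (by omega))
    exact ⟨W, ⟨by omega, hW, hWp⟩, hOi W hWO⟩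
  obtain ⟨P, hPO, hP, hPd, hPp⟩ := QuadType.exists_type Q hQ h2 (finrank F O / 2) hO (by omega) True (fun _ => trivial)
  obtain ⟨R, hRE, hR, hRd, hRp⟩ := QuadType.exists_type Q hQ h2 (h' - finrank F O / 2) hE (by omega) pl
    (fun e => absurd e (by omega))
  have hPR : R ≤ perp Q P := fun x hx w hw => hperp (hRE hx) w (hPO hw)
  obtain ⟨g1, g2⟩ := QuadType.nd_sup Q hP hR hPR
  refine ⟨P ⊔ R, ⟨by omega, g1, ?_⟩, sup_inv (hOi P hPO) (hEi R hRE)⟩
  rw [QuadType.sup_iff Q hQ h2 hP hR hPR ⟨_, by rw [hPd, two_mul]⟩ ⟨_, by rw [hRd, two_mul]⟩, hPp, hRp]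
  tauto

end Cfsg.Agent.Lib.MaxSub.OrthNdSub
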