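import Cfsg.Agent.Lib.MaxSub.OrthNdSub
import Cfsg.Agent.Lib.MaxSub.IsoTI
import Mathlib

/-!
Invariant totally singular subspaces of isometries of quadratic forms in odd characteristic.
-/

set_option autoImplicit false
set_option maxHeartbeats 1000000
set_option linter.unusedSectionVars false

namespace Cfsg.Agent.Lib.MaxSub.OrthTS

open Module Polynomial Cfsg.Agent.Lib.MaxSub Cfsg.Agent.Lib.Geometry
open Cfsg.Agent.Lib.MaxSub.QuadType (Nd TS Plus perp)
open Cfsg.Agent.Lib.MaxSub.IsoDecomp (step fixed moved mem_fixed moved_inv inf_inv sup_inv fixed_inv decompose)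
open QuadraticMap (polarBilin)
open scoped _root_.Classical

attribute [-simp] QuadraticMap.polarBilin_apply_apply

variable {ι : Type} [Fintype ι] [DecidableEq ι] {F : Type*} [Field F] (Q : QuadraticForm F (ι → F))

theorem ts_sup {A B : Submodule F (ι → F)} (hA : TS Q A) (hB : TS Q B) (h : B ≤ perp Q A) : TS Q (A ⊔ B) := fun v hv => by
  obtain ⟨a, ha, b, hb, rfl⟩ := Submodule.mem_sup.1 hv
  rw [quad_add, hA a ha, hB b hb, h hb a ha, add_zero, add_zero]

theorem exists_ts {U : Submodule F (ι → F)} [Fintype F] (hQ : (polarBilin Q).Nondegenerate) (h2 : (2 : F) ≠ 0)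
    (hU : Nd Q U) {e : ℕ} (he : 2 * e < finrank F U ∨ (2 * e ≤ finrank F U ∧ Plus Q U)) :
    ∃ W ≤ U, TS Q W ∧ finrank F W = e := by
  obtain ⟨T, hTU, hT, hTd⟩ : ∃ T ≤ U, TS Q T ∧ e ≤ finrank F T := by
    rcases he with hlt | ⟨hle, ⟨T, hTU, hT, hTd⟩⟩
    · obtain ⟨P, hPU, -, hPd, hP⟩ := QuadType.exists_type Q hQ h2 e hU hlt True fun _ => trivial
      obtain ⟨T, hTP, hT, hTd⟩ := hP.2 trivial
      exact ⟨T, hTP.trans hPU, hT, by omega⟩
    · exact ⟨T, hTU, hT, by omega⟩
  obtain ⟨S, hSd⟩ : ∃ S : Submodule F T, finrank F S = e := by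
    let b := Module.finBasis F T
    refine ⟨Submodule.span F (Set.range fun j : Fin e => b (Fin.castLE hTd j)), ?_⟩
    rw [finrank_span_eq_card, Fintype.card_fin]
    exact b.linearIndependent.comp _ (Fin.castLE_injective _)
  refine ⟨S.map T.subtype, (Submodule.map_subtype_le T S).trans hTU,
    fun v hv => hT v (Submodule.map_subtype_le T S hv), ?_⟩
  rw [← (Submodule.equivMapOfInjective _ T.subtype_injective S).finrank_eq, hSd]

/-- A totally singular invariant subspace lies in an invariant non-degenerate one of twice the dimension. -/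
theorem extend {X : End F (ι → F)} {P : F[X]} (hP : Squarefree P) (hy : aeval X P = 0) {U S : Submodule F (ι → F)}
    (hU : Nd Q U) (hUi : U.map X ≤ U) (hS : S.map X ≤ S) (hSU : S ≤ U) (hts : TS Q S)
    (hperp : (perp Q S).map X ≤ perp Q S) :
    ∃ L, S ≤ L ∧ L ≤ U ∧ Nd Q L ∧ L.map X ≤ L ∧ finrank F L = 2 * finrank F S := by
  have hti : S ≤ perp Q S := fun v hv w hw => QuadType.ts_polar Q hts hw hv
  obtain ⟨C, hCU, hC, hsup, hdisj, -⟩ := LinDecomp.split_in hP hy hUi (inf_inv hUi hperp) inf_le_left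
  have hC0 : ∀ c ∈ C, (∀ s ∈ S, polarBilin Q s c = 0) → c = 0 := fun c hc h => by
    have : c ∈ (U ⊓ perp Q S) ⊓ C := ⟨⟨hCU hc, h⟩, hc⟩
    rw [hdisj] at this
    exact (Submodule.mem_bot F).1 this
  have hS0 : ∀ s ∈ S, (∀ c ∈ C, polarBilin Q s c = 0) → s = 0 := fun s hs h => by
    by_contra h0
    obtain ⟨x, hx, hsx⟩ := hU s (hSU hs) h0
    obtain ⟨w, hw, c, hc, rfl⟩ := Submodule.mem_sup.1 (hsup.symm ▸ hx : x ∈ (U ⊓ perp Q S) ⊔ C)
    exact hsx (by rw [map_add, hw.2 s hs, h c hc, add_zero])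
  let φ : S →ₗ[F] C →ₗ[F] F := (polarBilin Q).domRestrict₁₂ S C
  have hφ : ∀ s : S, ∀ c : C, φ s c = polarBilin Q (s : ι → F) (c : ι → F) := fun s c => rfl
  have hi1 : Function.Injective φ := (injective_iff_map_eq_zero φ).2 fun s hs =>
    Subtype.ext (hS0 s s.2 fun c hc => by rw [← hφ s ⟨c, hc⟩, hs]; rfl)
  have hi2 : Function.Injective φ.flip := (injective_iff_map_eq_zero φ.flip).2 fun c hc =>
    Subtype.ext (hC0 c c.2 fun s hs => by rw [← hφ ⟨s, hs⟩ c]; exact LinearMap.congr_fun hc ⟨s, hs⟩)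
  have h1 := LinearMap.finrank_le_finrank_of_injective hi1
  have h2 := LinearMap.finrank_le_finrank_of_injective hi2
  rw [Subspace.dual_finrank_eq] at h1 h2
  refine ⟨S ⊔ C, le_sup_left, sup_le hSU hCU, fun v hv hv0 => ?_, sup_inv hS hC, ?_⟩
  · obtain ⟨s, hs, c, hc, rfl⟩ := Submodule.mem_sup.1 hv
    by_contra hne
    push Not at hne
    by_cases hc0 : c = 0
    · subst hc0
      rw [add_zero] at hv0 hne
      exact hv0 (hS0 s hs fun c hc => hne c (Submodule.mem_sup_right hc))
    · refine hc0 (hC0 c hc fun s' hs' => ?_)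
      have e := hne s' (Submodule.mem_sup_left hs')
      rw [map_add, LinearMap.add_apply, hti hs' s hs, zero_add] at e
      rw [quad_polar_comm, e]
  · have h4 := Submodule.finrank_sup_add_finrank_inf_eq S C
    have hd : S ⊓ C = ⊥ :=
      le_bot_iff.1 ((le_inf (le_inf (inf_le_left.trans hSU) (inf_le_left.trans hti)) inf_le_right).trans hdisj.le)
    rw [hd, finrank_bot, add_zero] at h4
    omega

/-- Repeatedly splitting off totally singular pieces. -/
theorem exists_ts_mul {X : End F (ι → F)} {n : ℕ} (hn : 0 < n) (hX : X ^ n = 1) (hiso : ∀ v, Q (X v) = Q v)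
    {P : F[X]} (hP : Squarefree P) (hy : aeval X P = 0) {i D : ℕ} {M : Submodule F (ι → F)}
    (H : ∀ U ≤ M, Nd Q U → U.map X ≤ U → D ≤ finrank F U → ∃ S ≤ U, S.map X ≤ S ∧ TS Q S ∧ finrank F S = i) :
    ∀ (j : ℕ) (U : Submodule F (ι → F)), U ≤ M → Nd Q U → U.map X ≤ U → (0 < j → D + 2 * i * (j - 1) ≤ finrank F U) →
      ∃ W ≤ U, W.map X ≤ W ∧ TS Q W ∧ finrank F W = i * j := by
  intro j
  induction j with
  | zero => exact fun U _ _ _ _ => ⟨⊥, bot_le, by simp, fun u hu => by rw [(Submodule.mem_bot F).1 hu, QuadraticMap.map_zero],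
      by simp⟩
  | succ j ih =>
    intro U hUM hU hUi hle
    have hle' := hle j.succ_pos
    rw [Nat.add_sub_cancel] at hle'
    obtain ⟨S, hSU, hS, hts, hSd⟩ := H U hUM hU hUi (by omega)
    obtain ⟨L, hSL, hLU, hL, hLi, hLd⟩ := extend Q hP hy hU hUi hS hSU hts (OrthDecomp.perp_inv Q hX hn hiso hS)
    obtain ⟨-, hR, hdim⟩ := QuadType.split_off Q hU hL hLU
    obtain ⟨W, hWR, hW, hWts, hWd⟩ := ih _ (inf_le_left.trans hUM) hR
      (inf_inv hUi (OrthDecomp.perp_inv Q hX hn hiso hLi)) (fun hj => by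
        rw [hLd, hSd] at hdim
        have e : 2 * i * j = 2 * i * (j - 1) + 2 * i := by
          conv_lhs => rw [show j = j - 1 + 1 by omega, Nat.mul_succ]
        omega)
    have hWS : W ≤ perp Q S := (hWR.trans inf_le_right).trans (QuadType.perp_anti Q hSL)
    refine ⟨S ⊔ W, sup_le hSU (hWR.trans inf_le_left), sup_inv hS hW, ts_sup Q hts hWts hWS, ?_⟩
    have hd : S ⊓ W = ⊥ := le_bot_iff.1 (le_trans
      (le_inf (inf_le_left.trans hSL) (le_inf le_top (inf_le_right.trans (hWR.trans inf_le_right))))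
      (QuadType.inf_perp Q hL ⊤).le)
    have h4 := Submodule.finrank_sup_add_finrank_inf_eq S W
    rw [hd, finrank_bot, add_zero] at h4
    rw [h4, hSd, hWd, Nat.mul_succ, add_comm]

/-- A common zero in `U` of few quadratic forms `v ↦ B(T v, v)`. -/
theorem exists_zero [Fintype F] {p : ℕ} [Fact p.Prime] [CharP F p] {n : ℕ} (T : Fin n → End F (ι → F))
    {U : Submodule F (ι → F)} (h : 2 * n < finrank F U) : ∃ v ∈ U, v ≠ 0 ∧ ∀ j, polarBilin Q (T j v) v = 0 := by
  let b := Module.finBasis F U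
  let P : Fin n → MvPolynomial (Fin (finrank F U)) F := fun j =>
    ∑ a, ∑ c, MvPolynomial.C (polarBilin Q (T j (b a : ι → F)) (b c)) * (MvPolynomial.X a * MvPolynomial.X c)
  have hdeg : ∀ j, (P j).totalDegree ≤ 2 := fun j => by
    refine MvPolynomial.totalDegree_finsetSum_le fun a _ => MvPolynomial.totalDegree_finsetSum_le fun c _ => ?_
    refine (MvPolynomial.totalDegree_mul _ _).trans ?_
    rw [MvPolynomial.totalDegree_C, zero_add]
    exact (MvPolynomial.totalDegree_mul _ _).trans (by simp [MvPolynomial.totalDegree_X])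
  have hlt : (∑ j, (P j).totalDegree) < Fintype.card (Fin (finrank F U)) := by
    refine lt_of_le_of_lt (Finset.sum_le_card_nsmul _ _ 2 fun j _ => hdeg j) ?_
    rw [Finset.card_univ, Fintype.card_fin, Fintype.card_fin, smul_eq_mul, mul_comm]
    exact h
  have hdvd := char_dvd_card_solutions_of_fintype_sum_lt p hlt
  have h0 : ∀ j, MvPolynomial.eval (0 : Fin (finrank F U) → F) (P j) = 0 := fun j => by simp [P, map_sum]
  haveI : Nontrivial {x : Fin (finrank F U) → F // ∀ j, MvPolynomial.eval x (P j) = 0} := by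
    rw [← Fintype.one_lt_card_iff_nontrivial]
    have hp := (Fact.out : p.Prime).two_le
    have hpos : 0 < Fintype.card {x : Fin (finrank F U) → F // ∀ j, MvPolynomial.eval x (P j) = 0} :=
      Fintype.card_pos_iff.2 ⟨⟨0, h0⟩⟩
    have := Nat.le_of_dvd hpos (by convert hdvd)
    omega
  obtain ⟨⟨x, hx⟩, hne⟩ := exists_ne (⟨0, h0⟩ : {x : Fin (finrank F U) → F // ∀ j, MvPolynomial.eval x (P j) = 0})
  refine ⟨((∑ a, x a • b a : U) : ι → F), SetLike.coe_mem _, fun e => hne (Subtype.ext ?_), fun j => ?_⟩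
  · funext a
    have e' : (∑ a, x a • b a : U) = 0 := Subtype.ext e
    exact Fintype.linearIndependent_iff.1 b.linearIndependent x e' a
  · rw [← hx j]
    simp only [P, map_sum, map_mul, MvPolynomial.eval_C, MvPolynomial.eval_X, Submodule.coe_sum, Submodule.coe_smul,
      map_smul, LinearMap.sum_apply, LinearMap.smul_apply, smul_eq_mul, Finset.mul_sum]
    rw [Finset.sum_comm]
    refine Finset.sum_congr rfl fun a _ => Finset.sum_congr rfl fun c _ => ?_
    ring

variable [Fintype F] {p : ℕ} [Fact p.Prime] [CharP F p] {r : ℕ} [hr : Fact r.Prime]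

/-- An irreducible totally singular invariant subspace of a moved space. -/
theorem exists_ts_moved (hQ : (polarBilin Q).Nondegenerate) (h2 : (2 : F) ≠ 0) (hrp : r ≠ p) (hr2 : r ≠ 2) {i : ℕ}
    (hi : orderOf ((Fintype.card F : ℕ) : ZMod r) = i) {X : End F (ι → F)}
    (hX : X ^ r = 1) (hiso : ∀ v, Q (X v) = Q v) {U : Submodule F (ι → F)} (hU : Nd Q U) (hUi : U.map X ≤ U)
    (hUm : U ≤ moved X r) (hbig : (Odd i ∧ U ≠ ⊥) ∨ r - 1 < finrank F U) :
    ∃ S ≤ U, S.map X ≤ S ∧ TS Q S ∧ finrank F S = i := by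
  have hi0 : 0 < i := hi ▸ PrimeElemFlags.order_pos rfl hrp
  rcases hbig with ⟨hodd, hne⟩ | hlt
  · obtain ⟨L, hLU, hL, hLi, hLd, hLp⟩ := OrthDecomp.exists_atom Q hQ h2 hrp hr2 hi hX hiso hU hUi hUm hne
    rw [step, if_neg (Nat.not_even_iff_odd.2 hodd)] at hLd
    obtain ⟨-, hsub⟩ := LinDecomp.moved_sub hrp hi hX hLi (hLU.trans hUm)
    obtain ⟨S, hS, hSL, hSd⟩ := hsub 1 (by rw [hLd]; omega)
    rw [mul_one] at hSd
    refine ⟨S, hSL.trans hLU, hS, ?_, hSd⟩
    have hperpS := OrthDecomp.perp_inv Q hX hr.out.pos hiso hS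
    obtain ⟨⟨b, hb⟩, -⟩ := LinDecomp.moved_sub hrp hi hX (inf_inv hS hperpS) (inf_le_left.trans (hSL.trans (hLU.trans hUm)))
    rcases Nat.eq_zero_or_pos b with rfl | hb0
    · exfalso
      rw [mul_zero, Submodule.finrank_eq_zero] at hb
      have hnd : Nd Q S := fun v hv hv0 => by
        by_contra hne
        push Not at hne
        exact hv0 ((Submodule.mem_bot F).1 (hb ▸ ⟨hv, fun w hw => by rw [quad_polar_comm, hne w hw]⟩))
      obtain ⟨A, hAS, -, -, hAd, -⟩ := OrthDecomp.exists_atom Q hQ h2 hrp hr2 hi hX hiso hnd hS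
        (hSL.trans (hLU.trans hUm)) (fun e => by rw [e, finrank_bot] at hSd; omega)
      rw [step, if_neg (Nat.not_even_iff_odd.2 hodd)] at hAd
      have := Submodule.finrank_mono hAS
      omega
    · have e : S ⊓ perp Q S = S := Submodule.eq_of_le_of_finrank_le inf_le_left
        (by rw [hb, hSd]; exact Nat.le_mul_of_pos_right _ hb0)
      exact QuadType.ts_of_perp Q h2 (e.symm.le.trans inf_le_right)
  · obtain ⟨h, hh⟩ := hr.out.odd_of_ne_two hr2
    obtain ⟨v, hv, hv0, hvq⟩ := exists_zero Q (p := p) (fun j : Fin h => X ^ ((j : ℕ) + 1)) (U := U) (by omega)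
    have hpiso : ∀ (k : ℕ) u w, polarBilin Q ((X ^ k) u) ((X ^ k) w) = polarBilin Q u w := fun k => by
      induction k with
      | zero => simp
      | succ k ih => intro u w; rw [pow_succ', End.mul_apply, End.mul_apply, quad_polar_map Q hiso, ih]
    have hnz : ∀ k : ℕ, 0 < k % r → polarBilin Q ((X ^ k) v) v = 0 := fun k h0 => by
      rw [pow_eq_pow_mod k hX]
      have hk := Nat.mod_lt k hr.out.pos
      by_cases hkh : k % r ≤ h
      · have := hvq ⟨k % r - 1, by omega⟩
        simpa [show k % r - 1 + 1 = k % r by omega] using this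
      · have := hvq ⟨r - k % r - 1, by omega⟩
        simp only [show r - k % r - 1 + 1 = r - k % r by omega] at this
        rw [← hpiso (r - k % r), ← End.mul_apply, ← pow_add, show r - k % r + k % r = r by omega, hX, End.one_apply,
          quad_polar_comm, this]
    have hzero : ∀ k : ℕ, polarBilin Q ((X ^ k) v) v = 0 := by
      have h0 : polarBilin Q v v = 0 := by
        have hc : aeval X (cyclotomic r F) v = 0 := hUm hv
        rw [cyclotomic_prime, map_sum, LinearMap.sum_apply] at hc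
        have e := congrArg (fun z => polarBilin Q z v) hc
        simp only [map_pow, aeval_X, map_sum, LinearMap.sum_apply, map_zero, LinearMap.zero_apply] at e
        rw [Finset.sum_eq_single 0 (fun j hj hj0 => hnz j (by
          rw [Nat.mod_eq_of_lt (Finset.mem_range.1 hj)]; exact Nat.pos_of_ne_zero hj0))
          (fun hh => absurd (Finset.mem_range.2 hr.out.pos) hh), pow_zero, End.one_apply] at e
        exact e
      intro k
      rcases Nat.eq_zero_or_pos (k % r) with hk | hk
      · rw [pow_eq_pow_mod k hX, hk]; simpa using h0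
      · exact hnz k hk
    set Z := Submodule.span F (Set.range fun j : Fin r => (X ^ (j : ℕ)) v) with hZ
    have hvZ : v ∈ Z := Submodule.subset_span ⟨⟨0, hr.out.pos⟩, rfl⟩
    have hZU : Z ≤ U := by
      rw [hZ, Submodule.span_le]
      rintro _ ⟨j, rfl⟩
      have h := PrimeElem.aeval_mem X hUi (Polynomial.X ^ (j : ℕ)) hv
      rwa [map_pow, aeval_X] at h
    have hZi : Z.map X ≤ Z := by
      rw [hZ, Submodule.map_span, Submodule.span_le]
      rintro _ ⟨_, ⟨j, rfl⟩, rfl⟩
      rw [SetLike.mem_coe, ← End.mul_apply, ← pow_succ', pow_eq_pow_mod _ hX]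
      exact Submodule.subset_span ⟨⟨_, Nat.mod_lt _ hr.out.pos⟩, rfl⟩
    have hZti : Z ≤ perp Q Z := by
      have key : ∀ a b : ℕ, a < r → polarBilin Q ((X ^ a) v) ((X ^ b) v) = 0 := fun a b ha => by
        rw [← hpiso (r - a), ← End.mul_apply, ← End.mul_apply, ← pow_add, ← pow_add, show r - a + a = r by omega, hX,
          End.one_apply, quad_polar_comm, hzero]
      intro x hx w hw
      rw [hZ] at hx hw
      induction hx using Submodule.span_induction with
      | mem x hx =>
        obtain ⟨b, rfl⟩ := hx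
        induction hw using Submodule.span_induction with
        | mem w hw => obtain ⟨a, rfl⟩ := hw; exact key _ _ a.2
        | zero => simp
        | add y z _ _ h1 h2 => rw [map_add, LinearMap.add_apply, h1, h2, add_zero]
        | smul c y _ h1 => rw [map_smul, LinearMap.smul_apply, h1, smul_zero]
      | zero => simp
      | add y z _ _ h1 h2 => rw [map_add, h1, h2, add_zero]
      | smul c y _ h1 => rw [map_smul, h1, smul_zero]
    obtain ⟨⟨b, hb⟩, hZsub⟩ := LinDecomp.moved_sub hrp hi hX hZi (hZU.trans hUm)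
    have hb0 : 0 < b := Nat.pos_of_ne_zero fun e => by
      rw [e, mul_zero, Submodule.finrank_eq_zero] at hb
      exact hv0 ((Submodule.mem_bot F).1 (hb ▸ hvZ))
    obtain ⟨S, hS, hSZ, hSd⟩ := hZsub 1 (by rw [hb]; exact Nat.mul_le_mul_left _ hb0)
    exact ⟨S, hSZ.trans hZU, hS, fun x hx => QuadType.ts_of_perp Q h2 hZti x (hSZ hx), by rwa [mul_one] at hSd⟩

/-- The kernel of a self-reciprocal factor is non-degenerate. -/
theorem ker_nd (hQ : (polarBilin Q).Nondegenerate) (hrp : r ≠ p) (hr2 : r ≠ 2) {i : ℕ}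
    (hi : orderOf ((Fintype.card F : ℕ) : ZMod r) = i) (hev : Even i) {X : End F (ι → F)}
    (hX : X ^ r = 1) (hiso : ∀ v, Q (X v) = Q v) {g : F[X]} (hg : Irreducible g)
    (hgd : g ∣ cyclotomic r F) : Nd Q (LinearMap.ker (aeval X g)) := by
  have hr0 : (r : F) ≠ 0 := PrimeElemFlags.cast_ne_zero hrp
  obtain ⟨R, hR⟩ := IsoDecomp.dvd_recip hrp hr2 hi hev hg hgd
  have hdvd : g ∣ Polynomial.X ^ r - C (1 : F) := hgd.trans
    ⟨Polynomial.X - 1, by rw [map_one, cyclotomic_prime_mul_X_sub_one]⟩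
  obtain ⟨G, hG⟩ := hdvd
  have hsq : Squarefree (Polynomial.X ^ r - C (1 : F)) := PrimeElemFlags.sq hr0 one_ne_zero
  have hco : IsCoprime g G := hg.coprime_iff_not_dvd.2 fun ⟨G', hG'⟩ =>
    hg.not_isUnit (hsq g ⟨G', by rw [hG, hG', mul_assoc]⟩)
  obtain ⟨a, b, hab⟩ := hco
  have hzero : aeval X (g * G) = 0 := by rw [← hG]; exact PrimeElemFlags.aeval_eq_zero (by rw [hX, one_smul])
  have hXX : (X ^ (r - 1)) ^ (r - 1) = X := by
    obtain ⟨m, hm⟩ := Nat.exists_eq_add_of_le hr.out.two_le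
    rw [← pow_mul, show (r - 1) * (r - 1) = r * m + 1 by subst hm; rw [show 2 + m - 1 = m + 1 by omega]; ring,
      pow_succ, pow_mul, hX, one_pow, one_mul]
  have hadj : ∀ (R : F[X]) u v, polarBilin Q u (aeval (X ^ (r - 1)) R v) = polarBilin Q (aeval X R u) v := fun R u v => by
    induction R using Polynomial.induction_on generalizing v with
    | C a => simp [Algebra.algebraMap_eq_smul_one]
    | add A B hA hB => simp only [map_add, LinearMap.add_apply, hA, hB]
    | monomial j a ih =>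
      have hinv : ∀ a b, polarBilin Q a ((X ^ (r - 1)) b) = polarBilin Q (X a) b := fun a b => by
        rw [← quad_polar_map Q hiso a, ← End.mul_apply, ← pow_succ', Nat.sub_add_cancel hr.out.one_lt.le, hX, End.one_apply]
      rw [pow_succ, ← mul_assoc, map_mul, aeval_X, End.mul_apply, ih, hinv, ← End.mul_apply,
        show aeval X (C a * Polynomial.X ^ j * Polynomial.X) = X * aeval X (C a * Polynomial.X ^ j) by
          rw [mul_comm (C a * Polynomial.X ^ j) Polynomial.X, map_mul, aeval_X]]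
  intro v hv hv0
  obtain ⟨x, -, hx⟩ := QuadType.nd_top Q hQ v Submodule.mem_top hv0
  have hx' : aeval X (a * g) x + aeval X (b * G) x = x := by
    rw [← LinearMap.add_apply, ← map_add, hab, map_one]; rfl
  refine ⟨aeval X (b * G) x, ?_, fun h0 => hx ?_⟩
  · rw [LinearMap.mem_ker, ← End.mul_apply, ← map_mul, show g * (b * G) = b * (g * G) by ring, map_mul, hzero, mul_zero]
    rfl
  · rw [← hx', map_add, h0, add_zero, mul_comm, map_mul, End.mul_apply,
      show aeval X g = aeval (X ^ (r - 1)) (g.comp (Polynomial.X ^ (r - 1))) by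
        rw [aeval_comp, map_pow, aeval_X, hXX], hadj, hR, mul_comm, map_mul, End.mul_apply, LinearMap.mem_ker.1 hv,
      map_zero, map_zero, LinearMap.zero_apply]

end Cfsg.Agent.Lib.MaxSub.OrthTS
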