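import Cfsg.Agent.Lib.MaxSub.QuadAny
import Cfsg.Agent.Lib.MaxSub.OrthTS
import Cfsg.Agent.Lib.MaxSub.OrthNdSub
import Cfsg.Agent.Lib.MaxSub.IsoTIElem
import Mathlib

/-!
Isometries of odd prime order of quadratic spaces of even dimension, in any characteristic prime to that order.
-/

set_option autoImplicit false
set_option maxHeartbeats 1000000
set_option linter.unusedSectionVars false

namespace Cfsg.Agent.Lib.MaxSub.OrthAny

open Module Polynomial Cfsg.Agent.Lib.MaxSub Cfsg.Agent.Lib.Geometry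
open Cfsg.Agent.Lib.MaxSub.QuadType (Nd TS Plus perp)
open Cfsg.Agent.Lib.MaxSub.IsoDecomp (step fixed moved mem_fixed moved_inv map_eq inf_inv sup_inv fixed_inv pow_moved decompose)
open Cfsg.Agent.Lib.MaxSub.OrthDecomp (perp_inv zeros_mod typ fixer fixer_mem orth nd_parts)
open Cfsg.Agent.Lib.MaxSub.IsoTIElem (factors mem_factors coprime_of_ne)
open QuadraticMap (polarBilin)
open scoped _root_.Classical

attribute [-simp] QuadraticMap.polarBilin_apply_apply

variable {ι : Type} [Fintype ι] [DecidableEq ι] {F : Type*} [Field F] (Q : QuadraticForm F (ι → F))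

theorem even_of_two (h2 : (2 : F) = 0) : ∀ (N : ℕ) {U : Submodule F (ι → F)}, Nd Q U → finrank F U = N → Even N := by
  intro N
  induction N using Nat.strong_induction_on with
  | _ N ih =>
  intro U hU hN
  rcases Nat.eq_zero_or_pos N with rfl | hpos
  · exact Even.zero
  obtain ⟨u, hu, hu0⟩ := (Submodule.ne_bot_iff U).1 fun e => by rw [e, finrank_bot] at hN; omega
  obtain ⟨y, hy, huy⟩ := hU u hu hu0
  have hd0 : ∀ v, polarBilin Q v v = 0 := fun v => by rw [quad_polar_self, h2, zero_mul]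
  obtain ⟨L, hLU, hL, hLd⟩ : ∃ L ≤ U, Nd Q L ∧ finrank F L = 2 := by
    refine ⟨(F ∙ u) ⊔ (F ∙ y), sup_le ((Submodule.span_singleton_le_iff_mem _ _).2 hu)
      ((Submodule.span_singleton_le_iff_mem _ _).2 hy), fun a ha ha0 => ?_, ?_⟩
    · obtain ⟨a1, h1, a2, h3, rfl⟩ := Submodule.mem_sup.1 ha
      obtain ⟨s, rfl⟩ := Submodule.mem_span_singleton.1 h1
      obtain ⟨t, rfl⟩ := Submodule.mem_span_singleton.1 h3
      by_cases hs : s = 0
      · subst hs
        refine ⟨u, Submodule.mem_sup_left (Submodule.mem_span_singleton_self u), ?_⟩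
        rw [zero_smul, zero_add] at ha0 ⊢
        rw [map_smul, LinearMap.smul_apply, quad_polar_comm Q y u]
        exact smul_ne_zero (smul_ne_zero_iff.1 ha0).1 huy
      · refine ⟨y, Submodule.mem_sup_right (Submodule.mem_span_singleton_self y), ?_⟩
        rw [map_add, LinearMap.add_apply, map_smul, map_smul, LinearMap.smul_apply, LinearMap.smul_apply, hd0, smul_zero,
          add_zero]
        exact smul_ne_zero hs huy
    · have hi : (F ∙ u) ⊓ (F ∙ y) = ⊥ := by
        rw [Submodule.eq_bot_iff]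
        rintro x ⟨h1, h3⟩
        obtain ⟨s, rfl⟩ := Submodule.mem_span_singleton.1 h1
        obtain ⟨t, ht⟩ := Submodule.mem_span_singleton.1 h3
        have e := congrArg (fun z => polarBilin Q z y) ht
        simp only [map_smul, LinearMap.smul_apply, hd0, smul_zero] at e
        rw [(smul_eq_zero.1 e.symm).resolve_right huy, zero_smul]
      have h4 := Submodule.finrank_sup_add_finrank_inf_eq (F ∙ u) (F ∙ y)
      rw [hi, finrank_bot, add_zero, finrank_span_singleton hu0,
        finrank_span_singleton (fun e => huy (by rw [e, map_zero]))] at h4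
      exact h4
  obtain ⟨-, hR, hdim⟩ := QuadType.split_off Q hU hL hLU
  obtain ⟨t, ht⟩ := ih _ (by omega) hR rfl
  exact ⟨t + 1, by omega⟩

/-- Totally isotropic invariant subspaces of a moved space are totally singular. -/
theorem ts_moved {X : End F (ι → F)} {r : ℕ} [hr : Fact r.Prime] (hr0 : (r : F) ≠ 0) (hX : X ^ r = 1)
    (hiso : ∀ v, Q (X v) = Q v) {S : Submodule F (ι → F)} (hS : S.map X ≤ S) (hSm : S ≤ moved X r)
    (hti : S ≤ perp Q S) : TS Q S := by
  by_cases h2 : (2 : F) = 0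
  swap
  · exact QuadType.ts_of_perp Q h2 hti
  intro s hs
  let T : S →ₗ[F] S := LinearMap.restrict (X - 1) fun v hv => S.sub_mem (hS (Submodule.mem_map_of_mem hv)) hv
  have hT : Function.Injective T := (injective_iff_map_eq_zero T).2 fun v hv => Subtype.ext (by
    have h0 : (v : ι → F) ∈ fixed X ⊓ moved X r := ⟨mem_fixed.2 (sub_eq_zero.1 (congrArg Subtype.val hv)), hSm v.2⟩
    rwa [pow_moved hr0 hX, Submodule.mem_bot] at h0)
  obtain ⟨u, hu⟩ := LinearMap.injective_iff_surjective.1 hT ⟨s, hs⟩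
  have e : X (u : ι → F) - (u : ι → F) = s := congrArg Subtype.val hu
  rw [← e, quad_sub, hiso, hti u.2 _ (hS (Submodule.mem_map_of_mem u.2))]
  linear_combination (Q (u : ι → F)) * h2

variable [Fintype F] {p : ℕ} [Fact p.Prime] [CharP F p] {r : ℕ} [hr : Fact r.Prime]
variable (hQ : (polarBilin Q).Nondegenerate)

/-- Invariant spaces with `B(Xv, v) = 0` throughout are totally isotropic. -/
theorem ti_of_diag (hrp : r ≠ p) (hr2 : r ≠ 2) {X : End F (ι → F)} (hX : X ^ r = 1) (hiso : ∀ v, Q (X v) = Q v)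
    {K : Submodule F (ι → F)} (hK : K.map X ≤ K) (hKm : K ≤ moved X r) (hKv : ∀ v ∈ K, polarBilin Q (X v) v = 0) :
    K ≤ perp Q K := by
  have hr0 : (r : F) ≠ 0 := PrimeElemFlags.cast_ne_zero hrp
  have hXm : ∀ v ∈ K, X v ∈ K := fun v hv => hK (Submodule.mem_map_of_mem hv)
  have hYm : ∀ v ∈ K, (X ^ (r - 1)) v ∈ K := fun v hv => by
    have := PrimeElem.aeval_mem X hK (Polynomial.X ^ (r - 1)) hv
    rwa [map_pow, aeval_X] at this
  let T : K →ₗ[F] K := LinearMap.restrict (X + X ^ (r - 1)) fun v hv => K.add_mem (hXm v hv) (hYm v hv)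
  have hinv : ∀ v, X ((X ^ (r - 1)) v) = v := fun v => by
    rw [← End.mul_apply, ← pow_succ', Nat.sub_add_cancel hr.out.one_lt.le, hX, End.one_apply]
  have hT : Function.Injective T := (injective_iff_map_eq_zero T).2 fun v hv => Subtype.ext (by
    have e : X (v : ι → F) + (X ^ (r - 1)) (v : ι → F) = 0 := congrArg Subtype.val hv
    have e2 : X (X (v : ι → F)) = -(v : ι → F) := by
      have := congrArg X e
      rw [map_add, hinv, map_zero] at this
      exact eq_neg_of_add_eq_zero_left this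
    have e4 : ∀ n : ℕ, (X ^ (4 * n)) (v : ι → F) = v := fun n => by
      induction n with
      | zero => rfl
      | succ n ih =>
        rw [Nat.mul_succ, pow_add, End.mul_apply, show (X ^ 4) (v : ι → F) = v by
          rw [show X ^ 4 = X * X * (X * X) by simp [pow_succ, mul_assoc], End.mul_apply, End.mul_apply, End.mul_apply, e2,
            map_neg, map_neg, e2, neg_neg], ih]
    obtain ⟨k, hk, hk1⟩ := Nat.exists_mul_mod_eq_one_of_coprime
      (Nat.Coprime.pow_left 2 ((Nat.coprime_primes Nat.prime_two hr.out).2 (Ne.symm hr2)) : Nat.Coprime (2 ^ 2) r)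
      hr.out.one_lt
    have hfix : X (v : ι → F) = v := by
      have := e4 k
      rwa [pow_eq_pow_mod _ hX, show (4 * k) % r = 1 from hk1, pow_one] at this
    have h0 : (v : ι → F) ∈ fixed X ⊓ moved X r := ⟨mem_fixed.2 hfix, hKm v.2⟩
    rwa [pow_moved hr0 hX, Submodule.mem_bot] at h0)
  intro v hv w hw
  obtain ⟨u, hu⟩ := LinearMap.injective_iff_surjective.1 hT ⟨w, hw⟩
  have e : X (u : ι → F) + (X ^ (r - 1)) (u : ι → F) = w := congrArg Subtype.val hu
  have h1 := hKv _ (K.add_mem u.2 hv)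
  rw [map_add, map_add, map_add, LinearMap.add_apply, LinearMap.add_apply, hKv _ u.2, hKv v hv, zero_add, add_zero] at h1
  rw [← e, map_add, LinearMap.add_apply, ← quad_polar_map Q hiso ((X ^ (r - 1)) (u : ι → F)) v, hinv,
    quad_polar_comm Q (u : ι → F) (X v)]
  rw [add_comm]; exact h1

include hQ in
/-- A non-degenerate moved space has a piece of least dimension. -/
theorem exists_atom {X : End F (ι → F)} (hrp : r ≠ p) (hr2 : r ≠ 2) {i : ℕ}
    (hi : orderOf ((Fintype.card F : ℕ) : ZMod r) = i)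
    (hX : X ^ r = 1) (hiso : ∀ v, Q (X v) = Q v) {U : Submodule F (ι → F)} (hU : Nd Q U)
    (hUi : U.map X ≤ U) (hUm : U ≤ moved X r) (hne : U ≠ ⊥) :
    ∃ L ≤ U, Nd Q L ∧ L.map X ≤ L ∧ finrank F L = step i ∧ (Plus Q L ↔ Odd i) := by
  have hr0 : (r : F) ≠ 0 := PrimeElemFlags.cast_ne_zero hrp
  have hrpos := hr.out.pos
  have hperp : ∀ {S : Submodule F (ι → F)}, S.map X ≤ S → (perp Q S).map X ≤ perp Q S := fun h => perp_inv Q hX hrpos hiso h
  have hfac : ∀ W ≤ U, W.map X ≤ W → W ≠ ⊥ → ∃ g : F[X], Irreducible g ∧ g.Monic ∧ g ∣ cyclotomic r F ∧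
      ∃ w ∈ W, w ≠ 0 ∧ aeval X g w = 0 := fun W hWU hW hW0 => by
    obtain ⟨v, hv, hv0⟩ := (Submodule.ne_bot_iff W).1 hW0
    exact PrimeElem.exists_factor X hW _ (cyclotomic_ne_zero r F) v hv hv0 (hUm (hWU hv))
  have hdeg : ∀ g : F[X], Irreducible g → g ∣ cyclotomic r F → g.natDegree = i := fun g hg hd =>
    (PrimeElemFlags.deg_eq rfl hrp g hg hd).trans hi
  have hi0 : 0 < i := hi ▸ PrimeElemFlags.order_pos rfl hrp
  have hmin : ∀ W ≤ U, W.map X ≤ W → W ≠ ⊥ → ∃ S ≤ W, S.map X ≤ S ∧ finrank F S = i := fun W hWU hW hW0 => by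
    obtain ⟨g, hg, hm, hgd, w, hw, hw0, hgw⟩ := hfac W hWU hW hW0
    obtain ⟨S, hS, hSW, hSd⟩ := PrimeElem.exists_cyclic X hg hm hW hw hw0 hgw
    exact ⟨S, hSW, hS, hSd.trans (hdeg g hg hgd)⟩
  have hirr : ∀ S ≤ U, finrank F S = i → ∀ W ≤ S, W.map X ≤ W → W ≠ ⊥ → W = S := fun S hSU hSd W hWS hW hW0 => by
    obtain ⟨S', hS', -, hS'd⟩ := hmin W (hWS.trans hSU) hW hW0
    exact Submodule.eq_of_le_of_finrank_le hWS (by rw [hSd, ← hS'd]; exact Submodule.finrank_mono hS')
  have hrad : ∀ S ≤ U, S.map X ≤ S → finrank F S = i → ¬ S ≤ perp Q S → Nd Q S := by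
    intro S hSU hS hSd hnot a ha ha0
    by_contra hc
    push Not at hc
    refine hnot ?_
    have h := hirr S hSU hSd (S ⊓ perp Q S) inf_le_left (inf_inv hS (hperp hS))
      ((Submodule.ne_bot_iff _).2 ⟨a, ⟨ha, fun w hw => by rw [quad_polar_comm]; exact hc w hw⟩, ha0⟩)
    exact fun v hv => (h.symm ▸ hv : v ∈ S ⊓ perp Q S).2
  have hpow : ∀ j : ℕ, Fintype.card F ^ j ≡ 1 [MOD r] ↔ i ∣ j := fun j => by
    rw [← hi, orderOf_dvd_iff_pow_eq_one, ← Nat.cast_pow, ← Nat.cast_one (R := ZMod r), ZMod.natCast_eq_natCast_iff]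
  by_cases hex : ∃ S ≤ U, S.map X ≤ S ∧ finrank F S = i ∧ Nd Q S
  · obtain ⟨S, hSU, hS, hSd, hSn⟩ := hex
    have hcnt := zeros_mod Q hr0 hX hiso hS (hSU.trans hUm)
    rcases Nat.even_or_odd i with ⟨e, he⟩ | ⟨e, he⟩
    · refine ⟨S, hSU, hSn, hS, by rw [step, if_pos ⟨e, he⟩, hSd], iff_of_false (fun hp => ?_) (Nat.not_odd_iff_even.2 ⟨e, he⟩)⟩
      rw [Nat.card_congr (Equiv.refl _), QuadCount.card_plus Q hQ hSn (a := e) (by omega) hp 0, if_pos rfl] at hcnt
      -- half of the order gives `-1`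
      have hneg : ((Fintype.card F : ℕ) : ZMod r) ^ e = -1 := by
        have h1 : ((Fintype.card F : ℕ) : ZMod r) ^ e * ((Fintype.card F : ℕ) : ZMod r) ^ e = 1 := by
          rw [← pow_add, ← he, ← hi, pow_orderOf_eq_one]
        refine (mul_self_eq_one_iff.1 h1).resolve_left fun h2 => ?_
        have := Nat.le_of_dvd (by omega) (hi ▸ orderOf_dvd_of_pow_eq_one h2)
        omega
      have h1' : 1 ≤ Fintype.card F ^ e := Nat.one_le_pow _ _ Fintype.card_pos
      have h := (ZMod.natCast_eq_natCast_iff _ _ r).2 hcnt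
      push_cast [Nat.cast_sub h1'] at h
      obtain ⟨g, rfl⟩ : ∃ g, e = g + 1 := ⟨e - 1, by omega⟩
      rw [hneg, Nat.add_sub_cancel] at h
      rw [pow_succ] at hneg
      have h2' : (2 : ZMod r) ≠ 0 := by
        intro h
        have h' : ((2 : ℕ) : ZMod r) = 0 := by exact_mod_cast h
        exact hr2 ((Nat.prime_dvd_prime_iff_eq hr.out Nat.prime_two).1 ((ZMod.natCast_eq_zero_iff _ _).1 h'))
      set a := ((Fintype.card F : ℕ) : ZMod r)
      have h3 : a ^ g + 1 = 0 := (mul_eq_zero.1 (show (2 : ZMod r) * (a ^ g + 1) = 0 by linear_combination -h)).resolve_left h2'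
      have h4 : a = 1 := by linear_combination (-1 : ZMod r) * hneg + a * h3
      have := Nat.le_of_dvd one_pos (hi ▸ orderOf_dvd_of_pow_eq_one (show a ^ 1 = 1 by rw [pow_one, h4]))
      omega
    · exfalso
      by_cases h2 : (2 : F) = 0
      · have := Nat.even_iff.1 (even_of_two Q h2 _ hSn rfl)
        rw [hSd, he] at this
        omega
      · rw [QuadCount.card_odd Q hQ h2 hSn (a := e) (hSd.trans he)] at hcnt
        have hd := (hpow _).1 hcnt
        rcases Nat.eq_zero_or_pos e with rfl | he0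
        · obtain ⟨v, hv, hv0⟩ := (Submodule.ne_bot_iff S).1 fun h => by rw [h, finrank_bot] at hSd; omega
          have hspan : (F ∙ v) = S := Submodule.eq_of_le_of_finrank_le ((Submodule.span_singleton_le_iff_mem _ _).2 hv)
            (by rw [finrank_span_singleton hv0]; omega)
          obtain ⟨ζ, hζ⟩ := Submodule.mem_span_singleton.1 (hspan.symm ▸ hS (Submodule.mem_map_of_mem hv) : X v ∈ F ∙ v)
          have hQv : Q v ≠ 0 := fun h0 => by
            obtain ⟨x, hx, hvx⟩ := hSn v hv hv0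
            rw [← hspan, Submodule.mem_span_singleton] at hx
            obtain ⟨c, rfl⟩ := hx
            exact hvx (by rw [map_smul, quad_polar_self, h0, mul_zero, smul_zero])
          have hsq : ζ * ζ = 1 := mul_right_cancel₀ hQv (by rw [one_mul, ← quad_smul Q ζ v, hζ, hiso])
          have hj : ∀ j : ℕ, (X ^ j) v = ζ ^ j • v := fun j => by
            induction j with
            | zero => simp
            | succ j ih => rw [pow_succ', End.mul_apply, ih, map_smul, ← hζ, smul_smul, pow_succ]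
          have hone : ζ ^ r = 1 := smul_left_injective F hv0 (by show ζ ^ r • v = (1 : F) • v; rw [← hj, hX, one_smul]; rfl)
          obtain ⟨t, ht⟩ := hr.out.odd_of_ne_two hr2
          have hζ1 : ζ = 1 := by rw [ht, pow_succ, pow_mul, pow_two, hsq, one_pow, one_mul] at hone; exact hone
          have h0 : v ∈ fixed X ⊓ moved X r := ⟨mem_fixed.2 (by rw [← hζ, hζ1, one_smul]), hUm (hSU hv)⟩
          rw [pow_moved hr0 hX, Submodule.mem_bot] at h0
          exact hv0 h0
        · obtain ⟨t, ht⟩ := hd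
          rcases t with _ | t
          · omega
          · rw [Nat.mul_succ] at ht; omega
  have hiso' : ∀ S ≤ U, S.map X ≤ S → finrank F S = i → S ≤ perp Q S := fun S hSU hS hSd => by
    by_contra h
    exact hex ⟨S, hSU, hS, hSd, hrad S hSU hS hSd h⟩
  rcases Nat.even_or_odd i with hev | hodd
  · exfalso
    obtain ⟨g, hg, hm, hgd, w₀, hw₀, hw₀0, hgw₀⟩ := hfac U le_rfl hUi hne
    set K := U ⊓ LinearMap.ker (aeval X g) with hK
    have hKv : ∀ v ∈ K, polarBilin Q (X v) v = 0 := by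
      intro v hv
      by_cases hv0 : v = 0
      · simp [hv0]
      let Z : Submodule F (ι → F) := LinearMap.range ((LinearMap.applyₗ v).comp (aeval X).toLinearMap)
      have hZ : ∀ h : F[X], aeval X h v ∈ Z := fun h => ⟨h, rfl⟩
      have hvZ : v ∈ Z := by simpa using hZ 1
      have hZU : Z ≤ U := by rintro _ ⟨h, rfl⟩; exact PrimeElem.aeval_mem X hUi h hv.1
      have hZi : Z.map X ≤ Z := by
        rintro _ ⟨_, ⟨h, rfl⟩, rfl⟩
        refine ⟨Polynomial.X * h, ?_⟩
        show aeval X (Polynomial.X * h) v = X (aeval X h v)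
        rw [map_mul, aeval_X, End.mul_apply]
      obtain ⟨S, hSZ, hS, hSd⟩ := hmin Z hZU hZi ((Submodule.ne_bot_iff _).2 ⟨v, hvZ, hv0⟩)
      have hS0 : S ≠ ⊥ := fun e => by rw [e, finrank_bot] at hSd; omega
      obtain ⟨w, hw, hw0⟩ := (Submodule.ne_bot_iff _).1 hS0
      obtain ⟨h, rfl⟩ := hSZ hw
      have hgv : aeval X g v = 0 := hv.2
      have hgh : ¬ g ∣ h := by
        rintro ⟨Q, rfl⟩
        refine hw0 ?_
        show aeval X (g * Q) v = 0
        rw [mul_comm, map_mul, End.mul_apply, hgv, map_zero]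
      obtain ⟨a, b, hab⟩ := hg.coprime_iff_not_dvd.2 hgh
      have hvS : v ∈ S := by
        have e := congrArg (fun P => aeval X P v) hab
        simp only [map_add, map_mul, LinearMap.add_apply, End.mul_apply, hgv, map_zero, zero_add, map_one,
          End.one_apply] at e
        rw [← e]
        exact PrimeElem.aeval_mem X hS b hw
      exact hiso' S (hSZ.trans hZU) hS hSd hvS (X v) (hS (Submodule.mem_map_of_mem hvS))
    have hKK : K ≤ perp Q K := ti_of_diag Q hrp hr2 hX hiso (inf_inv hUi (PrimeElem.map_ker_le X g))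
      (inf_le_left.trans hUm) hKv
    obtain ⟨R, hR⟩ := IsoDecomp.dvd_recip hrp hr2 hi hev hg hgd
    obtain ⟨G', hG'⟩ := hgd
    have hco : IsCoprime g G' := by
      refine hg.coprime_iff_not_dvd.2 fun hd => ?_
      obtain ⟨G'', hG''⟩ := hd
      have hsq : Squarefree (cyclotomic r F) := (PrimeElemFlags.sq hr0 one_ne_zero).squarefree_of_dvd
        ⟨Polynomial.X - 1, by rw [map_one, cyclotomic_prime_mul_X_sub_one]⟩
      exact hg.not_isUnit (hsq g ⟨G'', by rw [hG', hG'', mul_assoc]⟩)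
    set P := g.comp (Polynomial.X ^ (r - 1)) with hP
    have hXX : (X ^ (r - 1)) ^ (r - 1) = X := by
      obtain ⟨m, hm⟩ := Nat.exists_eq_add_of_le hr.out.two_le
      rw [← pow_mul, show (r - 1) * (r - 1) = r * m + 1 by subst hm; rw [show 2 + m - 1 = m + 1 by omega]; ring,
        pow_succ, pow_mul, hX, one_pow, one_mul]
    have hPX : aeval X P = aeval (X ^ (r - 1)) g := by rw [hP, aeval_comp, map_pow, aeval_X]
    have hPg : ∀ v, aeval X P v = 0 → aeval X g v = 0 := fun v hv => by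
      have h : aeval X g = aeval (X ^ (r - 1)) P := by rw [hP, aeval_comp, map_pow, aeval_X, hXX]
      rw [h, hR, mul_comm, map_mul, End.mul_apply, ← hPX, hv, map_zero]
    have hadj : ∀ (R : F[X]) u v, polarBilin Q u (aeval (X ^ (r - 1)) R v) = polarBilin Q (aeval X R u) v := fun R u v => by
      induction R using Polynomial.induction_on generalizing v with
      | C a => simp [Algebra.algebraMap_eq_smul_one]
      | add A B hA hB => simp only [map_add, LinearMap.add_apply, hA, hB]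
      | monomial j a ih =>
        have hinv : ∀ a b, polarBilin Q a ((X ^ (r - 1)) b) = polarBilin Q (X a) b := fun a b => by
          rw [← quad_polar_map Q hiso a, ← End.mul_apply, ← pow_succ', Nat.sub_add_cancel hr.out.one_lt.le, hX, End.one_apply]
        rw [pow_succ, ← mul_assoc, map_mul, aeval_X, End.mul_apply, ih, hinv, ← End.mul_apply,
          show aeval X (C a * Polynomial.X ^ j * Polynomial.X) = X * aeval X (C a * Polynomial.X ^ j) by
            rw [mul_comm (C a * Polynomial.X ^ j) Polynomial.X, map_mul, aeval_X]]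
    let T : U →ₗ[F] U := LinearMap.restrict (aeval X P) (fun v hv => PrimeElem.aeval_mem X hUi P hv)
    have hTd : Disjoint (LinearMap.range T) (LinearMap.ker T) := by
      rw [Submodule.disjoint_def]
      rintro _ ⟨v, rfl⟩ hv
      have h1 : aeval X g (aeval X P (v : (ι → F))) = 0 := hPg _ (congrArg Subtype.val hv)
      rw [hR, ← End.mul_apply, ← map_mul, ← mul_assoc] at h1
      refine Subtype.ext ?_
      show aeval X P (v : (ι → F)) = 0
      obtain ⟨a, b, hab⟩ := hco
      have h2 : aeval X (g * G') (v : (ι → F)) = 0 := by rw [← hG']; exact hUm v.2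
      rw [hR, show g * R = a * (g * g * R) + b * R * (g * G') from by
        calc g * R = (a * g + b * G') * (g * R) := by rw [hab, one_mul]
          _ = _ := by ring, map_add, LinearMap.add_apply, map_mul, map_mul (aeval X) (b * R), End.mul_apply, End.mul_apply,
        h1, h2, map_zero, map_zero, add_zero]
    have htop : LinearMap.range T ⊔ LinearMap.ker T = ⊤ := by
      refine Submodule.eq_top_of_finrank_eq ?_
      have h1 := Submodule.finrank_sup_add_finrank_inf_eq (LinearMap.range T) (LinearMap.ker T)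
      rw [hTd.eq_bot, finrank_bot, add_zero, LinearMap.finrank_range_add_finrank_ker] at h1
      exact h1
    obtain ⟨x, hx, hwx⟩ := hU w₀ hw₀ hw₀0
    obtain ⟨_, ⟨a, rfl⟩, b, hb, hab⟩ := Submodule.mem_sup.1 (htop ▸ Submodule.mem_top : (⟨x, hx⟩ : U) ∈ _)
    have e : aeval X P (a : (ι → F)) + (b : (ι → F)) = x := congrArg Subtype.val hab
    have hb' : (b : (ι → F)) ∈ K := ⟨b.2, hPg _ (congrArg Subtype.val hb)⟩
    refine hwx ?_
    rw [← e, map_add, hKK hb' w₀ ⟨hw₀, hgw₀⟩, hPX, hadj, hgw₀, map_zero, LinearMap.zero_apply, add_zero]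
  · obtain ⟨S, hSU, hS, hSd⟩ := hmin U le_rfl hUi hne
    have hS0 : S ≠ ⊥ := fun e => by rw [e, finrank_bot] at hSd; omega
    set W' := U ⊓ perp Q S
    have hW'i : W'.map X ≤ W' := inf_inv hUi (hperp hS)
    have hy : aeval X (Polynomial.X ^ r - Polynomial.C (1 : F)) = 0 :=
      PrimeElemFlags.aeval_eq_zero (by rw [hX, one_smul])
    obtain ⟨C, hC, hWC⟩ := PrimeElem.exists_compl (PrimeElemFlags.sq hr0 one_ne_zero) hy hW'i
    have hCU : U ⊓ C ≠ ⊥ := by
      intro h0
      obtain ⟨a, ha, ha0⟩ := (Submodule.ne_bot_iff _).1 hS0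
      obtain ⟨x, hx, hax⟩ := hU a (hSU ha) ha0
      have : x ∈ W' := by
        have h1 : U = W' ⊔ U ⊓ C := by
          rw [inf_comm U C, ← sup_inf_assoc_of_le C (show W' ≤ U from inf_le_left), hWC.sup_eq_top, top_inf_eq]
        rw [h0, sup_bot_eq] at h1
        exact h1 ▸ hx
      exact hax (this.2 a ha)
    obtain ⟨S', hS'C, hS', hS'd⟩ := hmin (U ⊓ C) inf_le_left (inf_inv hUi hC) hCU
    have hS'U : S' ≤ U := hS'C.trans inf_le_left
    have hS'0 : S' ≠ ⊥ := fun e => by rw [e, finrank_bot] at hS'd; omega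
    have hd1 : S' ⊓ perp Q S = ⊥ := by
      rw [Submodule.eq_bot_iff]
      rintro v ⟨hv, hv'⟩
      exact (Submodule.mem_bot F).1 (hWC.inf_eq_bot ▸ ⟨⟨hS'U hv, hv'⟩, (hS'C hv).2⟩)
    have hd2 : S ⊓ perp Q S' = ⊥ := by
      by_contra h0
      have h := hirr S hSU hSd _ inf_le_left (inf_inv hS (hperp hS')) h0
      refine hS'0 (le_bot_iff.1 (hd1 ▸ le_inf le_rfl fun v hv w hw => ?_))
      rw [quad_polar_comm]; exact (h.symm ▸ hw : w ∈ S ⊓ perp Q S').2 v hv
    have hSS := hiso' S hSU hS hSd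
    have hS'S := hiso' S' hS'U hS' hS'd
    have hdisj : S ⊓ S' = ⊥ := le_bot_iff.1 (hd1 ▸ le_inf inf_le_right (inf_le_left.trans hSS))
    refine ⟨S ⊔ S', sup_le hSU hS'U, fun v hv hv0 => ?_, sup_inv hS hS', ?_, iff_of_true ⟨S, le_sup_left,
      ts_moved Q hr0 hX hiso hS (hSU.trans hUm) hSS, ?_⟩ hodd⟩
    · obtain ⟨a, ha, b, hb, rfl⟩ := Submodule.mem_sup.1 hv
      by_contra hc
      push Not at hc
      have ha' : a ∈ perp Q S' := fun w hw => by
        have h1 := hc w (Submodule.mem_sup_right hw)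
        rw [map_add, LinearMap.add_apply, QuadType.mem_perp' Q (hS'S hb) hw, add_zero] at h1
        rw [quad_polar_comm, h1]
      have hb' : b ∈ perp Q S := fun w hw => by
        have h1 := hc w (Submodule.mem_sup_left hw)
        rw [map_add, LinearMap.add_apply, QuadType.mem_perp' Q (hSS ha) hw, zero_add] at h1
        rw [quad_polar_comm, h1]
      apply hv0
      have e1 : a ∈ S ⊓ perp Q S' := ⟨ha, ha'⟩
      have e2 : b ∈ S' ⊓ perp Q S := ⟨hb, hb'⟩
      rw [hd2, Submodule.mem_bot] at e1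
      rw [hd1, Submodule.mem_bot] at e2
      rw [e1, e2, add_zero]
    · have h1 := Submodule.finrank_sup_add_finrank_inf_eq S S'
      rw [hdisj, finrank_bot, add_zero, hSd, hS'd] at h1
      rw [h1, step, if_neg (Nat.not_even_iff_odd.2 hodd), two_mul]
    · have h1 := Submodule.finrank_sup_add_finrank_inf_eq S S'
      rw [hdisj, finrank_bot, add_zero, hSd, hS'd] at h1
      rw [h1, hSd, two_mul]


include hQ in
/-- Non-degenerate moved spaces: dimension, pieces and type. -/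
theorem exists_sub {X : End F (ι → F)} (hrp : r ≠ p) (hr2 : r ≠ 2) {i : ℕ}
    (hi : orderOf ((Fintype.card F : ℕ) : ZMod r) = i) (hX : X ^ r = 1) (hiso : ∀ v, Q (X v) = Q v) :
    ∀ (N : ℕ) {U : Submodule F (ι → F)}, finrank F U = N → Nd Q U → U.map X ≤ U → U ≤ moved X r →
      ∃ s, N = step i * s ∧ (Plus Q U ↔ typ i s) ∧
        ∀ j ≤ s, ∃ L ≤ U, Nd Q L ∧ L.map X ≤ L ∧ finrank F L = step i * j := by
  intro N
  induction N using Nat.strong_induction_on with
  | _ N ih =>
    intro U hN hU hUi hUm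
    by_cases hne : U = ⊥
    · subst hne
      rw [finrank_bot] at hN
      subst hN
      refine ⟨0, by simp, iff_of_true ⟨⊥, le_rfl, fun u hu => by rw [(Submodule.mem_bot F).1 hu, QuadraticMap.map_zero],
        by rw [finrank_bot]⟩ (Or.inr Even.zero), fun j hj => ⟨⊥, bot_le, QuadType.nd_bot Q, by simp, ?_⟩⟩
      rw [finrank_bot, Nat.le_zero.1 hj, mul_zero]
    obtain ⟨A, hAU, hA, hAi, hAd, hAp⟩ := exists_atom Q hQ hrp hr2 hi hX hiso hU hUi hUm hne
    obtain ⟨hsup, hR, hdim⟩ := QuadType.split_off Q hU hA hAU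
    have hi0 : 0 < i := hi ▸ PrimeElemFlags.order_pos rfl hrp
    have hc : 0 < step i := by rw [step]; split_ifs <;> omega
    have hce : Even (step i) := by
      rw [step]; split_ifs with h
      · exact h
      · exact even_two_mul i
    obtain ⟨s, hs, hst, hsub⟩ := ih _ (by omega) rfl hR (inf_inv hUi (perp_inv Q hX hr.out.pos hiso hAi))
      (inf_le_left.trans hUm)
    refine ⟨s + 1, by rw [Nat.mul_succ]; omega, ?_, fun j hj => ?_⟩
    · rw [← hsup, QuadAny.sup_iff Q hQ hA hR inf_le_right (hAd ▸ hce) (hs ▸ hce.mul_right s), hAp, hst]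
      unfold typ
      rcases Nat.even_or_odd i with h | h
      · simp [Nat.not_odd_iff_even.2 h, Nat.even_add_one]
      · simp [h]
    rcases j with _ | j
    · exact ⟨⊥, bot_le, QuadType.nd_bot Q, by simp, by rw [finrank_bot, mul_zero]⟩
    obtain ⟨L, hLR, hL, hLi, hLd⟩ := hsub j (by omega)
    obtain ⟨g1, g2⟩ := QuadType.nd_sup Q hA hL (hLR.trans inf_le_right)
    refine ⟨A ⊔ L, sup_le hAU (hLR.trans inf_le_left), g1, sup_inv hAi hLi, ?_⟩
    rw [g2, hAd, hLd, Nat.mul_succ]; ring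


theorem step_two_le {i : ℕ} (hi : orderOf ((Fintype.card F : ℕ) : ZMod r) = i) (hrp : r ≠ p) :
    2 ≤ step i ∧ Even (step i) := by
  obtain ⟨h, ⟨a, ha⟩⟩ := OrthNdSub.step_pos (F := F) hi hrp
  exact ⟨by omega, a, ha⟩

theorem typ_one (i : ℕ) : typ i 1 ↔ Odd i := by simp [typ]

include hQ in
/-- The fixed space, the number of pieces, and the type equation. -/
theorem parts {i : ℕ} (hrp : r ≠ p) (hr2 : r ≠ 2) (hi : orderOf ((Fintype.card F : ℕ) : ZMod r) = i)
    {X : End F (ι → F)} (hX : X ^ r = 1) (hiso : ∀ v, Q (X v) = Q v) {d : ℕ} (hn : Fintype.card ι = 2 * d) :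
    Nd Q (fixed X) ∧ Nd Q (moved X r) ∧ ∃ e, finrank F (moved X r) = step i * e ∧
      finrank F (fixed X) + step i * e = 2 * d ∧ Even (finrank F (fixed X)) ∧
      (Plus Q (fixed X) ↔ (Plus Q ⊤ ↔ typ i e)) := by
  have hr0 : (r : F) ≠ 0 := PrimeElemFlags.cast_ne_zero hrp
  have hdec := decompose hr0 hX (U := (⊤ : Submodule F (ι → F))) le_top
  obtain ⟨hF, hM⟩ := nd_parts Q hr0 hX hiso (QuadType.nd_top Q hQ) (le_top : (⊤ : Submodule F (ι → F)).map X ≤ ⊤)
  rw [top_inf_eq] at hF hM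
  rw [top_inf_eq, top_inf_eq, finrank_top, Module.finrank_fintype_fun_eq_card, hn] at hdec
  obtain ⟨s, hs, hst, -⟩ := exists_sub Q hQ hrp hr2 hi hX hiso _ rfl hM moved_inv le_rfl
  obtain ⟨a, ha⟩ := ((step_two_le (F := F) hi hrp).2.mul_right s)
  have hev : Even (finrank F (fixed X)) := ⟨d - a, by omega⟩
  have h := QuadAny.sup_iff Q hQ hF hM (fun v hv w hw => orth Q hr0 hiso hw hv) hev ⟨a, by omega⟩
  rw [hdec.1, hst] at h
  refine ⟨hF, hM, s, hs, by omega, hev, ?_⟩
  by_cases h1 : Plus Q ⊤ <;> by_cases h3 : typ i s <;> simp_all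

include hQ in
/-- An element of order `r` moving exactly a given space of least dimension. -/
theorem exists_piece {i : ℕ} (hrp : r ≠ p) (hr2 : r ≠ 2) (hi : orderOf ((Fintype.card F : ℕ) : ZMod r) = i)
    {d : ℕ} (hn : Fintype.card ι = 2 * d) {U : Submodule F (ι → F)} (hU : Nd Q U) (hUd : finrank F U = step i)
    (hUp : Plus Q U ↔ Odd i) :
    ∃ Y : End F (ι → F), Y ^ r = 1 ∧ (∀ v, Q (Y v) = Q v) ∧ (∀ b ∈ perp Q U, Y b = b) ∧ moved Y r = U ∧
      fixed Y = perp Q U := by
  have hr0 : (r : F) ≠ 0 := PrimeElemFlags.cast_ne_zero hrp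
  have hi0 : 0 < i := hi ▸ PrimeElemFlags.order_pos rfl hrp
  obtain ⟨a, ha⟩ := (step_two_le (F := F) hi hrp).2
  rw [← two_mul] at ha
  have ha0 : a ≠ 0 := by have := (step_two_le (F := F) hi hrp).1; omega
  have ha' : ((Fintype.card F : ℕ) : ZMod r) ^ a = (QuadAny.eps Q U : ℤ) := by
    rcases Nat.even_or_odd i with ⟨e, he⟩ | hodd
    · rw [step, if_pos ⟨e, he⟩] at ha
      obtain rfl : a = e := by omega
      rw [QuadAny.eps, if_neg fun h => Nat.not_odd_iff_even.2 ⟨a, he⟩ (hUp.1 h), Int.cast_neg, Int.cast_one]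
      have h1 : ((Fintype.card F : ℕ) : ZMod r) ^ a * ((Fintype.card F : ℕ) : ZMod r) ^ a = 1 := by
        rw [← pow_add, ← he, ← hi, pow_orderOf_eq_one]
      refine (mul_self_eq_one_iff.1 h1).resolve_left fun h3 => ?_
      have := Nat.le_of_dvd (by omega) (hi ▸ orderOf_dvd_of_pow_eq_one h3)
      omega
    · rw [step, if_neg (Nat.not_even_iff_odd.2 hodd)] at ha
      obtain rfl : a = i := by omega
      rw [QuadAny.eps, if_pos (hUp.2 hodd), Int.cast_one, ← hi, pow_orderOf_eq_one]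
  have hcard : r ∣ Nat.card {v : U // Q (v : ι → F) = 1} := by
    have h := congrArg (fun z : ℤ => (z : ZMod r)) (QuadAny.count_nd Q hQ hU (hUd.trans ha) 1)
    simp only [QuadAny.osc, if_neg one_ne_zero] at h
    push_cast at h
    rw [two_mul, pow_add, ha'] at h
    have hq : ((Fintype.card F : ℕ) : ZMod r) ≠ 0 := fun h0 => by
      rw [h0, zero_pow ha0] at ha'
      unfold QuadAny.eps at ha'
      split_ifs at ha' <;> simp at ha'
    rw [← ZMod.natCast_eq_zero_iff]
    exact (mul_eq_zero.1 (by linear_combination h)).resolve_left hq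
  haveI : Finite ((ι → F) ≃ₗ[F] (ι → F)) := Finite.of_injective (fun g => (g : (ι → F) → (ι → F))) DFunLike.coe_injective
  let act : fixer Q U → {v : U // Q (v : ι → F) = 1} → {v : U // Q (v : ι → F) = 1} := fun g v =>
    ⟨⟨((g : quadIsometries Q) : (ι → F) ≃ₗ[F] (ι → F)) (v.1 : ι → F), fixer_mem Q hQ hU g.2 v.1.2⟩, by
      show Q (((g : quadIsometries Q) : (ι → F) ≃ₗ[F] (ι → F)) (v.1 : ι → F)) = 1
      rw [(g : quadIsometries Q).2]; exact v.2⟩
  haveI : Nonempty {v : U // Q (v : ι → F) = 1} := by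
    by_contra hne
    rw [not_nonempty_iff] at hne
    have h := QuadAny.count_nd Q hQ hU (hUd.trans ha) 1
    rw [Nat.card_of_isEmpty] at h
    simp only [QuadAny.osc, if_neg one_ne_zero] at h
    have h1 : (1 : ℤ) < (Fintype.card F : ℤ) ^ a := by
      exact_mod_cast Nat.one_lt_pow (n := a) ha0 Fintype.one_lt_card
    rw [two_mul, pow_add] at h
    unfold QuadAny.eps at h
    push_cast at h
    split_ifs at h <;> nlinarith
  obtain ⟨y, hy⟩ := QuadCount.exists_prime_order act (fun v => rfl) (fun g h v => rfl) (fun v w => by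
    have hv0 : (v.1 : ι → F) ≠ 0 := fun e => by
      have := v.2
      rw [e, QuadraticMap.map_zero] at this
      exact zero_ne_one this
    obtain ⟨ξ, hξ⟩ : ∃ ξ : (ι → F) →ₗ[F] F, ξ (v.1 : ι → F) = 1 := by
      obtain ⟨j, hj⟩ : ∃ j, (v.1 : ι → F) j ≠ 0 := by
        by_contra h
        push Not at h
        exact hv0 (funext h)
      exact ⟨((v.1 : ι → F) j)⁻¹ • LinearMap.proj j, by simp [hj]⟩
    obtain ⟨g, hg1, hg2⟩ := QuadType.witt_on Q hQ hU (A := F ∙ (v.1 : ι → F))
      ((Submodule.span_singleton_le_iff_mem _ _).2 v.1.2) (ξ.smulRight (w.1 : ι → F))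
      (fun a _ => U.smul_mem _ w.1.2) (fun a ha h => by
        obtain ⟨c, rfl⟩ := Submodule.mem_span_singleton.1 ha
        rw [LinearMap.smulRight_apply, ξ.map_smul, hξ, smul_eq_mul, mul_one, smul_eq_zero] at h
        rw [h.resolve_right (fun e => by
          have := w.2
          rw [e, QuadraticMap.map_zero] at this
          exact zero_ne_one this), zero_smul])
      (fun a ha => by
        obtain ⟨c, rfl⟩ := Submodule.mem_span_singleton.1 ha
        rw [LinearMap.smulRight_apply, ξ.map_smul, hξ, smul_eq_mul, mul_one, quad_smul, quad_smul, v.2, w.2])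
    refine ⟨⟨g, hg2⟩, Subtype.ext (Subtype.ext ?_)⟩
    show (g : (ι → F) ≃ₗ[F] (ι → F)) (v.1 : ι → F) = _
    rw [hg1 _ (Submodule.mem_span_singleton_self _), LinearMap.smulRight_apply, hξ, one_smul]) hcard
  let Y : End F (ι → F) := (((y : quadIsometries Q) : (ι → F) ≃ₗ[F] (ι → F)) : (ι → F) →ₗ[F] (ι → F))
  have hY : Y ^ r = 1 := by
    have hpow : ∀ j : ℕ, Y ^ j = ((((y ^ j : fixer Q U) : quadIsometries Q) : (ι → F) ≃ₗ[F] (ι → F)) : (ι → F) →ₗ[F] (ι → F)) := fun j => by
      induction j with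
      | zero => rfl
      | succ j ih => rw [pow_succ, pow_succ, ih]; rfl
    rw [hpow, ← hy, pow_orderOf_eq_one]; rfl
  have hiso : ∀ v, Q (Y v) = Q v := (y : quadIsometries Q).2
  have hYp : ∀ b ∈ perp Q U, Y b = b := fun b hb => y.2 b hb
  obtain ⟨-, -, hdimU, hpp⟩ := QuadType.compl_perp Q hQ hU
  rw [Module.finrank_fintype_fun_eq_card, hUd, hn] at hdimU
  obtain ⟨-, -, e, he, hfe, -, -⟩ := parts Q hQ hrp hr2 hi hY hiso hn
  have hle : perp Q U ≤ fixed Y := fun b hb => mem_fixed.2 (hYp b hb)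
  have hMU : moved Y r ≤ U := fun v hv => by
    rw [← hpp]
    exact fun b hb => orth Q hr0 hiso (hle hb) hv
  have he0 : e ≠ 0 := fun h0 => by
    subst h0
    have htop : fixed Y = ⊤ := Submodule.eq_top_of_finrank_eq (by
      rw [Module.finrank_fintype_fun_eq_card, hn]; omega)
    have h1 : y = 1 := Subtype.ext (Subtype.ext (LinearEquiv.ext fun v =>
      mem_fixed.1 (htop.symm ▸ Submodule.mem_top : v ∈ fixed Y)))
    rw [h1, orderOf_one] at hy
    exact hr.out.one_lt.ne hy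
  have h1 : step i ≤ step i * e := Nat.le_mul_of_pos_right _ (Nat.pos_of_ne_zero he0)
  exact ⟨Y, hY, hiso, hYp, Submodule.eq_of_le_of_finrank_le hMU (by omega),
    (Submodule.eq_of_le_of_finrank_le hle (by omega)).symm⟩

include hQ in
/-- A piece killed by a prescribed self-reciprocal factor. -/
theorem exists_piece_factor {i : ℕ} (hrp : r ≠ p) (hr2 : r ≠ 2) (hi : orderOf ((Fintype.card F : ℕ) : ZMod r) = i)
    (hev : Even i) {d : ℕ} (hn : Fintype.card ι = 2 * d) {U : Submodule F (ι → F)} (hU : Nd Q U)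
    (hUd : finrank F U = step i) (hUp : Plus Q U ↔ Odd i) {g : F[X]} (hg : g ∈ factors r F) :
    ∃ Y : End F (ι → F), Y ^ r = 1 ∧ (∀ v, Q (Y v) = Q v) ∧ (∀ b ∈ perp Q U, Y b = b) ∧ moved Y r = U ∧
      fixed Y = perp Q U ∧ U ≤ LinearMap.ker (aeval Y g) := by
  obtain ⟨Y, hY, hiso, hYp, hmv, hfx⟩ := exists_piece Q hQ hrp hr2 hi hn hU hUd hUp
  obtain ⟨hgi, hgm, hgd⟩ := mem_factors.1 hg
  have hr0 : (r : F) ≠ 0 := PrimeElemFlags.cast_ne_zero hrp
  have hst : step i = i := by rw [step, if_pos hev]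
  rw [hst] at hUd
  have he : finrank F (moved Y r) = i := hmv.symm ▸ hUd
  have hi0 : 0 < i := hi ▸ PrimeElemFlags.order_pos rfl hrp
  obtain ⟨w₀, hw₀, hw₀0⟩ := (Submodule.ne_bot_iff (moved Y r)).1 fun h => by rw [h, finrank_bot] at he; omega
  obtain ⟨g₀, hg₀, hg₀m, hg₀d, w, hw, hw0, hgw⟩ := PrimeElem.exists_factor Y moved_inv _ (cyclotomic_ne_zero r F) w₀
    hw₀ hw₀0 hw₀
  have hker : moved Y r ≤ LinearMap.ker (aeval Y g₀) := by
    obtain ⟨⟨b, hb⟩, -⟩ := LinDecomp.moved_sub hrp hi hY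
      (inf_inv moved_inv (PrimeElem.map_ker_le Y g₀)) (inf_le_left : moved Y r ⊓ LinearMap.ker (aeval Y g₀) ≤ moved Y r)
    have hb0 : 0 < b := Nat.pos_of_ne_zero fun h0 => by
      rw [h0, mul_zero, Submodule.finrank_eq_zero] at hb
      exact hw0 ((Submodule.mem_bot F).1 (hb ▸ ⟨hw, hgw⟩))
    have h := Submodule.eq_of_le_of_finrank_le (inf_le_left : moved Y r ⊓ LinearMap.ker (aeval Y g₀) ≤ moved Y r)
      (by rw [hb, he]; exact Nat.le_mul_of_pos_right _ hb0)
    exact h.symm.le.trans inf_le_right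
  have : Fact (Irreducible g₀) := ⟨hg₀⟩
  have : FiniteDimensional F (AdjoinRoot g₀) := (AdjoinRoot.powerBasis hg₀.ne_zero).finite
  have : Finite (AdjoinRoot g₀) := Module.finite_of_finite F
  set α : AdjoinRoot g₀ := AdjoinRoot.root g₀
  have hcyc : aeval α (cyclotomic r F) = 0 := by
    obtain ⟨R, hR⟩ := hg₀d
    rw [hR, map_mul, AdjoinRoot.aeval_eq, AdjoinRoot.mk_self, zero_mul]
  haveI : NeZero (r : AdjoinRoot g₀) :=
    ⟨fun h => hr0 ((map_eq_zero (algebraMap F (AdjoinRoot g₀))).1 (by rw [map_natCast]; exact h))⟩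
  have hprim : IsPrimitiveRoot α r := by
    rw [← isRoot_cyclotomic_iff, IsRoot, ← map_cyclotomic r (algebraMap F (AdjoinRoot g₀)), eval_map_algebraMap]
    exact hcyc
  obtain ⟨β, hβ⟩ : ∃ β : AdjoinRoot g₀, aeval β g = 0 := by
    have hd : g.natDegree ∣ finrank F (AdjoinRoot g₀) := by
      rw [(AdjoinRoot.powerBasis hg₀.ne_zero).finrank, AdjoinRoot.powerBasis_dim,
        (PrimeElemFlags.deg_eq rfl hrp g hgi hgd), (PrimeElemFlags.deg_eq rfl hrp g₀ hg₀ hg₀d)]
    have : Fact (Irreducible g) := ⟨hgi⟩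
    have : FiniteDimensional F (AdjoinRoot g) := (AdjoinRoot.powerBasis hgi.ne_zero).finite
    have : Finite (AdjoinRoot g) := Module.finite_of_finite F
    obtain ⟨φ⟩ := (FiniteField.nonempty_algHom_iff_finrank_dvd (F := F) (K := AdjoinRoot g) (L := AdjoinRoot g₀)).2
      (by rwa [(AdjoinRoot.powerBasis hgi.ne_zero).finrank, AdjoinRoot.powerBasis_dim])
    exact ⟨φ (AdjoinRoot.root g), by
      rw [Polynomial.aeval_algHom_apply, AdjoinRoot.aeval_eq, AdjoinRoot.mk_self, map_zero]⟩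
  have hβr : β ^ r = 1 := by
    obtain ⟨R, hR⟩ := hgd
    have h := congrArg (aeval β) (cyclotomic_prime_mul_X_sub_one F r)
    rw [map_mul, hR, map_mul, hβ, zero_mul, zero_mul, map_sub, map_pow, aeval_X, map_one] at h
    exact sub_eq_zero.1 h.symm
  obtain ⟨k, hkr, hk⟩ := hprim.eq_pow_of_pow_eq_one hβr
  have hk0 : k ≠ 0 := by
    rintro rfl
    rw [pow_zero] at hk
    obtain ⟨R, hR⟩ := hgd
    have h1 : aeval (1 : AdjoinRoot g₀) g = algebraMap F _ (eval 1 g) := by
      rw [← map_one (algebraMap F (AdjoinRoot g₀)), Polynomial.aeval_algebraMap_apply_eq_algebraMap_eval]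
    rw [hk, hβ, eq_comm, map_eq_zero] at h1
    have h := congrArg (eval (1 : F)) hR
    rw [eval_one_cyclotomic_prime, eval_mul, h1, zero_mul] at h
    exact hr0 h
  obtain ⟨R, hR⟩ : g₀ ∣ g.comp (Polynomial.X ^ k) := by
    rw [← AdjoinRoot.mk_eq_zero, ← AdjoinRoot.aeval_eq, aeval_comp, map_pow, aeval_X]
    show aeval (α ^ k) g = 0
    rw [hk, hβ]
  obtain ⟨l, hl⟩ := OrthDecomp.pow_mul_cancel (r := r) hk0 hY
    ((Nat.Prime.coprime_iff_not_dvd hr.out).2 fun hd => absurd (Nat.le_of_dvd (Nat.pos_of_ne_zero hk0) hd) (not_le.2 hkr)).symm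
  have hY' : (Y ^ k) ^ r = 1 := by rw [← pow_mul, mul_comm, pow_mul, hY, one_pow]
  have hiso' : ∀ (j : ℕ) v, Q ((Y ^ j) v) = Q v := fun j => by
    induction j with
    | zero => exact fun v => rfl
    | succ j ih => intro v; rw [pow_succ', End.mul_apply, hiso, ih]
  have hfix_pow : ∀ (Z : End F (ι → F)) (j : ℕ) v, Z v = v → (Z ^ j) v = v := fun Z j v hv => by
    induction j with
    | zero => rfl
    | succ j ih => rw [pow_succ, End.mul_apply, hv, ih]
  have hfix : fixed (Y ^ k) = fixed Y := by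
    ext v
    rw [mem_fixed, mem_fixed]
    exact ⟨fun h => by rw [← hl]; exact hfix_pow _ l v h, hfix_pow Y k v⟩
  have hgk : moved Y r ≤ LinearMap.ker (aeval (Y ^ k) g) := fun v hv => by
    have h : aeval Y (g.comp (Polynomial.X ^ k)) = aeval (Y ^ k) g := by rw [aeval_comp, map_pow, aeval_X]
    rw [LinearMap.mem_ker, ← h, hR, mul_comm, map_mul, End.mul_apply, LinearMap.mem_ker.1 (hker hv), map_zero]
  have hUm : U ≤ moved (Y ^ k) r := fun v hv => by
    obtain ⟨R', hR'⟩ := hgd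
    show aeval (Y ^ k) (cyclotomic r F) v = 0
    rw [hR', mul_comm, map_mul, End.mul_apply, LinearMap.mem_ker.1 (hgk (hmv.symm ▸ hv)), map_zero]
  refine ⟨Y ^ k, hY', hiso' k, fun b hb => hfix_pow Y k b (hYp b hb), (Submodule.eq_of_le_of_finrank_le hUm ?_).symm,
    hfix.trans hfx, hmv ▸ hgk⟩
  have h1 := (decompose hr0 hY' (U := (⊤ : Submodule F (ι → F))) le_top).2
  have h2 := (decompose hr0 hY (U := (⊤ : Submodule F (ι → F))) le_top).2
  rw [top_inf_eq, top_inf_eq] at h1 h2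
  rw [hfix] at h1
  rw [hmv] at h2
  omega

include hQ in
/-- Composing with a piece inside the fixed space. -/
theorem glue {X Y : End F (ι → F)} (hrp : r ≠ p) (hX : X ^ r = 1) (hiso : ∀ v, Q (X v) = Q v) (hY : Y ^ r = 1)
    (hYiso : ∀ v, Q (Y v) = Q v) {U : Submodule F (ι → F)} (hU : Nd Q U) (hUF : U ≤ fixed X)
    (hYp : ∀ b ∈ perp Q U, Y b = b) (hmv : moved Y r = U) (hF : Nd Q (fixed X)) :
    (X * Y) ^ r = 1 ∧ (∀ v, Q ((X * Y) v) = Q v) ∧ finrank F (fixed (X * Y)) + finrank F U = finrank F (fixed X) ∧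
      ∀ g : F[X], LinearMap.ker (aeval (X * Y) g) ≤ (U ⊓ LinearMap.ker (aeval Y g)) ⊔ LinearMap.ker (aeval X g) := by
  have hr0 : (r : F) ≠ 0 := PrimeElemFlags.cast_ne_zero hrp
  have hYinv : U.map Y ≤ U := hmv ▸ moved_inv
  have hYU : ∀ u ∈ U, Y u ∈ U := fun u hu => hYinv (Submodule.mem_map_of_mem hu)
  have hXp : ∀ w ∈ perp Q U, X w ∈ perp Q U := fun w hw u hu => by
    rw [← mem_fixed.1 (hUF hu), quad_polar_map Q hiso]; exact hw u hu
  have hXinv : (perp Q U).map X ≤ perp Q U := by rintro _ ⟨u, hu, rfl⟩; exact hXp u hu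
  obtain ⟨htop, -, -, -⟩ := QuadType.compl_perp Q hQ hU
  have hZu : ∀ u ∈ U, (X * Y) u = Y u := fun u hu => mem_fixed.1 (hUF (hYU u hu))
  have hZw : ∀ w ∈ perp Q U, (X * Y) w = X w := fun w hw => congrArg X (hYp w hw)
  have hdis : ∀ v ∈ U, v ∈ perp Q U → v = 0 := fun v h1 h3 => by
    have : v ∈ U ⊓ ((⊤ : Submodule F (ι → F)) ⊓ perp Q U) := ⟨h1, Submodule.mem_top, h3⟩
    rwa [QuadType.inf_perp Q hU, Submodule.mem_bot] at this
  have hsplit : ∀ u ∈ U, ∀ w ∈ perp Q U, u + w = 0 → u = 0 ∧ w = 0 := fun u hu w hw h => by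
    have h0 := hdis u hu (by rw [eq_neg_of_add_eq_zero_left h]; exact (perp Q U).neg_mem hw)
    rw [h0, zero_add] at h
    exact ⟨h0, h⟩
  have hcomm : Commute X Y := by
    refine LinearMap.ext fun v => ?_
    obtain ⟨u, hu, w, hw, rfl⟩ := Submodule.mem_sup.1 (htop.symm ▸ Submodule.mem_top : v ∈ U ⊔ perp Q U)
    simp only [End.mul_apply, map_add, hYp w hw, hYp _ (hXp w hw), mem_fixed.1 (hUF hu), mem_fixed.1 (hUF (hYU u hu))]
  refine ⟨by rw [hcomm.mul_pow, hX, hY, one_mul], fun v => by rw [End.mul_apply, hiso, hYiso], ?_, fun g => ?_⟩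
  · have hfixZ : fixed (X * Y) = fixed X ⊓ perp Q U := by
      refine le_antisymm (fun v hv => ?_) (fun v hv => mem_fixed.2 ((hZw v hv.2).trans (mem_fixed.1 hv.1)))
      obtain ⟨u, hu, w, hw, rfl⟩ := Submodule.mem_sup.1 (htop.symm ▸ Submodule.mem_top : v ∈ U ⊔ perp Q U)
      have h := mem_fixed.1 hv
      rw [map_add, hZu u hu, hZw w hw, ← sub_eq_zero, add_sub_add_comm] at h
      obtain ⟨h1, h3⟩ := hsplit _ (U.sub_mem (hYU u hu) hu) _ ((perp Q U).sub_mem (hXp w hw) hw) h
      have h0 : u ∈ fixed Y ⊓ moved Y r := ⟨mem_fixed.2 (sub_eq_zero.1 h1), hmv.symm ▸ hu⟩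
      rw [pow_moved hr0 hY, Submodule.mem_bot] at h0
      rw [h0, zero_add]
      exact ⟨mem_fixed.2 (sub_eq_zero.1 h3), hw⟩
    rw [hfixZ, add_comm]
    exact QuadType.dim_inf_perp Q hF hUF
  · have hact : ∀ (P : F[X]), (∀ u ∈ U, aeval (X * Y) P u = aeval Y P u) ∧
        (∀ w ∈ perp Q U, aeval (X * Y) P w = aeval X P w) := fun P => by
      induction P using Polynomial.induction_on with
      | C a => simp
      | add A B hA hB =>
        exact ⟨fun u hu => by simp [hA.1 u hu, hB.1 u hu], fun w hw => by simp [hA.2 w hw, hB.2 w hw]⟩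
      | monomial j a ih =>
        rw [pow_succ, ← mul_assoc]
        constructor
        · intro u hu
          rw [map_mul (aeval (X * Y)) _ Polynomial.X, map_mul (aeval Y) _ Polynomial.X, aeval_X, aeval_X, End.mul_apply,
            hZu u hu, ih.1 _ (hYU u hu)]
          rfl
        · intro w hw
          rw [map_mul (aeval (X * Y)) _ Polynomial.X, map_mul (aeval X) _ Polynomial.X, aeval_X, aeval_X, End.mul_apply,
            hZw w hw, ih.2 _ (hXp w hw)]
          rfl
    intro v hv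
    obtain ⟨u, hu, w, hw, rfl⟩ := Submodule.mem_sup.1 (htop.symm ▸ Submodule.mem_top : v ∈ U ⊔ perp Q U)
    rw [LinearMap.mem_ker, map_add, (hact g).1 u hu, (hact g).2 w hw] at hv
    obtain ⟨h1, h3⟩ := hsplit _ (PrimeElem.aeval_mem Y hYinv g hu) _ (PrimeElem.aeval_mem X hXinv g hw) hv
    exact Submodule.add_mem_sup ⟨hu, h1⟩ h3

include hQ in
/-- An isometry of order dividing `r` with the least possible fixed space. -/
theorem exists_max {i d : ℕ} (hrp : r ≠ p) (hr2 : r ≠ 2) (hi : orderOf ((Fintype.card F : ℕ) : ZMod r) = i)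
    (hn : Fintype.card ι = 2 * d) :
    ∃ X : End F (ι → F), X ^ r = 1 ∧ (∀ v, Q (X v) = Q v) ∧
      (finrank F (fixed X) < step i ∨ (finrank F (fixed X) = step i ∧ ¬ (Plus Q (fixed X) ↔ Odd i))) := by
  obtain ⟨hc2, hce⟩ := step_two_le (F := F) hi hrp
  suffices h : ∀ f : ℕ, (∃ X : End F (ι → F), X ^ r = 1 ∧ (∀ v, Q (X v) = Q v) ∧ finrank F (fixed X) = f) →
      ∃ X : End F (ι → F), X ^ r = 1 ∧ (∀ v, Q (X v) = Q v) ∧
      (finrank F (fixed X) < step i ∨ (finrank F (fixed X) = step i ∧ ¬ (Plus Q (fixed X) ↔ Odd i))) from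
    h _ ⟨1, one_pow r, fun v => rfl, rfl⟩
  intro f
  induction f using Nat.strong_induction_on with
  | _ f ih =>
  rintro ⟨X, hX, hiso, hf⟩
  by_cases hstop : finrank F (fixed X) < step i ∨ (finrank F (fixed X) = step i ∧ ¬ (Plus Q (fixed X) ↔ Odd i))
  · exact ⟨X, hX, hiso, hstop⟩
  push Not at hstop
  obtain ⟨hF, -, -, -, -, ⟨b, hb⟩, -⟩ := parts Q hQ hrp hr2 hi hX hiso hn
  obtain ⟨a, ha⟩ := hce
  obtain ⟨U, hUF, hU, hUd, hUp⟩ : ∃ U ≤ fixed X, Nd Q U ∧ finrank F U = step i ∧ (Plus Q U ↔ Odd i) := by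
    rcases lt_or_eq_of_le hstop.1 with hlt | heq
    · obtain ⟨U, h1, h2, h3, h4⟩ := QuadAny.exists_type Q hQ a hF (by omega) ⟨b, hb⟩ (Odd i) (fun h => by omega)
      exact ⟨U, h1, h2, by omega, h4⟩
    · exact ⟨_, le_rfl, hF, heq.symm, hstop.2 heq.symm⟩
  obtain ⟨Y, hY, hYiso, hYp, hmv, -⟩ := exists_piece Q hQ hrp hr2 hi hn hU hUd hUp
  obtain ⟨g1, g2, g3, -⟩ := glue Q hQ hrp hX hiso hY hYiso hU hUF hYp hmv hF
  exact ih _ (by omega) ⟨X * Y, g1, g2, rfl⟩

include hQ in
/-- An isometry whose factors have bounded multiplicities. -/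
theorem exists_multi {i d : ℕ} (hrp : r ≠ p) (hr2 : r ≠ 2) (hi : orderOf ((Fintype.card F : ℕ) : ZMod r) = i)
    (hev : Even i) (hn : Fintype.card ι = 2 * d) : ∀ l : List F[X], (∀ g ∈ l, g ∈ factors r F) →
    i * l.length ≤ 2 * d → (i * l.length = 2 * d → (Plus Q ⊤ ↔ Even l.length)) →
    ∃ X : End F (ι → F), X ^ r = 1 ∧ (∀ v, Q (X v) = Q v) ∧ finrank F (fixed X) + i * l.length = 2 * d ∧
      ∀ g ∈ factors r F, finrank F (LinearMap.ker (aeval X g)) ≤ i * l.count g := by
  intro l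
  induction l with
  | nil =>
    intro _ _ _
    refine ⟨1, one_pow _, fun v => rfl, ?_, fun g hg => ?_⟩
    · have : fixed (1 : End F (ι → F)) = ⊤ := eq_top_iff.2 fun v _ => mem_fixed.2 rfl
      rw [this, finrank_top, Module.finrank_fintype_fun_eq_card, hn]
      simp
    · have hne : g.eval 1 ≠ 0 := fun h0 => by
        obtain ⟨R, hR⟩ := (mem_factors.1 hg).2.2
        have h := congrArg (eval (1 : F)) hR
        rw [eval_one_cyclotomic_prime, eval_mul, h0, zero_mul] at h
        exact PrimeElemFlags.cast_ne_zero hrp h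
      rw [LinearMap.ker_eq_bot'.2 fun v hv => ?_, finrank_bot]
      · exact Nat.zero_le _
      · rw [show (1 : End F (ι → F)) = algebraMap F _ 1 from (map_one _).symm,
          Polynomial.aeval_algebraMap_apply_eq_algebraMap_eval, Module.algebraMap_end_apply] at hv
        exact (smul_eq_zero.1 hv).resolve_left hne
  | cons a l ih =>
    intro hl hlen hpar
    rw [List.length_cons, Nat.mul_succ] at hlen
    have hst : step i = i := by rw [step, if_pos hev]
    obtain ⟨hc2, -⟩ := step_two_le (F := F) hi hrp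
    rw [hst] at hc2
    have ha : a ∈ factors r F := hl a (List.mem_cons_self ..)
    obtain ⟨X, hX, hiso, hf, hXg⟩ := ih (fun g hg => hl g (List.mem_cons_of_mem a hg)) (by omega) (by omega)
    obtain ⟨hF, -, e, he, hfe, ⟨b, hb⟩, htype⟩ := parts Q hQ hrp hr2 hi hX hiso hn
    rw [hst] at he hfe
    obtain rfl : e = l.length := Nat.eq_of_mul_eq_mul_left (show 0 < i by omega) (by omega)
    obtain ⟨c, hc⟩ := id hev
    obtain ⟨U, hUF, hU, hUd, hUp⟩ : ∃ U ≤ fixed X, Nd Q U ∧ finrank F U = step i ∧ (Plus Q U ↔ Odd i) := by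
      rw [hst]
      rcases lt_or_eq_of_le (show i ≤ finrank F (fixed X) by omega) with hlt | heq
      · obtain ⟨U, h1, h2, h3, h4⟩ := QuadAny.exists_type Q hQ c hF (by omega) ⟨b, hb⟩ (Odd i) (fun h => by omega)
        exact ⟨U, h1, h2, by omega, h4⟩
      · refine ⟨_, le_rfl, hF, heq.symm, ?_⟩
        have hp := hpar (by rw [List.length_cons, Nat.mul_succ]; omega)
        rw [List.length_cons, Nat.even_add_one] at hp
        rw [htype, hp, typ]
        have hno := Nat.not_odd_iff_even.2 hev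
        by_cases h5 : Even l.length <;> simp [h5, hno]
    obtain ⟨Y, hY, hYiso, hYp, hmv, -, hYa⟩ := exists_piece_factor Q hQ hrp hr2 hi hev hn hU hUd hUp ha
    obtain ⟨g1, g2, g3, g4⟩ := glue Q hQ hrp hX hiso hY hYiso hU hUF hYp hmv hF
    rw [hst] at hUd
    refine ⟨X * Y, g1, g2, by rw [List.length_cons, Nat.mul_succ]; omega, fun g hg => ?_⟩
    refine (Submodule.finrank_mono (g4 g)).trans ?_
    refine (Submodule.finrank_add_le_finrank_add_finrank _ _).trans ?_
    have h6 := hXg g hg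
    rw [List.count_cons]
    by_cases hga : a = g
    · have h7 := Submodule.finrank_mono (inf_le_left : U ⊓ LinearMap.ker (aeval Y g) ≤ U)
      rw [hga, beq_self_eq_true, if_pos rfl, Nat.mul_succ]
      omega
    · have h7 : U ⊓ LinearMap.ker (aeval Y g) = ⊥ := (Submodule.eq_bot_iff _).2 fun v hv => by
        obtain ⟨s, t, hst⟩ := coprime_of_ne hg ha (Ne.symm hga)
        have h8 : aeval Y a v = 0 := hYa hv.1
        have e := congrArg (fun P => aeval Y P v) hst
        simp only [map_add, map_mul, LinearMap.add_apply, End.mul_apply, LinearMap.mem_ker.1 hv.2, h8, map_zero, zero_add,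
          map_one, End.one_apply] at e
        exact e.symm
      rw [h7, finrank_bot, beq_eq_false_iff_ne.2 hga, if_neg Bool.false_ne_true, zero_add]
      simpa using h6

include hQ in
/-- Odd order isometries lie in the commutator subgroup. -/
theorem mem_omega (hr2 : r ≠ 2) {d : ℕ} (hd : 3 ≤ d) (hn : Fintype.card ι = 2 * d) {x : GL ι F}
    (hx : x ∈ Cfsg.isometryGroup F ⇑Q) (hxr : x ^ r = 1) : x ∈ Cfsg.Geo.omegaGL (⇑Q) := by
  by_cases h2 : (2 : F) = 0
  swap
  · exact OrthDecomp.mem_omega Q hQ h2 hr2 (by omega) hx hxr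
  haveI : CharP F 2 := CharTwo.of_one_ne_zero_of_two_eq_zero one_ne_zero h2
  refine ⟨⟨x, hx⟩, ?_, rfl⟩
  have hidx : (commutator (Cfsg.isometryGroup F ⇑Q)).index = 2 := by
    rw [index_commutator_congr (isometryEquiv Q), index_commutator_even Q hQ
      (by rw [Module.finrank_fintype_fun_eq_card]; omega)
      (Or.inr (by rw [Module.finrank_fintype_fun_eq_card]; omega))]
  haveI : (commutator (Cfsg.isometryGroup F ⇑Q)).FiniteIndex := ⟨by rw [hidx]; norm_num⟩
  have h4 := (commutator (Cfsg.isometryGroup F ⇑Q)).pow_index_mem (⟨x, hx⟩ : Cfsg.isometryGroup F ⇑Q)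
  rw [hidx] at h4
  obtain ⟨k, hk⟩ := OrthDecomp.pow_mul_cancel (r := r) (x := (⟨x, hx⟩ : Cfsg.isometryGroup F ⇑Q)) (n := 2) (by norm_num)
    (Subtype.ext (by rw [SubmonoidClass.coe_pow, hxr]; rfl))
    ((Nat.coprime_primes Nat.prime_two hr.out).2 (Ne.symm hr2))
  rw [← hk]
  exact Subgroup.pow_mem _ h4 k

end Cfsg.Agent.Lib.MaxSub.OrthAny
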