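import Cfsg.Agent.Lib.MaxSub.OrthBlocksTwo
import Cfsg.Agent.Lib.ThreeTransp.DecompOrth

/-!
Orthogonal decompositions in dimension at least thirteen: maximality of the stabiliser, all block sizes together.
-/

set_option autoImplicit false

namespace Cfsg.Agent.Lib.MaxSub.OrthBlocks

open Matrix QuadraticMap
open scoped MatrixGroups Matrix

attribute [-simp] QuadraticMap.polarBilin_apply_apply

variable {ι : Type} [Fintype ι] [DecidableEq ι] {F : Type*} [Field F] [Fintype F] {Q : QuadraticForm F (ι → F)}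
  {t k : ℕ} {D : Fin t → Submodule F (ι → F)}

omit [Fintype F] in
/-- A plane with a non-zero singular vector has plus type. -/
theorem plus_of_singular {i : Fin t} (hdim : Module.finrank F (D i) = 2) {x : ι → F} (hx : x ∈ D i) (hx0 : x ≠ 0)
    (hQx : Q x = 0) : Cfsg.Geo.IsPlusTypeOn (⇑Q) (D i) := by
  refine ⟨F ∙ x, (Submodule.span_singleton_le_iff_mem _ _).mpr hx, fun y hy => ?_, ?_⟩
  · obtain ⟨l, rfl⟩ := Submodule.mem_span_singleton.mp hy
    rw [QuadraticMap.map_smul, hQx, smul_zero]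
  · rw [finrank_span_singleton hx0, hdim]

/-- The stabiliser is maximal outside the listed small fields. -/
theorem maximal_all (hN : (polarBilin Q).Nondegenerate) (h13 : 13 ≤ Fintype.card ι) (hk : 2 ≤ k)
    (hD : Cfsg.Geo.IsOrthogonalMDecomposition (⇑Q) k D) (hodd : k = 3 → Odd (Fintype.card F))
    (hq3 : Fintype.card F = 3 → k ≠ 2 ∧ k ≠ 3)
    (hq2 : k = 2 → (∀ i, Cfsg.Geo.IsPlusTypeOn (⇑Q) (D i)) → 7 ≤ Fintype.card F)
    (hbig : ¬ (k = 4 ∧ Fintype.card F = 2 ∧ ∀ i, Cfsg.Geo.IsPlusTypeOn (⇑Q) (D i))) :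
    Cfsg.Geo.IsMaximalIn (Cfsg.Geo.omegaGL ⇑Q)
      (Cfsg.Geo.decompositionStabilizer D ⊓ Cfsg.Geo.omegaGL ⇑Q) := by
  rcases (show k = 2 ∨ k = 3 ∨ 4 ≤ k by omega) with h | h | h
  · subst h
    have S : Blk Q D 2 (Cfsg.Geo.decompositionStabilizer D ⊓ Cfsg.Geo.omegaGL ⇑Q) := ⟨hN, hD, by omega, le_rfl⟩
    refine maximal_two hN h13 hD ⟨fun h => (hq3 h).1 rfl, ?_⟩
    by_cases hsing : ∀ i, ∀ x ∈ D i, Q x = 0 → x = 0
    · exact Or.inl hsing
    push Not at hsing
    obtain ⟨i, x, hx, hQx, hx0⟩ := hsing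
    exact Or.inr (hq2 rfl (S.plus_all (plus_of_singular (hD.decomp.decomp.finrank_eq i) hx hx0 hQx)))
  · subst h
    have ho := hodd rfl
    have h5 : 5 ≤ Fintype.card F := by
      have h1 := Fintype.one_lt_card (α := F)
      have h3 : Fintype.card F ≠ 3 := fun h => (hq3 h).2 rfl
      obtain ⟨m, hm⟩ := ho
      omega
    have h2 : (2 : F) ≠ 0 := fun h2 => by
      haveI : Fact (ringChar F).Prime := ⟨CharP.char_is_prime F _⟩
      have hev := FiniteField.even_card_of_char_two (F := F) ((CharP.ringChar_of_prime_eq_zero Nat.prime_two (by simpa using h2)))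
      obtain ⟨m, hm⟩ := ho
      omega
    exact Cfsg.Agent.Lib.ThreeTransp.DecompOrth.maximal hN h2 (by omega) le_rfl hD (Or.inl h5)
  · exact maximal_big hN (by omega) h hD hbig

end Cfsg.Agent.Lib.MaxSub.OrthBlocks
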