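import Cfsg.Agent.Lib.ThreeTransp.DecompOrthBase
import Mathlib.LinearAlgebra.Dimension.Constructions

/-!
Stabilisers in `omegaGL` of orthogonal decompositions in any characteristic: components, elements exchanging
blocks, the relation given by products of two reflections, and Eichler elements coming from it.
-/

set_option autoImplicit false

namespace Cfsg.Agent.Lib.MaxSub.OrthBlocks

open Matrix QuadraticMap
open Cfsg.Agent.Lib.MaxSub
open Cfsg.Agent.Lib.MaxSub.OrthSplit (InE)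
open Cfsg.Agent.Lib.ThreeTransp.DecompOrth (rr rr_mulVec rr_fix rr_mem_omega mem_stab inE_zero inE_add inE_neg inE_flip)
open Cfsg.Agent.Lib.Geometry (quad_add quad_sub quad_smul quad_polar_self quad_polar_comm refl refl_apply
  quadIsometries isometryEquiv)
open scoped MatrixGroups Matrix commutatorElement

attribute [-simp] QuadraticMap.polarBilin_apply_apply

variable {ι : Type} [Fintype ι] [DecidableEq ι] {F : Type*} [Field F] {Q : QuadraticForm F (ι → F)}

/-- A group containing the stabiliser in `omegaGL` of an orthogonal decomposition. -/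
structure Blk (Q : QuadraticForm F (ι → F)) {t : ℕ} (D : Fin t → Submodule F (ι → F)) (k : ℕ)
    (K : Subgroup (GL ι F)) : Prop where
  hN : (polarBilin Q).Nondegenerate
  hD : Cfsg.Geo.IsOrthogonalMDecomposition (⇑Q) k D
  h7 : 7 ≤ Fintype.card ι
  hK : Cfsg.Geo.decompositionStabilizer D ⊓ Cfsg.Geo.omegaGL ⇑Q ≤ K

variable {t k : ℕ} {D : Fin t → Submodule F (ι → F)} {K : Subgroup (GL ι F)} (S : Blk Q D k K)

include S

theorem Blk.orth {i j : Fin t} (h : i ≠ j) {x y : ι → F} (hx : x ∈ D i) (hy : y ∈ D j) : polarBilin Q x y = 0 :=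
  S.hD.decomp.orthogonal i j h x hx y hy

theorem Blk.nd {i : Fin t} {x : ι → F} (hx : x ∈ D i) (hx0 : x ≠ 0) : ∃ y ∈ D i, polarBilin Q x y ≠ 0 :=
  (S.hD.decomp.nondegenerate i x hx hx0).2

theorem Blk.fin (i : Fin t) : Module.finrank F (D i) = k := S.hD.decomp.decomp.finrank_eq i

theorem Blk.exists_comp (v : ι → F) : ∃ c : Fin t → ι → F, (∀ i, c i ∈ D i) ∧ ∑ i, c i = v := by
  have hv : v ∈ ⨆ i ∈ (Finset.univ : Finset (Fin t)), D i := by
    simp [S.hD.decomp.decomp.iSup_eq_top]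
  obtain ⟨μ, hμ⟩ := (Submodule.mem_iSup_finset_iff_exists_sum _ _).mp hv
  exact ⟨fun i => μ i, fun i => (μ i).2, hμ⟩

/-- The component in a block. -/
noncomputable def Blk.comp (i : Fin t) (v : ι → F) : ι → F := (S.exists_comp v).choose i

theorem Blk.comp_mem (i : Fin t) (v : ι → F) : S.comp i v ∈ D i := (S.exists_comp v).choose_spec.1 i

theorem Blk.sum_comp (v : ι → F) : ∑ i, S.comp i v = v := (S.exists_comp v).choose_spec.2

theorem Blk.polar_comp {i : Fin t} {w : ι → F} (hw : w ∈ D i) (v : ι → F) :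
    polarBilin Q w (S.comp i v) = polarBilin Q w v := by
  conv_rhs => rw [← S.sum_comp v, map_sum]
  rw [Finset.sum_eq_single i]
  · exact fun j _ hj => S.orth (Ne.symm hj) hw (S.comp_mem j v)
  · exact fun h => absurd (Finset.mem_univ i) h

theorem Blk.comp_eq {i : Fin t} {v y : ι → F} (hy : y ∈ D i)
    (h : ∀ w ∈ D i, polarBilin Q w y = polarBilin Q w v) : S.comp i v = y := by
  by_contra hne
  obtain ⟨w, hw, hne'⟩ := S.nd ((D i).sub_mem (S.comp_mem i v) hy) (sub_ne_zero.mpr hne)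
  refine hne' ?_
  rw [quad_polar_comm, map_sub, S.polar_comp hw, h w hw, sub_self]

theorem Blk.comp_self {i : Fin t} {v : ι → F} (hv : v ∈ D i) : S.comp i v = v :=
  S.comp_eq hv fun _ _ => rfl

theorem Blk.comp_other {i j : Fin t} (h : j ≠ i) {v : ι → F} (hv : v ∈ D i) : S.comp j v = 0 :=
  S.comp_eq (D j).zero_mem fun w hw => by rw [map_zero, S.orth h hw hv]

theorem Blk.comp_add (i : Fin t) (v w : ι → F) : S.comp i (v + w) = S.comp i v + S.comp i w :=
  S.comp_eq ((D i).add_mem (S.comp_mem i v) (S.comp_mem i w)) fun z hz => by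
    rw [map_add, map_add, S.polar_comp hz, S.polar_comp hz]

theorem Blk.comp_smul (i : Fin t) (c : F) (v : ι → F) : S.comp i (c • v) = c • S.comp i v :=
  S.comp_eq ((D i).smul_mem _ (S.comp_mem i v)) fun z hz => by
    rw [map_smul, map_smul, S.polar_comp hz]

theorem Blk.comp_neg (i : Fin t) (v : ι → F) : S.comp i (-v) = -S.comp i v := by
  rw [← neg_one_smul F v, S.comp_smul, neg_one_smul]

theorem Blk.comp_sub (i : Fin t) (v w : ι → F) : S.comp i (v - w) = S.comp i v - S.comp i w := by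
  rw [sub_eq_add_neg, S.comp_add, S.comp_neg, sub_eq_add_neg]

theorem Blk.polar_ne_zero {i : Fin t} {w v : ι → F} (hw : w ∈ D i) (h : polarBilin Q w v ≠ 0) :
    S.comp i v ≠ 0 := fun e => h (by rw [← S.polar_comp hw, e, map_zero])

/-- A vector with a single component lies in a block. -/
theorem Blk.mem_block {v : ι → F} (h : ∀ i j, i ≠ j → S.comp i v = 0 ∨ S.comp j v = 0) : ∃ j, v ∈ D j := by
  by_cases hz : ∀ i, S.comp i v = 0
  · refine ⟨⟨0, by have := S.hD.decomp.decomp.two_le; omega⟩, ?_⟩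
    rw [← S.sum_comp v, Finset.sum_eq_zero fun i _ => hz i]
    exact Submodule.zero_mem _
  push Not at hz
  obtain ⟨j, hj⟩ := hz
  refine ⟨j, ?_⟩
  rw [← S.sum_comp v, Finset.sum_eq_single j (fun i _ hi => (h i j hi).resolve_right hj)
    (fun h => absurd (Finset.mem_univ j) h)]
  exact S.comp_mem j v

theorem Blk.quad_comp (v : ι → F) : Q v = ∑ i, Q (S.comp i v) := by
  classical
  conv_lhs => rw [← S.sum_comp v]
  suffices ∀ s : Finset (Fin t), Q (∑ i ∈ s, S.comp i v) = ∑ i ∈ s, Q (S.comp i v) from this _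
  intro s
  induction s using Finset.induction_on with
  | empty => simp
  | insert a s ha ih =>
    rw [Finset.sum_insert ha, Finset.sum_insert ha, quad_add, ih, map_sum,
      Finset.sum_eq_zero fun i hi => S.orth (fun e : a = i => ha (e ▸ hi)) (S.comp_mem a v) (S.comp_mem i v), add_zero]

theorem Blk.card_eq : Fintype.card ι = t * k := by
  let e : (ι → F) ≃ₗ[F] ((i : Fin t) → D i) :=
    LinearEquiv.ofBijective
      ({ toFun := fun v i => ⟨S.comp i v, S.comp_mem i v⟩
         map_add' := fun v w => funext fun i => Subtype.ext (S.comp_add i v w)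
         map_smul' := fun c v => funext fun i => Subtype.ext (S.comp_smul i c v) } :
        (ι → F) →ₗ[F] ((i : Fin t) → D i))
      ⟨fun v w h => by
        rw [← S.sum_comp v, ← S.sum_comp w]
        exact Finset.sum_congr rfl fun i _ => congrArg Subtype.val (congrFun h i),
      fun f => ⟨∑ j, (f j : ι → F), funext fun i => Subtype.ext (S.comp_eq (f i).2 fun w hw => by
        rw [map_sum, Finset.sum_eq_single i (fun j _ hj => S.orth (Ne.symm hj) hw (f j).2)
          (fun h => absurd (Finset.mem_univ i) h)])⟩⟩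
  have h := e.finrank_eq
  rw [Module.finrank_fintype_fun_eq_card, Module.finrank_pi_fintype] at h
  simpa [S.fin] using h

/-- An injective matrix mapping one block into another maps it onto it. -/
theorem Blk.onto (g : GL ι F) {a b : Fin t} (h : ∀ z ∈ D a, (g : Matrix ι ι F) *ᵥ z ∈ D b) :
    ∀ y ∈ D b, ∃ x ∈ D a, (g : Matrix ι ι F) *ᵥ x = y := by
  intro y hy
  have hinj : Function.Injective (Matrix.toLin' (g : Matrix ι ι F)) := fun x z hxz => by
    have := congrArg (fun u => ((g⁻¹ : GL ι F) : Matrix ι ι F) *ᵥ u) hxz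
    simpa [Matrix.toLin'_apply, Matrix.mulVec_mulVec, ← Units.val_mul] using this
  have hmap : (D a).map (Matrix.toLin' (g : Matrix ι ι F)) = D b := Submodule.eq_of_le_of_finrank_eq
    (by
      rintro _ ⟨z, hz, rfl⟩
      rw [Matrix.toLin'_apply]
      exact h z hz)
    (by rw [← (Submodule.equivMapOfInjective _ hinj _).finrank_eq, S.fin, S.fin])
  obtain ⟨x, hx, hxy⟩ := hmap.symm ▸ hy
  exact ⟨x, hx, by rw [← hxy, Matrix.toLin'_apply]⟩

/-! ### Elements of the stabiliser -/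

omit S in
theorem toGL_isometryEquiv {g : GL ι F} (hg : g ∈ Cfsg.isometryGroup F ⇑Q) :
    Orth.toGL Q (isometryEquiv Q ⟨g, hg⟩) = g := by
  show ((isometryEquiv Q).symm (isometryEquiv Q ⟨g, hg⟩) : GL ι F) = g
  rw [MulEquiv.symm_apply_apply]

/-- A commutator of two isometries permuting the blocks lies in the group. -/
theorem Blk.comm_mem (s u : quadIsometries Q) (σ τ : Equiv.Perm (Fin t))
    (hs : ∀ i, ∀ z ∈ D i, (s : (ι → F) ≃ₗ[F] (ι → F)) z ∈ D (σ i))
    (hu : ∀ i, ∀ z ∈ D i, (u : (ι → F) ≃ₗ[F] (ι → F)) z ∈ D (τ i)) : Orth.toGL Q ⁅s, u⁆ ∈ K := by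
  have h1 : Orth.toGL Q s ∈ Cfsg.Geo.decompositionStabilizer D :=
    mem_stab S.fin σ fun i z hz => by rw [Orth.toGL_mulVec]; exact hs i z hz
  have h2 : Orth.toGL Q u ∈ Cfsg.Geo.decompositionStabilizer D :=
    mem_stab S.fin τ fun i z hz => by rw [Orth.toGL_mulVec]; exact hu i z hz
  refine S.hK ⟨?_, ⟨(isometryEquiv Q).symm ⁅s, u⁆, ?_, rfl⟩⟩
  · rw [map_commutatorElement, commutatorElement_def]
    let P := Cfsg.Geo.decompositionStabilizer D
    exact P.mul_mem (P.mul_mem (P.mul_mem h1 h2) (P.inv_mem h1)) (P.inv_mem h2)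
  · rw [map_commutatorElement]
    exact Subgroup.commutator_mem_commutator (Subgroup.mem_top _) (Subgroup.mem_top _)

/-- An isometry exchanging two blocks and fixing the others pointwise. -/
theorem Blk.exists_transp {a b : Fin t} (hab : a ≠ b) : ∃ T : quadIsometries Q,
    (∀ i, ∀ z ∈ D i, (T : (ι → F) ≃ₗ[F] (ι → F)) z ∈ D (Equiv.swap a b i)) ∧
      (∀ i, i ≠ a → i ≠ b → ∀ z ∈ D i, (T : (ι → F) ≃ₗ[F] (ι → F)) z = z) ∧ T * T = 1 := by
  classical
  obtain ⟨φ, hφ⟩ := S.hD.isometric a b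
  let pa : (ι → F) →ₗ[F] D a :=
    { toFun := fun v => ⟨S.comp a v, S.comp_mem a v⟩
      map_add' := fun v w => Subtype.ext (S.comp_add a v w)
      map_smul' := fun c v => Subtype.ext (S.comp_smul a c v) }
  let pb : (ι → F) →ₗ[F] D b :=
    { toFun := fun v => ⟨S.comp b v, S.comp_mem b v⟩
      map_add' := fun v w => Subtype.ext (S.comp_add b v w)
      map_smul' := fun c v => Subtype.ext (S.comp_smul b c v) }
  let L : (ι → F) →ₗ[F] (ι → F) := LinearMap.id - (D a).subtype.comp pa - (D b).subtype.comp pb +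
    (D b).subtype.comp (φ.toLinearMap.comp pa) + (D a).subtype.comp (φ.symm.toLinearMap.comp pb)
  have hL : ∀ v, L v = v - S.comp a v - S.comp b v + (φ (pa v) : ι → F) + (φ.symm (pb v) : ι → F) := fun v => rfl
  have hca : ∀ v, S.comp a (L v) = (φ.symm (pb v) : ι → F) := fun v => by
    rw [hL, S.comp_add, S.comp_add, S.comp_sub, S.comp_sub, S.comp_self (S.comp_mem a v),
      S.comp_other hab (S.comp_mem b v), S.comp_other hab (φ (pa v)).2, S.comp_self (φ.symm (pb v)).2]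
    abel
  have hcb : ∀ v, S.comp b (L v) = (φ (pa v) : ι → F) := fun v => by
    rw [hL, S.comp_add, S.comp_add, S.comp_sub, S.comp_sub, S.comp_self (S.comp_mem b v),
      S.comp_other hab.symm (S.comp_mem a v), S.comp_other hab.symm (φ.symm (pb v)).2, S.comp_self (φ (pa v)).2]
    abel
  have hco : ∀ v i, i ≠ a → i ≠ b → S.comp i (L v) = S.comp i v := fun v i hia hib => by
    rw [hL, S.comp_add, S.comp_add, S.comp_sub, S.comp_sub, S.comp_other hia (S.comp_mem a v),
      S.comp_other hib (S.comp_mem b v), S.comp_other hib (φ (pa v)).2, S.comp_other hia (φ.symm (pb v)).2]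
    abel
  have hpa : ∀ v, pa (L v) = φ.symm (pb v) := fun v => Subtype.ext (hca v)
  have hpb : ∀ v, pb (L v) = φ (pa v) := fun v => Subtype.ext (hcb v)
  have hinv : Function.Involutive L := fun v => by
    rw [hL (L v), hpa, hpb, hca, hcb, LinearEquiv.apply_symm_apply, LinearEquiv.symm_apply_apply, hL v]
    show _ + S.comp b v + S.comp a v = v
    abel
  have hT : ∀ v, Q (LinearEquiv.ofInvolutive L hinv v) = Q v := fun v => by
    show Q (L v) = Q v
    rw [S.quad_comp (L v), S.quad_comp v,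
      ← Finset.add_sum_erase _ _ (Finset.mem_univ a), ← Finset.add_sum_erase _ _ (Finset.mem_univ a),
      ← Finset.add_sum_erase _ _ (Finset.mem_erase.mpr ⟨hab.symm, Finset.mem_univ b⟩),
      ← Finset.add_sum_erase _ _ (Finset.mem_erase.mpr ⟨hab.symm, Finset.mem_univ b⟩),
      hca, hcb, hφ, ← hφ (φ.symm (pb v)), LinearEquiv.apply_symm_apply]
    rw [Finset.sum_congr rfl fun i hi => by
      rw [hco v i (Finset.mem_erase.mp (Finset.mem_erase.mp hi).2).1 (Finset.mem_erase.mp hi).1]]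
    show Q (S.comp b v) + (Q (S.comp a v) + _) = _
    ring
  have hmem : ∀ i, i ≠ a → i ≠ b → ∀ z ∈ D i, L z = z := fun i hia hib z hz => by
    have h1 : pa z = 0 := Subtype.ext (S.comp_other (Ne.symm hia) hz)
    have h2 : pb z = 0 := Subtype.ext (S.comp_other (Ne.symm hib) hz)
    rw [hL, h1, h2, map_zero, map_zero, S.comp_other (Ne.symm hia) hz, S.comp_other (Ne.symm hib) hz]
    simp
  refine ⟨⟨LinearEquiv.ofInvolutive L hinv, hT⟩, fun i z hz => ?_, hmem, Subtype.ext (LinearEquiv.ext hinv)⟩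
  show L z ∈ _
  rcases eq_or_ne i a with rfl | hia
  · rw [Equiv.swap_apply_left]
    have h2 : pb z = 0 := Subtype.ext (S.comp_other hab.symm hz)
    rw [hL, h2, map_zero, S.comp_self hz, S.comp_other hab.symm hz]
    simp
  rcases eq_or_ne i b with rfl | hib
  · rw [Equiv.swap_apply_right]
    have h1 : pa z = 0 := Subtype.ext (S.comp_other hab hz)
    rw [hL, h1, map_zero, S.comp_self hz, S.comp_other hab hz]
    simp
  rw [Equiv.swap_apply_of_ne_of_ne hia hib, hmem i hia hib z hz]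
  exact hz

/-- An element of the group moving three blocks in a cycle. -/
theorem Blk.exists_cycle {a b c : Fin t} (hab : a ≠ b) (hac : a ≠ c) (hbc : b ≠ c) :
    ∃ g ∈ K, g ∈ Cfsg.isometryGroup F ⇑Q ∧ (∀ z ∈ D a, (g : Matrix ι ι F) *ᵥ z ∈ D b) ∧
      (∀ z ∈ D b, (g : Matrix ι ι F) *ᵥ z ∈ D c) ∧ (∀ z ∈ D c, (g : Matrix ι ι F) *ᵥ z ∈ D a) ∧
        ∀ i, i ≠ a → i ≠ b → i ≠ c → ∀ z ∈ D i, (g : Matrix ι ι F) *ᵥ z = z := by
  obtain ⟨T, hT, hT', hTT⟩ := S.exists_transp hac
  obtain ⟨U, hU, hU', hUU⟩ := S.exists_transp hbc.symm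
  have hg := S.comm_mem T U _ _ hT hU
  have hTi : T⁻¹ = T := inv_eq_of_mul_eq_one_right hTT
  have hUi : U⁻¹ = U := inv_eq_of_mul_eq_one_right hUU
  have hgz : ∀ z, (Orth.toGL Q ⁅T, U⁆ : Matrix ι ι F) *ᵥ z = (T : (ι → F) ≃ₗ[F] (ι → F))
      ((U : (ι → F) ≃ₗ[F] (ι → F)) ((T : (ι → F) ≃ₗ[F] (ι → F)) ((U : (ι → F) ≃ₗ[F] (ι → F)) z))) := fun z => by
    rw [Orth.toGL_mulVec, commutatorElement_def, hTi, hUi]
    rfl
  have step : ∀ i, ∀ z ∈ D i, (Orth.toGL Q ⁅T, U⁆ : Matrix ι ι F) *ᵥ z ∈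
      D (Equiv.swap a c (Equiv.swap c b (Equiv.swap a c (Equiv.swap c b i)))) := fun i z hz => by
    rw [hgz]
    exact hT _ _ (hU _ _ (hT _ _ (hU _ _ hz)))
  refine ⟨_, hg, Orth.toGL_mem_isometry Q _, ?_, ?_, ?_, fun i hia hib hic z hz => ?_⟩
  · intro z hz
    simpa [Equiv.swap_apply_of_ne_of_ne hac hab, Equiv.swap_apply_of_ne_of_ne hab.symm hbc] using step a z hz
  · intro z hz
    simpa [Equiv.swap_apply_of_ne_of_ne hac hab, Equiv.swap_apply_of_ne_of_ne hab.symm hbc] using step b z hz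
  · intro z hz
    simpa [Equiv.swap_apply_of_ne_of_ne hac hab, Equiv.swap_apply_of_ne_of_ne hab.symm hbc] using step c z hz
  · rw [hgz, hU' i hic hib z hz, hT' i hia hic z hz, hU' i hic hib z hz, hT' i hia hic z hz]

/-- An element of the group acting on a block as a given reflection. -/
theorem Blk.exists_refl {c d : Fin t} (hcd : c ≠ d) {p : ι → F} (hp : p ∈ D c) :
    ∃ g ∈ K, g ∈ Cfsg.isometryGroup F ⇑Q ∧
      (∀ z ∈ D c, (g : Matrix ι ι F) *ᵥ z = z - ((Q p)⁻¹ * polarBilin Q p z) • p) ∧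
        (∀ z ∈ D d, (g : Matrix ι ι F) *ᵥ z ∈ D d) ∧
          ∀ i, i ≠ c → i ≠ d → ∀ z ∈ D i, (g : Matrix ι ι F) *ᵥ z = z := by
  obtain ⟨T, hT, hT', hTT⟩ := S.exists_transp hcd
  have hkey : ∀ {e : Fin t} {q : ι → F}, q ∈ D e → ∀ i, ∀ z ∈ D i,
      (refl Q q : (ι → F) ≃ₗ[F] (ι → F)) z ∈ D i := fun {e q} hq i z hz => by
    rw [refl_apply]
    rcases eq_or_ne e i with rfl | hne
    · exact (D e).sub_mem hz ((D e).smul_mem _ hq)
    · rw [S.orth hne hq hz, mul_zero, zero_smul, sub_zero]; exact hz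
  have hg := S.comm_mem T (refl Q p) _ 1 hT (hkey hp)
  set p' := (T : (ι → F) ≃ₗ[F] (ι → F)) p with hp'
  have hp'd : p' ∈ D d := by simpa using hT c p hp
  have hgz : ∀ z, (Orth.toGL Q ⁅T, refl Q p⁆ : Matrix ι ι F) *ᵥ z = (refl Q p' : (ι → F) ≃ₗ[F] (ι → F))
      ((refl Q p : (ι → F) ≃ₗ[F] (ι → F)) z) := fun z => by
    rw [Orth.toGL_mulVec, commutatorElement_def, inv_eq_of_mul_eq_one_right (Geometry.refl_mul_self Q p),
      Geometry.refl_conj]
    rfl
  refine ⟨_, hg, Orth.toGL_mem_isometry Q _, fun z hz => ?_, fun z hz => ?_, fun i hic hid z hz => ?_⟩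
  · rw [hgz, refl_apply Q p', S.orth hcd.symm hp'd (hkey hp c z hz), mul_zero, zero_smul, sub_zero, refl_apply]
  · rw [hgz]
    exact hkey hp'd d _ (hkey hp d z hz)
  · rw [hgz, refl_apply Q p, S.orth (Ne.symm hic) hp hz, mul_zero, zero_smul, sub_zero, refl_apply,
      S.orth (Ne.symm hid) hp'd hz, mul_zero, zero_smul, sub_zero]

theorem Blk.rr_mem {a b : Fin t} {p c : ι → F} (hp : p ∈ D a) (hc : c ∈ D b) (h : Q p = Q c) (h0 : Q c ≠ 0) :
    rr Q p c ∈ K := by
  refine S.hK ⟨mem_stab S.fin 1 fun i z hz => ?_, rr_mem_omega S.hN h h0⟩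
  have key : ∀ {d : Fin t} {q x : ι → F}, q ∈ D d → x ∈ D i → x - ((Q q)⁻¹ * polarBilin Q q x) • q ∈ D i := by
    intro d q x hq hx
    by_cases hd : d = i
    · exact (D i).sub_mem hx ((D i).smul_mem _ (hd ▸ hq))
    · rw [S.orth hd hq hx, mul_zero, zero_smul, sub_zero]; exact hx
  rw [Equiv.Perm.one_apply, rr_mulVec]
  exact key hp (key hc hz)

theorem Blk.eich_mem [Finite F] {l : Fin t} {u x : ι → F} (hu : u ∈ D l) (hx : x ∈ D l) (hQu : Q u = 0)
    (hux : polarBilin Q u x = 0) : InE Q K u x := by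
  refine ⟨hQu, hux, S.hK ⟨mem_stab S.fin 1 fun i z hz => ?_, Orth.eichGL_mem_omega S.hN S.h7 hQu hux⟩⟩
  rw [Equiv.Perm.one_apply, Orth.eichGL_mulVec]
  by_cases h : i = l
  · subst h
    exact (D i).sub_mem ((D i).add_mem hz ((D i).smul_mem _ hx)) ((D i).smul_mem _ hu)
  · rw [S.orth h hz hu, S.orth h hz hx]
    simpa using hz

/-- The image of a vector under an isometry fixing all blocks but one, that one mapped to itself. -/
theorem Blk.image_of_fix {g : GL ι F} {c : Fin t}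
    (hfix : ∀ i, i ≠ c → ∀ z ∈ D i, (g : Matrix ι ι F) *ᵥ z = z) (v : ι → F) :
    (g : Matrix ι ι F) *ᵥ v = v - S.comp c v + (g : Matrix ι ι F) *ᵥ S.comp c v := by
  classical
  conv_lhs => rw [← S.sum_comp v, Matrix.mulVec_sum, ← Finset.add_sum_erase _ _ (Finset.mem_univ c),
    Finset.sum_congr rfl fun i hi => hfix i (Finset.mem_erase.mp hi).1 _ (S.comp_mem i v)]
  rw [Finset.sum_erase_eq_sub (Finset.mem_univ c), S.sum_comp]
  abel

/-! ### Pairs of reflections -/

omit S in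
theorem rr_eq (p c : ι → F) : rr Q p c = Orth.toGL Q (refl Q p) * Orth.toGL Q (refl Q c) := map_mul _ _ _

omit S in
theorem rr_self (p : ι → F) : rr Q p p = 1 := by
  rw [rr, Geometry.refl_mul_self, map_one]

omit S in
theorem rr_mul (a b c : ι → F) : rr Q a b * rr Q b c = rr Q a c := by
  rw [rr, rr, rr, ← map_mul]
  congr 1
  rw [mul_assoc, ← mul_assoc (refl Q b), Geometry.refl_mul_self, one_mul]

omit S in
theorem rr_conj {g : GL ι F} (hg : g ∈ Cfsg.isometryGroup F ⇑Q) (a b : ι → F) :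
    g * rr Q a b * g⁻¹ = rr Q ((g : Matrix ι ι F) *ᵥ a) ((g : Matrix ι ι F) *ᵥ b) := by
  obtain ⟨u, rfl⟩ : ∃ u, Orth.toGL Q u = g := ⟨_, toGL_isometryEquiv hg⟩
  rw [rr, rr, ← map_inv, ← map_mul, ← map_mul, Orth.toGL_mulVec, Orth.toGL_mulVec, ← Geometry.refl_conj,
    ← Geometry.refl_conj]
  congr 1
  group

omit S in
/-- Two vectors of equal value whose pair of reflections lies in the group. -/
def Rel (Q : QuadraticForm F (ι → F)) (K : Subgroup (GL ι F)) (v w : ι → F) : Prop :=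
  Q v = Q w ∧ Q v ≠ 0 ∧ rr Q v w ∈ K

omit S in
theorem Rel.symm {v w : ι → F} (h : Rel Q K v w) : Rel Q K w v := by
  refine ⟨h.1.symm, h.1 ▸ h.2.1, ?_⟩
  have := K.inv_mem h.2.2
  rwa [inv_eq_of_mul_eq_one_right (by rw [rr_mul, rr_self])] at this

omit S in
theorem Rel.trans {u v w : ι → F} (h : Rel Q K u v) (h' : Rel Q K v w) : Rel Q K u w :=
  ⟨h.1.trans h'.1, h.2.1, rr_mul (Q := Q) u v w ▸ K.mul_mem h.2.2 h'.2.2⟩

omit S in
theorem Rel.conj {v w : ι → F} (h : Rel Q K v w) {g : GL ι F} (hgK : g ∈ K)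
    (hg : g ∈ Cfsg.isometryGroup F ⇑Q) : Rel Q K ((g : Matrix ι ι F) *ᵥ v) ((g : Matrix ι ι F) *ᵥ w) :=
  ⟨by rw [Orth.iso_quad hg, Orth.iso_quad hg, h.1], by rw [Orth.iso_quad hg]; exact h.2.1,
    rr_conj hg v w ▸ K.mul_mem (K.mul_mem hgK h.2.2) (K.inv_mem hgK)⟩

theorem Blk.rel_block {a b : Fin t} {p c : ι → F} (hp : p ∈ D a) (hc : c ∈ D b) (h : Q p = Q c) (h0 : Q c ≠ 0) :
    Rel Q K p c :=
  ⟨h, h ▸ h0, S.rr_mem hp hc h h0⟩

omit S in
/-- A vector related to a vector of a block. -/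
def Pure (Q : QuadraticForm F (ι → F)) (D : Fin t → Submodule F (ι → F)) (K : Subgroup (GL ι F)) (v : ι → F) : Prop :=
  ∃ i, ∃ c ∈ D i, Rel Q K v c

omit S in
/-- A difference of related vectors is a centre when singular, and otherwise gives a new relation. -/
theorem Rel.step {v w : ι → F} (h : Rel Q K (w + v) w) :
    (Q v = 0 → InE Q K v (-(Q w)⁻¹ • w)) ∧ (Q v ≠ 0 → Rel Q K (v + (Q v / Q w) • w) v) := by
  obtain ⟨hq, hq0, hm⟩ := h
  have hw0 : Q w ≠ 0 := hq ▸ hq0
  have hB : polarBilin Q w v = -Q v := by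
    rw [quad_add] at hq
    linear_combination hq
  constructor
  · intro hv
    have hvw : polarBilin Q v (-(Q w)⁻¹ • w) = 0 := by
      rw [map_smul, quad_polar_comm Q v w, hB, hv, neg_zero, smul_zero]
    refine ⟨hv, hvw, ?_⟩
    convert hm using 1
    refine Units.ext (Matrix.ext_of_mulVec_single fun j => ?_)
    set y : ι → F := Pi.single j 1
    rw [Orth.eichGL_mulVec, rr_mulVec, hq, quad_smul, map_smul, map_sub, map_smul, map_add, LinearMap.add_apply,
      LinearMap.add_apply, quad_polar_self, quad_polar_comm Q v w, hB, hv, quad_polar_comm Q y w,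
      quad_polar_comm Q y v]
    simp only [smul_eq_mul]
    match_scalars <;> field_simp <;> ring
  · intro hv
    have h1 : (refl Q v : (ι → F) ≃ₗ[F] (ι → F)) w = w + v := by
      rw [refl_apply, quad_polar_comm, hB, mul_neg, inv_mul_cancel₀ hv, neg_one_smul, sub_neg_eq_add]
    have h2 : (refl Q w : (ι → F) ≃ₗ[F] (ι → F)) v = v + (Q v / Q w) • w := by
      rw [refl_apply, hB, mul_neg, neg_smul, sub_neg_eq_add, div_eq_inv_mul]
    have h3 : rr Q w (w + v) = rr Q (v + (Q v / Q w) • w) v := by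
      rw [rr, rr, ← h2, ← h1, ← Geometry.refl_conj, ← Geometry.refl_conj,
        inv_eq_of_mul_eq_one_right (Geometry.refl_mul_self Q v),
        inv_eq_of_mul_eq_one_right (Geometry.refl_mul_self Q w)]
      simp only [mul_assoc]
    have h4 := (Rel.symm ⟨hq, hq0, hm⟩).2.2
    rw [h3] at h4
    have hval : Q (v + (Q v / Q w) • w) = Q v := by
      rw [quad_add, quad_smul, map_smul, quad_polar_comm, hB, smul_eq_mul]
      field_simp
      ring
    exact ⟨hval, hval.symm ▸ hv, h4⟩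

/-- A stabilising element moving a pure vector by a singular vector gives a centre. -/
theorem Blk.inE_of_pure {v z : ι → F} (hv : Pure Q D K v) {h : GL ι F} (hhK : h ∈ K)
    (hhi : h ∈ Cfsg.isometryGroup F ⇑Q) (hst : ∀ i, ∀ x ∈ D i, ∃ j, (h : Matrix ι ι F) *ᵥ x ∈ D j)
    (hz : (h : Matrix ι ι F) *ᵥ v = v + z) (hQz : Q z = 0) : InE Q K z (-(Q v)⁻¹ • v) := by
  obtain ⟨i, c, hc, hr⟩ := hv
  obtain ⟨j, hj⟩ := hst i c hc
  have h1 := hr.conj hhK hhi
  rw [hz] at h1
  have h0 : Q c ≠ 0 := hr.1 ▸ hr.2.1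
  exact ((h1.trans (S.rel_block hj hc (Orth.iso_quad hhi c) h0)).trans hr.symm).step.1 hQz

end Cfsg.Agent.Lib.MaxSub.OrthBlocks
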