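import Cfsg.Agent.Lib.MaxSub.OrthBlocksBase

/-!
Orthogonal decompositions into blocks of dimension at least four: the stabiliser is maximal in `omegaGL`, in
every characteristic, outside four-dimensional plus blocks over two elements.
-/

set_option autoImplicit false

namespace Cfsg.Agent.Lib.MaxSub.OrthBlocks

open Matrix QuadraticMap
open Cfsg.Agent.Lib.MaxSub
open Cfsg.Agent.Lib.MaxSub.OrthSplit (InE finrank_inf_ker)
open Cfsg.Agent.Lib.ThreeTransp.DecompOrth (mem_stab inE_zero inE_add inE_neg inE_flip)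
open Cfsg.Agent.Lib.Geometry (quad_add quad_sub quad_smul quad_polar_self quad_polar_comm)
open scoped MatrixGroups Matrix

attribute [-simp] QuadraticMap.polarBilin_apply_apply

variable {ι : Type} [Fintype ι] [DecidableEq ι] {F : Type*} [Field F] [Fintype F] {Q : QuadraticForm F (ι → F)}
  {t k : ℕ} {D : Fin t → Submodule F (ι → F)} {K : Subgroup (GL ι F)} (S : Blk Q D k K)

include S

theorem Blk.hyp (hk : 3 ≤ k) (i : Fin t) :
    ∃ e ∈ D i, ∃ f ∈ D i, e ≠ 0 ∧ Q e = 0 ∧ Q f = 0 ∧ polarBilin Q e f = 1 := by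
  obtain ⟨e, he, he0, hQe⟩ := Orth.exists_singular (Q := Q) (D i) (by rw [S.fin i]; exact hk)
  obtain ⟨z, hz, hez⟩ := S.nd he he0
  obtain ⟨f, hf, hQf, hef⟩ := Orth.exists_partner S.hN hQe he hz hez
  exact ⟨e, he, f, hf, he0, hQe, hQf, hef⟩

/-- Duality inside a block. -/
theorem Blk.dual {i : Fin t} {W : Submodule F (ι → F)} (hW : W ≤ D i) {x : ι → F} (hx : x ∈ D i) (hxW : x ∉ W) :
    ∃ z ∈ D i, (∀ w ∈ W, polarBilin Q z w = 0) ∧ polarBilin Q z x = 1 := by
  obtain ⟨z, hz, hzx⟩ := Orth.exists_dual S.hN W hxW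
  refine ⟨_, S.comp_mem i z, fun w hw => ?_, ?_⟩
  · rw [quad_polar_comm, S.polar_comp (hW hw), quad_polar_comm, hz w hw]
  · rw [quad_polar_comm, S.polar_comp hx, quad_polar_comm, hzx]

theorem Blk.perp_dim (i : Fin t) (a : ι → F) :
    k ≤ Module.finrank F ((D i ⊓ LinearMap.ker (polarBilin Q a) : Submodule F (ι → F))) + 1 :=
  (S.fin i).symm.trans_le (finrank_inf_ker (D i) (polarBilin Q a))

omit S in
theorem not_mem_of_finrank {P W : Submodule F (ι → F)} (h : Module.finrank F W < Module.finrank F P) :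
    ∃ x ∈ P, x ∉ W := by
  by_contra! hc
  exact absurd (Submodule.finrank_mono (fun x hx => hc x hx : P ≤ W)) (not_le.mpr h)

omit S in
theorem finrank_line_le (s : ι → F) : Module.finrank F (F ∙ s) ≤ 1 := by
  have h := finrank_span_le_card (R := F) ({s} : Set (ι → F))
  simpa using h

/-- A pair of non-orthogonal vectors of a block orthogonal to a singular one. -/
theorem Blk.sing_pair (hk : 4 ≤ k) {i : Fin t} {s : ι → F} (hs : s ∈ D i) :
    ∃ y₁ ∈ D i, ∃ y₂ ∈ D i, polarBilin Q s y₁ = 0 ∧ polarBilin Q s y₂ = 0 ∧ polarBilin Q y₁ y₂ = 1 := by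
  obtain ⟨m, ⟨hm, hsm⟩, hms⟩ := not_mem_of_finrank
    (P := (D i ⊓ LinearMap.ker (polarBilin Q s) : Submodule F (ι → F))) (W := F ∙ s) (by
    have := S.perp_dim i s
    have := finrank_line_le (F := F) s
    omega)
  obtain ⟨z, hz, hzs, hzm⟩ := S.dual ((Submodule.span_singleton_le_iff_mem _ _).mpr hs) hm hms
  have hsz : polarBilin Q s z = 0 := by rw [quad_polar_comm]; exact hzs s (Submodule.mem_span_singleton_self s)
  exact ⟨z, hz, m, hm, hsz, hsm, hzm⟩

/-- A singular vector of a block not orthogonal to a given vector. -/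
theorem Blk.sing_ne (hk : 3 ≤ k) {i : Fin t} {b : ι → F} (hb : S.comp i b ≠ 0) :
    ∃ u ∈ D i, u ≠ 0 ∧ Q u = 0 ∧ polarBilin Q u b ≠ 0 := by
  obtain ⟨e, he, f, hf, he0, hQe, hQf, hef⟩ := S.hyp hk i
  by_cases h1 : polarBilin Q e b = 0
  swap
  · exact ⟨e, he, he0, hQe, h1⟩
  by_cases h2 : polarBilin Q f b = 0
  swap
  · exact ⟨f, hf, fun h => by simp [h] at hef, hQf, h2⟩
  obtain ⟨y, hy, hne⟩ := S.nd (S.comp_mem i b) hb
  rw [quad_polar_comm, S.polar_comp hy] at hne
  set r := y - polarBilin Q f y • e - polarBilin Q e y • f with hr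
  have hre : polarBilin Q e r = 0 := by simp [hr, map_sub, map_smul, Orth.polar_self_of_sing Q hQe, hef]
  have hrf : polarBilin Q f r = 0 := by
    simp [hr, map_sub, map_smul, Orth.polar_self_of_sing Q hQf, quad_polar_comm Q f e, hef]
  have hrb : polarBilin Q r b = polarBilin Q y b := by simp [hr, map_sub, map_smul, h1, h2]
  have hrD : r ∈ D i := (D i).sub_mem ((D i).sub_mem hy ((D i).smul_mem _ he)) ((D i).smul_mem _ hf)
  refine ⟨r + e - Q r • f, (D i).sub_mem ((D i).add_mem hrD he) ((D i).smul_mem _ hf), fun h => ?_, ?_, ?_⟩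
  · have := congrArg (fun z => polarBilin Q z b) h
    simp [map_sub, map_add, map_smul, h1, h2, hrb, hne] at this
  · simp [quad_sub, quad_add, quad_smul, hQe, hQf, map_add, map_smul, hre, hrf, quad_polar_comm Q r e,
      quad_polar_comm Q r f, hef]
  · simp [map_sub, map_add, map_smul, h1, h2, hrb, hne]

/-! ### From one centre to all -/

theorem Blk.full_step (hk : 4 ≤ k) {a c : Fin t} (hca : c ≠ a) {u x s : ι → F} (hu : u ∈ D a) (h : InE Q K u x)
    (hs : s ∈ D c) (hQs : Q s = 0) (hsx : polarBilin Q x s ≠ 0) :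
    ∀ z ∈ D c, polarBilin Q s z = 0 → InE Q K u z := by
  have φ : ∀ y ∈ D c, polarBilin Q s y = 0 →
      InE Q K u (polarBilin Q x s • y - (polarBilin Q x y + Q y * polarBilin Q x s) • s) := by
    intro y hy hsy
    obtain ⟨_, _, hm⟩ := S.eich_mem hs hy hQs hsy
    have h1 := h.conj hm (Orth.toGL_mem_isometry Q _)
    rw [Orth.eichGL_mulVec, Orth.eichGL_mulVec, S.orth hca.symm hu hs, S.orth hca.symm hu hy, zero_smul, add_zero,
      mul_zero, add_zero, zero_smul, sub_zero] at h1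
    simpa [add_sub_assoc] using h1.sub h
  obtain ⟨y₁, hy₁, y₂, hy₂, hs₁, hs₂, h12⟩ := S.sing_pair hk hs
  have hline : ∀ l : F, InE Q K u (l • s) := fun l => by
    set μ : F := -(l / polarBilin Q x s) with hμ
    have hμs : polarBilin Q s (μ • y₁) = 0 := by rw [map_smul, hs₁, smul_zero]
    have h3 := ((φ (μ • y₁ + y₂) ((D c).add_mem ((D c).smul_mem _ hy₁) hy₂) (by rw [map_add, hμs, hs₂, add_zero])).sub
      (φ (μ • y₁) ((D c).smul_mem _ hy₁) hμs)).sub (φ y₂ hy₂ hs₂)
    convert h3 using 1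
    rw [quad_add, map_smul (polarBilin Q) μ y₁, LinearMap.smul_apply, h12, smul_eq_mul, mul_one, map_add, hμ]
    match_scalars <;> field_simp <;> ring
  intro z hz hsz
  have h1 := inE_add (φ ((polarBilin Q x s)⁻¹ • z) ((D c).smul_mem _ hz) (by rw [map_smul, hsz, smul_zero]))
    (hline (polarBilin Q x ((polarBilin Q x s)⁻¹ • z) + Q ((polarBilin Q x s)⁻¹ • z) * polarBilin Q x s))
  rwa [sub_add_cancel, smul_smul, mul_inv_cancel₀ hsx, one_smul] at h1

/-- A centre with a component in a block has the whole block. -/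
theorem Blk.full_block (hk : 4 ≤ k) {a c : Fin t} (hca : c ≠ a) {u x : ι → F} (hu : u ∈ D a) (h : InE Q K u x)
    (hx : S.comp c x ≠ 0) : ∀ z ∈ D c, InE Q K u z := by
  obtain ⟨s, hs, hs0, hQs, hsx⟩ := S.sing_ne (by omega) hx
  have h1 := S.full_step hk hca hu h hs hQs (by rwa [quad_polar_comm])
  obtain ⟨y, hy, hsy⟩ := S.nd hs hs0
  obtain ⟨f, hf, hQf, hsf⟩ := Orth.exists_partner S.hN hQs hs hy hsy
  have h2 := S.full_step hk hca hu (h1 s hs (Orth.polar_self_of_sing Q hQs)) hf hQf (by rw [hsf]; exact one_ne_zero)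
  intro z hz
  have hz' : polarBilin Q s (z - polarBilin Q s z • f) = 0 := by
    rw [map_sub, map_smul, hsf, smul_eq_mul, mul_one, sub_self]
  have h3 := inE_add (h1 _ ((D c).sub_mem hz ((D c).smul_mem _ hf)) hz')
    (h2 (polarBilin Q s z • f) ((D c).smul_mem _ hf) (by rw [map_smul, Orth.polar_self_of_sing Q hQf, smul_zero]))
  rwa [sub_add_cancel] at h3

omit S in
/-- Singular vectors of block `a` are centres with every vector of block `b`. -/
def Lk (Q : QuadraticForm F (ι → F)) (D : Fin t → Submodule F (ι → F)) (K : Subgroup (GL ι F)) (a b : Fin t) :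
    Prop :=
  ∀ u ∈ D a, u ≠ 0 → Q u = 0 → ∀ x ∈ D b, InE Q K u x

theorem Blk.lk_of (hk : 4 ≤ k) {a c : Fin t} (hca : c ≠ a) {u : ι → F} (hu : u ∈ D a) (hu0 : u ≠ 0) (hQu : Q u = 0)
    (h : ∀ x ∈ D c, InE Q K u x) : Lk Q D K c a ∧ Lk Q D K a c := by
  have h1 : Lk Q D K c a := fun s hs _ hQs => by
    refine S.full_block hk hca.symm hs (inE_flip (h s hs) hQs) ?_
    rw [S.comp_neg, S.comp_self hu]
    exact neg_ne_zero.mpr hu0
  refine ⟨h1, fun v hv _ hQv => ?_⟩
  obtain ⟨e, he, -, -, he0, hQe, -, -⟩ := S.hyp (by omega) c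
  refine S.full_block hk hca hv (inE_flip (h1 e he he0 hQe v hv) hQv) ?_
  rw [S.comp_neg, S.comp_self he]
  exact neg_ne_zero.mpr he0

omit S in
/-- A centre in one block with a component in another. -/
def SeedBig (S : Blk Q D k K) : Prop :=
  ∃ (a c : Fin t) (u x : ι → F), c ≠ a ∧ u ∈ D a ∧ u ≠ 0 ∧ InE Q K u x ∧ S.comp c x ≠ 0

theorem Blk.omega_le_of_seedBig (hk : 4 ≤ k) (h : SeedBig S) : Cfsg.Geo.omegaGL ⇑Q ≤ K := by
  obtain ⟨a, c, u, x, hca, hu, hu0, hux, hx⟩ := h
  obtain ⟨hc, hac⟩ := S.lk_of hk hca hu hu0 hux.1 (S.full_block hk hca hu hux hx)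
  have hall : ∀ d, d ≠ a → Lk Q D K a d := fun d hd => by
    by_cases hdc : d = c
    · exact hdc ▸ hac
    obtain ⟨g, hgK, hgi, hgc, hga, -, -⟩ := S.exists_cycle hca (Ne.symm hdc) (Ne.symm hd)
    -- `g` maps `c` to `a` and `a` to `d`
    have hd' : Lk Q D K d a := by
      intro v hv hv0 hQv y hy
      obtain ⟨v₀, hv₀, rfl⟩ := S.onto g hga v hv
      obtain ⟨y₀, hy₀, rfl⟩ := S.onto g hgc y hy
      exact (hac v₀ hv₀ (fun e => hv0 (by rw [e, Matrix.mulVec_zero])) (by rw [← Orth.iso_quad hgi]; exact hQv)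
        y₀ hy₀).conj hgK hgi
    obtain ⟨e, he, -, -, he0, hQe, -, -⟩ := S.hyp (by omega) d
    exact (S.lk_of hk (Ne.symm hd) he he0 hQe (hd' e he he0 hQe)).1
  have hroot : ∀ v ∈ D a, v ≠ 0 → Q v = 0 → Orth.Root Q K v := fun v hv hv0 hQv => by
    refine ⟨hQv, fun y hy => ?_⟩
    have hpart : ∀ i, InE Q K v (S.comp i y) := fun i => by
      by_cases hi : i = a
      · subst hi
        exact S.eich_mem hv (S.comp_mem i y) hQv (by rw [S.polar_comp hv]; exact hy)
      · exact hall i hi v hv hv0 hQv _ (S.comp_mem i y)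
    have hsum : ∀ s : Finset (Fin t), InE Q K v (∑ i ∈ s, S.comp i y) := fun s => by
      induction s using Finset.induction_on with
      | empty => simpa using inE_zero (hpart a)
      | insert b s hb ih => rw [Finset.sum_insert hb]; exact inE_add (hpart b) ih
    have := hsum Finset.univ
    rw [S.sum_comp] at this
    obtain ⟨_, _, hm⟩ := this
    exact hm
  obtain ⟨e, he, f, hf, he0, hQe, hQf, hef⟩ := S.hyp (by omega) a
  exact Orth.omega_le S.hN S.h7 ((hroot e he he0 hQe).all S.hN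
    (hroot f hf (fun h => by simp [h] at hef) hQf) (by rw [hef]; exact one_ne_zero))

/-! ### A pure vector with two components gives a centre -/

theorem Blk.seedBig_of_pure (hk : 4 ≤ k) {v : ι → F} (hv : Pure Q D K v)
    (h2c : ∃ i j, i ≠ j ∧ S.comp i v ≠ 0 ∧ S.comp j v ≠ 0) : SeedBig S := by
  obtain ⟨_, _, _, _, hQv, -⟩ := id hv
  obtain ⟨a, hQa⟩ : ∃ a, Q (S.comp a v) ≠ 0 := by
    by_contra! hc
    exact hQv (by rw [S.quad_comp v]; exact Finset.sum_eq_zero fun i _ => hc i)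
  obtain ⟨c, hca, hc⟩ : ∃ c, c ≠ a ∧ S.comp c v ≠ 0 := by
    obtain ⟨i, j, hij, hi, hj⟩ := h2c
    by_cases hia : i = a
    · exact ⟨j, fun e => hij (hia.trans e.symm), hj⟩
    · exact ⟨i, hia, hi⟩
  set va := S.comp a v with hva
  have hvaD : va ∈ D a := S.comp_mem a v
  obtain ⟨z, ⟨hz, hzv⟩, hz0, hQz⟩ := Orth.exists_singular (Q := Q)
    (D a ⊓ LinearMap.ker (polarBilin Q va) : Submodule F (ι → F)) (by
      have := S.perp_dim a va
      omega)
  have hnot : va ∉ F ∙ z := fun h => by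
    obtain ⟨l, hl⟩ := Submodule.mem_span_singleton.mp h
    exact hQa (by rw [← hl, quad_smul, hQz, mul_zero])
  obtain ⟨y, hy, hyz, hyv⟩ := S.dual ((Submodule.span_singleton_le_iff_mem _ _).mpr hz) hvaD hnot
  have hzy : polarBilin Q z (-y) = 0 := by
    rw [map_neg, quad_polar_comm, hyz z (Submodule.mem_span_singleton_self z), neg_zero]
  obtain ⟨_, _, hm⟩ := S.eich_mem hz ((D a).neg_mem hy) hQz hzy
  have hva' : ∀ w ∈ D a, polarBilin Q v w = polarBilin Q va w := fun w hw => by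
    rw [quad_polar_comm, ← S.polar_comp hw, quad_polar_comm]
  have himg : (Orth.eichGL Q z (-y) hQz hzy : Matrix ι ι F) *ᵥ v = v + z := by
    have e1 : polarBilin Q v z = 0 := by rw [hva' z hz]; exact hzv
    have e2 : polarBilin Q v (-y) = -1 := by rw [hva' _ ((D a).neg_mem hy), map_neg, quad_polar_comm, hyv]
    rw [Orth.eichGL_mulVec, e1, e2, zero_smul, add_zero, mul_zero, add_zero, neg_one_smul, sub_neg_eq_add]
  refine ⟨a, c, z, _, hca, hz, hz0, S.inE_of_pure hv hm (Orth.toGL_mem_isometry Q _) (fun i x hx => ⟨i, ?_⟩) himg hQz,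
    by rw [S.comp_smul]; exact smul_ne_zero (neg_ne_zero.mpr (inv_ne_zero hQv)) hc⟩
  rw [Orth.eichGL_mulVec]
  by_cases h : i = a
  · subst h
    exact (D i).sub_mem ((D i).add_mem hx ((D i).smul_mem _ ((D i).neg_mem hy))) ((D i).smul_mem _ hz)
  · rw [S.orth h hx hz, S.orth h hx ((D a).neg_mem hy)]
    simpa using hx

/-! ### A moving element -/

/-- Each block is spanned by its vectors of a given value. -/
theorem Blk.mem_span_value (hk : 3 ≤ k) {i : Fin t} (ν : F) {x : ι → F} (hx : x ∈ D i) :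
    x ∈ Submodule.span F {z | z ∈ D i ∧ Q z = ν} := by
  obtain ⟨e, he, f, hf, he0, hQe, hQf, hef⟩ := S.hyp hk i
  set P := Submodule.span F {z | z ∈ D i ∧ Q z = ν}
  have hv : ∀ r ∈ D i, polarBilin Q e r = 0 → polarBilin Q f r = 0 → r + e + (ν - Q r) • f ∈ P := by
    intro r hr her hfr
    refine Submodule.subset_span ⟨(D i).add_mem ((D i).add_mem hr he) ((D i).smul_mem _ hf), ?_⟩
    simp [quad_add, quad_smul, hQe, hQf, map_add, map_smul, quad_polar_comm Q r e, her, quad_polar_comm Q r f, hfr, hef]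
  have hproj : ∀ y ∈ D i, ∀ r, r = y - polarBilin Q f y • e - polarBilin Q e y • f →
      r ∈ D i ∧ polarBilin Q e r = 0 ∧ polarBilin Q f r = 0 := by
    rintro y hy r rfl
    exact ⟨(D i).sub_mem ((D i).sub_mem hy ((D i).smul_mem _ he)) ((D i).smul_mem _ hf),
      by simp [map_sub, map_smul, Orth.polar_self_of_sing Q hQe, hef],
      by simp [map_sub, map_smul, Orth.polar_self_of_sing Q hQf, quad_polar_comm Q f e, hef]⟩
  obtain ⟨m, hm, hme, hmf, hm0⟩ : ∃ m ∈ D i, polarBilin Q e m = 0 ∧ polarBilin Q f m = 0 ∧ m ≠ 0 := by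
    obtain ⟨y, hy, hyW⟩ := not_mem_of_finrank (P := D i) (W := Submodule.span F {e, f}) (by
      have h : Module.finrank F (Submodule.span F ({e, f} : Set (ι → F))) ≤ 2 := by
        classical
        have h1 := finrank_span_le_card (R := F) ({e, f} : Set (ι → F))
        refine h1.trans ?_
        rw [Set.toFinset_insert, Set.toFinset_singleton]
        exact Finset.card_le_two
      have := S.fin i
      omega)
    obtain ⟨h1, h2, h3⟩ := hproj y hy _ rfl
    exact ⟨_, h1, h2, h3, fun h => hyW (Submodule.mem_span_pair.mpr ⟨polarBilin Q f y, polarBilin Q e y, by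
      rw [sub_sub, sub_eq_zero] at h
      exact h.symm⟩)⟩
  obtain ⟨y, hy, hmy⟩ := S.nd hm hm0
  obtain ⟨n, hn, hne, hnf, hmn⟩ : ∃ n ∈ D i, polarBilin Q e n = 0 ∧ polarBilin Q f n = 0 ∧ polarBilin Q m n ≠ 0 := by
    obtain ⟨h1, h2, h3⟩ := hproj y hy _ rfl
    exact ⟨_, h1, h2, h3, by simpa [map_sub, map_smul, quad_polar_comm Q m e, hme, quad_polar_comm Q m f, hmf] using hmy⟩
  have h0 : e + ν • f ∈ P := by simpa using hv 0 (D i).zero_mem (by simp) (by simp)
  have hfP : f ∈ P := by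
    have h1 := P.sub_mem (P.sub_mem (P.add_mem h0 (hv (m + n) ((D i).add_mem hm hn) (by rw [map_add, hme, hne, add_zero])
      (by rw [map_add, hmf, hnf, add_zero]))) (hv m hm hme hmf)) (hv n hn hne hnf)
    have h2 : -(polarBilin Q m n) • f ∈ P := by
      convert h1 using 1
      rw [quad_add]
      module
    exact (P.smul_mem_iff (neg_ne_zero.mpr hmn)).mp h2
  have heP : e ∈ P := by simpa using P.sub_mem h0 (P.smul_mem ν hfP)
  obtain ⟨h1, h2, h3⟩ := hproj x hx _ rfl
  have h4 := P.sub_mem (P.sub_mem (hv _ h1 h2 h3) heP)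
    (P.smul_mem (ν - Q (x - polarBilin Q f x • e - polarBilin Q e x • f)) hfP)
  have h5 := P.add_mem (P.add_mem h4 (P.smul_mem (polarBilin Q f x) heP)) (P.smul_mem (polarBilin Q e x) hfP)
  convert h5 using 1
  module

/-- A plus-type block makes all blocks plus. -/
theorem Blk.plus_all {i : Fin t} (h : Cfsg.Geo.IsPlusTypeOn (⇑Q) (D i)) (j : Fin t) :
    Cfsg.Geo.IsPlusTypeOn (⇑Q) (D j) := by
  obtain ⟨φ, hφ⟩ := S.hD.isometric i j
  obtain ⟨U, hUD, hU, hdim⟩ := h
  refine ⟨((U.comap (D i).subtype).map φ.toLinearMap).map (D j).subtype, fun x hx => ?_, fun x hx => ?_, ?_⟩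
  · obtain ⟨y, -, rfl⟩ := hx
    exact y.2
  · obtain ⟨y, ⟨z, hz, rfl⟩, rfl⟩ := hx
    show Q (φ z : ι → F) = 0
    rw [hφ]
    exact hU _ hz
  · rw [← (Submodule.equivMapOfInjective _ Subtype.val_injective _).finrank_eq, ← (φ.submoduleMap _).finrank_eq,
      (Submodule.comapSubtypeEquivOfLe hUD).finrank_eq, hdim, S.fin, S.fin]

/-- An isometry sending non-singular vectors of blocks into blocks stabilises the decomposition. -/
theorem Blk.exists_two_comp (hk : 4 ≤ k)
    (hex : ¬ (k = 4 ∧ Fintype.card F = 2 ∧ ∀ i, Cfsg.Geo.IsPlusTypeOn (⇑Q) (D i))) {g : GL ι F}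
    (hgi : g ∈ Cfsg.isometryGroup F ⇑Q) (hgs : g ∉ Cfsg.Geo.decompositionStabilizer D) :
    ∃ i, ∃ c ∈ D i, Q c ≠ 0 ∧
      ∃ a b, a ≠ b ∧ S.comp a ((g : Matrix ι ι F) *ᵥ c) ≠ 0 ∧ S.comp b ((g : Matrix ι ι F) *ᵥ c) ≠ 0 := by
  classical
  by_contra! hno
  let L := Matrix.toLin' (g : Matrix ι ι F)
  have hLinj : Function.Injective L := fun x y hxy => by
    have := congrArg (fun z => ((g⁻¹ : GL ι F) : Matrix ι ι F) *ᵥ z) hxy
    simpa [L, Matrix.toLin'_apply, Matrix.mulVec_mulVec, ← Units.val_mul] using this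
  have hone : ∀ i, ∀ x ∈ D i, Q x ≠ 0 → ∃ a, L x ∈ D a := fun i x hx hQx => by
    obtain ⟨j, hj⟩ := S.mem_block (v := L x) fun a b hab => by
      by_contra hc
      rw [not_or] at hc
      exact hc.2 (hno i x hx hQx a b hab hc.1)
    exact ⟨j, hj⟩
  have hblock : ∀ i, ∃ a, ∀ x ∈ D i, L x ∈ D a := by
    intro i
    obtain ⟨e, he, f, hf, -, hQe, hQf, hef⟩ := S.hyp (by omega) i
    set x₁ := e + (1 : F) • f with hx₁
    have hQ₁ : Q x₁ = 1 := by rw [hx₁, quad_add, quad_smul, hQe, hQf, map_smul, hef, smul_eq_mul]; ring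
    have hx₁D : x₁ ∈ D i := (D i).add_mem he ((D i).smul_mem _ hf)
    obtain ⟨a, ha⟩ := hone i x₁ hx₁D (hQ₁ ▸ one_ne_zero)
    refine ⟨a, fun x hx => ?_⟩
    set Ua := (D i ⊓ (D a).comap L : Submodule F (ι → F)) with hUa
    suffices ∀ x ∈ D i, Q x = 1 → x ∈ Ua from
      ((Submodule.span_le.mpr fun z hz => this z hz.1 hz.2) (S.mem_span_value (by omega) 1 hx)).2
    intro y hy hQy
    by_contra hya
    obtain ⟨b, hb⟩ := hone i y hy (hQy ▸ one_ne_zero)
    have hab : a ≠ b := fun h => hya ⟨hy, h ▸ hb⟩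
    -- vectors with images in different blocks
    have hsum : ∀ {a b : Fin t}, a ≠ b → ∀ x ∈ D i, ∀ z ∈ D i, x ≠ 0 → z ≠ 0 → L x ∈ D a → L z ∈ D b →
        Q (x + z) = 0 ∧ polarBilin Q x z = 0 := by
      intro a b hab x hx z hz hx0 hz0 hxa hzb
      refine ⟨?_, ?_⟩
      · by_contra hne
        obtain ⟨d, hd⟩ := hone i (x + z) ((D i).add_mem hx hz) hne
        rw [map_add] at hd
        have h1 := S.comp_add a (L x) (L z)
        have h2 := S.comp_add b (L x) (L z)
        rw [S.comp_self hxa, S.comp_other hab hzb, add_zero] at h1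
        rw [S.comp_other hab.symm hxa, S.comp_self hzb, zero_add] at h2
        by_cases had : a = d
        · rw [S.comp_other (fun h : b = d => hab (had.trans h.symm)) hd] at h2
          exact hz0 (hLinj (by rw [map_zero, ← h2]))
        · rw [S.comp_other had hd] at h1
          exact hx0 (hLinj (by rw [map_zero, ← h1]))
      · rw [← Orth.iso_polar hgi]
        have := S.orth hab hxa hzb
        simpa [L, Matrix.toLin'_apply] using this
    have hy0 : y ≠ 0 := fun h => by simp [h] at hQy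
    have hx₁0 : x₁ ≠ 0 := fun h => by simp [h] at hQ₁
    -- squares are trivial
    have hsq : ∀ c : F, c ≠ 0 → c * c = 1 ∧ (2 : F) = 0 := by
      intro c hc
      have h1 : ∀ d : F, d ≠ 0 → 1 + d * d = 0 := fun d hd => by
        obtain ⟨h1, h2⟩ := hsum hab x₁ hx₁D (d • y) ((D i).smul_mem _ hy) hx₁0 (smul_ne_zero hd hy0) ha
          (by rw [map_smul]; exact (D b).smul_mem _ hb)
        rw [quad_add, quad_smul, hQ₁, hQy, h2, add_zero, mul_one] at h1
        exact h1
      have h2 := h1 1 one_ne_zero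
      exact ⟨by linear_combination h1 c hc - h2, by linear_combination h2⟩
    have h2 : (2 : F) = 0 := (hsq 1 one_ne_zero).2
    have h01 : ∀ c : F, c ≠ 0 → c = 1 := fun c hc => by
      have : (c - 1) * (c - 1) = 0 := by linear_combination (hsq c hc).1 + (1 - c) * h2
      exact sub_eq_zero.mp (mul_self_eq_zero.mp this)
    have hq : Fintype.card F = 2 := by
      rw [← Finset.card_univ, show (Finset.univ : Finset F) = {0, 1} from Finset.ext fun c => by
        simpa using (em (c = 0)).imp id (h01 c)]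
      exact Finset.card_pair zero_ne_one
    set Ub := (D i ⊓ (D b).comap L : Submodule F (ι → F)) with hUb
    have haU : x₁ ∈ Ua := ⟨hx₁D, ha⟩
    have hbU : y ∈ Ub := ⟨hy, hb⟩
    -- both parts are anisotropic
    have haniso : ∀ {a b : Fin t}, a ≠ b → ∀ z ∈ D i, Q z ≠ 0 → L z ∈ D b → ∀ s ∈ D i, L s ∈ D a → Q s = 0 → s = 0 := by
      intro a b hab z hz hQz hzb s hs hsa hQs
      by_contra hs0
      obtain ⟨h1, h2⟩ := hsum hab s hs z hz hs0 (fun h => hQz (by rw [h, map_zero])) hsa hzb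
      rw [quad_add, hQs, h2, zero_add, add_zero] at h1
      exact hQz h1
    have hA := haniso hab y hy (hQy ▸ one_ne_zero) hb
    have hB := haniso hab.symm x₁ hx₁D (hQ₁ ▸ one_ne_zero) ha
    have hAd : Module.finrank F Ua ≤ 2 := by
      by_contra hc
      obtain ⟨s, hs, hs0, hQs⟩ := Orth.exists_singular (Q := Q) Ua (by omega)
      exact hs0 (hA s hs.1 hs.2 hQs)
    have hBd : Module.finrank F Ub ≤ 2 := by
      by_contra hc
      obtain ⟨s, hs, hs0, hQs⟩ := Orth.exists_singular (Q := Q) Ub (by omega)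
      exact hs0 (hB s hs.1 hs.2 hQs)
    have hcover : D i ≤ Ua ⊔ Ub := by
      refine fun x hx => (Submodule.span_le.mpr ?_) (S.mem_span_value (by omega) 1 hx)
      rintro z ⟨hz, hQz⟩
      obtain ⟨d, hd⟩ := hone i z hz (hQz ▸ one_ne_zero)
      by_cases hda : d = a
      · exact Submodule.mem_sup_left ⟨hz, hda ▸ hd⟩
      by_cases hdb : d = b
      · exact Submodule.mem_sup_right ⟨hz, hdb ▸ hd⟩
      exfalso
      -- three parts would give a non-singular vector with three components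
      have hz0 : z ≠ 0 := fun h => by simp [h] at hQz
      obtain ⟨h12, h12'⟩ := hsum hab x₁ hx₁D y hy hx₁0 hy0 ha hb
      obtain ⟨-, h13⟩ := hsum (Ne.symm hda) x₁ hx₁D z hz hx₁0 hz0 ha hd
      obtain ⟨-, h23⟩ := hsum (Ne.symm hdb) y hy z hz hy0 hz0 hb hd
      obtain ⟨o, ho⟩ := hone i (x₁ + y + z) ((D i).add_mem ((D i).add_mem hx₁D hy) hz) (by
        rw [quad_add, h12, hQz, map_add, LinearMap.add_apply, h13, h23, zero_add, add_zero, add_zero]
        exact one_ne_zero)
      rw [map_add, map_add] at ho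
      obtain ⟨j, hj, hjo⟩ : ∃ j, (j = a ∨ j = b) ∧ j ≠ o := by
        by_cases h : a = o
        · exact ⟨b, Or.inr rfl, fun h' => hab (h.trans h'.symm)⟩
        · exact ⟨a, Or.inl rfl, h⟩
      have h := S.comp_other hjo ho
      rcases hj with rfl | rfl
      · rw [S.comp_add, S.comp_add, S.comp_self ha, S.comp_other hab hb, S.comp_other (Ne.symm hda) hd, add_zero,
          add_zero] at h
        exact hx₁0 (hLinj (by rw [h, map_zero]))
      · rw [S.comp_add, S.comp_add, S.comp_other hab.symm ha, S.comp_self hb, S.comp_other (Ne.symm hdb) hd, zero_add,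
          add_zero] at h
        exact hy0 (hLinj (by rw [h, map_zero]))
    have hdim := (Submodule.finrank_mono hcover).trans (Submodule.finrank_add_le_finrank_add_finrank Ua Ub)
    rw [S.fin] at hdim
    have hk4 : k = 4 := by omega
    obtain ⟨x₂, hx₂, hx₂'⟩ := not_mem_of_finrank (P := Ua) (W := F ∙ x₁) (by
      have := finrank_line_le (F := F) x₁; omega)
    obtain ⟨y₂, hy₂, hy₂'⟩ := not_mem_of_finrank (P := Ub) (W := F ∙ y) (by
      have := finrank_line_le (F := F) y; omega)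
    have hx₂0 : x₂ ≠ 0 := fun h => hx₂' (h ▸ Submodule.zero_mem _)
    have hy₂0 : y₂ ≠ 0 := fun h => hy₂' (h ▸ Submodule.zero_mem _)
    have hxs : x₁ + x₂ ≠ 0 := fun h => hx₂' (Submodule.mem_span_singleton.mpr ⟨-1, by
      rw [neg_one_smul]; exact (eq_neg_of_add_eq_zero_right h).symm⟩)
    have hys : y + y₂ ≠ 0 := fun h => hy₂' (Submodule.mem_span_singleton.mpr ⟨-1, by
      rw [neg_one_smul]; exact (eq_neg_of_add_eq_zero_right h).symm⟩)
    have hval : ∀ {a b : Fin t}, a ≠ b → ∀ z ∈ D i, Q z ≠ 0 → L z ∈ D b → ∀ s ∈ D i, L s ∈ D a → s ≠ 0 → Q s = 1 :=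
      fun hab z hz hQz hzb s hs hsa hs0 => h01 _ fun h => hs0 (haniso hab z hz hQz hzb s hs hsa h)
    have v1 := hval hab y hy (hQy ▸ one_ne_zero) hb x₂ hx₂.1 hx₂.2 hx₂0
    have v3 := hval hab y hy (hQy ▸ one_ne_zero) hb _ ((D i).add_mem hx₁D hx₂.1) (by
      rw [map_add]; exact (D a).add_mem ha hx₂.2) hxs
    have w1 := hval hab.symm x₁ hx₁D (hQ₁ ▸ one_ne_zero) ha y₂ hy₂.1 hy₂.2 hy₂0
    have w3 := hval hab.symm x₁ hx₁D (hQ₁ ▸ one_ne_zero) ha _ ((D i).add_mem hy hy₂.1) (by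
      rw [map_add]; exact (D b).add_mem hb hy₂.2) hys
    rw [quad_add, hQ₁, v1] at v3
    rw [quad_add, hQy, w1] at w3
    obtain ⟨-, p12⟩ := hsum hab x₁ hx₁D y₂ hy₂.1 hx₁0 hy₂0 ha hy₂.2
    obtain ⟨-, p21⟩ := hsum hab x₂ hx₂.1 y hy hx₂0 hy0 hx₂.2 hb
    obtain ⟨-, p11⟩ := hsum hab x₁ hx₁D y hy hx₁0 hy0 ha hb
    obtain ⟨-, p22⟩ := hsum hab x₂ hx₂.1 y₂ hy₂.1 hx₂0 hy₂0 hx₂.2 hy₂.2
    refine hex ⟨hk4, hq, S.plus_all (i := i) ⟨Submodule.span F (Set.range ![x₁ + y, x₂ + y₂]), ?_, ?_, ?_⟩⟩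
    · rw [Submodule.span_le, Set.range_subset_iff]
      intro j; fin_cases j
      · exact (D i).add_mem hx₁D hy
      · exact (D i).add_mem hx₂.1 hy₂.1
    · intro z hz
      obtain ⟨c, rfl⟩ := (Submodule.mem_span_range_iff_exists_fun F).mp hz
      simp only [Fin.sum_univ_two, Matrix.cons_val_zero, Matrix.cons_val_one, Matrix.cons_val_fin_one, quad_add,
        quad_smul, map_add, map_smul, LinearMap.add_apply, LinearMap.smul_apply, smul_eq_mul, hQ₁, hQy, v1, w1,
        p11, p22, p12, quad_polar_comm Q y x₂, p21]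
      linear_combination (c 0 * c 0 + c 1 * c 1 - c 0 * c 1) * h2 + c 0 * c 1 * (v3 + w3)
    · have hli : LinearIndependent F ![x₁ + y, x₂ + y₂] := by
        refine LinearIndependent.pair_iff.mpr fun α β hαβ => ?_
        have h1 := congrArg (fun z => S.comp a (L z)) hαβ
        simp only [map_add, map_smul, map_zero, S.comp_add, S.comp_smul, S.comp_self ha, S.comp_other hab hb,
          S.comp_self hx₂.2, S.comp_other hab hy₂.2, add_zero] at h1
        rw [← S.comp_self (v := (0 : ι → F)) (D a).zero_mem, ← map_zero L] at h1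
        have h1' : α • x₁ + β • x₂ = 0 := hLinj (by
          rw [map_add, map_smul, map_smul, h1]
          simp [S.comp_self (D a).zero_mem])
        have hβ : β = 0 := by
          by_contra hβ
          refine hx₂' (Submodule.mem_span_singleton.mpr ⟨-(α / β), ?_⟩)
          have h2' := congrArg (fun z => β⁻¹ • z) h1'
          simp only [smul_add, smul_smul, smul_zero, inv_mul_cancel₀ hβ, one_smul] at h2'
          rw [eq_neg_of_add_eq_zero_right h2', neg_smul, div_eq_inv_mul]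
        refine ⟨?_, hβ⟩
        rw [hβ, zero_smul, add_zero] at h1'
        exact (smul_eq_zero.mp h1').resolve_right hx₁0
      rw [finrank_span_eq_card hli, S.fin, hk4, Fintype.card_fin]
  choose σ hσ using hblock
  have hσi : Function.Injective σ := fun i i' h => by
    by_contra hne
    obtain ⟨e, he, -, -, he0, -, -, -⟩ := S.hyp (by omega) i'
    obtain ⟨z, hz, hze⟩ := S.onto g (fun x hx => by simpa [L] using hσ i x hx) ((g : Matrix ι ι F) *ᵥ e)
      (by simpa [L, h] using hσ i' e he)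
    have hze' : z = e := hLinj (by simpa [L] using hze)
    exact he0 (by rw [← S.comp_self he, S.comp_other (Ne.symm hne) (hze' ▸ hz)])
  exact hgs (mem_stab S.fin (Equiv.ofBijective σ ((Finite.injective_iff_bijective).mp hσi))
    fun i z hz => by simpa [L] using hσ i z hz)

/-- A moving element gives a centre. -/
theorem Blk.seedBig_of_move (hk : 4 ≤ k)
    (hex : ¬ (k = 4 ∧ Fintype.card F = 2 ∧ ∀ i, Cfsg.Geo.IsPlusTypeOn (⇑Q) (D i))) {g : GL ι F} (hgK : g ∈ K)
    (hgi : g ∈ Cfsg.isometryGroup F ⇑Q) (hgs : g ∉ Cfsg.Geo.decompositionStabilizer D) : SeedBig S := by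
  classical
  obtain ⟨i, c, hc, hQc, i₁, i₂, h12, hi₁, hi₂⟩ := S.exists_two_comp hk hex hgi hgs
  set w := (g : Matrix ι ι F) *ᵥ c with hw
  obtain ⟨j, c', hc', hQc', hc'a⟩ : ∃ j, ∃ c' ∈ D j, Q c' = Q c ∧
      S.comp i₁ ((g : Matrix ι ι F) *ᵥ c') ∉ F ∙ S.comp i₁ w := by
    by_contra! hall
    let π : (ι → F) →ₗ[F] (ι → F) :=
      { toFun := fun v => S.comp i₁ ((g : Matrix ι ι F) *ᵥ v)
        map_add' := fun v v' => by rw [Matrix.mulVec_add, S.comp_add]
        map_smul' := fun l v => by rw [Matrix.mulVec_smul, S.comp_smul, RingHom.id_apply] }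
    obtain ⟨y, hy, hy'⟩ := not_mem_of_finrank (P := D i₁) (W := F ∙ S.comp i₁ w) (by
      have := finrank_line_le (F := F) (S.comp i₁ w)
      have := S.fin i₁
      omega)
    set v := ((g⁻¹ : GL ι F) : Matrix ι ι F) *ᵥ y with hv
    have hmem : v ∈ (F ∙ S.comp i₁ w).comap π := by
      rw [← S.sum_comp v]
      refine Submodule.sum_mem _ fun j _ => (Submodule.span_le.mpr fun z hz => ?_)
        (S.mem_span_value (by omega) (Q c) (S.comp_mem j v))
      exact hall j z hz.1 hz.2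
    refine hy' ?_
    have : π v = y := by
      show S.comp i₁ ((g : Matrix ι ι F) *ᵥ v) = y
      rw [hv, Matrix.mulVec_mulVec, ← Units.val_mul, mul_inv_cancel, Units.val_one, Matrix.one_mulVec, S.comp_self hy]
    rw [← this]
    exact hmem
  set w' := (g : Matrix ι ι F) *ᵥ c' with hw'
  have hrel : Rel Q K w w' := (S.rel_block hc hc' hQc'.symm (hQc'.symm ▸ hQc)).conj hgK hgi
  set a := S.comp i₁ w with ha
  set b := S.comp i₁ w' with hb
  have haD : a ∈ D i₁ := S.comp_mem _ _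
  have hbD : b ∈ D i₁ := S.comp_mem _ _
  have hb0 : b ≠ 0 := fun h => hc'a (h ▸ Submodule.zero_mem _)
  have hab : a ∉ F ∙ b := fun h => by
    obtain ⟨l, hl⟩ := Submodule.mem_span_singleton.mp h
    refine hc'a (Submodule.mem_span_singleton.mpr ⟨l⁻¹, ?_⟩)
    rw [← hl, smul_smul, inv_mul_cancel₀ fun e => hi₁ (by rw [← hl, e, zero_smul]), one_smul]
  obtain ⟨s, hs, hQs, hs0, hsb, has⟩ : ∃ s ∈ D i₁, Q s = 0 ∧ s ≠ 0 ∧ polarBilin Q b s = 0 ∧
      a ∉ Submodule.span F {s, b} := by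
    by_cases hQb : Q b = 0
    · exact ⟨b, hbD, hQb, hb0, Orth.polar_self_of_sing Q hQb, by rwa [Set.pair_eq_singleton]⟩
    obtain ⟨s, ⟨hs, hsb⟩, hs0, hQs⟩ := Orth.exists_singular (Q := Q)
      (D i₁ ⊓ LinearMap.ker (polarBilin Q b) : Submodule F (ι → F)) (by
        have := S.perp_dim i₁ b
        omega)
    have hsb : polarBilin Q b s = 0 := hsb
    by_cases has : a ∈ Submodule.span F {s, b}
    swap
    · exact ⟨s, hs, hQs, hs0, hsb, has⟩
    have hbs : b ∉ F ∙ s := fun h => by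
      obtain ⟨l, hl⟩ := Submodule.mem_span_singleton.mp h
      exact hQb (by rw [← hl, quad_smul, hQs, mul_zero])
    have hsb' : s ∉ F ∙ b := fun h => by
      obtain ⟨l, hl⟩ := Submodule.mem_span_singleton.mp h
      rw [← hl, quad_smul] at hQs
      exact hs0 (by rw [← hl, mul_self_eq_zero.mp ((mul_eq_zero.mp hQs).resolve_right hQb), zero_smul])
    obtain ⟨z, hz, hzb, hzs⟩ := S.dual ((Submodule.span_singleton_le_iff_mem _ _).mpr hbD) hs hsb'
    obtain ⟨f, ⟨hf, hfb⟩, hQf, hsf⟩ := Orth.exists_partner S.hN hQs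
      (W := D i₁ ⊓ LinearMap.ker (polarBilin Q b)) ⟨hs, hsb⟩
      (z := z) ⟨hz, by
        show polarBilin Q b z = 0
        rw [quad_polar_comm]; exact hzb b (Submodule.mem_span_singleton_self b)⟩
      (by rw [quad_polar_comm, hzs]; exact one_ne_zero)
    have hfb : polarBilin Q b f = 0 := hfb
    refine ⟨f, hf, hQf, fun h => by simp [h] at hsf, hfb, fun haf => ?_⟩
    obtain ⟨α, β, hαβ⟩ := Submodule.mem_span_pair.mp has
    obtain ⟨α', β', hαβ'⟩ := Submodule.mem_span_pair.mp haf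
    have h := congrArg (polarBilin Q s) (hαβ'.trans hαβ.symm)
    simp only [map_add, map_smul, hsf, quad_polar_comm Q s b, hsb, Orth.polar_self_of_sing Q hQs, smul_eq_mul,
      mul_zero, mul_one, add_zero] at h
    exact hab (Submodule.mem_span_singleton.mpr ⟨β', by rw [← hαβ', h, zero_smul, zero_add]⟩)
  -- an element of the block fixing the second vector and moving the first
  obtain ⟨x, hx, hsx, hbx, hgood⟩ : ∃ x ∈ D i₁, polarBilin Q s x = 0 ∧ polarBilin Q b x = 0 ∧
      ((polarBilin Q a s = 0 ∧ polarBilin Q a x = 1) ∨ (polarBilin Q a s ≠ 0 ∧ x ∉ F ∙ s)) := by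
    by_cases h0 : polarBilin Q a s = 0
    · obtain ⟨x, hx, hxW, hxa⟩ := S.dual (W := Submodule.span F {s, b}) (Submodule.span_le.mpr (by
        rintro z (rfl | rfl)
        · exact hs
        · exact hbD)) haD has
      exact ⟨x, hx, by rw [quad_polar_comm]; exact hxW s (Submodule.subset_span (by simp)),
        by rw [quad_polar_comm]; exact hxW b (Submodule.subset_span (by simp)),
        Or.inl ⟨h0, by rw [quad_polar_comm]; exact hxa⟩⟩
    · obtain ⟨x, ⟨⟨hx, hxs⟩, hxb⟩, hxW⟩ := not_mem_of_finrank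
        (P := (D i₁ ⊓ LinearMap.ker (polarBilin Q s) ⊓ LinearMap.ker (polarBilin Q b) : Submodule F (ι → F)))
        (W := F ∙ s) (by
          have := S.perp_dim i₁ s
          have := finrank_inf_ker (D i₁ ⊓ LinearMap.ker (polarBilin Q s) : Submodule F (ι → F)) (polarBilin Q b)
          have := finrank_line_le (F := F) s
          omega)
      exact ⟨x, hx, hxs, hxb, Or.inr ⟨h0, hxW⟩⟩
  obtain ⟨_, _, hm⟩ := S.eich_mem hs hx hQs hsx
  have hat : ∀ z ∈ D i₁, ∀ v, polarBilin Q v z = polarBilin Q (S.comp i₁ v) z := fun z hz v => by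
    rw [quad_polar_comm, ← S.polar_comp hz, quad_polar_comm]
  have hfix : (Orth.eichGL Q s x hQs hsx : Matrix ι ι F) *ᵥ w' = w' := by
    rw [Orth.eichGL_mulVec, hat s hs, hat x hx, ← hb, hsb, hbx, zero_smul, add_zero, mul_zero, add_zero, zero_smul,
      sub_zero]
  set σ := polarBilin Q a s • x - (polarBilin Q a x + Q x * polarBilin Q a s) • s with hσ
  have himg : (Orth.eichGL Q s x hQs hsx : Matrix ι ι F) *ᵥ w = w + σ := by
    rw [Orth.eichGL_mulVec, hat s hs, hat x hx, ← ha, hσ, add_sub_assoc]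
  have hmove := hrel.conj hm (Orth.toGL_mem_isometry Q _)
  rw [hfix, himg] at hmove
  obtain ⟨hsing, hns⟩ := (hmove.trans hrel.symm).step
  have hσD : σ ∈ D i₁ := (D i₁).sub_mem ((D i₁).smul_mem _ hx) ((D i₁).smul_mem _ hs)
  have hν : Q w ≠ 0 := by rw [hw, Orth.iso_quad hgi]; exact hQc
  have hσ0 : σ ≠ 0 := by
    rcases hgood with ⟨h0, h1⟩ | ⟨h0, h1⟩
    · rw [hσ, h0, h1, mul_zero, add_zero, zero_smul, zero_sub, one_smul]
      exact neg_ne_zero.mpr hs0
    · intro h
      refine h1 (Submodule.mem_span_singleton.mpr ⟨(polarBilin Q a x + Q x * polarBilin Q a s) / polarBilin Q a s, ?_⟩)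
      rw [hσ, sub_eq_zero] at h
      rw [div_eq_inv_mul, ← smul_smul, ← h, smul_smul, inv_mul_cancel₀ h0, one_smul]
  by_cases hQσ : Q σ = 0
  · refine ⟨i₁, i₂, σ, _, h12.symm, hσD, hσ0, hsing hQσ, ?_⟩
    rw [S.comp_smul]
    exact smul_ne_zero (neg_ne_zero.mpr (inv_ne_zero hν)) hi₂
  refine S.seedBig_of_pure hk ⟨i₁, σ, hσD, hns hQσ⟩ ⟨i₁, i₂, h12, ?_, ?_⟩
  · rw [S.comp_add, S.comp_smul, S.comp_self hσD, ← ha]
    intro h
    have h0 : polarBilin Q a s ≠ 0 := by
      rcases hgood with ⟨h0, -⟩ | ⟨h0, -⟩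
      · exfalso; refine hQσ ?_
        rw [hσ, h0, zero_smul, zero_sub, QuadraticMap.map_neg, quad_smul, hQs, mul_zero]
      · exact h0
    have h' := congrArg (polarBilin Q s) h
    rw [map_add, map_smul, map_zero, hσ, map_sub, map_smul, map_smul, hsx, Orth.polar_self_of_sing Q hQs,
      smul_zero, smul_zero, sub_zero, zero_add, smul_eq_mul, quad_polar_comm Q s a, mul_eq_zero] at h'
    exact h'.elim (div_ne_zero hQσ hν) h0
  · rw [S.comp_add, S.comp_smul, S.comp_other h12.symm hσD, zero_add]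
    exact smul_ne_zero (div_ne_zero hQσ hν) hi₂

omit S in
/-- The stabiliser of a decomposition into blocks of dimension at least four is maximal. -/
theorem maximal_big (hN : (polarBilin Q).Nondegenerate) (h7 : 7 ≤ Fintype.card ι) (hk : 4 ≤ k)
    (hD : Cfsg.Geo.IsOrthogonalMDecomposition (⇑Q) k D)
    (hex : ¬ (k = 4 ∧ Fintype.card F = 2 ∧ ∀ i, Cfsg.Geo.IsPlusTypeOn (⇑Q) (D i))) :
    Cfsg.Geo.IsMaximalIn (Cfsg.Geo.omegaGL ⇑Q)
      (Cfsg.Geo.decompositionStabilizer D ⊓ Cfsg.Geo.omegaGL ⇑Q) := by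
  have S : Blk Q D k (Cfsg.Geo.decompositionStabilizer D ⊓ Cfsg.Geo.omegaGL ⇑Q) := ⟨hN, hD, h7, le_rfl⟩
  refine ⟨lt_of_le_of_ne inf_le_right fun h => ?_, fun M hle hMS => ?_⟩
  · have ht := hD.decomp.decomp.two_le
    let i₀ : Fin t := ⟨0, by omega⟩
    let i₁ : Fin t := ⟨1, by omega⟩
    have hne : i₀ ≠ i₁ := by simp [i₀, i₁]
    obtain ⟨e, he, f, hf, he0, hQe, hQf, hef⟩ := S.hyp (by omega) i₀
    obtain ⟨e', he', f', hf', -, hQe', hQf', hef'⟩ := S.hyp (by omega) i₁
    have hQx : Q (e' + f') = 1 := by rw [quad_add, hQe', hQf', hef', zero_add, zero_add]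
    have hx : e' + f' ∈ D i₁ := (D i₁).add_mem he' hf'
    have hex : polarBilin Q e (e' + f') = 0 := S.orth hne he hx
    obtain ⟨⟨σ, hσ⟩, -⟩ := (h.symm ▸ Orth.eichGL_mem_omega hN h7 hQe hex :
      Orth.eichGL Q e (e' + f') hQe hex ∈ Cfsg.Geo.decompositionStabilizer D ⊓ Cfsg.Geo.omegaGL ⇑Q)
    have h1' : (Orth.eichGL Q e (e' + f') hQe hex : Matrix ι ι F) *ᵥ f ∈ D (σ i₀) :=
      hσ i₀ ▸ ⟨f, hf, Matrix.toLin'_apply _ _⟩
    rw [Orth.eichGL_mulVec, quad_polar_comm Q f e, hef, one_smul, S.orth hne hf hx, hQx, zero_add, mul_one,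
      one_smul] at h1'
    have h2' : S.comp i₁ (f + (e' + f') - e) = e' + f' := by
      rw [S.comp_sub, S.comp_add, S.comp_self hx, S.comp_other hne.symm hf, S.comp_other hne.symm he, zero_add,
        sub_zero]
    have h3' : S.comp i₀ (f + (e' + f') - e) = f - e := by
      rw [S.comp_sub, S.comp_add, S.comp_self hf, S.comp_self he, S.comp_other hne hx, add_zero]
    by_cases hσ0 : i₁ = σ i₀
    · rw [S.comp_other (fun h : i₀ = σ i₀ => hne (h.trans hσ0.symm)) h1'] at h3'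
      have := congrArg (polarBilin Q e) h3'
      rw [map_zero, map_sub, hef, Orth.polar_self_of_sing Q hQe, sub_zero] at this
      exact zero_ne_one this
    · rw [S.comp_other hσ0 h1'] at h2'
      rw [← h2', map_zero] at hQx
      exact zero_ne_one hQx
  by_cases hMD : M ≤ Cfsg.Geo.decompositionStabilizer D
  · exact Or.inl (le_antisymm (le_inf hMD hMS) hle)
  right
  obtain ⟨g, hgM, hgs⟩ := SetLike.not_le_iff_exists.mp hMD
  have SM : Blk Q D k M := ⟨hN, hD, h7, hle⟩
  exact le_antisymm hMS (SM.omega_le_of_seedBig hk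
    (SM.seedBig_of_move hk hex hgM (Orth.omegaGL_le_isometry (hMS hgM)) hgs))

end Cfsg.Agent.Lib.MaxSub.OrthBlocks
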