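import Cfsg.Agent.Lib.MaxSub.OrthBlocksBig

/-!
Two-dimensional blocks: independence, non-orthogonal non-singular vectors, reflections moving a vector,
values of reflection displacements and their zero sums.
-/

set_option autoImplicit false

namespace Cfsg.Agent.Lib.MaxSub.OrthBlocks

open Matrix QuadraticMap
open Cfsg.Agent.Lib.MaxSub
open Cfsg.Agent.Lib.MaxSub.OrthSplit (InE)
open Cfsg.Agent.Lib.Geometry (quad_add quad_sub quad_smul quad_polar_self quad_polar_comm)
open scoped MatrixGroups Matrix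

attribute [-simp] QuadraticMap.polarBilin_apply_apply

variable {ι : Type} [Fintype ι] [DecidableEq ι] {F : Type*} [Field F] [Fintype F] {Q : QuadraticForm F (ι → F)}
  {t : ℕ} {D : Fin t → Submodule F (ι → F)} {K : Subgroup (GL ι F)}

/-- The field is large enough for the type of the planes. -/
def PlaneOk (Q : QuadraticForm F (ι → F)) (D : Fin t → Submodule F (ι → F)) : Prop :=
  Fintype.card F ≠ 3 ∧ ((∀ i, ∀ x ∈ D i, Q x = 0 → x = 0) ∨ 7 ≤ Fintype.card F)

omit [DecidableEq ι] in
theorem plane_card_cases (hq : PlaneOk Q D) : Fintype.card F = 2 ∨ 4 ≤ Fintype.card F := by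
  have h1 := Fintype.one_lt_card (α := F)
  have h2 := hq.1
  omega

omit [Fintype ι] [DecidableEq ι] in
/-- A polynomial of degree at most two that is not constantly zero has at most two roots. -/
theorem card_roots_le [DecidableEq F] {a b c : F} (h : a ≠ 0 ∨ b ≠ 0 ∨ c ≠ 0) :
    (Finset.univ.filter fun x : F => a * (x * x) + b * x + c = 0).card ≤ 2 := by
  by_contra hc
  obtain ⟨x, hx, y, hy, z, hz, hxy, hxz, hyz⟩ := Finset.two_lt_card.mp (not_le.mp hc)
  simp only [Finset.mem_filter, Finset.mem_univ, true_and] at hx hy hz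
  have h1 : a * (x + y) + b = 0 := by
    have : (x - y) * (a * (x + y) + b) = 0 := by linear_combination hx - hy
    exact (mul_eq_zero.mp this).resolve_left (sub_ne_zero.mpr hxy)
  have h2 : a * (x + z) + b = 0 := by
    have : (x - z) * (a * (x + z) + b) = 0 := by linear_combination hx - hz
    exact (mul_eq_zero.mp this).resolve_left (sub_ne_zero.mpr hxz)
  have ha : a = 0 := by
    have : (y - z) * a = 0 := by linear_combination h1 - h2
    exact (mul_eq_zero.mp this).resolve_left (sub_ne_zero.mpr hyz)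
  have hb : b = 0 := by rw [ha] at h1; linear_combination h1
  have hc : c = 0 := by rw [ha, hb] at hx; linear_combination hx
  tauto

omit [Fintype ι] [DecidableEq ι] in
/-- A polynomial of degree at most one that is not constantly zero has at most one root. -/
theorem card_root_le [DecidableEq F] {b c : F} (h : b ≠ 0 ∨ c ≠ 0) :
    (Finset.univ.filter fun x : F => b * x + c = 0).card ≤ 1 := by
  refine Finset.card_le_one.mpr fun x hx y hy => ?_
  simp only [Finset.mem_filter, Finset.mem_univ, true_and] at hx hy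
  by_cases hb : b = 0
  · rw [hb] at hx; simp at hx; tauto
  · exact mul_left_cancel₀ hb (by linear_combination hx - hy)

omit [Fintype ι] [DecidableEq ι] in
theorem exists_notMem_of_card [DecidableEq F] (s : Finset F) (h : s.card < Fintype.card F) : ∃ x, x ∉ s := by
  by_contra! hc
  rw [← Finset.card_univ] at h
  exact absurd (Finset.card_le_card (fun x _ => hc x : Finset.univ ⊆ s)) (not_le.mpr h)

omit [Fintype ι] [DecidableEq ι] in
/-- In a finite field one of `-1`, `c`, `-c` is a square. -/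
theorem square_cases {c : F} (hc : c ≠ 0) : IsSquare (-1 : F) ∨ IsSquare c ∨ IsSquare (-c) := by
  classical
  by_cases h1 : IsSquare (-1 : F)
  · exact Or.inl h1
  by_cases h2 : IsSquare c
  · exact Or.inr (Or.inl h2)
  refine Or.inr (Or.inr ?_)
  rw [← quadraticChar_one_iff_isSquare (neg_ne_zero.mpr hc), show -c = -1 * c by ring, map_mul,
    quadraticChar_neg_one_iff_not_isSquare.mpr h1, quadraticChar_neg_one_iff_not_isSquare.mpr h2]
  norm_num

omit [Fintype ι] [DecidableEq ι] in
/-- Among three non-zero elements two have square product, one of them being among the first two. -/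
theorem square_three {a b c : F} (ha : a ≠ 0) (hb : b ≠ 0) (hc : c ≠ 0) :
    IsSquare (a * b) ∨ IsSquare (a * c) ∨ IsSquare (b * c) := by
  classical
  by_cases h1 : IsSquare (a * b)
  · exact Or.inl h1
  by_cases h2 : IsSquare (a * c)
  · exact Or.inr (Or.inl h2)
  refine Or.inr (Or.inr ?_)
  have e : quadraticChar F (b * c) * quadraticChar F a ^ 2 = quadraticChar F (a * b) * quadraticChar F (a * c) := by
    simp only [map_mul]; ring
  rw [quadraticChar_sq_one ha, mul_one, quadraticChar_neg_one_iff_not_isSquare.mpr h1,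
    quadraticChar_neg_one_iff_not_isSquare.mpr h2] at e
  rw [← quadraticChar_one_iff_isSquare (mul_ne_zero hb hc), e]
  norm_num

variable (S : Blk Q D 2 K)
include S

theorem Blk.not_line (i : Fin t) (x : ι → F) : ∃ y ∈ D i, y ∉ F ∙ x :=
  not_mem_of_finrank (by
    have := finrank_line_le (F := F) x
    have := S.fin i
    omega)

theorem Blk.expand {i : Fin t} {x y : ι → F} (hx : x ∈ D i) (hy : y ∈ D i) (hx0 : x ≠ 0) (hyx : y ∉ F ∙ x)
    {z : ι → F} (hz : z ∈ D i) : ∃ α β : F, α • x + β • y = z := by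
  have hli : LinearIndependent F ![x, y] := by
    refine LinearIndependent.pair_iff.mpr fun α β h => ?_
    have hβ : β = 0 := by
      by_contra hβ
      refine hyx (Submodule.mem_span_singleton.mpr ⟨-(α / β), ?_⟩)
      have h' : β • y = -(α • x) := eq_neg_of_add_eq_zero_right h
      rw [div_eq_inv_mul, neg_smul, ← smul_smul, ← smul_neg, ← h', smul_smul, inv_mul_cancel₀ hβ, one_smul]
    rw [hβ, zero_smul, add_zero] at h
    exact ⟨(smul_eq_zero.mp h).resolve_right hx0, hβ⟩
  have hsp : Submodule.span F (Set.range ![x, y]) = D i := by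
    refine Submodule.eq_of_le_of_finrank_eq (Submodule.span_le.mpr (Set.range_subset_iff.mpr fun j => ?_)) ?_
    · fin_cases j
      · exact hx
      · exact hy
    · rw [finrank_span_eq_card hli, Fintype.card_fin, S.fin]
  rw [← hsp] at hz
  obtain ⟨c, hc⟩ := (Submodule.mem_span_range_iff_exists_fun F).mp hz
  exact ⟨c 0, c 1, by simpa using hc⟩

theorem Blk.eq_zero_of_perp {i : Fin t} {x y z : ι → F} (hx : x ∈ D i) (hy : y ∈ D i) (hx0 : x ≠ 0)
    (hyx : y ∉ F ∙ x) (hz : z ∈ D i) (hzx : polarBilin Q z x = 0) (hzy : polarBilin Q z y = 0) : z = 0 := by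
  by_contra hz0
  obtain ⟨w, hw, hne⟩ := S.nd hz hz0
  obtain ⟨α, β, rfl⟩ := S.expand hx hy hx0 hyx hw
  simp [map_add, map_smul, hzx, hzy] at hne

/-- The discriminant of a basis of a block is not zero. -/
theorem Blk.disc_ne {i : Fin t} {x y : ι → F} (hx : x ∈ D i) (hy : y ∈ D i) (hx0 : x ≠ 0) (hyx : y ∉ F ∙ x) :
    polarBilin Q x y * polarBilin Q x y - 4 * Q x * Q y ≠ 0 := by
  intro h
  have hz := S.eq_zero_of_perp hx hy hx0 hyx (z := (2 * Q x) • y - polarBilin Q x y • x)
    ((D i).sub_mem ((D i).smul_mem _ hy) ((D i).smul_mem _ hx))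
    (by simp [map_sub, map_smul, quad_polar_self, quad_polar_comm Q y x]; ring)
    (by simp [map_sub, map_smul, quad_polar_self]; linear_combination -h)
  have h2 : (2 : F) * Q x = 0 := by
    by_contra h2
    refine hyx (Submodule.mem_span_singleton.mpr ⟨(2 * Q x)⁻¹ * polarBilin Q x y, ?_⟩)
    rw [sub_eq_zero] at hz
    rw [← smul_smul, ← hz, smul_smul, inv_mul_cancel₀ h2, one_smul]
  have hxy : polarBilin Q x y = 0 := by
    rw [h2, zero_smul, zero_sub, neg_eq_zero, smul_eq_zero] at hz
    exact hz.resolve_right hx0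
  exact hx0 (S.eq_zero_of_perp hx hy hx0 hyx hx (by rw [quad_polar_self, h2]) hxy)

/-- A non-zero vector of the block orthogonal to a given one. -/
theorem Blk.exists_perp (i : Fin t) (x : ι → F) : ∃ o ∈ D i, o ≠ 0 ∧ polarBilin Q x o = 0 := by
  obtain ⟨o, ⟨ho, ho'⟩, ho0⟩ := (Submodule.ne_bot_iff
    (D i ⊓ LinearMap.ker (polarBilin Q x) : Submodule F (ι → F))).mp fun h => by
    have := S.perp_dim i x
    rw [h, finrank_bot] at this
    omega
  exact ⟨o, ho, ho0, ho'⟩

/-- A dual vector independent of the given one. -/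
theorem Blk.exists_dual_indep {i : Fin t} {x : ι → F} (hx : x ∈ D i) (hx0 : x ≠ 0) :
    ∃ n ∈ D i, polarBilin Q x n = 1 ∧ n ∉ F ∙ x := by
  obtain ⟨y, hy, hyx⟩ := S.not_line i x
  obtain ⟨y', hy', hne, hy'x⟩ : ∃ y' ∈ D i, polarBilin Q x y' ≠ 0 ∧ y' ∉ F ∙ x := by
    by_cases h : polarBilin Q x y = 0
    swap
    · exact ⟨y, hy, h, hyx⟩
    refine ⟨y + x, (D i).add_mem hy hx, ?_, fun h' => hyx ?_⟩
    · rw [map_add, h, zero_add]
      exact fun h' => hx0 (S.eq_zero_of_perp hx hy hx0 hyx hx h' h)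
    · simpa using (F ∙ x).sub_mem h' (Submodule.mem_span_singleton_self x)
  refine ⟨(polarBilin Q x y')⁻¹ • y', (D i).smul_mem _ hy', by rw [map_smul, smul_eq_mul, inv_mul_cancel₀ hne],
    fun h => hy'x ?_⟩
  exact ((F ∙ x).smul_mem_iff (inv_ne_zero hne)).mp h

/-- A non-singular vector not orthogonal to two given non-zero ones. -/
theorem Blk.exists_both (hq : PlaneOk Q D) {i : Fin t} {x y : ι → F} (hx : x ∈ D i) (hx0 : x ≠ 0) (hy : y ∈ D i)
    (hy0 : y ≠ 0) : ∃ p ∈ D i, Q p ≠ 0 ∧ polarBilin Q p x ≠ 0 ∧ polarBilin Q p y ≠ 0 := by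
  classical
  obtain ⟨w, hw, hxw, hwx⟩ := S.exists_dual_indep hx hx0
  obtain ⟨o, ho, ho0, hxo⟩ := S.exists_perp i x
  have how : w ∉ F ∙ o := fun h => by
    obtain ⟨l, rfl⟩ := Submodule.mem_span_singleton.mp h
    rw [map_smul, hxo, smul_zero] at hxw
    exact zero_ne_one hxw
  set B := Finset.univ.filter fun c : F => polarBilin Q o y * c + polarBilin Q w y = 0 with hB
  set C := Finset.univ.filter fun c : F => Q o * (c * c) + polarBilin Q w o * c + Q w = 0 with hC
  have hBc : B.card ≤ 1 := by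
    refine card_root_le ?_
    by_contra! hc
    exact hy0 (S.eq_zero_of_perp ho hw ho0 how hy (by rw [quad_polar_comm, hc.1]) (by rw [quad_polar_comm, hc.2]))
  have hCc : C.card ≤ 2 := by
    refine card_roots_le ?_
    by_contra! hc
    exact ho0 (S.eq_zero_of_perp ho hw ho0 how ho (by rw [quad_polar_self, hc.1, mul_zero])
      (by rw [quad_polar_comm, hc.2.1]))
  obtain ⟨c, hc⟩ := exists_notMem_of_card (B ∪ C) (by
    have hu := Finset.card_union_le B C
    rcases plane_card_cases hq with h2 | h4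
    · rcases hq.2 with hani | h7
      · have hC0 : C = ∅ := Finset.filter_eq_empty_iff.mpr fun c _ hc => by
          have hp : w + c • o = 0 := hani i _ ((D i).add_mem hw ((D i).smul_mem _ ho)) (by
            rw [quad_add, quad_smul, map_smul, smul_eq_mul]; linear_combination hc)
          exact how (Submodule.mem_span_singleton.mpr ⟨-c, by
            rw [neg_smul]; exact (eq_neg_of_add_eq_zero_left hp).symm⟩)
        have := Finset.card_eq_zero.mpr hC0
        omega
      · omega
    · omega)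
  rw [Finset.mem_union, not_or, hB, hC, Finset.mem_filter, Finset.mem_filter] at hc
  refine ⟨w + c • o, (D i).add_mem hw ((D i).smul_mem _ ho), fun h => hc.2 ⟨Finset.mem_univ _, ?_⟩, ?_,
    fun h => hc.1 ⟨Finset.mem_univ _, ?_⟩⟩
  · rw [quad_add, quad_smul, map_smul, smul_eq_mul] at h; linear_combination h
  · rw [map_add, map_smul, LinearMap.add_apply, LinearMap.smul_apply, quad_polar_comm Q w x, hxw,
      quad_polar_comm Q o x, hxo, smul_zero, add_zero]
    exact one_ne_zero
  · rw [map_add, map_smul, LinearMap.add_apply, LinearMap.smul_apply, smul_eq_mul] at h; linear_combination h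

/-- A singular vector and its partner span the block. -/
theorem Blk.sing_pair_plane {i : Fin t} {x : ι → F} (hx : x ∈ D i) (hx0 : x ≠ 0) (hQx : Q x = 0) :
    ∃ f ∈ D i, Q f = 0 ∧ polarBilin Q x f = 1 ∧ f ∉ F ∙ x := by
  obtain ⟨n, hn, hxn, -⟩ := S.exists_dual_indep hx hx0
  obtain ⟨f, hf, hQf, hxf⟩ := Orth.exists_partner S.hN hQx hx hn (by rw [hxn]; exact one_ne_zero)
  refine ⟨f, hf, hQf, hxf, fun h => ?_⟩
  obtain ⟨l, rfl⟩ := Submodule.mem_span_singleton.mp h
  rw [map_smul, Orth.polar_self_of_sing Q hQx, smul_zero] at hxf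
  exact zero_ne_one hxf

set_option maxHeartbeats 400000 in
/-- A reflection (or the identity) moving `x` to a vector neither orthogonal nor proportional to `y`. -/
theorem Blk.exists_move (hq : PlaneOk Q D) {i : Fin t} {x y : ι → F} (hx : x ∈ D i) (hx0 : x ≠ 0) (hy : y ∈ D i)
    (hy0 : y ≠ 0) (h : polarBilin Q y x = 0 ∨ x ∈ F ∙ y) :
    ∃ p ∈ D i, Q p ≠ 0 ∧ polarBilin Q y (x - ((Q p)⁻¹ * polarBilin Q p x) • p) ≠ 0 ∧
      x - ((Q p)⁻¹ * polarBilin Q p x) • p ∉ F ∙ y := by
  classical
  by_cases hQx : Q x = 0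
  · -- then both lie on one singular line
    obtain ⟨f, hf, hQf, hxf, hfx⟩ := S.sing_pair_plane hx hx0 hQx
    have hyx : y ∈ F ∙ x := by
      rcases h with h | h
      · obtain ⟨α, β, rfl⟩ := S.expand hx hf hx0 hfx hy
        simp only [map_add, map_smul, LinearMap.add_apply, LinearMap.smul_apply, Orth.polar_self_of_sing Q hQx,
          quad_polar_comm Q f x, hxf, smul_eq_mul, mul_zero, mul_one, zero_add] at h
        rw [h, zero_smul, add_zero]
        exact Submodule.smul_mem _ _ (Submodule.mem_span_singleton_self x)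
      · obtain ⟨l, rfl⟩ := Submodule.mem_span_singleton.mp h
        have hl : l ≠ 0 := fun e => hx0 (by rw [e, zero_smul])
        exact ((F ∙ (l • y)).smul_mem_iff hl).mp (Submodule.mem_span_singleton_self _)
    obtain ⟨l, rfl⟩ := Submodule.mem_span_singleton.mp hyx
    have hl : l ≠ 0 := fun e => hy0 (by rw [e, zero_smul])
    have hQp : Q (f + x) = 1 := by rw [quad_add, hQf, hQx, quad_polar_comm Q f x, hxf]; ring
    have hpx : polarBilin Q (f + x) x = 1 := by
      rw [map_add, LinearMap.add_apply, quad_polar_comm Q f x, hxf, Orth.polar_self_of_sing Q hQx, add_zero]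
    refine ⟨f + x, (D i).add_mem hf hx, by rw [hQp]; exact one_ne_zero, ?_, ?_⟩
    · rw [hQp, hpx, inv_one, one_mul, one_smul, sub_add_cancel_right, map_smul, LinearMap.smul_apply, map_neg, hxf]
      simpa using hl
    · rw [hQp, hpx, inv_one, one_mul, one_smul, sub_add_cancel_right]
      intro hf'
      rw [Submodule.neg_mem_iff] at hf'
      exact hfx (Submodule.span_mono (by simp) (Submodule.span_singleton_smul_le F l x hf'))
  obtain ⟨w, hw, hxw, hwx⟩ := S.exists_dual_indep hx hx0
  obtain ⟨o, ho, ho0, hxo⟩ := S.exists_perp i x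
  obtain ⟨o', ho', ho'0, hyo'⟩ := S.exists_perp i y
  have how : w ∉ F ∙ o := fun h => by
    obtain ⟨l, rfl⟩ := Submodule.mem_span_singleton.mp h
    rw [map_smul, hxo, smul_zero] at hxw
    exact zero_ne_one hxw
  have hQo : Q o ≠ 0 := fun hQo => by
    obtain ⟨α, β, hαβ⟩ := S.expand ho hw ho0 how hx
    have h1 := congrArg (polarBilin Q o) hαβ
    rw [map_add, map_smul, map_smul, Orth.polar_self_of_sing Q hQo, quad_polar_comm Q o x, hxo, smul_zero,
      zero_add, smul_eq_mul, mul_eq_zero] at h1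
    rcases h1 with h1 | h1
    · rw [h1, zero_smul, add_zero] at hαβ
      exact hQx (by rw [← hαβ, quad_smul, hQo, mul_zero])
    · exact ho0 (S.eq_zero_of_perp ho hw ho0 how ho (Orth.polar_self_of_sing Q hQo) h1)
  let bad : (ι → F) → Finset F := fun z => Finset.univ.filter fun c : F =>
    polarBilin Q z x * (Q w + polarBilin Q w o * c + Q o * (c * c)) - (polarBilin Q z w + polarBilin Q z o * c) = 0
  set C := Finset.univ.filter fun c : F => Q o * (c * c) + polarBilin Q w o * c + Q w = 0 with hC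
  have hCc : C.card ≤ 2 := card_roots_le (Or.inl hQo)
  have hbad2 : ∀ z ∈ D i, z ≠ 0 → (bad z).card ≤ 2 ∧ (polarBilin Q z x = 0 → (bad z).card ≤ 1) := by
    intro z hz hz0
    by_cases hzx : polarBilin Q z x = 0
    · have h1 : (bad z).card ≤ 1 := by
        refine le_trans (Finset.card_le_card fun c hc => ?_) (card_root_le
          (b := polarBilin Q z o) (c := polarBilin Q z w) ?_)
        · simp only [bad, Finset.mem_filter, hzx] at hc ⊢
          exact ⟨hc.1, by linear_combination -hc.2⟩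
        · by_contra! hc
          exact hz0 (S.eq_zero_of_perp ho hw ho0 how hz hc.1 hc.2)
      exact ⟨h1.trans (by norm_num), fun _ => h1⟩
    · refine ⟨le_trans (Finset.card_le_card fun c hc => ?_) (card_roots_le (a := polarBilin Q z x * Q o)
        (b := polarBilin Q z x * polarBilin Q w o - polarBilin Q z o)
        (c := polarBilin Q z x * Q w - polarBilin Q z w) (Or.inl (mul_ne_zero hzx hQo))), fun h => absurd h hzx⟩
      simp only [bad, Finset.mem_filter] at hc ⊢
      exact ⟨hc.1, by linear_combination hc.2⟩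
  have himg : ∀ c, c ∉ C → ∀ z, c ∉ bad z →
      polarBilin Q z (x - ((Q (w + c • o))⁻¹ * polarBilin Q (w + c • o) x) • (w + c • o)) ≠ 0 := by
    intro c hcC z hcz h0
    have hpx : polarBilin Q (w + c • o) x = 1 := by
      rw [map_add, map_smul, LinearMap.add_apply, LinearMap.smul_apply, quad_polar_comm Q w x, hxw,
        quad_polar_comm Q o x, hxo, smul_zero, add_zero]
    have hQp : Q (w + c • o) = Q w + polarBilin Q w o * c + Q o * (c * c) := by
      rw [quad_add, quad_smul, map_smul, smul_eq_mul]; ring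
    have hQp0 : Q (w + c • o) ≠ 0 := fun h => hcC (by
      rw [hC, Finset.mem_filter]; exact ⟨Finset.mem_univ _, by rw [hQp] at h; linear_combination h⟩)
    rw [hpx, mul_one, map_sub, map_smul, map_add (polarBilin Q z), map_smul (polarBilin Q z), smul_eq_mul, smul_eq_mul, sub_eq_zero] at h0
    refine hcz ?_
    simp only [bad, Finset.mem_filter, Finset.mem_univ, true_and]
    rw [← hQp, h0, mul_comm (Q (w + c • o))⁻¹, mul_assoc, inv_mul_cancel₀ hQp0]
    ring
  have hC0 : (∀ i, ∀ x ∈ D i, Q x = 0 → x = 0) → C = ∅ := fun hani =>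
    Finset.filter_eq_empty_iff.mpr fun c _ hc => by
      have hp : w + c • o = 0 := hani i _ ((D i).add_mem hw ((D i).smul_mem _ ho)) (by
        rw [quad_add, quad_smul, map_smul, smul_eq_mul]; linear_combination hc)
      exact how (Submodule.mem_span_singleton.mpr ⟨-c, by
        rw [neg_smul]; exact (eq_neg_of_add_eq_zero_left hp).symm⟩)
  have hsmall : (bad y).card ≤ 1 ∨ (bad o').card ≤ 1 := by
    rcases h with h | h
    · exact Or.inl ((hbad2 y hy hy0).2 h)
    · refine Or.inr ((hbad2 o' ho' ho'0).2 ?_)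
      obtain ⟨l, rfl⟩ := Submodule.mem_span_singleton.mp h
      rw [map_smul, quad_polar_comm, hyo', smul_zero]
  by_cases h2 : (2 : F) = 0
  · -- one condition is enough in characteristic two
    have hy1 : (bad y).card ≤ 1 := by
      refine (hbad2 y hy hy0).2 ?_
      rcases h with h | h
      · exact h
      · obtain ⟨l, rfl⟩ := Submodule.mem_span_singleton.mp h
        rw [map_smul, quad_polar_self, h2, zero_mul, smul_zero]
    obtain ⟨c, hc⟩ := exists_notMem_of_card (C ∪ bad y) (by
      have hu := Finset.card_union_le C (bad y)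
      rcases plane_card_cases hq with h2 | h4
      · rcases hq.2 with hani | h7
        · have := Finset.card_eq_zero.mpr (hC0 hani)
          omega
        · omega
      · omega)
    rw [Finset.mem_union, not_or] at hc
    refine ⟨w + c • o, (D i).add_mem hw ((D i).smul_mem _ ho), fun h => hc.1 ?_, himg c hc.1 y hc.2, fun hmem => ?_⟩
    · rw [hC, Finset.mem_filter]
      rw [quad_add, quad_smul, map_smul, smul_eq_mul] at h
      exact ⟨Finset.mem_univ _, by linear_combination h⟩
    · obtain ⟨l, hl⟩ := Submodule.mem_span_singleton.mp hmem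
      refine himg c hc.1 y hc.2 ?_
      rw [← hl, map_smul, quad_polar_self, h2, zero_mul, smul_zero]
  have hodd : Fintype.card F % 2 = 1 := FiniteField.odd_card_of_char_ne_two fun h => h2 (by
    haveI := ringChar.of_eq h
    exact CharTwo.two_eq_zero)
  obtain ⟨c, hc⟩ := exists_notMem_of_card (C ∪ (bad y ∪ bad o')) (by
    have hu := Finset.card_union_le C (bad y ∪ bad o')
    have hu' := Finset.card_union_le (bad y) (bad o')
    have := (hbad2 y hy hy0).1
    have := (hbad2 o' ho' ho'0).1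
    have := hq.1
    have := Fintype.one_lt_card (α := F)
    rcases hq.2 with hani | h7
    · have := Finset.card_eq_zero.mpr (hC0 hani)
      rcases hsmall with hs | hs <;> omega
    · rcases hsmall with hs | hs <;> omega)
  simp only [Finset.mem_union, not_or] at hc
  refine ⟨w + c • o, (D i).add_mem hw ((D i).smul_mem _ ho), fun h => hc.1 ?_, himg c hc.1 y hc.2.1, fun hmem => ?_⟩
  · rw [hC, Finset.mem_filter]
    rw [quad_add, quad_smul, map_smul, smul_eq_mul] at h
    exact ⟨Finset.mem_univ _, by linear_combination h⟩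
  · obtain ⟨l, hl⟩ := Submodule.mem_span_singleton.mp hmem
    refine himg c hc.1 o' hc.2.2 ?_
    rw [← hl, map_smul, quad_polar_comm, hyo', smul_zero]

/-- A second vector of the same value, neither orthogonal nor proportional to the first. -/
theorem Blk.exists_twin (hq : PlaneOk Q D) {i : Fin t} {p : ι → F} (hp : p ∈ D i) (hQp : Q p ≠ 0) :
    ∃ p' ∈ D i, Q p' = Q p ∧ polarBilin Q p p' ≠ 0 ∧ p' ∉ F ∙ p := by
  have hp0 : p ≠ 0 := fun e => hQp (by rw [e, map_zero])
  obtain ⟨r, hr, hQr, h1, h2⟩ := S.exists_move hq hp hp0 hp hp0 (Or.inr (Submodule.mem_span_singleton_self p))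
  refine ⟨_, (D i).sub_mem hp ((D i).smul_mem _ hr), ?_, h1, h2⟩
  rw [quad_sub, quad_smul, map_smul, smul_eq_mul, quad_polar_comm Q p r]
  field_simp
  ring

/-- A non-singular vector of each block. -/
theorem Blk.exists_value (hq : PlaneOk Q D) (i : Fin t) : ∃ p ∈ D i, Q p ≠ 0 := by
  obtain ⟨x, hx, hx'⟩ := S.not_line i 0
  have hx0 : x ≠ 0 := fun e => hx' (by rw [e]; exact Submodule.zero_mem _)
  obtain ⟨p, hp, hQp, -⟩ := S.exists_both hq hx hx0 hx hx0
  exact ⟨p, hp, hQp⟩

omit S in
/-- The value `l` is the value of the displacement of `x` by a reflection of the block. -/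
def Disp (Q : QuadraticForm F (ι → F)) (W : Submodule F (ι → F)) (x : ι → F) (l : F) : Prop :=
  ∃ p ∈ W, Q p ≠ 0 ∧ polarBilin Q p x * polarBilin Q p x = l * Q p

/-- Values of displacements of a non-singular vector: at least half of the field minus one, or half if anisotropic. -/
theorem Blk.disp_many {i : Fin t} {x : ι → F} (hx : x ∈ D i) (hQx : Q x ≠ 0) :
    ∃ A : Finset F, (∀ l ∈ A, l ≠ 0 ∧ Disp Q (D i) x l) ∧ Fintype.card F ≤ 2 * A.card + 2 ∧
      ((∀ z ∈ D i, Q z = 0 → z = 0) → Fintype.card F ≤ 2 * A.card) := by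
  classical
  have hx0 : x ≠ 0 := fun e => hQx (by rw [e, map_zero])
  obtain ⟨n, hn, hxn, hnx⟩ := S.exists_dual_indep hx hx0
  have hΔ := S.disc_ne hx hn hx0 hnx
  rw [hxn, one_mul] at hΔ
  set Δ := 1 - 4 * Q x * Q n with hΔdef
  set T := Finset.univ.image fun c : F => Q (n + c • x) with hT
  have hTcard : Fintype.card F ≤ 2 * T.card := by
    refine Finset.card_le_mul_card_image Finset.univ 2 fun v _ => ?_
    refine le_trans (Finset.card_le_card fun c hc => ?_) (card_roots_le (a := Q x) (b := 1) (c := Q n - v) (Or.inl hQx))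
    simp only [Finset.mem_filter] at hc ⊢
    refine ⟨hc.1, ?_⟩
    have := hc.2
    rw [quad_add, quad_smul, map_smul, quad_polar_comm Q n x, hxn, smul_eq_mul] at this
    linear_combination this
  set A' := insert (4 * Q x) ((T.erase 0).image fun v => 4 * Q x + Δ / v) with hA'
  have hA'card : T.card ≤ A'.card ∧ ((0 : F) ∉ T → T.card + 1 ≤ A'.card) := by
    have hinj : ((T.erase 0).image fun v => 4 * Q x + Δ / v).card = (T.erase 0).card :=
      Finset.card_image_of_injOn fun u hu v hv huv => by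
        have hu' := (Finset.mem_erase.mp hu).1
        have hv' := (Finset.mem_erase.mp hv).1
        simp only [add_right_inj, div_eq_div_iff hu' hv'] at huv
        exact (mul_left_cancel₀ hΔ huv).symm
    have hnot : 4 * Q x ∉ (T.erase 0).image fun v => 4 * Q x + Δ / v := by
      simp only [Finset.mem_image, add_eq_left, div_eq_zero_iff, not_exists, not_and, not_or]
      exact fun v hv => ⟨hΔ, (Finset.mem_erase.mp hv).1⟩
    rw [hA', Finset.card_insert_of_notMem hnot, hinj]
    have := Finset.pred_card_le_card_erase (s := T) (a := (0 : F))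
    exact ⟨by omega, fun h => by rw [Finset.erase_eq_of_notMem h]⟩
  refine ⟨A'.erase 0, fun l hl => ?_, ?_, fun hani => ?_⟩
  · obtain ⟨hl0, hl⟩ := Finset.mem_erase.mp hl
    refine ⟨hl0, ?_⟩
    rcases Finset.mem_insert.mp hl with rfl | hl
    · exact ⟨x, hx, hQx, by rw [quad_polar_self]; ring⟩
    obtain ⟨v, hv, rfl⟩ := Finset.mem_image.mp hl
    obtain ⟨hv0, hv⟩ := Finset.mem_erase.mp hv
    obtain ⟨c, -, rfl⟩ := Finset.mem_image.mp hv
    refine ⟨n + c • x, (D i).add_mem hn ((D i).smul_mem _ hx), hv0, ?_⟩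
    rw [add_mul, div_mul_cancel₀ _ hv0, hΔdef, map_add, map_smul, LinearMap.add_apply, LinearMap.smul_apply,
      quad_polar_comm Q n x, hxn, quad_polar_self, quad_add, quad_smul, map_smul, quad_polar_comm Q n x, hxn,
      smul_eq_mul, smul_eq_mul]
    ring
  · have := Finset.pred_card_le_card_erase (s := A') (a := (0 : F))
    omega
  · have h0T : (0 : F) ∉ T := by
      simp only [hT, Finset.mem_image, not_exists, not_and]
      intro c _ hc
      have hp := hani _ ((D i).add_mem hn ((D i).smul_mem _ hx)) hc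
      exact hnx (Submodule.mem_span_singleton.mpr ⟨-c, by rw [neg_smul]; exact (eq_neg_of_add_eq_zero_left hp).symm⟩)
    have := Finset.pred_card_le_card_erase (s := A') (a := (0 : F))
    have := hA'card.2 h0T
    omega

theorem Blk.disp_sing {i : Fin t} {x : ι → F} (hx : x ∈ D i) (hx0 : x ≠ 0) (hQx : Q x = 0) {l : F} (hl : l ≠ 0) :
    Disp Q (D i) x l := by
  obtain ⟨f, hf, hQf, hxf, -⟩ := S.sing_pair_plane hx hx0 hQx
  refine ⟨f + l⁻¹ • x, (D i).add_mem hf ((D i).smul_mem _ hx), ?_, ?_⟩
  · rw [quad_add, quad_smul, hQf, hQx, map_smul, quad_polar_comm Q f x, hxf]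
    simpa using hl
  · rw [map_add, map_smul, LinearMap.add_apply, LinearMap.smul_apply, quad_polar_comm Q f x, hxf,
      Orth.polar_self_of_sing Q hQx, quad_add, quad_smul, hQf, hQx, map_smul, quad_polar_comm Q f x, hxf,
      smul_eq_mul, smul_eq_mul]
    field_simp
    ring

theorem Blk.disp_nonempty (hq : PlaneOk Q D) {i : Fin t} {x : ι → F} (hx : x ∈ D i) (hx0 : x ≠ 0) :
    ∃ l, l ≠ 0 ∧ Disp Q (D i) x l := by
  obtain ⟨p, hp, hQp, hpx, -⟩ := S.exists_both hq hx hx0 hx hx0
  refine ⟨polarBilin Q p x * polarBilin Q p x / Q p, div_ne_zero (mul_ne_zero hpx hpx) hQp, p, hp, hQp, ?_⟩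
  rw [div_mul_cancel₀ _ hQp]

theorem Blk.hyperbolic_coord {i : Fin t} {z x : ι → F} (hz : z ∈ D i) (hz0 : z ≠ 0) (hQz : Q z = 0) (hx : x ∈ D i)
    (hQx : Q x ≠ 0) :
    ∃ e ∈ D i, ∃ f ∈ D i, Q e = 0 ∧ Q f = 0 ∧ polarBilin Q e f = 1 ∧ x = e + Q x • f := by
  obtain ⟨f, hf, hQf, hzf, hfz⟩ := S.sing_pair_plane hz hz0 hQz
  obtain ⟨α, β, rfl⟩ := S.expand hz hf hz0 hfz hx
  have hQ : Q (α • z + β • f) = α * β := by
    rw [quad_add, quad_smul, quad_smul, hQz, hQf, map_smul, map_smul, LinearMap.smul_apply, hzf, smul_eq_mul,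
      smul_eq_mul]
    ring
  rw [hQ] at hQx
  have hα : α ≠ 0 := left_ne_zero_of_mul hQx
  refine ⟨α • z, (D i).smul_mem _ hz, α⁻¹ • f, (D i).smul_mem _ hf, by rw [quad_smul, hQz, mul_zero],
    by rw [quad_smul, hQf, mul_zero], ?_, ?_⟩
  · rw [map_smul, map_smul, LinearMap.smul_apply, hzf, smul_eq_mul, smul_eq_mul, mul_one, inv_mul_cancel₀ hα]
  · rw [hQ, smul_smul, mul_comm α β, mul_assoc, mul_inv_cancel₀ hα, mul_one]

/-- Two non-zero vectors have displacements of opposite values. -/
theorem Blk.disp_pair (hq : PlaneOk Q D) {a b : Fin t} {x y : ι → F} (hx : x ∈ D a) (hx0 : x ≠ 0) (hy : y ∈ D b)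
    (hy0 : y ≠ 0) : ∃ l, l ≠ 0 ∧ Disp Q (D a) x l ∧ Disp Q (D b) y (-l) := by
  classical
  by_cases hQx : Q x = 0
  · obtain ⟨l, hl, h⟩ := S.disp_nonempty hq hy hy0
    exact ⟨-l, neg_ne_zero.mpr hl, S.disp_sing hx hx0 hQx (neg_ne_zero.mpr hl), by rwa [neg_neg]⟩
  by_cases hQy : Q y = 0
  · obtain ⟨l, hl, h⟩ := S.disp_nonempty hq hx hx0
    exact ⟨l, hl, h, S.disp_sing hy hy0 hQy (neg_ne_zero.mpr hl)⟩
  by_cases hani : (∀ z ∈ D a, Q z = 0 → z = 0) ∧ (∀ z ∈ D b, Q z = 0 → z = 0)
  · obtain ⟨A, hA, -, hA'⟩ := S.disp_many hx hQx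
    obtain ⟨B, hB, -, hB'⟩ := S.disp_many hy hQy
    have hA' := hA' hani.1
    have hB' := hB' hani.2
    obtain ⟨l, hl⟩ : (A ∩ B.image fun v => -v).Nonempty := by
      rw [← Finset.card_pos]
      have h1 := Finset.card_union_add_card_inter A (B.image fun v => -v)
      rw [Finset.card_image_of_injective B neg_injective] at h1
      have h2 : (A ∪ B.image fun v => -v).card + 1 ≤ Fintype.card F := by
        rw [← Finset.card_univ, ← Finset.card_erase_add_one (Finset.mem_univ (0 : F)), Nat.add_le_add_iff_right]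
        refine Finset.card_le_card fun v hv => Finset.mem_erase.mpr ⟨?_, Finset.mem_univ _⟩
        rcases Finset.mem_union.mp hv with h | h
        · exact (hA v h).1
        · obtain ⟨u, hu, rfl⟩ := Finset.mem_image.mp h
          exact neg_ne_zero.mpr (hB u hu).1
      omega
    obtain ⟨hlA, hlB⟩ := Finset.mem_inter.mp hl
    obtain ⟨u, hu, rfl⟩ := Finset.mem_image.mp hlB
    exact ⟨-u, neg_ne_zero.mpr (hB u hu).1, (hA _ hlA).2, by rw [neg_neg]; exact (hB u hu).2⟩
  -- hyperbolic planes over a field of at least seven elements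
  have h7 : 7 ≤ Fintype.card F := hq.2.resolve_left fun h => hani ⟨h a, h b⟩
  obtain ⟨⟨za, hza, hza0, hQza⟩, ⟨zb, hzb, hzb0, hQzb⟩⟩ :
      (∃ z ∈ D a, z ≠ 0 ∧ Q z = 0) ∧ (∃ z ∈ D b, z ≠ 0 ∧ Q z = 0) := by
    have key : ∀ i j, (∃ z ∈ D i, z ≠ 0 ∧ Q z = 0) → ∃ z ∈ D j, z ≠ 0 ∧ Q z = 0 := by
      rintro i j ⟨z, hz, hz0, hQz⟩
      obtain ⟨φ, hφ⟩ := S.hD.isometric i j
      exact ⟨φ ⟨z, hz⟩, (φ ⟨z, hz⟩).2, fun h => hz0 (by
        have : φ ⟨z, hz⟩ = 0 := Subtype.ext h
        simpa using congrArg Subtype.val ((LinearEquiv.map_eq_zero_iff φ).mp this)), by rw [hφ]; exact hQz⟩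
    rw [not_and_or] at hani
    push Not at hani
    rcases hani with ⟨z, hz, hQz, hz0⟩ | ⟨z, hz, hQz, hz0⟩
    · exact ⟨⟨z, hz, hz0, hQz⟩, key a b ⟨z, hz, hz0, hQz⟩⟩
    · exact ⟨key b a ⟨z, hz, hz0, hQz⟩, ⟨z, hz, hz0, hQz⟩⟩
  obtain ⟨e, he, f, hf, hQe, hQf, hef, hxe⟩ := S.hyperbolic_coord hza hza0 hQza hx hQx
  obtain ⟨e', he', f', hf', hQe', hQf', hef', hye⟩ := S.hyperbolic_coord hzb hzb0 hQzb hy hQy
  obtain ⟨m, hm⟩ := exists_notMem_of_card ({0, 1, -(Q y / Q x)} ∪
      Finset.univ.filter fun m : F => 1 * (m * m) + 0 * m + Q y / Q x = 0) (by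
    have h1 := card_roots_le (a := (1 : F)) (b := 0) (c := Q y / Q x) (Or.inl one_ne_zero)
    have h2 := (Finset.card_le_three (a := (0 : F)) (b := 1) (c := -(Q y / Q x)))
    have := Finset.card_union_le ({0, 1, -(Q y / Q x)} : Finset F)
      (Finset.univ.filter fun m : F => 1 * (m * m) + 0 * m + Q y / Q x = 0)
    omega)
  simp only [Finset.mem_union, Finset.mem_insert, Finset.mem_singleton, Finset.mem_filter, Finset.mem_univ, true_and,
    not_or] at hm
  obtain ⟨⟨hm0, hm1, hm2⟩, hm3⟩ := hm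
  set α := Q x with hα
  set β := Q y with hβ
  have hden : β + α * m ≠ 0 := fun h => hm2 (by field_simp; linear_combination h)
  have hsq : α * (m * m) + β ≠ 0 := fun h => hm3 (by field_simp; linear_combination h)
  set s := β * (m - 1) / (m * (β + α * m)) with hs
  set u := -(α * (m * m) * s) / β with hu
  have hs0 : s ≠ 0 := div_ne_zero (mul_ne_zero hQy (sub_ne_zero.mpr hm1)) (mul_ne_zero hm0 hden)
  have hu0 : u ≠ 0 := div_ne_zero (neg_ne_zero.mpr (mul_ne_zero (mul_ne_zero hQx (mul_ne_zero hm0 hm0)) hs0)) hQy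
  have hsm : s * (m * (β + α * m)) = β * (m - 1) := by rw [hs]; exact div_mul_cancel₀ _ (mul_ne_zero hm0 hden)
  have hum : u * β = -(α * (m * m) * s) := by rw [hu]; exact div_mul_cancel₀ _ hQy
  have hrel : u - 1 = m * (s - 1) := by
    refine mul_right_cancel₀ hQy ?_
    linear_combination hum - hsm
  have hu1 : u - 1 ≠ 0 := by
    rw [hrel]
    refine mul_ne_zero hm0 fun h => hsq ?_
    rw [sub_eq_zero.mp h] at hsm
    linear_combination hsm
  clear_value s u
  refine ⟨-(α * ((u - 1) * (u - 1)) / u),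
    neg_ne_zero.mpr (div_ne_zero (mul_ne_zero hQx (mul_ne_zero hu1 hu1)) hu0), ?_, ?_⟩
  · refine ⟨e + (-u * α) • f, (D a).add_mem he ((D a).smul_mem _ hf), ?_, ?_⟩
    · rw [quad_add, quad_smul, hQe, hQf, map_smul, hef]
      simp [hu0, hQx]
    · rw [hxe]
      simp only [map_add, map_smul, LinearMap.add_apply, LinearMap.smul_apply, quad_add, quad_smul, hQe, hQf,
        Orth.polar_self_of_sing Q hQe, Orth.polar_self_of_sing Q hQf, hef, quad_polar_comm Q f e, smul_eq_mul,
        mul_zero, mul_one, zero_add, add_zero]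
      field_simp
      ring
  · refine ⟨e' + (-s * β) • f', (D b).add_mem he' ((D b).smul_mem _ hf'), ?_, ?_⟩
    · rw [quad_add, quad_smul, hQe', hQf', map_smul, hef']
      simp [hs0, hQy]
    · rw [hye]
      simp only [map_add, map_smul, LinearMap.add_apply, LinearMap.smul_apply, quad_add, quad_smul, hQe', hQf',
        Orth.polar_self_of_sing Q hQe', Orth.polar_self_of_sing Q hQf', hef', quad_polar_comm Q f' e', smul_eq_mul,
        mul_zero, mul_one, zero_add, add_zero]
      field_simp
      rw [hrel]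
      linear_combination ((s - 1) * (s - 1)) * hum

end Cfsg.Agent.Lib.MaxSub.OrthBlocks
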