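import Cfsg.Agent.Lib.MaxSub.OrthBlocksTwoPure

/-!
Orthogonal decompositions into at least seven planes: the stabiliser is maximal in `omegaGL`, away from
three elements and from hyperbolic planes over fewer than seven elements.
-/

set_option autoImplicit false

namespace Cfsg.Agent.Lib.MaxSub.OrthBlocks

open Matrix QuadraticMap
open Cfsg.Agent.Lib.MaxSub
open Cfsg.Agent.Lib.MaxSub.OrthSplit (InE)
open Cfsg.Agent.Lib.ThreeTransp.DecompOrth (rr rr_mulVec rr_fix mem_stab)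
open Cfsg.Agent.Lib.Geometry (quad_add quad_sub quad_smul quad_polar_self quad_polar_comm)
open scoped MatrixGroups Matrix

attribute [-simp] QuadraticMap.polarBilin_apply_apply

variable {ι : Type} [Fintype ι] [DecidableEq ι] {F : Type*} [Field F] [Fintype F] {Q : QuadraticForm F (ι → F)}
  {t : ℕ} {D : Fin t → Submodule F (ι → F)} {K : Subgroup (GL ι F)} (S : Blk Q D 2 K)

omit S [Fintype ι] [DecidableEq ι] in
theorem isSquare_of_two (h2 : (2 : F) = 0) (x : F) : IsSquare x :=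
  FiniteField.isSquare_of_char_two (by
    by_contra h
    exact Ring.two_ne_zero h h2) x

omit S [Fintype ι] [DecidableEq ι] in
/-- A quadratic with non-zero discriminant takes a non-zero square value at a non-zero argument. -/
theorem exists_square_value (h7 : 7 ≤ Fintype.card F) {a b c : F} (hD : b * b - 4 * a * c ≠ 0) :
    ∃ x u : F, x ≠ 0 ∧ u ≠ 0 ∧ a * (x * x) + b * x + c = u * u := by
  classical
  by_cases h2 : (2 : F) = 0
  · obtain ⟨x, hx⟩ := exists_notMem_of_card (insert 0 (Finset.univ.filter fun x : F => a * (x * x) + b * x + c = 0)) (by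
      have h1 : (Finset.univ.filter fun x : F => a * (x * x) + b * x + c = 0).card ≤ 2 := card_roots_le (by
        by_contra! h
        exact hD (by rw [h.2.1, h.2.2]; ring))
      have := Finset.card_insert_le (0 : F) (Finset.univ.filter fun x : F => a * (x * x) + b * x + c = 0)
      omega)
    simp only [Finset.mem_insert, Finset.mem_filter, Finset.mem_univ, true_and, not_or] at hx
    obtain ⟨u, hu⟩ := isSquare_of_two h2 (a * (x * x) + b * x + c)
    exact ⟨x, u, hx.1, fun h => hx.2 (by rw [hu, h, mul_zero]), hu⟩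
  obtain ⟨x₀, u₀, h₀⟩ : ∃ x₀ u₀ : F, a * (x₀ * x₀) + b * x₀ + c = u₀ * u₀ := by
    by_cases ha : a = 0
    · have hb : b ≠ 0 := fun h => hD (by rw [ha, h]; ring)
      exact ⟨-c / b, 0, by rw [ha]; field_simp; ring⟩
    have hodd : Fintype.card F % 2 = 1 := FiniteField.odd_card_of_char_ne_two fun h => h2 (by
      haveI := ringChar.of_eq h
      exact CharTwo.two_eq_zero)
    obtain ⟨x₀, u₀, h⟩ := FiniteField.exists_root_sum_quadratic (R := F)
      (f := Polynomial.C a * Polynomial.X ^ 2 + Polynomial.C b * Polynomial.X + Polynomial.C c)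
      (g := Polynomial.C (-1 : F) * Polynomial.X ^ 2)
      (Polynomial.degree_quadratic ha) (Polynomial.degree_C_mul_X_pow 2 (neg_ne_zero.mpr one_ne_zero)) hodd
    simp only [Polynomial.eval_add, Polynomial.eval_mul, Polynomial.eval_C, Polynomial.eval_pow, Polynomial.eval_X] at h
    exact ⟨x₀, u₀, by linear_combination h⟩
  set m := 2 * a * x₀ + b with hm
  -- lines of slope r through the point
  obtain ⟨r, hr⟩ := exists_notMem_of_card
      ((Finset.univ.filter fun r : F => 1 * (r * r) + 0 * r + -a = 0) ∪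
        ((Finset.univ.filter fun r : F => -x₀ * (r * r) + 2 * u₀ * r + (x₀ * a - m) = 0) ∪
          (Finset.univ.filter fun r : F => u₀ * (r * r) + -m * r + u₀ * a = 0))) (by
    have h1 := card_roots_le (a := (1 : F)) (b := 0) (c := -a) (Or.inl one_ne_zero)
    have h2' : (Finset.univ.filter fun r : F => -x₀ * (r * r) + 2 * u₀ * r + (x₀ * a - m) = 0).card ≤ 2 :=
      card_roots_le (by
        by_contra! h
        obtain ⟨e1, e2, e3⟩ := h
        have hx0 : x₀ = 0 := neg_eq_zero.mp e1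
        have hu0 : u₀ = 0 := (mul_eq_zero.mp e2).resolve_left h2
        rw [hm, hx0] at e3
        rw [hx0, hu0] at h₀
        refine hD ?_
        linear_combination (-b) * e3 - 4 * a * h₀)
    have h3 : (Finset.univ.filter fun r : F => u₀ * (r * r) + -m * r + u₀ * a = 0).card ≤ 2 := card_roots_le (by
      by_contra! h
      obtain ⟨e1, e2, -⟩ := h
      rw [hm] at e2
      rw [e1] at h₀
      refine hD ?_
      linear_combination -(2 * a * x₀ + b) * e2 - 4 * a * h₀)
    have := Finset.card_union_le (Finset.univ.filter fun r : F => 1 * (r * r) + 0 * r + -a = 0)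
      ((Finset.univ.filter fun r : F => -x₀ * (r * r) + 2 * u₀ * r + (x₀ * a - m) = 0) ∪
          (Finset.univ.filter fun r : F => u₀ * (r * r) + -m * r + u₀ * a = 0))
    have := Finset.card_union_le (Finset.univ.filter fun r : F => -x₀ * (r * r) + 2 * u₀ * r + (x₀ * a - m) = 0)
      (Finset.univ.filter fun r : F => u₀ * (r * r) + -m * r + u₀ * a = 0)
    omega)
  simp only [Finset.mem_union, Finset.mem_filter, Finset.mem_univ, true_and, not_or] at hr
  have hden : a - r * r ≠ 0 := fun h => hr.1 (by linear_combination -h)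
  set s := (2 * u₀ * r - m) / (a - r * r) with hs
  have hsd : s * (a - r * r) = 2 * u₀ * r - m := div_mul_cancel₀ _ hden
  refine ⟨x₀ + s, u₀ + r * s, fun h => hr.2.1 ?_, fun h => hr.2.2 ?_, ?_⟩
  · linear_combination (a - r * r) * h - hsd
  · linear_combination (a - r * r) * h - r * hsd
  · rw [hm] at hsd
    linear_combination h₀ + s * hsd

omit S [Fintype F] in
theorem rr_sing {w v : ι → F} (hw : Q w ≠ 0) (hv : Q v = 0) (hwv : polarBilin Q v w = 0)
    (hx : polarBilin Q v (-(Q w)⁻¹ • w) = 0) : rr Q (w + v) w = Orth.eichGL Q v (-(Q w)⁻¹ • w) hv hx := by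
  have hq : Q (w + v) = Q w := by rw [quad_add, hv, quad_polar_comm, hwv, add_zero, add_zero]
  refine Units.ext (Matrix.ext_of_mulVec_single fun j => ?_)
  set y : ι → F := Pi.single j 1
  rw [Orth.eichGL_mulVec, rr_mulVec, hq, quad_smul, map_smul, map_sub, map_smul, map_add, LinearMap.add_apply,
    LinearMap.add_apply, quad_polar_self, hwv, quad_polar_comm Q y w, quad_polar_comm Q y v]
  simp only [smul_eq_mul]
  match_scalars <;> field_simp <;> ring

omit S [Fintype F] in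
theorem eich_scale {u x : ι → F} {c : F} (hu : Q (c • u) = 0) (hx : polarBilin Q (c • u) x = 0) (hu' : Q u = 0)
    (hx' : polarBilin Q u (c • x) = 0) : Orth.eichGL Q (c • u) x hu hx = Orth.eichGL Q u (c • x) hu' hx' := by
  refine Units.ext (Matrix.ext_of_mulVec_single fun j => ?_)
  rw [Orth.eichGL_mulVec, Orth.eichGL_mulVec, quad_smul, map_smul (polarBilin Q (Pi.single j 1)),
    map_smul (polarBilin Q (Pi.single j 1)), smul_eq_mul, smul_eq_mul]
  module

omit S [Fintype F] in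
theorem eich_mul' {u x y : ι → F} (hu : Q u = 0) (hx : polarBilin Q u x = 0) (hy : polarBilin Q u y = 0)
    (hxy : polarBilin Q u (x + y) = 0) :
    Orth.eichGL Q u x hu hx * Orth.eichGL Q u y hu hy = Orth.eichGL Q u (x + y) hu hxy := by
  rw [Orth.eichGL, Orth.eichGL, Orth.eichGL, ← map_mul, Cfsg.Agent.Lib.Classical.eich_mul]

omit S [Fintype F] in
theorem eich_congr {u u' x x' : ι → F} (e : u = u') (e' : x = x') (hu : Q u = 0) (hx : polarBilin Q u x = 0)
    (hu' : Q u' = 0) (hx' : polarBilin Q u' x' = 0) : Orth.eichGL Q u x hu hx = Orth.eichGL Q u' x' hu' hx' := by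
  subst e e'; rfl

include S

/-- Vectors orthogonal to two given ones with the same value, when the given values have square product. -/
theorem Blk.perp_match {e f : Fin t} (hef : e ≠ f) {a a' : ι → F} (ha : a ∈ D e) (ha' : a' ∈ D f) (hQa : Q a ≠ 0)
    (hQa' : Q a' ≠ 0) (hsq : IsSquare (Q a * Q a')) :
    ∃ d ∈ D e, ∃ d' ∈ D f, polarBilin Q d a = 0 ∧ polarBilin Q d' a' = 0 ∧ Q d = Q d' ∧ Q d ≠ 0 := by
  obtain ⟨r, hr⟩ := hsq
  have hr0 : r ≠ 0 := fun h => mul_ne_zero hQa hQa' (by rw [hr, h, mul_zero])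
  have ha0 : a ≠ 0 := fun h => hQa (by rw [h, map_zero])
  by_cases h2 : (2 : F) = 0
  · refine ⟨a, ha, (r / Q a') • a', (D f).smul_mem _ ha', by rw [quad_polar_self, h2, zero_mul], ?_, ?_, hQa⟩
    · rw [map_smul, LinearMap.smul_apply, quad_polar_self, h2, zero_mul, smul_zero]
    · rw [quad_smul]; field_simp; linear_combination hr
  obtain ⟨o, ho, ho0, hao⟩ := S.exists_perp e a
  obtain ⟨o', ho', ho'0, hao'⟩ := S.exists_perp f a'
  have hoa : o ∉ F ∙ a := fun h => by
    obtain ⟨l, rfl⟩ := Submodule.mem_span_singleton.mp h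
    rw [map_smul, quad_polar_self, smul_eq_mul] at hao
    exact ho0 (by rw [(mul_eq_zero.mp hao).resolve_right (mul_ne_zero h2 hQa), zero_smul])
  have hQo : Q o ≠ 0 := fun h => ho0 (S.eq_zero_of_perp ha ho ha0 hoa ho (by rw [quad_polar_comm, hao])
    (by rw [quad_polar_self, h, mul_zero]))
  obtain ⟨φ, hφ⟩ := S.hD.isometric e f
  obtain ⟨z, hz⟩ := φ.surjective ⟨a', ha'⟩
  obtain ⟨z', hz'⟩ := φ.surjective ⟨o', ho'⟩
  obtain ⟨α, β, hαβ⟩ := S.expand ha ho ha0 hoa z.2
  obtain ⟨γ, δ, hγδ⟩ := S.expand ha ho ha0 hoa z'.2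
  have hQ : ∀ x y : F, Q (x • a + y • o) = x * x * Q a + y * y * Q o := fun x y => by
    rw [quad_add, quad_smul, quad_smul, map_smul, map_smul, LinearMap.smul_apply, hao]; simp
  have e1 : Q a' = α * α * Q a + β * β * Q o := by
    rw [← hQ, hαβ]; exact (congrArg (fun w : D f => Q (w : ι → F)) hz).symm.trans (hφ z)
  have e2 : Q o' = γ * γ * Q a + δ * δ * Q o := by
    rw [← hQ, hγδ]; exact (congrArg (fun w : D f => Q (w : ι → F)) hz').symm.trans (hφ z')
  have e3 : 2 * (α * γ * Q a + β * δ * Q o) = 0 := by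
    have h1 : polarBilin Q (z : ι → F) z' = 0 := by
      have h := hφ (z + z')
      rw [map_add, Submodule.coe_add, Submodule.coe_add, quad_add, quad_add, hφ, hφ, hz, hz'] at h
      rw [hao'] at h
      linear_combination -h
    rw [← hαβ, ← hγδ] at h1
    simp only [map_add, map_smul, LinearMap.add_apply, LinearMap.smul_apply, quad_polar_self, quad_polar_comm Q o a,
      hao, smul_eq_mul] at h1
    linear_combination h1
  have e3' := (mul_eq_zero.mp e3).resolve_left h2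
  have hid : Q a' * Q o' = (α * δ - β * γ) * (α * δ - β * γ) * (Q a * Q o) := by
    rw [e1, e2]
    linear_combination (α * γ * Q a + β * δ * Q o) * e3'
  set n := α * δ - β * γ with hn
  have hn0 : n ≠ 0 := fun h => by
    have hQo' : Q o' = 0 := by
      rw [h, mul_zero, zero_mul] at hid
      exact (mul_eq_zero.mp hid).resolve_left hQa'
    refine ho'0 (S.eq_zero_of_perp ha' ho' (fun e => hQa' (by rw [e, map_zero])) (fun hm => ?_) ho'
      (by rw [quad_polar_comm, hao']) (by rw [quad_polar_self, hQo', mul_zero]))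
    obtain ⟨l, rfl⟩ := Submodule.mem_span_singleton.mp hm
    rw [quad_smul] at hQo'
    exact ho'0 (by rw [mul_self_eq_zero.mp ((mul_eq_zero.mp hQo').resolve_right hQa'), zero_smul])
  refine ⟨o, ho, (r / (n * Q a)) • o', (D f).smul_mem _ ho', by rw [quad_polar_comm, hao],
    by rw [map_smul, LinearMap.smul_apply, quad_polar_comm, hao', smul_zero], ?_, hQo⟩
  rw [quad_smul]
  field_simp
  refine mul_left_cancel₀ hQa' ?_
  linear_combination (Q o * n * n * Q a) * hr - (r * r) * hid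

theorem Blk.seedTwo_zero (hq : PlaneOk Q D) (ht : 7 ≤ t) {w w' : ι → F} (hrel : Rel Q K w w')
    (h2c : ∃ i j, i ≠ j ∧ S.comp i w ≠ 0 ∧ S.comp j w ≠ 0) {e : Fin t} (he : S.comp e w = 0)
    (he' : S.comp e w' ≠ 0) : SeedTwo S := by
  classical
  by_cases hblock : ∃ j, w' ∈ D j
  · obtain ⟨j, hj⟩ := hblock
    exact S.seedTwo_of_pure hq ht ⟨j, w', hj, hrel⟩ h2c
  obtain ⟨c, hce, hc⟩ : ∃ c, c ≠ e ∧ S.comp c w' ≠ 0 := by
    by_contra! hc
    exact hblock (S.mem_block fun i j hij => by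
      by_cases hie : i = e
      · exact Or.inr (hc j fun h => hij (hie.trans h.symm))
      · exact Or.inl (hc i hie))
  obtain ⟨g, hgK, hgi, hgst, hfree, hneg, hgfix⟩ := S.exists_free hq e
  have hgw : (g : Matrix ι ι F) *ᵥ w = w := S.fix_of g w fun i hi z hz => hgfix i (fun h => hi (h ▸ he)) z hz
  set b := S.comp e w' with hb
  set σ := (g : Matrix ι ι F) *ᵥ b - b with hσ
  have hσD : σ ∈ D e := (D e).sub_mem (hgst _ (S.comp_mem e w')) (S.comp_mem e w')
  have hσ0 : σ ≠ 0 := fun h => he' (hfree _ (S.comp_mem e w') (sub_eq_zero.mp h))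
  have hw' : (g : Matrix ι ι F) *ᵥ w' = w' + σ := by rw [S.image_of_fix hgfix w', ← hb, hσ]; abel
  have h1 := hrel.conj hgK hgi
  rw [hgw, hw'] at h1
  have hrel' : Rel Q K (w' + σ) w' := h1.symm.trans hrel
  have hν : Q w' ≠ 0 := hrel.1 ▸ hrel.2.1
  obtain ⟨hs, hns⟩ := hrel'.step
  by_cases hQσ : Q σ = 0
  · refine ⟨{e}, σ, _, e, c, by simp, by simp, by rwa [S.comp_self hσD], fun i hi => S.comp_other (by simpa using hi) hσD,
      hs hQσ, by simp [hce], ?_⟩
    rw [S.comp_smul]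
    exact smul_ne_zero (neg_ne_zero.mpr (inv_ne_zero hν)) hc
  set κ := Q σ / Q w' with hκ
  have hκ0 : κ ≠ 0 := div_ne_zero hQσ hν
  set v := σ + κ • w' with hv
  have hvc : S.comp c v ≠ 0 := by
    rw [hv, S.comp_add, S.comp_smul, S.comp_other hce hσD, zero_add]; exact smul_ne_zero hκ0 hc
  refine S.seedTwo_of_pure hq ht ⟨e, σ, hσD, hns hQσ⟩ ?_
  by_contra! hone
  have h0 : S.comp e v = 0 := hone c e hce hvc
  rw [hv, S.comp_add, S.comp_smul, S.comp_self hσD, ← hb] at h0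
  have hσb : σ = -(κ • b) := eq_neg_of_add_eq_zero_left h0
  have hgb : (g : Matrix ι ι F) *ᵥ b = (1 - κ) • b := by
    rw [sub_smul, one_smul, ← sub_add_cancel ((g : Matrix ι ι F) *ᵥ b) b, ← hσ, hσb]; abel
  have hQb : Q b ≠ 0 := fun h => hQσ (by rw [hσb, QuadraticMap.map_neg, quad_smul, h, mul_zero])
  have hk2 : κ = 2 := by
    have h := Orth.iso_quad hgi b
    rw [hgb, quad_smul] at h
    have h' : (Q b * κ) * (κ - 2) = 0 := by linear_combination h
    exact sub_eq_zero.mp ((mul_eq_zero.mp h').resolve_left (mul_ne_zero hQb hκ0))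
  have h2b : (2 : F) • b = 0 := hneg b (S.comp_mem e w') (by rw [hgb, hk2]; module)
  exact he' ((smul_eq_zero.mp h2b).resolve_left (hk2 ▸ hκ0))

theorem Blk.seedTwo_scale (hq : PlaneOk Q D) {w w' : ι → F} (hrel : Rel Q K w w') {e f : Fin t} (hef : e ≠ f)
    {s : ι → F} (hs : s ∈ D f) (hs0 : s ≠ 0) (hQs : Q s = 0) {α β : F} (hwf : S.comp f w = α • s)
    (hw'f : S.comp f w' = β • s) (hβ : β ≠ 0) (hind : S.comp e w' ∉ F ∙ S.comp e w) : SeedTwo S := by
  classical
  have h7 : 7 ≤ Fintype.card F := hq.2.resolve_left fun h => hs0 (h f s hs hQs)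
  obtain ⟨f₀, hf₀, hQf₀, hsf₀, hf₀s⟩ := S.sing_pair_plane hs hs0 hQs
  obtain ⟨γ, hγ⟩ := exists_notMem_of_card
    (insert (0 : F) (Finset.univ.filter fun x : F => 1 * (x * x) + 0 * x + (-1) = 0)) (by
      have := card_roots_le (a := (1 : F)) (b := 0) (c := -1) (Or.inl one_ne_zero)
      have := Finset.card_insert_le (0 : F) (Finset.univ.filter fun x : F => 1 * (x * x) + 0 * x + (-1) = 0)
      omega)
  simp only [Finset.mem_insert, Finset.mem_filter, Finset.mem_univ, true_and, not_or] at hγ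
  set θ := γ⁻¹ * γ⁻¹ with hθ
  have hθ1 : θ - 1 ≠ 0 := fun h => hγ.2 (by
    have e1 : γ * γ⁻¹ = 1 := mul_inv_cancel₀ hγ.1
    rw [hθ] at h
    linear_combination (-(γ * γ)) * h + (γ * γ⁻¹ + 1) * e1)
  set p := s + f₀ with hpdef
  set p' := γ • s + γ⁻¹ • f₀ with hp'def
  have hp : p ∈ D f := (D f).add_mem hs hf₀
  have hp' : p' ∈ D f := (D f).add_mem ((D f).smul_mem _ hs) ((D f).smul_mem _ hf₀)
  have hQp : Q p = 1 := by rw [hpdef, quad_add, hQs, hQf₀, hsf₀]; ring
  have hQp' : Q p' = 1 := by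
    rw [hp'def, quad_add, quad_smul, quad_smul, hQs, hQf₀, map_smul, map_smul, LinearMap.smul_apply, hsf₀,
      smul_eq_mul, smul_eq_mul, mul_one, inv_mul_cancel₀ hγ.1]
    ring
  set h := rr Q p p' with hh
  have hhK : h ∈ K := S.rr_mem hp hp' (hQp.trans hQp'.symm) (hQp' ▸ one_ne_zero)
  have hhi : h ∈ Cfsg.isometryGroup F ⇑Q := Orth.toGL_mem_isometry Q _
  have hfix : ∀ i, i ≠ f → ∀ z ∈ D i, (h : Matrix ι ι F) *ᵥ z = z := fun i hi z hz =>
    rr_fix (S.orth hi.symm hp hz) (S.orth hi.symm hp' hz)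
  have hhs : (h : Matrix ι ι F) *ᵥ s = θ • s := by
    rw [hh, rr_mulVec, hQp, hQp', hpdef, hp'def, hθ]
    simp only [map_add, map_smul, map_sub, LinearMap.add_apply, LinearMap.smul_apply, smul_eq_mul,
      Orth.polar_self_of_sing Q hQs, Orth.polar_self_of_sing Q hQf₀, quad_polar_comm Q f₀ s, hsf₀, inv_one, one_mul,
      mul_zero, mul_one, zero_add, add_zero]
    have e1 : γ * γ⁻¹ = 1 := mul_inv_cancel₀ hγ.1
    match_scalars
    all_goals first
      | ring1
      | linear_combination (γ * γ⁻¹) * e1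
      | linear_combination (γ * γ⁻¹ - 1) * e1
      | linear_combination e1
  set a' := (θ - 1) * α with ha'
  set b' := (θ - 1) * β with hb'
  have himg : ∀ (v : ι → F) (l : F), S.comp f v = l • s → (h : Matrix ι ι F) *ᵥ v = v + ((θ - 1) * l) • s := by
    intro v l hl
    rw [S.image_of_fix hfix v, hl, Matrix.mulVec_smul, hhs]
    module
  have hB : ∀ (v : ι → F) (l : F), S.comp f v = l • s → polarBilin Q s v = 0 := fun v l hl => by
    rw [← S.polar_comp hs, hl, map_smul, Orth.polar_self_of_sing Q hQs, smul_zero]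
  have h1 := hrel.conj hhK hhi
  rw [himg w α hwf, himg w' β hw'f, ← ha', ← hb'] at h1
  set ν := Q w with hν
  have hν0 : ν ≠ 0 := hrel.2.1
  set w₂ := w' + b' • s with hw₂
  have hQw₂ : Q w₂ = ν := by
    rw [hw₂, quad_add, quad_smul, hQs, map_smul, quad_polar_comm Q w' s, hB w' β hw'f, smul_zero, mul_zero,
      add_zero, add_zero, hν, hrel.1]
  set X := rr Q w w' with hX
  have hXi : X ∈ Cfsg.isometryGroup F ⇑Q := Orth.toGL_mem_isometry Q _
  have hXs : (X : Matrix ι ι F) *ᵥ s = s :=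
    rr_fix (by rw [quad_polar_comm, hB w α hwf]) (by rw [quad_polar_comm, hB w' β hw'f])
  -- the two factors as Eichler elements
  have hsA : polarBilin Q s (a' • (-ν⁻¹ • w)) = 0 := by rw [map_smul, map_smul, hB w α hwf, smul_zero, smul_zero]
  have hA : rr Q (w + a' • s) w = Orth.eichGL Q s (a' • (-ν⁻¹ • w)) hQs hsA := by
    have hv : Q (a' • s) = 0 := by rw [quad_smul, hQs, mul_zero]
    have hvw : polarBilin Q (a' • s) w = 0 := by rw [map_smul, LinearMap.smul_apply, hB w α hwf, smul_zero]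
    rw [rr_sing hrel.2.1 hv hvw (by rw [map_smul, hvw, smul_zero]), eich_scale _ _ hQs hsA]
  have hXw' : (X : Matrix ι ι F) *ᵥ w' = -w' + (ν⁻¹ * polarBilin Q w w') • w := by
    have hw' : Q w' = ν := hrel.1.symm
    rw [hX, rr_mulVec, hw', quad_polar_self, hw', ← hν, show ν⁻¹ * (2 * ν) = 2 by field_simp, map_sub, map_smul,
      smul_eq_mul]
    module
  set y := -ν⁻¹ • (-w' + (ν⁻¹ * polarBilin Q w w') • w + b' • s) with hy
  have hsy : polarBilin Q s ((-b') • y) = 0 := by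
    rw [hy, map_smul, map_smul, map_add, map_add, map_neg, map_smul, map_smul, hB w α hwf, hB w' β hw'f,
      Orth.polar_self_of_sing Q hQs]
    simp
  have hBc : X * rr Q (w₂ + (-b') • s) w₂ * X⁻¹ = Orth.eichGL Q s ((-b') • y) hQs hsy := by
    have hv : Q ((-b') • s) = 0 := by rw [quad_smul, hQs, mul_zero]
    have hvw : polarBilin Q ((-b') • s) w₂ = 0 := by
      rw [map_smul, LinearMap.smul_apply, hw₂, map_add, map_smul, hB w' β hw'f, Orth.polar_self_of_sing Q hQs]
      simp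
    have hsw : polarBilin Q s ((-b') • (-ν⁻¹ • w₂)) = 0 := by
      rw [map_smul, LinearMap.smul_apply, smul_eq_mul] at hvw
      rw [map_smul, map_smul, smul_eq_mul, smul_eq_mul]
      linear_combination (-ν⁻¹) * hvw
    have hne : Q w₂ ≠ 0 := hQw₂ ▸ hν0
    rw [rr_sing hne hv hvw (by rw [map_smul, hvw, smul_zero]), eich_scale _ _ hQs (by rw [hQw₂]; exact hsw),
      Orth.conj_eichGL hXi]
    refine eich_congr hXs ?_ _ _ _ _
    rw [Matrix.mulVec_smul, Matrix.mulVec_smul, hQw₂, hw₂, Matrix.mulVec_add, Matrix.mulVec_smul, hXs, hXw', hy]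
  have hG : rr Q (w + a' • s) (w' + b' • s) * rr Q w' w =
      Orth.eichGL Q s (a' • (-ν⁻¹ • w) + (-b') • y) hQs (by rw [map_add, hsA, hsy, add_zero]) := by
    rw [← eich_mul' hQs hsA hsy, ← hA, ← hBc, hX]
    have e1 : (rr Q w w')⁻¹ = rr Q w' w := inv_eq_of_mul_eq_one_right (by rw [rr_mul, rr_self])
    have e2 : w₂ + (-b') • s = w' := by rw [hw₂]; module
    rw [e1, e2, ← mul_assoc, ← mul_assoc, rr_mul, rr_mul, hw₂]
  have hmem : InE Q K s (a' • (-ν⁻¹ • w) + (-b') • y) :=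
    ⟨hQs, by rw [map_add, hsA, hsy, add_zero], hG ▸ K.mul_mem h1.2.2 hrel.symm.2.2⟩
  refine ⟨{f}, s, _, f, e, by simp, by simp, by rwa [S.comp_self hs], fun i hi => S.comp_other (by simpa using hi) hs,
    hmem, by simp [hef], fun h0 => hind ?_⟩
  rw [hy] at h0
  simp only [S.comp_add, S.comp_smul, S.comp_neg, S.comp_other hef hs, smul_zero, add_zero] at h0
  have hb'0 : b' ≠ 0 := mul_ne_zero hθ1 hβ
  have h0' : (b' * ν⁻¹) • S.comp e w' = (b' * ν⁻¹ * (ν⁻¹ * polarBilin Q w w') - a' * ν⁻¹) • S.comp e w := by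
    rw [← sub_eq_zero, ← neg_eq_zero, ← h0]
    module
  refine ((F ∙ S.comp e w).smul_mem_iff (mul_ne_zero hb'0 (inv_ne_zero hν0))).mp ?_
  rw [h0']
  exact Submodule.smul_mem _ _ (Submodule.mem_span_singleton_self _)

theorem Blk.seedTwo_match (hq : PlaneOk Q D) (ht : 7 ≤ t) {w w' : ι → F} (hrel : Rel Q K w w')
    (hw' : ∀ i, S.comp i w' ≠ 0) {e f : Fin t} (hef : e ≠ f) (hQe : Q (S.comp e w) ≠ 0) (hQf : Q (S.comp f w) ≠ 0)
    (hsq : IsSquare (Q (S.comp e w) * Q (S.comp f w))) (hind : S.comp e w' ∉ F ∙ S.comp e w) : SeedTwo S := by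
  classical
  obtain ⟨d, hd, d', hd', hda, hd'a, hQdd, hQd⟩ := S.perp_match hef (S.comp_mem e w) (S.comp_mem f w) hQe hQf hsq
  rw [S.polar_comp hd] at hda
  rw [S.polar_comp hd'] at hd'a
  set y := rr Q d d' with hy
  have hyK : y ∈ K := S.rr_mem hd hd' hQdd (hQdd ▸ hQd)
  have hyw : (y : Matrix ι ι F) *ᵥ w = w := rr_fix hda hd'a
  set σ := dsp Q d w' + dsp Q d' w' with hσ
  have hσd : dsp Q d w' ∈ D e := (D e).neg_mem ((D e).smul_mem _ hd)
  have hσd' : dsp Q d' w' ∈ D f := (D f).neg_mem ((D f).smul_mem _ hd')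
  have hdb : polarBilin Q d w' ≠ 0 := fun h0 => by
    refine hQd ?_
    have ha0 : S.comp e w ≠ 0 := fun h => hQe (by rw [h, map_zero])
    rw [S.eq_zero_of_perp (S.comp_mem e w) (S.comp_mem e w') ha0 hind hd (by rw [S.polar_comp hd, hda])
      (by rw [S.polar_comp hd, h0]), map_zero]
  have hσe : S.comp e σ ≠ 0 := by
    rw [hσ, S.comp_add, S.comp_self hσd, S.comp_other hef hσd', add_zero, dsp, neg_ne_zero]
    refine smul_ne_zero (mul_ne_zero (inv_ne_zero hQd) hdb) fun h => hQd (by rw [h, map_zero])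
  have hσo : ∀ i, i ≠ e → i ≠ f → S.comp i σ = 0 := fun i hie hif => by
    rw [hσ, S.comp_add, S.comp_other hie hσd, S.comp_other hif hσd', add_zero]
  have h1 := hrel.conj hyK (Orth.toGL_mem_isometry Q _)
  rw [hyw, rr_image (S.orth hef hd hd'), add_assoc, ← hσ] at h1
  obtain ⟨hs, hns⟩ := (h1.symm.trans hrel).step
  have hν : Q w' ≠ 0 := hrel.1 ▸ hrel.2.1
  obtain ⟨g₂, hg₂⟩ := exists_fin_notMem ({e, f} : Finset (Fin t)) (by
    have := Finset.card_le_two (a := e) (b := f); omega)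
  simp only [Finset.mem_insert, Finset.mem_singleton, not_or] at hg₂
  by_cases hQσ : Q σ = 0
  · refine ⟨{e, f}, σ, _, e, g₂, Finset.card_le_two.trans (by norm_num), by simp, hσe,
      fun i hi => ?_, hs hQσ, by simp [hg₂.1, hg₂.2], ?_⟩
    · simp only [Finset.mem_insert, Finset.mem_singleton, not_or] at hi
      exact hσo i hi.1 hi.2
    · rw [S.comp_smul]; exact smul_ne_zero (neg_ne_zero.mpr (inv_ne_zero hν)) (hw' g₂)
  set κ := Q σ / Q w' with hκ
  have hκ0 : κ ≠ 0 := div_ne_zero hQσ hν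
  have hrel₂ := hns hQσ
  set v := σ + κ • w' with hv
  have hvo : ∀ i, i ≠ e → i ≠ f → S.comp i v = κ • S.comp i w' := fun i hie hif => by
    rw [hv, S.comp_add, S.comp_smul, hσo i hie hif, zero_add]
  obtain ⟨g, hgK, hgi, hgst, hfree, -, hgfix⟩ := S.exists_free hq g₂
  have hgσ : (g : Matrix ι ι F) *ᵥ σ = σ := S.fix_of g σ fun i hi z hz => hgfix i (fun h => hi (by
    rw [h]; exact hσo g₂ hg₂.1 hg₂.2)) z hz
  set b := S.comp g₂ v with hb
  set σ₂ := (g : Matrix ι ι F) *ᵥ b - b with hσ₂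
  have hσ₂D : σ₂ ∈ D g₂ := (D g₂).sub_mem (hgst _ (S.comp_mem g₂ v)) (S.comp_mem g₂ v)
  have hσ₂0 : σ₂ ≠ 0 := fun h => by
    have := hfree _ (S.comp_mem g₂ v) (sub_eq_zero.mp h)
    rw [hvo g₂ hg₂.1 hg₂.2] at this
    exact smul_ne_zero hκ0 (hw' g₂) this
  have hgv : (g : Matrix ι ι F) *ᵥ v = v + σ₂ := by rw [S.image_of_fix hgfix v, ← hb, hσ₂]; abel
  have h2 := hrel₂.conj hgK hgi
  rw [hgσ, hgv] at h2
  obtain ⟨hs₂, hns₂⟩ := (h2.trans hrel₂.symm).step
  obtain ⟨i, hi⟩ := exists_fin_notMem ({e, f, g₂} : Finset (Fin t)) (by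
    have := Finset.card_le_three (a := e) (b := f) (c := g₂); omega)
  simp only [Finset.mem_insert, Finset.mem_singleton, not_or] at hi
  obtain ⟨j, hj⟩ := exists_fin_notMem ({e, f, g₂, i} : Finset (Fin t)) (by
    have := Finset.card_le_four (a := e) (b := f) (c := g₂) (d := i); omega)
  simp only [Finset.mem_insert, Finset.mem_singleton, not_or] at hj
  have hνv : Q v ≠ 0 := hrel₂.2.1
  by_cases hQσ₂ : Q σ₂ = 0
  · refine ⟨{g₂}, σ₂, _, g₂, i, by simp, by simp, by rwa [S.comp_self hσ₂D],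
      fun l hl => S.comp_other (by simpa using hl) hσ₂D, hs₂ hQσ₂, by simp [hi.2.2], ?_⟩
    rw [S.comp_smul, hvo i hi.1 hi.2.1]
    exact smul_ne_zero (neg_ne_zero.mpr (inv_ne_zero hνv)) (smul_ne_zero hκ0 (hw' i))
  have hcomp : ∀ l, l ≠ e → l ≠ f → l ≠ g₂ → S.comp l (σ₂ + (Q σ₂ / Q v) • v) ≠ 0 := fun l h1 h2 h3 => by
    rw [S.comp_add, S.comp_smul, S.comp_other h3 hσ₂D, zero_add, hvo l h1 h2]
    exact smul_ne_zero (div_ne_zero hQσ₂ hνv) (smul_ne_zero hκ0 (hw' l))
  exact S.seedTwo_of_pure hq ht ⟨g₂, σ₂, hσ₂D, hns₂ hQσ₂⟩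
    ⟨i, j, Ne.symm hj.2.2.2, hcomp i hi.1 hi.2.1 hi.2.2, hcomp j hj.1 hj.2.1 hj.2.2.1⟩

theorem Blk.span_value_two (hq : PlaneOk Q D) {i₀ : Fin t} {c : ι → F} (hc : c ∈ D i₀) (hQc : Q c ≠ 0) {j : Fin t}
    {x : ι → F} (hx : x ∈ D j) : x ∈ Submodule.span F {z | z ∈ D j ∧ Q z = Q c} := by
  obtain ⟨φ, hφ⟩ := S.hD.isometric i₀ j
  set p : ι → F := (φ ⟨c, hc⟩ : ι → F) with hp
  have hpD : p ∈ D j := (φ ⟨c, hc⟩).2
  have hQp : Q p = Q c := hφ _
  obtain ⟨p', hp', hQp', -, hind⟩ := S.exists_twin hq hpD (hQp ▸ hQc)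
  obtain ⟨α, β, rfl⟩ := S.expand hpD hp' (fun e => hQc (by rw [← hQp, e, map_zero])) hind hx
  exact Submodule.add_mem _ (Submodule.smul_mem _ _ (Submodule.subset_span ⟨hpD, hQp⟩))
    (Submodule.smul_mem _ _ (Submodule.subset_span ⟨hp', hQp'.trans hQp⟩))

theorem Blk.exists_two_comp_plane (hq : PlaneOk Q D) {g : GL ι F} (hgi : g ∈ Cfsg.isometryGroup F ⇑Q)
    (hgs : g ∉ Cfsg.Geo.decompositionStabilizer D) :
    ∃ i, ∃ c ∈ D i, Q c ≠ 0 ∧
      ∃ a b, a ≠ b ∧ S.comp a ((g : Matrix ι ι F) *ᵥ c) ≠ 0 ∧ S.comp b ((g : Matrix ι ι F) *ᵥ c) ≠ 0 := by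
  classical
  by_contra! hno
  have hone : ∀ i, ∀ x ∈ D i, Q x ≠ 0 → ∃ a, (g : Matrix ι ι F) *ᵥ x ∈ D a := fun i x hx hQx =>
    S.mem_block fun a b hab => by
      by_contra hc
      rw [not_or] at hc
      exact hc.2 (hno i x hx hQx a b hab hc.1)
  have hblock : ∀ i, ∃ a, ∀ x ∈ D i, (g : Matrix ι ι F) *ᵥ x ∈ D a := by
    intro i
    obtain ⟨p, hp, hQp⟩ := S.exists_value hq i
    obtain ⟨a, ha⟩ := hone i p hp hQp
    obtain ⟨p', hp', hQp', hpp', hind⟩ := S.exists_twin hq hp hQp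
    obtain ⟨b, hb⟩ := hone i p' hp' (hQp' ▸ hQp)
    have hab : a = b := by
      by_contra hne
      exact hpp' (by rw [← Orth.iso_polar hgi, S.orth hne ha hb])
    refine ⟨a, fun x hx => ?_⟩
    obtain ⟨α, β, rfl⟩ := S.expand hp hp' (fun e => hQp (by rw [e, map_zero])) hind hx
    rw [Matrix.mulVec_add, Matrix.mulVec_smul, Matrix.mulVec_smul]
    exact (D a).add_mem ((D a).smul_mem _ ha) ((D a).smul_mem _ (hab ▸ hb))
  choose σ hσ using hblock
  have hσi : Function.Injective σ := fun i i' h => by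
    by_contra hne
    obtain ⟨p, hp, hQp⟩ := S.exists_value hq i'
    obtain ⟨z, hz, hze⟩ := S.onto g (hσ i) _ (h ▸ hσ i' p hp)
    have hzp : z = p := by
      have := congrArg (fun u => ((g⁻¹ : GL ι F) : Matrix ι ι F) *ᵥ u) hze
      simpa [Matrix.mulVec_mulVec, ← Units.val_mul] using this
    exact hQp (by rw [← S.comp_self hp, S.comp_other (Ne.symm hne) (hzp ▸ hz), map_zero])
  exact hgs (mem_stab S.fin (Equiv.ofBijective σ ((Finite.injective_iff_bijective).mp hσi)) hσ)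

set_option maxHeartbeats 800000 in
theorem Blk.seedTwo_of_move (hq : PlaneOk Q D) (ht : 7 ≤ t) {g : GL ι F} (hgK : g ∈ K)
    (hgi : g ∈ Cfsg.isometryGroup F ⇑Q) (hgs : g ∉ Cfsg.Geo.decompositionStabilizer D) : SeedTwo S := by
  classical
  let π : Fin t → (ι → F) →ₗ[F] (ι → F) := fun h =>
    { toFun := fun v => S.comp h ((g : Matrix ι ι F) *ᵥ v)
      map_add' := fun v v' => by rw [Matrix.mulVec_add, S.comp_add]
      map_smul' := fun l v => by rw [Matrix.mulVec_smul, S.comp_smul, RingHom.id_apply] }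
  have hπ : ∀ h v, π h v = S.comp h ((g : Matrix ι ι F) *ᵥ v) := fun _ _ => rfl
  by_cases hA : ∃ i, ∃ c ∈ D i, Q c ≠ 0 ∧ (∃ a b, a ≠ b ∧ π a c ≠ 0 ∧ π b c ≠ 0) ∧ ∃ e, π e c = 0
  · obtain ⟨i, c, hc, hQc, h2c, e, he⟩ := hA
    obtain ⟨j, c', hc', hQc', hne⟩ : ∃ j, ∃ c' ∈ D j, Q c' = Q c ∧ π e c' ≠ 0 := by
      by_contra! hall
      obtain ⟨y, hy, hQy⟩ := S.exists_value hq e
      set v := ((g⁻¹ : GL ι F) : Matrix ι ι F) *ᵥ y with hv
      have hker : v ∈ LinearMap.ker (π e) := by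
        rw [← S.sum_comp v]
        exact Submodule.sum_mem _ fun j _ => (Submodule.span_le.mpr fun z hz => hall j z hz.1 hz.2)
          (S.span_value_two hq hc hQc (S.comp_mem j v))
      refine hQy ?_
      rw [LinearMap.mem_ker, hπ, hv, Matrix.mulVec_mulVec, ← Units.val_mul, mul_inv_cancel, Units.val_one,
        Matrix.one_mulVec, S.comp_self hy] at hker
      rw [hker, map_zero]
    exact S.seedTwo_zero hq ht ((S.rel_block hc hc' hQc'.symm (hQc' ▸ hQc)).conj hgK hgi) h2c he hne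
  push Not at hA
  obtain ⟨i, c, hc, hQc, a₁, a₂, h12, h1, h2⟩ := S.exists_two_comp_plane hq hgi hgs
  have hcfull : ∀ h, π h c ≠ 0 := hA i c hc hQc ⟨a₁, a₂, h12, h1, h2⟩
  by_cases hblock : ∃ z ∈ D i, Q z ≠ 0 ∧ ∃ j, (g : Matrix ι ι F) *ᵥ z ∈ D j
  · obtain ⟨z, hz, hQz, j, hj⟩ := hblock
    obtain ⟨z', hz', hQz', -, hind⟩ := S.exists_twin hq hz hQz
    by_cases h2z : ∃ a b, a ≠ b ∧ π a z' ≠ 0 ∧ π b z' ≠ 0
    · exact S.seedTwo_of_pure hq ht
        ⟨j, _, hj, (S.rel_block hz' hz hQz' hQz).conj hgK hgi⟩ h2z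
    exfalso
    push Not at h2z
    obtain ⟨j', hj'⟩ := S.mem_block (v := (g : Matrix ι ι F) *ᵥ z') fun a b hab => by
      by_contra hne
      rw [not_or] at hne
      exact hne.2 (h2z a b hab hne.1)
    obtain ⟨h, hh⟩ := exists_fin_notMem ({j, j'} : Finset (Fin t)) (by
      have := Finset.card_le_two (a := j) (b := j'); omega)
    simp only [Finset.mem_insert, Finset.mem_singleton, not_or] at hh
    obtain ⟨α, β, hαβ⟩ := S.expand hz hz' (fun e => hQz (by rw [e, map_zero])) hind hc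
    refine hcfull h ?_
    rw [← hαβ, map_add, map_smul, map_smul, hπ, hπ, S.comp_other hh.1 hj, S.comp_other hh.2 hj', smul_zero, smul_zero,
      add_zero]
  push Not at hblock
  have hfull : ∀ z ∈ D i, Q z ≠ 0 → ∀ h, π h z ≠ 0 := fun z hz hQz => by
    refine hA i z hz hQz ?_
    by_contra! hno
    obtain ⟨j, hj⟩ := S.mem_block (v := (g : Matrix ι ι F) *ᵥ z) fun a b hab => by
      by_contra hne
      rw [not_or] at hne
      exact hne.2 (hno a b hab hne.1)
    exact hblock z hz hQz j hj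
  have hc0 : c ≠ 0 := fun e => hQc (by rw [e, map_zero])
  obtain ⟨c', hc', hQc', -, hcc'⟩ := S.exists_twin hq hc hQc
  -- a match with an injective component finishes
  have finish : ∀ z ∈ D i, Q z ≠ 0 → ∀ e f, e ≠ f → Q (π e z) ≠ 0 → Q (π f z) ≠ 0 → IsSquare (Q (π e z) * Q (π f z)) →
      (∀ x ∈ D i, π e x = 0 → x = 0) → SeedTwo S := by
    intro z hz hQz e f hef h1 h2 hsq hinj
    obtain ⟨z', hz', hQz', -, hzz'⟩ := S.exists_twin hq hz hQz
    refine S.seedTwo_match hq ht ((S.rel_block hz hz' hQz'.symm (hQz' ▸ hQz)).conj hgK hgi)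
      (hfull z' hz' (hQz' ▸ hQz)) hef h1 h2 hsq fun hmem => ?_
    obtain ⟨l, hl⟩ := Submodule.mem_span_singleton.mp hmem
    refine hzz' (Submodule.mem_span_singleton.mpr ⟨l, ?_⟩)
    have h0 := hinj (z' - l • z) ((D i).sub_mem hz' ((D i).smul_mem _ hz)) (by
      rw [map_sub, map_smul, hπ, hπ, hl, sub_self])
    exact (sub_eq_zero.mp h0).symm
  by_cases hani : ∀ z ∈ D i, Q z = 0 → z = 0
  · have hinj : ∀ h, ∀ x ∈ D i, π h x = 0 → x = 0 := fun h x hx hh => by
      by_contra hx0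
      exact hfull x hx (fun hQ => hx0 (hani x hx hQ)) h hh
    have hns : ∀ h, Q (π h c) ≠ 0 := fun h hQ => hcfull h (by
      obtain ⟨φ, hφ⟩ := S.hD.isometric h i
      have h' := hani _ (φ ⟨π h c, S.comp_mem _ _⟩).2 (by rw [hφ]; exact hQ)
      have := (LinearEquiv.map_eq_zero_iff φ).mp (Subtype.ext h')
      simpa using congrArg Subtype.val this)
    let e₀ : Fin t := ⟨0, by omega⟩
    let e₁ : Fin t := ⟨1, by omega⟩
    let e₂ : Fin t := ⟨2, by omega⟩
    rcases square_three (hns e₀) (hns e₁) (hns e₂) with h | h | h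
    · exact finish c hc hQc e₀ e₁ (by simp [e₀, e₁]) (hns _) (hns _) h (hinj _)
    · exact finish c hc hQc e₀ e₂ (by simp [e₀, e₂]) (hns _) (hns _) h (hinj _)
    · exact finish c hc hQc e₁ e₂ (by simp [e₁, e₂]) (hns _) (hns _) h (hinj _)
  push Not at hani
  obtain ⟨z₀, hz₀, hQz₀, hz₀0⟩ := hani
  have h7 : 7 ≤ Fintype.card F := hq.2.resolve_left fun h => hz₀0 (h i z₀ hz₀ hQz₀)
  obtain ⟨e₀, he₀, f₀, hf₀, hQe₀, hQf₀, hef₀, hce⟩ := S.hyperbolic_coord hz₀ hz₀0 hQz₀ hc hQc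
  have he₀0 : e₀ ≠ 0 := fun e => by simp [e] at hef₀
  have hfe : f₀ ∉ F ∙ e₀ := fun h => by
    obtain ⟨l, rfl⟩ := Submodule.mem_span_singleton.mp h
    rw [map_smul, Orth.polar_self_of_sing Q hQe₀, smul_zero] at hef₀
    exact zero_ne_one hef₀
  -- kernels are coordinate lines
  have hker : ∀ h, π h e₀ = 0 ∨ π h f₀ = 0 ∨ ∀ x ∈ D i, π h x = 0 → x = 0 := by
    intro h
    by_contra! hne
    obtain ⟨h1, h2, x, hx, hx', hx0⟩ := hne
    obtain ⟨α, β, rfl⟩ := S.expand he₀ hf₀ he₀0 hfe hx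
    have hQ : Q (α • e₀ + β • f₀) = α * β := by
      rw [quad_add, quad_smul, quad_smul, hQe₀, hQf₀, map_smul, map_smul, LinearMap.smul_apply, hef₀, smul_eq_mul,
        smul_eq_mul]
      ring
    have h0 : α * β = 0 := by
      by_contra h0
      exact hfull _ hx (hQ ▸ h0) h hx'
    rw [map_add, map_smul, map_smul] at hx'
    rcases mul_eq_zero.mp h0 with rfl | rfl
    · rw [zero_smul, zero_add] at hx' hx0
      exact h2 ((smul_eq_zero.mp hx').resolve_left fun e => hx0 (by rw [e, zero_smul]))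
    · rw [zero_smul, add_zero] at hx' hx0
      exact h1 ((smul_eq_zero.mp hx').resolve_left fun e => hx0 (by rw [e, zero_smul]))
  set J := Finset.univ.filter fun h => ¬ (π h e₀ = 0 ∨ π h f₀ = 0) with hJ
  have hJinj : ∀ h ∈ J, ∀ x ∈ D i, π h x = 0 → x = 0 := fun h hh => by
    simp only [hJ, Finset.mem_filter, not_or] at hh
    exact ((hker h).resolve_left hh.2.1).resolve_left hh.2.2
  obtain ⟨e, heJ⟩ : ∃ e, e ∈ J := by
    by_contra! hno
    have h : polarBilin Q ((g : Matrix ι ι F) *ᵥ e₀) ((g : Matrix ι ι F) *ᵥ f₀) = 0 := by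
      conv_lhs => rw [← S.sum_comp ((g : Matrix ι ι F) *ᵥ e₀), map_sum, LinearMap.sum_apply]
      refine Finset.sum_eq_zero fun h _ => ?_
      have e1 := S.polar_comp (S.comp_mem h ((g : Matrix ι ι F) *ᵥ e₀)) ((g : Matrix ι ι F) *ᵥ f₀)
      rw [← hπ h e₀, ← hπ h f₀] at e1
      rw [← hπ, ← e1]
      have := hno h
      simp only [hJ, Finset.mem_filter, Finset.mem_univ, true_and, not_not] at this
      rcases this with h' | h' <;> simp [h']
    rw [Orth.iso_polar hgi, hef₀] at h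
    exact one_ne_zero h
  by_cases hscale : ∃ f, f ∉ J ∧ Q (π f c) = 0
  · obtain ⟨f, hfJ, hQf⟩ := hscale
    have hfd : π f e₀ = 0 ∨ π f f₀ = 0 := by simpa [hJ, or_iff_not_imp_left] using hfJ
    obtain ⟨β, hβ⟩ : ∃ β, π f c' = β • π f c := by
      obtain ⟨α, β, hαβ⟩ := S.expand he₀ hf₀ he₀0 hfe hc'
      rw [hce, ← hαβ, map_add, map_smul, map_add, map_smul, map_smul]
      rcases hfd with h' | h'
      · exact ⟨β / Q c, by simp only [h', smul_zero, zero_add, smul_smul, div_mul_cancel₀ _ hQc]⟩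
      · exact ⟨α, by simp only [h', smul_zero, add_zero]⟩
    refine S.seedTwo_scale hq ((S.rel_block hc hc' hQc'.symm (hQc' ▸ hQc)).conj hgK hgi) (e := e) (f := f)
      (fun h => hfJ (h ▸ heJ)) (S.comp_mem f _) (hcfull f) hQf (α := 1) (by rw [one_smul]) hβ (fun h => ?_) fun hmem => ?_
    · exact hfull c' hc' (hQc' ▸ hQc) f (by rw [hβ, h, zero_smul])
    · obtain ⟨l, hl⟩ := Submodule.mem_span_singleton.mp hmem
      refine hcc' (Submodule.mem_span_singleton.mpr ⟨l, ?_⟩)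
      have h0 := hJinj e heJ (c' - l • c) ((D i).sub_mem hc' ((D i).smul_mem _ hc)) (by
        rw [map_sub, map_smul, hπ, hπ, hl, sub_self])
      exact (sub_eq_zero.mp h0).symm
  push Not at hscale
  -- the vectors `x • e₀ + f₀`
  have hzD : ∀ x : F, x • e₀ + f₀ ∈ D i := fun x => (D i).add_mem ((D i).smul_mem _ he₀) hf₀
  have hzQ : ∀ x : F, Q (x • e₀ + f₀) = x := fun x => by
    rw [quad_add, quad_smul, hQe₀, hQf₀, map_smul, LinearMap.smul_apply, hef₀]; simp
  have hrank : ∀ f, f ∉ J → ∀ x : F, x ≠ 0 → Q (π f (x • e₀ + f₀)) ≠ 0 := by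
    intro f hf x hx
    have h0 := hscale f hf
    rw [hce, map_add, map_smul] at h0
    rw [map_add, map_smul]
    have hfd : π f e₀ = 0 ∨ π f f₀ = 0 := by simpa [hJ, or_iff_not_imp_left] using hf
    rcases hfd with h' | h'
    · rw [h', zero_add, quad_smul] at h0
      rw [h', smul_zero, zero_add]
      exact right_ne_zero_of_mul h0
    · rw [h', smul_zero, add_zero] at h0
      rw [h', add_zero, quad_smul]
      exact mul_ne_zero (mul_ne_zero hx hx) h0
  have hquad : ∀ h, ∀ x : F, Q (π h (x • e₀ + f₀)) =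
      Q (π h e₀) * (x * x) + polarBilin Q (π h e₀) (π h f₀) * x + Q (π h f₀) := fun h x => by
    rw [map_add, map_smul, quad_add, quad_smul, map_smul, LinearMap.smul_apply, smul_eq_mul]; ring
  have hdisc : ∀ h ∈ J, polarBilin Q (π h e₀) (π h f₀) * polarBilin Q (π h e₀) (π h f₀) -
      4 * Q (π h e₀) * Q (π h f₀) ≠ 0 := fun h hh => by
    refine S.disc_ne (S.comp_mem h _) (S.comp_mem h _) (fun h0 => he₀0 (hJinj h hh e₀ he₀ h0)) fun hmem => ?_
    obtain ⟨l, hl⟩ := Submodule.mem_span_singleton.mp hmem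
    refine hfe (Submodule.mem_span_singleton.mpr ⟨l, ?_⟩)
    have h0 := hJinj h hh (f₀ - l • e₀) ((D i).sub_mem hf₀ ((D i).smul_mem _ he₀)) (by
      rw [map_sub, map_smul, hl, sub_self])
    exact (sub_eq_zero.mp h0).symm
  by_cases hJ1 : ∀ h ∈ J, h = e
  · obtain ⟨f, hf⟩ := exists_fin_notMem ({e} : Finset (Fin t)) (by simp; omega)
    simp only [Finset.mem_singleton] at hf
    have hfJ : f ∉ J := fun h => hf (hJ1 f h)
    obtain ⟨k', hk', hk0⟩ : ∃ k' : F, (∀ x : F, x ≠ 0 → IsSquare (Q (π f (x • e₀ + f₀)) * k')) ∧ k' ≠ 0 := by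
      have hfd : π f e₀ = 0 ∨ π f f₀ = 0 := by simpa [hJ, or_iff_not_imp_left] using hfJ
      have h1 := hrank f hfJ 1 one_ne_zero
      rw [one_smul, map_add] at h1
      rcases hfd with h' | h'
      · exact ⟨Q (π f f₀), fun x _ => ⟨Q (π f f₀), by rw [map_add, map_smul, h', smul_zero, zero_add]⟩,
          by rwa [h', zero_add] at h1⟩
      · exact ⟨Q (π f e₀), fun x _ => ⟨x * Q (π f e₀), by rw [map_add, map_smul, h', add_zero, quad_smul]; ring⟩,
          by rwa [h', add_zero] at h1⟩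
    obtain ⟨x, u, hx, hu, hxu⟩ := exists_square_value h7 (a := k' * Q (π e e₀))
      (b := k' * polarBilin Q (π e e₀) (π e f₀)) (c := k' * Q (π e f₀)) (fun h => hdisc e heJ (by
        refine (mul_eq_zero.mp ?_).resolve_left (mul_ne_zero hk0 hk0)
        linear_combination h))
    have hke : Q (π e (x • e₀ + f₀)) * k' = u * u := by rw [hquad]; linear_combination hxu
    refine finish _ (hzD x) (by rw [hzQ]; exact hx) e f (Ne.symm hf) (left_ne_zero_of_mul
      (hke ▸ mul_ne_zero hu hu)) (hrank f hfJ x hx) ?_ (hJinj e heJ)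
    obtain ⟨r, hr⟩ := hk' x hx
    refine ⟨u * r / k', ?_⟩
    field_simp
    linear_combination (Q (π f (x • e₀ + f₀)) * k') * hke + (u * u) * hr
  push Not at hJ1
  obtain ⟨e', he'J, he'⟩ := hJ1
  -- a value at which few components are singular
  let bad : F → Finset (Fin t) := fun x => J.filter fun h => Q (π h (x • e₀ + f₀)) = 0
  have hsum : ∑ x ∈ (Finset.univ : Finset F).erase 0, (bad x).card ≤ 2 * J.card := by
    calc ∑ x ∈ (Finset.univ : Finset F).erase 0, (bad x).card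
        = ∑ h ∈ J, (((Finset.univ : Finset F).erase 0).filter fun x => Q (π h (x • e₀ + f₀)) = 0).card := by
          simp only [bad, Finset.card_filter]
          rw [Finset.sum_comm]
      _ ≤ ∑ h ∈ J, 2 := Finset.sum_le_sum fun h hh => by
          refine (Finset.card_le_card fun x hx => ?_).trans (card_roots_le (a := Q (π h e₀))
            (b := polarBilin Q (π h e₀) (π h f₀)) (c := Q (π h f₀)) ?_)
          · simp only [Finset.mem_filter] at hx ⊢
            exact ⟨Finset.mem_univ _, by rw [← hquad]; exact hx.2⟩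
          · by_contra! h0
            exact hdisc h hh (by rw [h0.1, h0.2.1]; ring)
      _ = 2 * J.card := by rw [Finset.sum_const, smul_eq_mul, mul_comm]
  obtain ⟨x, hx, hbad⟩ := Finset.exists_le_of_sum_le (f := fun x => 3 * (bad x).card) (g := fun _ => J.card)
    (s := (Finset.univ : Finset F).erase 0) ⟨1, by simp⟩ (by
      rw [← Finset.mul_sum, Finset.sum_const, smul_eq_mul, Finset.card_erase_of_mem (Finset.mem_univ _),
        Finset.card_univ]
      have : 6 * J.card ≤ (Fintype.card F - 1) * J.card := Nat.mul_le_mul_right _ (by omega)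
      omega)
  have hx0 : x ≠ 0 := (Finset.mem_erase.mp hx).1
  have hJ2 : 2 ≤ J.card := Finset.one_lt_card.mpr ⟨e', he'J, e, heJ, he'⟩
  obtain ⟨a, ha, b, hb, hab⟩ := Finset.one_lt_card.mp (show 1 < (J \ bad x).card by
    have := Finset.le_card_sdiff (bad x) J
    omega)
  obtain ⟨d, hd⟩ := exists_fin_notMem (insert a (insert b (bad x))) (by
    have h1 := Finset.card_insert_le a (insert b (bad x))
    have h2 := Finset.card_insert_le b (bad x)
    have h3 : J.card ≤ t := (Finset.card_le_univ J).trans (by simp)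
    omega)
  simp only [Finset.mem_insert, not_or] at hd
  obtain ⟨haJ, hab'⟩ := Finset.mem_sdiff.mp ha
  obtain ⟨hbJ, hbb'⟩ := Finset.mem_sdiff.mp hb
  simp only [bad, Finset.mem_filter, not_and] at hab' hbb' hd
  have hQa := hab' haJ
  have hQb := hbb' hbJ
  have hQd : Q (π d (x • e₀ + f₀)) ≠ 0 := by
    by_cases hdJ : d ∈ J
    · exact hd.2.2 hdJ
    · exact hrank d hdJ x hx0
  rcases square_three hQa hQb hQd with h | h | h
  · exact finish _ (hzD x) (by rw [hzQ]; exact hx0) a b hab hQa hQb h (hJinj a haJ)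
  · exact finish _ (hzD x) (by rw [hzQ]; exact hx0) a d (Ne.symm hd.1) hQa hQd h (hJinj a haJ)
  · exact finish _ (hzD x) (by rw [hzQ]; exact hx0) b d (Ne.symm hd.2.1) hQb hQd h (hJinj b hbJ)

omit S in
/-- The stabiliser of a decomposition into at least seven planes is maximal. -/
theorem maximal_two (hN : (polarBilin Q).Nondegenerate) (h13 : 13 ≤ Fintype.card ι)
    (hD : Cfsg.Geo.IsOrthogonalMDecomposition (⇑Q) 2 D) (hq : PlaneOk Q D) :
    Cfsg.Geo.IsMaximalIn (Cfsg.Geo.omegaGL ⇑Q)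
      (Cfsg.Geo.decompositionStabilizer D ⊓ Cfsg.Geo.omegaGL ⇑Q) := by
  classical
  have S : Blk Q D 2 (Cfsg.Geo.decompositionStabilizer D ⊓ Cfsg.Geo.omegaGL ⇑Q) := ⟨hN, hD, by omega, le_rfl⟩
  have ht : 7 ≤ t := by have := S.card_eq; omega
  refine ⟨lt_of_le_of_ne inf_le_right fun h => ?_, fun M hle hMS => ?_⟩
  · let i₀ : Fin t := ⟨0, by omega⟩
    let i₁ : Fin t := ⟨1, by omega⟩
    let i₂ : Fin t := ⟨2, by omega⟩
    obtain ⟨x₀, hx₀, hQ₀⟩ := S.exists_value hq i₀
    obtain ⟨x₁, hx₁, hQ₁⟩ := S.exists_value hq i₁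
    obtain ⟨x, hx, hQx⟩ := S.exists_value hq i₂
    obtain ⟨l, hl, ⟨p, hp, hQp, hpx⟩, ⟨p', hp', hQp', hpx'⟩⟩ := S.disp_pair hq hx₀ (fun e => hQ₀ (by rw [e, map_zero]))
      hx₁ (fun e => hQ₁ (by rw [e, map_zero]))
    have hzc : dsp Q p x₀ ∈ D i₀ := (D i₀).neg_mem ((D i₀).smul_mem _ hp)
    have hzd : dsp Q p' x₁ ∈ D i₁ := (D i₁).neg_mem ((D i₁).smul_mem _ hp')
    have h01 : i₀ ≠ i₁ := by simp [i₀, i₁]
    have h02 : i₀ ≠ i₂ := by simp [i₀, i₂]
    have h12 : i₁ ≠ i₂ := by simp [i₁, i₂]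
    have hv0 := dsp_value hQp hpx
    have hv1 := dsp_value hQp' hpx'
    set zc := dsp Q p x₀
    set zd := dsp Q p' x₁
    have hQu : Q (zc + zd) = 0 := by rw [quad_add, hv0, hv1, S.orth h01 hzc hzd, add_neg_cancel, add_zero]
    have hux : polarBilin Q (zc + zd) x = 0 := by
      rw [map_add, LinearMap.add_apply, S.orth h02 hzc hx, S.orth h12 hzd hx, add_zero]
    obtain ⟨y, hy, hzy⟩ := S.nd hzc fun e => hl (by rw [← hv0, e, map_zero])
    obtain ⟨⟨σ, hσ⟩, -⟩ := (h.symm ▸ Orth.eichGL_mem_omega hN (by omega) hQu hux :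
      Orth.eichGL Q (zc + zd) x hQu hux ∈ Cfsg.Geo.decompositionStabilizer D ⊓ Cfsg.Geo.omegaGL ⇑Q)
    have h1 : (Orth.eichGL Q (zc + zd) x hQu hux : Matrix ι ι F) *ᵥ y ∈ D (σ i₀) :=
      hσ i₀ ▸ ⟨y, hy, Matrix.toLin'_apply _ _⟩
    have hB : polarBilin Q y (zc + zd) ≠ 0 := by
      rw [map_add, quad_polar_comm Q y zc, S.orth h01 hy hzd, add_zero]; exact hzy
    rw [Orth.eichGL_mulVec, S.orth h02 hy hx, zero_add] at h1
    by_cases hs : σ i₀ = i₂
    · rw [hs] at h1
      have h2 := S.comp_other h12 h1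
      rw [S.comp_sub, S.comp_add, S.comp_smul, S.comp_smul, S.comp_other h01.symm hy, S.comp_other h12 hx, smul_zero,
        add_zero, zero_sub, S.comp_add, S.comp_other h01.symm hzc, S.comp_self hzd, zero_add, neg_eq_zero,
        smul_eq_zero] at h2
      rcases h2 with h2 | h2
      · exact mul_ne_zero hQx hB h2
      · exact hl (neg_eq_zero.mp (by rw [← hv1, h2, map_zero]))
    · have h2 := S.comp_other (Ne.symm hs) h1
      rw [S.comp_sub, S.comp_add, S.comp_smul, S.comp_smul, S.comp_other h02.symm hy, S.comp_self hx, zero_add,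
        S.comp_add, S.comp_other h02.symm hzc, S.comp_other h12.symm hzd, add_zero, smul_zero, sub_zero,
        smul_eq_zero] at h2
      exact h2.elim hB fun h => hQx (by rw [h, map_zero])
  by_cases hMD : M ≤ Cfsg.Geo.decompositionStabilizer D
  · exact Or.inl (le_antisymm (le_inf hMD hMS) hle)
  right
  obtain ⟨g, hgM, hgs⟩ := SetLike.not_le_iff_exists.mp hMD
  have SM : Blk Q D 2 M := ⟨hN, hD, by omega, hle⟩
  exact le_antisymm hMS (SM.omega_le_of_seedTwo hq ht
    (SM.seedTwo_of_move hq ht hgM (Orth.omegaGL_le_isometry (hMS hgM)) hgs))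

end Cfsg.Agent.Lib.MaxSub.OrthBlocks
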