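import Cfsg.Agent.Lib.MaxSub.OrthBlocksTwoRoot

/-!
Two-dimensional blocks: a vector related to a block vector with two components gives a seed.
-/

set_option autoImplicit false

namespace Cfsg.Agent.Lib.MaxSub.OrthBlocks

open Matrix QuadraticMap
open Cfsg.Agent.Lib.MaxSub
open Cfsg.Agent.Lib.MaxSub.OrthSplit (InE)
open Cfsg.Agent.Lib.ThreeTransp.DecompOrth (rr rr_mulVec rr_fix)
open Cfsg.Agent.Lib.Geometry (quad_add quad_sub quad_smul quad_polar_self quad_polar_comm)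
open scoped MatrixGroups Matrix

attribute [-simp] QuadraticMap.polarBilin_apply_apply

variable {ι : Type} [Fintype ι] [DecidableEq ι] {F : Type*} [Field F] [Fintype F] {Q : QuadraticForm F (ι → F)}
  {t : ℕ} {D : Fin t → Submodule F (ι → F)} {K : Subgroup (GL ι F)} (S : Blk Q D 2 K)

omit S in
/-- The displacement of a reflection. -/
noncomputable def dsp (Q : QuadraticForm F (ι → F)) (p v : ι → F) : ι → F :=
  -(((Q p)⁻¹ * polarBilin Q p v) • p)

omit S [Fintype ι] [DecidableEq ι] [Fintype F] in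
theorem dsp_value {p v : ι → F} {l : F} (hQp : Q p ≠ 0) (h : polarBilin Q p v * polarBilin Q p v = l * Q p) :
    Q (dsp Q p v) = l := by
  rw [dsp, QuadraticMap.map_neg, quad_smul]
  field_simp
  linear_combination h

omit S [Fintype ι] [DecidableEq ι] [Fintype F] in
theorem dsp_smul {p v : ι → F} {s : F} (hs : s ≠ 0) : dsp Q (s • p) v = dsp Q p v := by
  rw [dsp, dsp, quad_smul, map_smul, LinearMap.smul_apply, smul_smul, smul_eq_mul]
  congr 2
  by_cases hQp : Q p = 0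
  · simp [hQp]
  · field_simp

include S

theorem Blk.comp_fix {g : GL ι F} {i : Fin t} {v : ι → F}
    (h : ∀ j, ∀ z ∈ D j, (g : Matrix ι ι F) *ᵥ z ∈ D j) :
    S.comp i ((g : Matrix ι ι F) *ᵥ v) = (g : Matrix ι ι F) *ᵥ S.comp i v := by
  conv_lhs => rw [← S.sum_comp v, Matrix.mulVec_sum]
  refine S.comp_eq (h i _ (S.comp_mem i v)) fun w hw => ?_
  rw [map_sum, Finset.sum_eq_single i (fun j _ hj => S.orth (Ne.symm hj) hw (h j _ (S.comp_mem j v)))
    (fun h => absurd (Finset.mem_univ i) h)]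

/-- A stabilising element of the group carries pure vectors to pure vectors. -/
theorem Blk.pure_map {v : ι → F} (hv : Pure Q D K v) {g : GL ι F} (hgK : g ∈ K)
    (hgi : g ∈ Cfsg.isometryGroup F ⇑Q) (hst : ∀ i, ∃ j, ∀ x ∈ D i, (g : Matrix ι ι F) *ᵥ x ∈ D j) :
    Pure Q D K ((g : Matrix ι ι F) *ᵥ v) := by
  obtain ⟨i, c, hc, hr⟩ := hv
  obtain ⟨j, hj⟩ := hst i
  exact ⟨j, _, hj c hc, hr.conj hgK hgi⟩

/-- A reflection pair moving one component. -/
theorem Blk.refl_image {b d : Fin t} (hbd : b ≠ d) {p : ι → F} (hp : p ∈ D b) :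
    ∃ g ∈ K, g ∈ Cfsg.isometryGroup F ⇑Q ∧ (∀ i, ∀ z ∈ D i, (g : Matrix ι ι F) *ᵥ z ∈ D i) ∧
      ∀ v, S.comp d v = 0 → (g : Matrix ι ι F) *ᵥ v = v + dsp Q p v := by
  classical
  obtain ⟨g, hgK, hgi, hgb, hgd, hgfix⟩ := S.exists_refl hbd hp
  refine ⟨g, hgK, hgi, fun i z hz => ?_, fun v hvd => ?_⟩
  · rcases eq_or_ne i b with rfl | hib
    · rw [hgb z hz]; exact (D i).sub_mem hz ((D i).smul_mem _ hp)
    rcases eq_or_ne i d with rfl | hid
    · exact hgd z hz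
    · rw [hgfix i hib hid z hz]; exact hz
  · conv_lhs => rw [← S.sum_comp v, Matrix.mulVec_sum, ← Finset.add_sum_erase _ _ (Finset.mem_univ b)]
    rw [Finset.sum_congr rfl (g := fun i => S.comp i v) fun i hi => by
      obtain ⟨hib, -⟩ := Finset.mem_erase.mp hi
      rcases eq_or_ne i d with rfl | hid
      · rw [hvd, Matrix.mulVec_zero]
      · exact hgfix i hib hid _ (S.comp_mem i v),
      hgb _ (S.comp_mem b v), S.polar_comp hp, Finset.sum_erase_eq_sub (Finset.mem_univ b), S.sum_comp, dsp]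
    abel

omit S [Fintype F] in
theorem rr_image {p q v : ι → F} (hpq : polarBilin Q p q = 0) :
    (rr Q p q : Matrix ι ι F) *ᵥ v = v + dsp Q p v + dsp Q q v := by
  rw [rr_mulVec, map_sub, map_smul, hpq, smul_zero, sub_zero, dsp, dsp]
  abel

theorem Blk.rr_block {a b : Fin t} {p q : ι → F} (hp : p ∈ D a) (hq : q ∈ D b) :
    ∀ i, ∀ z ∈ D i, (rr Q p q : Matrix ι ι F) *ᵥ z ∈ D i := by
  intro i z hz
  have key : ∀ {d : Fin t} {w x : ι → F}, w ∈ D d → x ∈ D i → x - ((Q w)⁻¹ * polarBilin Q w x) • w ∈ D i := by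
    intro d w x hw hx
    by_cases hd : d = i
    · exact (D i).sub_mem hx ((D i).smul_mem _ (hd ▸ hw))
    · rw [S.orth hd hw hx, mul_zero, zero_smul, sub_zero]; exact hx
  rw [rr_mulVec]
  exact key hp (key hq hz)

/-- Reflections in different blocks with a square ratio of values give an element of the group. -/
theorem Blk.rr_scaled {a b : Fin t} (hab : a ≠ b) {p q : ι → F} (hp : p ∈ D a) (hq : q ∈ D b) (hQp : Q p ≠ 0)
    (hQq : Q q ≠ 0) (hsq : IsSquare (Q p * Q q)) :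
    ∃ g ∈ K, g ∈ Cfsg.isometryGroup F ⇑Q ∧ (∀ i, ∀ z ∈ D i, (g : Matrix ι ι F) *ᵥ z ∈ D i) ∧
      ∀ v, (g : Matrix ι ι F) *ᵥ v = v + dsp Q p v + dsp Q q v := by
  obtain ⟨r, hr⟩ := hsq
  have hs : r / Q q ≠ 0 := div_ne_zero (fun h => mul_ne_zero hQp hQq (by rw [hr, h, mul_zero])) hQq
  have hq' : (r / Q q) • q ∈ D b := (D b).smul_mem _ hq
  have hval : Q p = Q ((r / Q q) • q) := by
    rw [quad_smul]; field_simp; linear_combination hr
  refine ⟨rr Q p ((r / Q q) • q), S.rr_mem hp hq' hval (hval ▸ hQp), Orth.toGL_mem_isometry Q _,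
    S.rr_block hp hq', fun v => ?_⟩
  rw [rr_image (S.orth hab hp hq'), dsp_smul hs]

theorem Blk.seed_of_zero_sum {v z : ι → F} (hv : Pure Q D K v) {h : GL ι F} (hhK : h ∈ K)
    (hhi : h ∈ Cfsg.isometryGroup F ⇑Q) (hst : ∀ i, ∀ x ∈ D i, (h : Matrix ι ι F) *ᵥ x ∈ D i)
    (hz : (h : Matrix ι ι F) *ᵥ v = v + z) (hQz : Q z = 0) {σ : Finset (Fin t)} (hσ : σ.card ≤ 4) {a c : Fin t}
    (ha : a ∈ σ) (hza : S.comp a z ≠ 0) (hz0 : ∀ i, i ∉ σ → S.comp i z = 0) (hc : c ∉ σ) (hvc : S.comp c v ≠ 0) :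
    SeedTwo S := by
  have hQv : Q v ≠ 0 := by obtain ⟨_, _, _, -, h0, -⟩ := id hv; exact h0
  refine ⟨σ, z, _, a, c, hσ, ha, hza, hz0, S.inE_of_pure hv hhK hhi (fun i x hx => ⟨i, hst i x hx⟩) hz hQz, hc, ?_⟩
  rw [S.comp_smul]
  exact smul_ne_zero (neg_ne_zero.mpr (inv_ne_zero hQv)) hvc

set_option maxHeartbeats 400000 in
theorem Blk.seedTwo_of_three (hq : PlaneOk Q D) (ht : 7 ≤ t) {v : ι → F} (hv : Pure Q D K v) {a b c : Fin t}
    (hab : a ≠ b) (hac : a ≠ c) (hbc : b ≠ c) (hva : S.comp a v ≠ 0) (hvb : S.comp b v ≠ 0) (hvc : S.comp c v ≠ 0) :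
    SeedTwo S := by
  classical
  obtain ⟨l, hl, ⟨pa, hpa, hQa, ha⟩, ⟨pb, hpb, hQb, hb⟩⟩ :=
    S.disp_pair hq (S.comp_mem a v) hva (S.comp_mem b v) hvb
  rw [S.polar_comp hpa] at ha
  rw [S.polar_comp hpb] at hb
  set za := dsp Q pa v with hza
  set zb := dsp Q pb v with hzb
  have hzaD : za ∈ D a := (D a).neg_mem ((D a).smul_mem _ hpa)
  have hzbD : zb ∈ D b := (D b).neg_mem ((D b).smul_mem _ hpb)
  have hQza : Q za = l := dsp_value hQa ha
  have hQzb : Q zb = -l := dsp_value hQb hb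
  have hza0 : za ≠ 0 := fun e => hl (by rw [← hQza, e, map_zero])
  have hQab : Q (za + zb) = 0 := by rw [quad_add, hQza, hQzb, S.orth hab hzaD hzbD, add_neg_cancel, add_zero]
  have hzab : ∀ i, i ∉ ({a, b} : Finset (Fin t)) → S.comp i (za + zb) = 0 := fun i hi => by
    simp only [Finset.mem_insert, Finset.mem_singleton, not_or] at hi
    rw [S.comp_add, S.comp_other hi.1 hzaD, S.comp_other hi.2 hzbD, add_zero]
  have hzaa : S.comp a (za + zb) ≠ 0 := by
    rw [S.comp_add, S.comp_self hzaD, S.comp_other hab hzbD, add_zero]; exact hza0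
  have hσ2 : ({a, b} : Finset (Fin t)).card ≤ 4 := Finset.card_le_two.trans (by norm_num)
  have hcσ : c ∉ ({a, b} : Finset (Fin t)) := by simp [Ne.symm hac, Ne.symm hbc]
  by_cases hfull : ∃ d, S.comp d v = 0
  · obtain ⟨d, hd⟩ := hfull
    have hda : a ≠ d := fun e => hva (e ▸ hd)
    have hdb : b ≠ d := fun e => hvb (e ▸ hd)
    obtain ⟨g₁, h₁K, h₁i, h₁st, h₁v⟩ := S.refl_image hdb hpb
    obtain ⟨g₂, h₂K, h₂i, h₂st, h₂v⟩ := S.refl_image hda hpa
    have himg : ((g₂ * g₁ : GL ι F) : Matrix ι ι F) *ᵥ v = v + (za + zb) := by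
      rw [Units.val_mul, ← Matrix.mulVec_mulVec, h₁v v hd, h₂v _ (by
        rw [S.comp_add, hd, ← hzb, S.comp_other (Ne.symm hdb) hzbD, add_zero]), ← hzb]
      have : dsp Q pa (v + zb) = za := by rw [hza, dsp, dsp, map_add, S.orth hab hpa hzbD, add_zero]
      rw [this]
      abel
    exact S.seed_of_zero_sum hv (K.mul_mem h₂K h₁K) ((Cfsg.isometryGroup F ⇑Q).mul_mem h₂i h₁i)
      (fun i x hx => by rw [Units.val_mul, ← Matrix.mulVec_mulVec]; exact h₂st i _ (h₁st i x hx))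
      himg hQab hσ2 (by simp) hzaa hzab hcσ hvc
  push Not at hfull
  have hBa : polarBilin Q pa v ≠ 0 := fun e => by rw [e, mul_zero] at ha; exact mul_ne_zero hl hQa ha.symm
  have hBb : polarBilin Q pb v ≠ 0 := fun e => by
    rw [e, mul_zero] at hb; exact mul_ne_zero (neg_ne_zero.mpr hl) hQb hb.symm
  have hclass : ∀ {x y : F} {p q : ι → F}, polarBilin Q p v ≠ 0 → polarBilin Q q v ≠ 0 →
      polarBilin Q p v * polarBilin Q p v = x * Q p → polarBilin Q q v * polarBilin Q q v = y * Q q →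
      IsSquare (x * y) → IsSquare (Q p * Q q) := by
    intro x y p q hp hq hx hy ⟨r, hr⟩
    have hr0 : r ≠ 0 := fun e => by
      rw [e, mul_zero] at hr
      exact mul_ne_zero (mul_ne_zero hp hp) (mul_ne_zero hq hq) (by rw [hx, hy]; linear_combination (Q p * Q q) * hr)
    exact ⟨polarBilin Q p v * polarBilin Q q v / r, by
      field_simp; linear_combination (-(Q p * Q q)) * hr - (polarBilin Q q v * polarBilin Q q v) * hx - (x * Q p) * hy⟩
  by_cases hm1 : IsSquare (-1 : F)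
  · obtain ⟨g, hgK, hgi, hgst, hgv⟩ := S.rr_scaled hab hpa hpb hQa hQb (hclass hBa hBb ha hb (by
      rw [show l * -l = -1 * (l * l) by ring]; exact hm1.mul ⟨l, rfl⟩))
    exact S.seed_of_zero_sum hv hgK hgi hgst (by rw [hgv, ← hza, ← hzb, add_assoc]) hQab hσ2 (by simp) hzaa hzab
      hcσ hvc
  obtain ⟨d, hd⟩ := exists_fin_notMem ({a, b, c} : Finset (Fin t)) (by
    have := Finset.card_le_three (a := a) (b := b) (c := c); omega)
  simp only [Finset.mem_insert, Finset.mem_singleton, not_or] at hd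
  obtain ⟨m, hm, ⟨pc, hpc, hQc, hc'⟩, ⟨pd, hpd, hQd, hd'⟩⟩ :=
    S.disp_pair hq (S.comp_mem c v) hvc (S.comp_mem d v) (hfull d)
  rw [S.polar_comp hpc] at hc'
  rw [S.polar_comp hpd] at hd'
  have hBc : polarBilin Q pc v ≠ 0 := fun e => by rw [e, mul_zero] at hc'; exact mul_ne_zero hm hQc hc'.symm
  have hBd : polarBilin Q pd v ≠ 0 := fun e => by
    rw [e, mul_zero] at hd'; exact mul_ne_zero (neg_ne_zero.mpr hm) hQd hd'.symm
  set zc := dsp Q pc v with hzc
  set zd := dsp Q pd v with hzd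
  have hzcD : zc ∈ D c := (D c).neg_mem ((D c).smul_mem _ hpc)
  have hzdD : zd ∈ D d := (D d).neg_mem ((D d).smul_mem _ hpd)
  obtain ⟨g, hgK, hgi, hgst, hgv⟩ : ∃ g ∈ K, g ∈ Cfsg.isometryGroup F ⇑Q ∧
      (∀ i, ∀ z ∈ D i, (g : Matrix ι ι F) *ᵥ z ∈ D i) ∧ (g : Matrix ι ι F) *ᵥ v = v + (za + zb + zc + zd) := by
    have hperp : ∀ {i j k : Fin t} {p x y : ι → F}, p ∈ D i → x ∈ D j → y ∈ D k → i ≠ j → i ≠ k →
        dsp Q p (v + x + y) = dsp Q p v := fun hp hx hy hij hik => by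
      rw [dsp, dsp, map_add, map_add, S.orth hij hp hx, S.orth hik hp hy, add_zero, add_zero]
    have hpair : IsSquare (l * m) ∨ IsSquare (l * -m) := by
      rcases square_cases (mul_ne_zero hl hm) with h | h | h
      · exact absurd h hm1
      · exact Or.inl h
      · exact Or.inr (by rwa [mul_neg])
    rcases hpair with h | h
    · obtain ⟨g₁, h₁K, h₁i, h₁st, h₁v⟩ := S.rr_scaled hac hpa hpc hQa hQc (hclass hBa hBc ha hc' h)
      obtain ⟨g₂, h₂K, h₂i, h₂st, h₂v⟩ := S.rr_scaled (Ne.symm hd.2.1) hpb hpd hQb hQd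
        (hclass hBb hBd hb hd' (by rwa [neg_mul_neg]))
      refine ⟨g₂ * g₁, K.mul_mem h₂K h₁K, (Cfsg.isometryGroup F ⇑Q).mul_mem h₂i h₁i, fun i x hx => by
        rw [Units.val_mul, ← Matrix.mulVec_mulVec]; exact h₂st i _ (h₁st i x hx), ?_⟩
      rw [Units.val_mul, ← Matrix.mulVec_mulVec, h₁v, h₂v, ← hza, ← hzc,
        hperp hpb hzaD hzcD hab.symm hbc, hperp hpd hzaD hzcD hd.1 hd.2.2, ← hzb, ← hzd]
      abel
    · obtain ⟨g₁, h₁K, h₁i, h₁st, h₁v⟩ := S.rr_scaled (Ne.symm hd.1) hpa hpd hQa hQd (hclass hBa hBd ha hd' h)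
      obtain ⟨g₂, h₂K, h₂i, h₂st, h₂v⟩ := S.rr_scaled hbc hpb hpc hQb hQc
        (hclass hBb hBc hb hc' (by rwa [neg_mul, ← mul_neg]))
      refine ⟨g₂ * g₁, K.mul_mem h₂K h₁K, (Cfsg.isometryGroup F ⇑Q).mul_mem h₂i h₁i, fun i x hx => by
        rw [Units.val_mul, ← Matrix.mulVec_mulVec]; exact h₂st i _ (h₁st i x hx), ?_⟩
      rw [Units.val_mul, ← Matrix.mulVec_mulVec, h₁v, h₂v, ← hza, ← hzd,
        hperp hpb hzaD hzdD hab.symm (Ne.symm hd.2.1), hperp hpc hzaD hzdD hac.symm (Ne.symm hd.2.2), ← hzb, ← hzc]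
      abel
  obtain ⟨e, he⟩ := exists_fin_notMem ({a, b, c, d} : Finset (Fin t)) (by
    have := Finset.card_le_four (a := a) (b := b) (c := c) (d := d); omega)
  refine S.seed_of_zero_sum hv hgK hgi hgst hgv ?_ Finset.card_le_four (a := a) (by simp) ?_ (fun i hi => ?_) he
    (hfull e)
  · rw [quad_add, quad_add, quad_add, hQza, hQzb, dsp_value hQc hc', dsp_value hQd hd']
    simp only [map_add, LinearMap.add_apply, S.orth hab hzaD hzbD, S.orth hac hzaD hzcD,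
      S.orth hbc hzbD hzcD, S.orth (Ne.symm hd.1) hzaD hzdD, S.orth (Ne.symm hd.2.1) hzbD hzdD,
      S.orth (Ne.symm hd.2.2) hzcD hzdD]
    ring
  · rw [S.comp_add, S.comp_add, S.comp_add, S.comp_self hzaD, S.comp_other hab hzbD, S.comp_other hac hzcD,
      S.comp_other (Ne.symm hd.1) hzdD, add_zero, add_zero, add_zero]
    exact hza0
  · simp only [Finset.mem_insert, Finset.mem_singleton, not_or] at hi
    rw [S.comp_add, S.comp_add, S.comp_add, S.comp_other hi.1 hzaD, S.comp_other hi.2.1 hzbD,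
      S.comp_other hi.2.2.1 hzcD, S.comp_other hi.2.2.2 hzdD, add_zero, add_zero, add_zero]

set_option maxHeartbeats 400000 in
/-- A pure vector with two components gives a seed. -/
theorem Blk.seedTwo_of_pure (hq : PlaneOk Q D) (ht : 7 ≤ t) {v : ι → F} (hv : Pure Q D K v)
    (h2c : ∃ i j, i ≠ j ∧ S.comp i v ≠ 0 ∧ S.comp j v ≠ 0) : SeedTwo S := by
  classical
  obtain ⟨a, b, hab, hva, hvb⟩ := h2c
  by_cases h3 : ∃ c, c ≠ a ∧ c ≠ b ∧ S.comp c v ≠ 0
  · obtain ⟨c, hca, hcb, hvc⟩ := h3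
    exact S.seedTwo_of_three hq ht hv hab hca.symm hcb.symm hva hvb hvc
  push Not at h3
  obtain ⟨c, hc⟩ := exists_fin_notMem ({a, b} : Finset (Fin t)) (by
    have := Finset.card_le_two (a := a) (b := b); omega)
  simp only [Finset.mem_insert, Finset.mem_singleton, not_or] at hc
  obtain ⟨d, hd⟩ := exists_fin_notMem ({a, b, c} : Finset (Fin t)) (by
    have := Finset.card_le_three (a := a) (b := b) (c := c); omega)
  simp only [Finset.mem_insert, Finset.mem_singleton, not_or] at hd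
  obtain ⟨e, he⟩ := exists_fin_notMem ({a, b, c, d} : Finset (Fin t)) (by
    have := Finset.card_le_four (a := a) (b := b) (c := c) (d := d); omega)
  simp only [Finset.mem_insert, Finset.mem_singleton, not_or] at he
  obtain ⟨g, hgK, hgi, hga, hgb, hgc, hgfix⟩ := S.exists_cycle hab (Ne.symm hc.1) (Ne.symm hc.2)
  have hv2 : v = S.comp a v + S.comp b v := by
    conv_lhs => rw [← S.sum_comp v]
    refine Finset.sum_eq_add a b hab (fun i _ hi => ?_) (fun h => absurd (Finset.mem_univ a) h)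
      (fun h => absurd (Finset.mem_univ b) h)
    exact h3 i hi.1 hi.2
  set x := (g : Matrix ι ι F) *ᵥ S.comp a v with hx
  set y := (g : Matrix ι ι F) *ᵥ S.comp b v with hy
  have hxb : x ∈ D b := hga _ (S.comp_mem a v)
  have hyc : y ∈ D c := hgb _ (S.comp_mem b v)
  have hinj : ∀ w, (g : Matrix ι ι F) *ᵥ w = 0 → w = 0 := fun w h => by
    have := congrArg (fun u => ((g⁻¹ : GL ι F) : Matrix ι ι F) *ᵥ u) h
    simpa [Matrix.mulVec_mulVec, ← Units.val_mul] using this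
  have hw : Pure Q D K (x + y) := by
    rw [hx, hy, ← Matrix.mulVec_add, ← hv2]
    refine S.pure_map hv hgK hgi fun i => ?_
    rcases eq_or_ne i a with rfl | hia
    · exact ⟨b, hga⟩
    rcases eq_or_ne i b with rfl | hib
    · exact ⟨c, hgb⟩
    rcases eq_or_ne i c with rfl | hic
    · exact ⟨a, hgc⟩
    exact ⟨i, fun z hz => by rw [hgfix i hia hib hic z hz]; exact hz⟩
  set z := S.comp b v with hz
  have hzD : z ∈ D b := S.comp_mem b v
  -- make the middle component neither orthogonal nor proportional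
  obtain ⟨x', hx', hw', hzx, hx'z⟩ : ∃ x' ∈ D b, Pure Q D K (x' + y) ∧ polarBilin Q z x' ≠ 0 ∧ x' ∉ F ∙ z := by
    by_cases hbad : polarBilin Q z x = 0 ∨ x ∈ F ∙ z
    · obtain ⟨p, hp, hQp, h1, h2⟩ := S.exists_move hq hxb (fun h => hva (hinj _ h)) hzD hvb hbad
      obtain ⟨r, hrK, hri, hrst, hrv⟩ := S.refl_image (Ne.symm hd.2.1) hp
      refine ⟨_, (D b).sub_mem hxb ((D b).smul_mem _ hp), ?_, h1, h2⟩
      have h := S.pure_map hw hrK hri fun i => ⟨i, hrst i⟩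
      rw [hrv (x + y) (by rw [S.comp_add, S.comp_other hd.2.1 hxb, S.comp_other hd.2.2 hyc, add_zero]), dsp,
        map_add, S.orth (Ne.symm hc.2) hp hyc, add_zero] at h
      convert h using 1
      abel
    · rw [not_or] at hbad
      exact ⟨x, hxb, hw, hbad.1, hbad.2⟩
  -- a reflection pair through `v` gives a third component
  obtain ⟨i, c₀, hc₀, hrel⟩ := id hv
  obtain ⟨φ, hφ⟩ := S.hD.isometric i d
  obtain ⟨j, c₁, hc₁, hrel₁⟩ := hw'
  obtain ⟨ψ, hψ⟩ := S.hD.isometric j e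
  set cd : ι → F := (φ ⟨c₀, hc₀⟩ : ι → F) with hcd'
  set ce : ι → F := (ψ ⟨c₁, hc₁⟩ : ι → F) with hce'
  have hcdD : cd ∈ D d := (φ ⟨c₀, hc₀⟩).2
  have hceD : ce ∈ D e := (ψ ⟨c₁, hc₁⟩).2
  have hQcd : Q cd = Q c₀ := hφ ⟨c₀, hc₀⟩
  have hQce : Q ce = Q c₁ := hψ ⟨c₁, hc₁⟩
  have hrel' : Rel Q K v cd := hrel.trans (S.rel_block hc₀ hcdD hQcd.symm (hQcd ▸ hrel.1 ▸ hrel.2.1))
  have hrel₁' : Rel Q K (x' + y) ce := hrel₁.trans (S.rel_block hc₁ hceD hQce.symm (hQce ▸ hrel₁.1 ▸ hrel₁.2.1))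
  have hvd : polarBilin Q v cd = 0 := by
    rw [hv2, map_add, LinearMap.add_apply, S.orth (Ne.symm hd.1) (S.comp_mem a v) hcdD,
      S.orth (Ne.symm hd.2.1) (S.comp_mem b v) hcdD, add_zero]
  have hve : polarBilin Q v ce = 0 := by
    rw [hv2, map_add, LinearMap.add_apply, S.orth (Ne.symm he.1) (S.comp_mem a v) hceD,
      S.orth (Ne.symm he.2.1) (S.comp_mem b v) hceD, add_zero]
  have h := hrel₁'.conj hrel'.2.2 (Orth.toGL_mem_isometry Q _)
  rw [rr_fix hve (S.orth (Ne.symm he.2.2.2) hcdD hceD), rr_mulVec, map_add (polarBilin Q cd), S.orth hd.2.1 hcdD hx',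
    S.orth hd.2.2 hcdD hyc, add_zero, mul_zero, zero_smul, sub_zero] at h
  set κ := (Q v)⁻¹ * polarBilin Q v (x' + y) with hκ
  have hκ0 : κ ≠ 0 := by
    refine mul_ne_zero (inv_ne_zero hrel.2.1) ?_
    rw [hv2, map_add (polarBilin Q (S.comp a v + z)), map_add (polarBilin Q), LinearMap.add_apply, LinearMap.add_apply, S.orth hab (S.comp_mem a v) hx',
      S.orth (Ne.symm hc.1) (S.comp_mem a v) hyc, S.orth (Ne.symm hc.2) hzD hyc, add_zero, zero_add, add_zero]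
    exact hzx
  refine S.seedTwo_of_three hq ht ⟨e, ce, hceD, h⟩ hab (Ne.symm hc.1) (Ne.symm hc.2) ?_ ?_ ?_
  · rw [S.comp_sub, S.comp_add, S.comp_smul, S.comp_other hab hx', S.comp_other (Ne.symm hc.1) hyc, add_zero, zero_sub]
    exact neg_ne_zero.mpr (smul_ne_zero hκ0 hva)
  · rw [S.comp_sub, S.comp_add, S.comp_smul, S.comp_self hx', S.comp_other (Ne.symm hc.2) hyc, add_zero]
    intro h0
    exact hx'z (Submodule.mem_span_singleton.mpr ⟨κ, (sub_eq_zero.mp h0).symm⟩)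
  · rw [S.comp_sub, S.comp_add, S.comp_smul, S.comp_other hc.2 hx', S.comp_self hyc, zero_add, h3 c hc.1 hc.2,
      smul_zero, sub_zero]
    exact fun h0 => hvb (hinj _ h0)

end Cfsg.Agent.Lib.MaxSub.OrthBlocks
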