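import Cfsg.Agent.Lib.MaxSub.OrthBlocksPlane

/-!
Two-dimensional blocks: a centre with few components gives all of `omegaGL`.
-/

set_option autoImplicit false

namespace Cfsg.Agent.Lib.MaxSub.OrthBlocks

open Matrix QuadraticMap
open Cfsg.Agent.Lib.MaxSub
open Cfsg.Agent.Lib.MaxSub.OrthSplit (InE)
open Cfsg.Agent.Lib.ThreeTransp.DecompOrth (rr rr_mulVec rr_fix inE_zero inE_add inE_neg inE_flip)
open Cfsg.Agent.Lib.Geometry (quad_add quad_sub quad_smul quad_polar_self quad_polar_comm)
open scoped MatrixGroups Matrix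

attribute [-simp] QuadraticMap.polarBilin_apply_apply

variable {ι : Type} [Fintype ι] [DecidableEq ι] {F : Type*} [Field F] [Fintype F] {Q : QuadraticForm F (ι → F)}
  {t : ℕ} {D : Fin t → Submodule F (ι → F)} {K : Subgroup (GL ι F)}

omit [Fintype ι] [DecidableEq ι] in
/-- A multiplicatively closed additive subgroup containing one, of at least half the field, is the field. -/
theorem subgroup_top_of_half (A : AddSubgroup F) (hone : (1 : F) ∈ A) (hmul : ∀ a ∈ A, ∀ b ∈ A, a * b ∈ A)
    (T : Finset F) (hT : ∀ a ∈ T, a ∈ A) (hhalf : Fintype.card F ≤ 2 * T.card)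
    (hthree : 3 ≤ T.card ∨ Fintype.card F ≤ T.card) : A = ⊤ := by
  classical
  by_contra hA
  obtain ⟨x, hx⟩ : ∃ x, x ∉ A := by
    by_contra! h
    exact hA (eq_top_iff.mpr fun x _ => h x)
  set U := Finset.univ.filter fun a : F => a ∈ A with hU
  have hTU : T.card ≤ U.card := Finset.card_le_card fun a ha => by simp [hU, hT a ha]
  have hdisj : Disjoint U (U.image fun a => x + a) := by
    rw [Finset.disjoint_left]
    intro a ha ha'
    obtain ⟨b, hb, rfl⟩ := Finset.mem_image.mp ha'
    simp only [hU, Finset.mem_filter] at ha hb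
    exact hx (by simpa using A.sub_mem ha.2 hb.2)
  have hunion : U ∪ (U.image fun a => x + a) = Finset.univ := by
    refine Finset.eq_univ_of_card _ (le_antisymm (Finset.card_le_univ _) ?_)
    rw [Finset.card_union_of_disjoint hdisj, Finset.card_image_of_injective _ (add_right_injective x)]
    omega
  rcases hthree with h3 | hall
  swap
  · have hU' : U = Finset.univ := Finset.eq_univ_of_card _ (le_antisymm (Finset.card_le_univ _) (hall.trans hTU))
    exact hx (Finset.mem_filter.mp (hU' ▸ Finset.mem_univ x : x ∈ U)).2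
  obtain ⟨s, hs, hs'⟩ := Finset.exists_mem_notMem_of_card_lt_card
    (lt_of_le_of_lt (Finset.card_le_two (a := (0 : F)) (b := 1)) (lt_of_lt_of_le h3 hTU))
  simp only [Finset.mem_insert, Finset.mem_singleton, not_or] at hs'
  have hsA : s ∈ A := (Finset.mem_filter.mp hs).2
  -- multiplication by a non-zero member fixes the subgroup, hence also its complement
  have key : ∀ r ∈ A, r ≠ 0 → x * r ∉ A := by
    intro r hr hr0 hxr
    have himg : U.image (fun a => r * a) = U := by
      refine Finset.eq_of_subset_of_card_le (fun a ha => ?_)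
        (Finset.card_image_of_injective _ (mul_right_injective₀ hr0)).ge
      obtain ⟨b, hb, rfl⟩ := Finset.mem_image.mp ha
      simp only [hU, Finset.mem_filter] at hb ⊢
      exact ⟨Finset.mem_univ _, hmul r hr b hb.2⟩
    have hmem : x * r ∈ U.image (fun a => r * a) := by rw [himg]; simp [hU, hxr]
    obtain ⟨b, hb, hbx⟩ := Finset.mem_image.mp hmem
    exact hx (mul_left_cancel₀ hr0 (hbx.trans (mul_comm x r)) ▸ (Finset.mem_filter.mp hb).2)
  have hcoset : x * s - x ∈ A := by
    have hm : x * s ∈ U ∪ U.image (fun a => x + a) := by rw [hunion]; exact Finset.mem_univ _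
    rcases Finset.mem_union.mp hm with h | h
    · exact absurd (Finset.mem_filter.mp h).2 (key s hsA hs'.1)
    · obtain ⟨b, hb, hbx⟩ := Finset.mem_image.mp h
      rw [← hbx, add_sub_cancel_left]
      exact (Finset.mem_filter.mp hb).2
  refine key (s - 1) (A.sub_mem hsA hone) (sub_ne_zero.mpr hs'.2) ?_
  rwa [mul_sub, mul_one]

variable (S : Blk Q D 2 K)
include S

/-- An element fixing the blocks of the components of a vector fixes the vector. -/
theorem Blk.fix_of (g : GL ι F) (u : ι → F)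
    (h : ∀ i, S.comp i u ≠ 0 → ∀ z ∈ D i, (g : Matrix ι ι F) *ᵥ z = z) : (g : Matrix ι ι F) *ᵥ u = u := by
  conv_rhs => rw [← S.sum_comp u]
  conv_lhs => rw [← S.sum_comp u, Matrix.mulVec_sum]
  refine Finset.sum_congr rfl fun i _ => ?_
  by_cases hi : S.comp i u = 0
  · rw [hi, Matrix.mulVec_zero]
  · exact h i hi _ (S.comp_mem i u)

/-- A product of two reflections of a block fixing no non-zero vector of it. -/
theorem Blk.exists_free (hq : PlaneOk Q D) (c : Fin t) :
    ∃ g ∈ K, g ∈ Cfsg.isometryGroup F ⇑Q ∧ (∀ z ∈ D c, (g : Matrix ι ι F) *ᵥ z ∈ D c) ∧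
      (∀ z ∈ D c, (g : Matrix ι ι F) *ᵥ z = z → z = 0) ∧ (∀ z ∈ D c, (g : Matrix ι ι F) *ᵥ z = -z → (2 : F) • z = 0) ∧
        ∀ i, i ≠ c → ∀ z ∈ D i, (g : Matrix ι ι F) *ᵥ z = z := by
  obtain ⟨p, hp, hQp⟩ := S.exists_value hq c
  obtain ⟨p', hp', hQp', hpp', hp'p⟩ := S.exists_twin hq hp hQp
  have hp0 : p ≠ 0 := fun e => hQp (by rw [e, map_zero])
  have hQp'0 : Q p' ≠ 0 := hQp' ▸ hQp
  refine ⟨rr Q p p', S.rr_mem hp hp' hQp'.symm hQp'0, Orth.toGL_mem_isometry Q _, fun z hz => ?_, fun z hz hfix => ?_,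
    fun z hz hneg => ?_, fun i hi z hz => rr_fix (S.orth hi.symm hp hz) (S.orth hi.symm hp' hz)⟩
  · rw [rr_mulVec]
    exact (D c).sub_mem ((D c).sub_mem hz ((D c).smul_mem _ hp')) ((D c).smul_mem _ hp)
  · rw [rr_mulVec] at hfix
    set μ' := (Q p')⁻¹ * polarBilin Q p' z with hμ'
    set μ := (Q p)⁻¹ * polarBilin Q p (z - μ' • p') with hμ
    have h : μ' • p' + μ • p = 0 := by
      calc μ' • p' + μ • p = z - (z - μ' • p' - μ • p) := by abel
        _ = 0 := by rw [hfix, sub_self]
    have hμ'0 : μ' = 0 := by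
      by_contra hne
      refine hp'p (Submodule.mem_span_singleton.mpr ⟨-(μ / μ'), ?_⟩)
      have h' : μ' • p' = -(μ • p) := eq_neg_of_add_eq_zero_left h
      rw [div_eq_inv_mul, neg_smul, ← smul_smul, ← smul_neg, ← h', smul_smul, inv_mul_cancel₀ hne, one_smul]
    rw [hμ'0, zero_smul, zero_add, smul_eq_zero] at h
    have hμ0 : μ = 0 := h.resolve_right hp0
    have h1 : polarBilin Q p z = 0 := by
      rw [hμ, hμ'0, zero_smul, sub_zero, mul_eq_zero] at hμ0
      exact hμ0.resolve_left (inv_ne_zero hQp)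
    have h2 : polarBilin Q p' z = 0 := by
      rw [hμ', mul_eq_zero] at hμ'0
      exact hμ'0.resolve_left (inv_ne_zero hQp'0)
    exact S.eq_zero_of_perp hp hp' hp0 hp'p hz (by rw [quad_polar_comm, h1]) (by rw [quad_polar_comm, h2])
  · rw [rr_mulVec] at hneg
    set μ' := (Q p')⁻¹ * polarBilin Q p' z with hμ'
    set μ := (Q p)⁻¹ * polarBilin Q p (z - μ' • p') with hμ
    have h : (2 : F) • z = μ' • p' + μ • p := by
      rw [two_smul]
      calc z + z = z - (-z) := by abel
        _ = z - (z - μ' • p' - μ • p) := by rw [hneg]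
        _ = μ' • p' + μ • p := by abel
    have e1 := congrArg (polarBilin Q p) h
    simp only [map_add, map_smul, quad_polar_self, smul_eq_mul] at e1
    have hμe : μ * Q p = polarBilin Q p z - μ' * polarBilin Q p p' := by
      rw [hμ, map_sub, map_smul, smul_eq_mul]
      field_simp
    have hμ'0 : μ' = 0 := by
      refine (mul_eq_zero.mp ?_).resolve_right hpp'
      linear_combination e1 + 2 * hμe
    have e2 := congrArg (polarBilin Q p') h
    rw [hμ'0, zero_smul, zero_add, map_smul, map_smul] at e2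
    have hz' : polarBilin Q p' z = 0 := by
      rw [hμ', mul_eq_zero] at hμ'0
      exact hμ'0.resolve_left (inv_ne_zero hQp'0)
    rw [hz', smul_zero, smul_eq_mul, quad_polar_comm Q p' p] at e2
    rw [h, hμ'0, (mul_eq_zero.mp e2.symm).resolve_right hpp', zero_smul, zero_smul, add_zero]

/-- A centre having a component in a block, and none in two blocks, has the whole block. -/
theorem Blk.full_two (hq : PlaneOk Q D) {c d : Fin t} (hcd : c ≠ d) {u x : ι → F} (huc : S.comp c u = 0)
    (hud : S.comp d u = 0) (h : InE Q K u x) (hx : S.comp c x ≠ 0) : ∀ z ∈ D c, InE Q K u z := by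
  classical
  obtain ⟨g, hgK, hgi, hgc, hfree, -, hgfix⟩ := S.exists_free hq c
  have hgu : (g : Matrix ι ι F) *ᵥ u = u := S.fix_of g u fun i hi z hz => hgfix i (fun e => hi (e ▸ huc)) z hz
  set z₁ := (g : Matrix ι ι F) *ᵥ S.comp c x - S.comp c x with hz₁
  have hz₁D : z₁ ∈ D c := (D c).sub_mem (hgc _ (S.comp_mem c x)) (S.comp_mem c x)
  have hz₁0 : z₁ ≠ 0 := fun e => hx (hfree _ (S.comp_mem c x) (sub_eq_zero.mp e))
  have hz₁E : InE Q K u z₁ := by
    have h1 := (h.conj hgK hgi).sub (x' := x)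
    rw [hgu, S.image_of_fix hgfix x] at h1
    convert h1 h using 1
    rw [hz₁]
    abel
  have hrefl : ∀ p ∈ D c, ∀ z ∈ D c, InE Q K u z → InE Q K u (((Q p)⁻¹ * polarBilin Q p z) • p) := by
    intro p hp z hz hzE
    obtain ⟨r, hrK, hri, hrc, -, hrfix⟩ := S.exists_refl hcd hp
    have h1 := hzE.conj hrK hri
    rw [S.fix_of r u (fun i hi w hw => hrfix i (fun e => hi (e ▸ huc)) (fun e => hi (e ▸ hud)) w hw), hrc z hz] at h1
    simpa using hzE.sub h1
  have hline : ∀ p ∈ D c, Q p ≠ 0 → polarBilin Q p z₁ ≠ 0 → ∀ l : F, InE Q K u (l • p) := by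
    intro p hp hQp hpz
    let A : AddSubgroup F :=
      { carrier := {a | ∀ b : F, InE Q K u (b • p) → InE Q K u ((a * b) • p)}
        add_mem' := fun {a a'} ha ha' b hb => by rw [add_mul, add_smul]; exact inE_add (ha b hb) (ha' b hb)
        zero_mem' := fun b hb => by rw [zero_mul, zero_smul]; exact inE_zero hb
        neg_mem' := fun {a} ha b hb => by rw [neg_mul, neg_smul]; exact inE_neg (ha b hb) }
    obtain ⟨T, hT, hT1, hT2⟩ := S.disp_many hp hQp
    have hsub : ∀ a ∈ insert (0 : F) (T.image fun l => l / Q p), a ∈ A := by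
      intro a ha
      rcases Finset.mem_insert.mp ha with rfl | ha
      · exact A.zero_mem
      obtain ⟨l, hl, rfl⟩ := Finset.mem_image.mp ha
      obtain ⟨-, q, hq', hQq, hqp⟩ := hT l hl
      intro b hb
      have h1 := hrefl q hq' _ ((D c).smul_mem _ hp) hb
      have h2 := hrefl p hp _ ((D c).smul_mem _ hq') h1
      convert h2 using 2
      rw [map_smul, map_smul, smul_eq_mul, smul_eq_mul, quad_polar_comm Q p q]
      field_simp
      linear_combination (-b) * hqp
    have hAcard : (insert (0 : F) (T.image fun l => l / Q p)).card = T.card + 1 := by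
      rw [Finset.card_insert_of_notMem, Finset.card_image_of_injective _ fun a b hab => by
        simpa [div_left_inj' hQp] using hab]
      simp only [Finset.mem_image, div_eq_zero_iff, not_exists, not_and, not_or]
      exact fun l hl => ⟨(hT l hl).1, hQp⟩
    have htop : A = ⊤ := by
      refine subgroup_top_of_half A (fun b hb => by rwa [one_mul]) (fun a ha a' ha' b hb => by
        rw [mul_assoc]; exact ha _ (ha' b hb)) _ hsub (by omega) ?_
      rcases hq.2 with hani | h7
      · have h2 := hT2 (hani c)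
        have := hq.1
        omega
      · left; omega
    intro l
    have h0 := hrefl p hp z₁ hz₁D hz₁E
    set b₀ := (Q p)⁻¹ * polarBilin Q p z₁ with hb₀
    have hb₀0 : b₀ ≠ 0 := mul_ne_zero (inv_ne_zero hQp) hpz
    have hl : l / b₀ ∈ A := by rw [htop]; trivial
    have := hl b₀ h0
    rwa [div_mul_cancel₀ _ hb₀0] at this
  obtain ⟨p, hp, hQp, hpz, -⟩ := S.exists_both hq hz₁D hz₁0 hz₁D hz₁0
  obtain ⟨o, ho, ho0, hpo⟩ := S.exists_perp c p
  obtain ⟨p₂, hp₂, hQp₂, hp₂z, hp₂o⟩ := S.exists_both hq hz₁D hz₁0 ho ho0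
  have hp0 : p ≠ 0 := fun e => hQp (by rw [e, map_zero])
  have hind : p₂ ∉ F ∙ p := fun h => by
    obtain ⟨l, rfl⟩ := Submodule.mem_span_singleton.mp h
    exact hp₂o (by rw [map_smul, LinearMap.smul_apply, hpo, smul_zero])
  intro z hz
  obtain ⟨α, β, rfl⟩ := S.expand hp hp₂ hp0 hind hz
  exact inE_add (hline p hp hQp hpz α) (hline p₂ hp₂ hQp₂ hp₂z β)

omit S in
/-- A centre supported on at most four blocks with a vector having a further component. -/
def SeedTwo (S : Blk Q D 2 K) : Prop :=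
  ∃ (σ : Finset (Fin t)) (u x : ι → F) (a c : Fin t), σ.card ≤ 4 ∧ a ∈ σ ∧ S.comp a u ≠ 0 ∧
    (∀ i, i ∉ σ → S.comp i u = 0) ∧ InE Q K u x ∧ c ∉ σ ∧ S.comp c x ≠ 0

omit [Fintype F] S in
theorem exists_fin_notMem {t : ℕ} (s : Finset (Fin t)) (h : s.card < t) : ∃ i, i ∉ s := by
  by_contra! hc
  have := Finset.card_le_card (fun i _ => hc i : Finset.univ ⊆ s)
  rw [Finset.card_univ, Fintype.card_fin] at this
  omega

/-- A singular vector of two blocks outside the seed is a root. -/
theorem Blk.root_of_seed (hq : PlaneOk Q D) (ht : 7 ≤ t) {σ : Finset (Fin t)} {u : ι → F} {a c d : Fin t}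
    (ha : a ∈ σ) (hua : S.comp a u ≠ 0) (hu0 : ∀ i, i ∉ σ → S.comp i u = 0)
    (hout : ∀ i, i ∉ σ → ∀ z ∈ D i, InE Q K u z) (hc : c ∉ σ) (hd : d ∉ σ) (hcd : c ≠ d)
    {zc zd : ι → F} (hzc : zc ∈ D c) (hzd : zd ∈ D d) (hzc0 : zc ≠ 0) (hy : Q zc + Q zd = 0) :
    Orth.Root Q K (zc + zd) := by
  classical
  set y := zc + zd with hydef
  have hQy : Q y = 0 := by rw [hydef, quad_add, S.orth hcd hzc hzd, hy, add_zero]
  have hyother : ∀ i, i ≠ c → i ≠ d → S.comp i y = 0 := fun i hic hid => by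
    rw [hydef, S.comp_add, S.comp_other hic hzc, S.comp_other hid hzd, add_zero]
  have huy : InE Q K u y := inE_add (hout c hc zc hzc) (hout d hd zd hzd)
  have hyu : InE Q K y (-u) := inE_flip huy hQy
  have hac : a ≠ c := fun e => hc (e ▸ ha)
  have had : a ≠ d := fun e => hd (e ▸ ha)
  obtain ⟨b, hb⟩ := exists_fin_notMem ({a, c, d} : Finset (Fin t)) (by
    have := Finset.card_le_three (a := a) (b := c) (c := d); omega)
  simp only [Finset.mem_insert, Finset.mem_singleton, not_or] at hb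
  have hA : ∀ z ∈ D a, InE Q K y z := S.full_two hq (Ne.symm hb.1) (hyother a hac had) (hyother b hb.2.1 hb.2.2) hyu
    (by rw [S.comp_neg]; exact neg_ne_zero.mpr hua)
  have hall : ∀ i, i ≠ c → i ≠ d → ∀ z ∈ D i, InE Q K y z := by
    intro i hic hid z hz
    by_cases hia : i = a
    · exact hA z (hia ▸ hz)
    obtain ⟨h, hh⟩ := exists_fin_notMem ({a, i, c, d} : Finset (Fin t)) (by
      have := Finset.card_le_four (a := a) (b := i) (c := c) (d := d); omega)
    simp only [Finset.mem_insert, Finset.mem_singleton, not_or] at hh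
    obtain ⟨g, hgK, hgi, hga, -, -, hgfix⟩ := S.exists_cycle (Ne.symm hia) (Ne.symm hh.1) (Ne.symm hh.2.1)
    obtain ⟨z₀, hz₀, rfl⟩ := S.onto g hga z hz
    have hgy : (g : Matrix ι ι F) *ᵥ y = y := by
      refine S.fix_of g y fun j hj => ?_
      have hj' : j = c ∨ j = d := by
        by_contra! hne
        exact hj (hyother j hne.1 hne.2)
      rcases hj' with rfl | rfl
      · exact hgfix j (Ne.symm hac) (Ne.symm hic) (Ne.symm hh.2.2.1)
      · exact hgfix j (Ne.symm had) (Ne.symm hid) (Ne.symm hh.2.2.2)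
    have := (hA z₀ hz₀).conj hgK hgi
    rwa [hgy] at this
  have hsum : ∀ v, S.comp c v = 0 → S.comp d v = 0 → InE Q K y v := by
    intro v hvc hvd
    have hpart : ∀ i, InE Q K y (S.comp i v) := fun i => by
      by_cases hic : i = c
      · rw [hic, hvc]; exact inE_zero hyu
      by_cases hid : i = d
      · rw [hid, hvd]; exact inE_zero hyu
      exact hall i hic hid _ (S.comp_mem i v)
    have hs : ∀ s : Finset (Fin t), InE Q K y (∑ i ∈ s, S.comp i v) := fun s => by
      induction s using Finset.induction_on with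
      | empty => simpa using inE_zero hyu
      | insert b s hb ih => rw [Finset.sum_insert hb]; exact inE_add (hpart b) ih
    have := hs Finset.univ
    rwa [S.sum_comp] at this
  obtain ⟨xa, hxa, hxu, -⟩ := S.exists_dual_indep (S.comp_mem a u) hua
  have hxau : polarBilin Q xa u = 1 := by rw [← S.polar_comp hxa, quad_polar_comm, hxu]
  have hW : ∀ wc ∈ D c, ∀ wd ∈ D d, polarBilin Q y (wc + wd) = 0 → InE Q K y (wc + wd) := by
    intro wc hwc wd hwd hyw
    obtain ⟨_, huw, hm⟩ := inE_add (hout c hc wc hwc) (hout d hd wd hwd)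
    have h1 := (hA xa hxa).conj hm (Orth.toGL_mem_isometry Q _)
    have e1 : polarBilin Q y u = 0 := by rw [quad_polar_comm, huy.2.1]
    have e2 : polarBilin Q xa (wc + wd) = 0 := by rw [map_add, S.orth hac hxa hwc, S.orth had hxa hwd, add_zero]
    rw [Orth.eichGL_mulVec, Orth.eichGL_mulVec, e1, hyw, hxau, e2] at h1
    simp only [zero_smul, add_zero, mul_zero, one_smul, mul_one, zero_add, sub_zero] at h1
    have h2 := (h1.sub (hA xa hxa))
    have h3 : InE Q K y (Q (wc + wd) • u) := hsum _ (by rw [S.comp_smul, hu0 c hc, smul_zero])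
      (by rw [S.comp_smul, hu0 d hd, smul_zero])
    have h4 := inE_add h2 h3
    convert h4 using 1
    abel
  refine ⟨hQy, fun z hz => ?_⟩
  set r := z - (S.comp c z + S.comp d z) with hr
  have hrc : S.comp c r = 0 := by
    rw [hr, S.comp_sub, S.comp_add, S.comp_self (S.comp_mem c z), S.comp_other hcd (S.comp_mem d z), add_zero, sub_self]
  have hrd : S.comp d r = 0 := by
    rw [hr, S.comp_sub, S.comp_add, S.comp_self (S.comp_mem d z), S.comp_other hcd.symm (S.comp_mem c z), zero_add,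
      sub_self]
  have hyr : polarBilin Q y r = 0 := by
    rw [hydef, map_add, LinearMap.add_apply, ← S.polar_comp hzc, ← S.polar_comp hzd, hrc, hrd, map_zero, map_zero,
      add_zero]
  have hyz : polarBilin Q y (S.comp c z + S.comp d z) = 0 := by
    rw [hr, map_sub, hz, zero_sub, neg_eq_zero] at hyr
    exact hyr
  have hfin := inE_add (hW _ (S.comp_mem c z) _ (S.comp_mem d z) hyz) (hsum r hrc hrd)
  rw [hr, add_sub_cancel] at hfin
  obtain ⟨_, _, hm⟩ := hfin
  exact hm

/-- A seed gives all of `omegaGL`. -/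
theorem Blk.omega_le_of_seedTwo (hq : PlaneOk Q D) (ht : 7 ≤ t) (h : SeedTwo S) : Cfsg.Geo.omegaGL ⇑Q ≤ K := by
  classical
  obtain ⟨σ, u, x, a, c, hσ, ha, hua, hu0, hux, hc, hx⟩ := h
  obtain ⟨d, hd⟩ := exists_fin_notMem (insert c σ) (by have := Finset.card_insert_le c σ; omega)
  simp only [Finset.mem_insert, not_or] at hd
  have hC : ∀ z ∈ D c, InE Q K u z := S.full_two hq (Ne.symm hd.1) (hu0 c hc) (hu0 d hd.2) hux hx
  have hout : ∀ i, i ∉ σ → ∀ z ∈ D i, InE Q K u z := by
    intro i hi z hz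
    by_cases hic : i = c
    · exact hC z (hic ▸ hz)
    obtain ⟨h, hh⟩ := exists_fin_notMem (insert c (insert i σ)) (by
      have := Finset.card_insert_le c (insert i σ); have := Finset.card_insert_le i σ; omega)
    simp only [Finset.mem_insert, not_or] at hh
    obtain ⟨g, hgK, hgi, hgc, -, -, hgfix⟩ := S.exists_cycle (Ne.symm hic) (Ne.symm hh.1) (Ne.symm hh.2.1)
    obtain ⟨z₀, hz₀, rfl⟩ := S.onto g hgc z hz
    have hgu : (g : Matrix ι ι F) *ᵥ u = u := S.fix_of g u fun j hj => by
      have hjσ : j ∈ σ := by by_contra hne; exact hj (hu0 j hne)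
      exact hgfix j (fun e => hc (e ▸ hjσ)) (fun e => hi (e ▸ hjσ)) (fun e => hh.2.2 (e ▸ hjσ))
    have := (hC z₀ hz₀).conj hgK hgi
    rwa [hgu] at this
  obtain ⟨x₁, hx₁, hQx₁⟩ := S.exists_value hq c
  obtain ⟨x₂, hx₂, hQx₂⟩ := S.exists_value hq d
  obtain ⟨l, hl, ⟨p, hp, hQp, hpx⟩, ⟨p', hp', hQp', hpx'⟩⟩ := S.disp_pair hq hx₁ (fun e => hQx₁ (by rw [e, map_zero]))
    hx₂ (fun e => hQx₂ (by rw [e, map_zero]))
  set zc := ((Q p)⁻¹ * polarBilin Q p x₁) • p with hzc
  set zd := ((Q p')⁻¹ * polarBilin Q p' x₂) • p' with hzd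
  have hQzc : Q zc = l := by
    rw [hzc, quad_smul]; field_simp; linear_combination hpx
  have hQzd : Q zd = -l := by
    rw [hzd, quad_smul]; field_simp; linear_combination hpx'
  have hzcD : zc ∈ D c := (D c).smul_mem _ hp
  have hzdD : zd ∈ D d := (D d).smul_mem _ hp'
  have hzc0 : zc ≠ 0 := fun e => hl (by rw [← hQzc, e, map_zero])
  have hzd0 : zd ≠ 0 := fun e => by rw [e, map_zero] at hQzd; exact hl (neg_eq_zero.mp hQzd.symm)
  clear_value zc zd
  have hroot := S.root_of_seed hq ht ha hua hu0 hout hc hd.2 (Ne.symm hd.1) hzcD hzdD hzc0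
    (by rw [hQzc, hQzd, add_neg_cancel])
  obtain ⟨q, hq', hQq, hqz, -⟩ := S.exists_both hq hzdD hzd0 hzdD hzd0
  set zd' := zd - ((Q q)⁻¹ * polarBilin Q q zd) • q with hzd'
  have hQzd' : Q zd' = -l := by
    rw [hzd', quad_sub, quad_smul, map_smul, smul_eq_mul, quad_polar_comm Q zd q, hQzd]
    field_simp
    ring
  have hzd'D : zd' ∈ D d := (D d).sub_mem hzdD ((D d).smul_mem _ hq')
  have hroot' := S.root_of_seed hq ht ha hua hu0 hout hc hd.2 (Ne.symm hd.1) hzcD hzd'D hzc0
    (by rw [hQzc, hQzd', add_neg_cancel])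
  refine Orth.omega_le S.hN S.h7 (hroot.all S.hN hroot' ?_)
  rw [map_add, map_add, LinearMap.add_apply, LinearMap.add_apply, quad_polar_self, S.orth hd.1 hzdD hzcD,
    S.orth (Ne.symm hd.1) hzcD hzd'D, hzd', map_sub, map_smul, smul_eq_mul, quad_polar_self, quad_polar_comm Q zd q,
    hQzc, hQzd]
  intro h0
  refine mul_ne_zero hqz hqz ?_
  field_simp at h0
  linear_combination -h0

end Cfsg.Agent.Lib.MaxSub.OrthBlocks
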