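import Cfsg.Agent.Lib.MaxSub.QuadType
import Mathlib

/-!
Numbers of vectors with a given value in quadratic spaces, and group elements from transitive actions.
-/

set_option autoImplicit false
set_option maxHeartbeats 1000000
set_option linter.unusedSectionVars false

namespace Cfsg.Agent.Lib.MaxSub.QuadCount

open Module Cfsg.Agent.Lib.Geometry Cfsg.Agent.Lib.MaxSub
open QuadraticMap (polarBilin)
open scoped _root_.Classical

attribute [-simp] QuadraticMap.polarBilin_apply_apply

variable {F : Type*} [Field F] [Fintype F]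

theorem card_fibre {M : Type*} [AddCommGroup M] [Module F M] [FiniteDimensional F M] {φ : M →ₗ[F] F} (hφ : φ ≠ 0)
    (c : F) : Nat.card {u : M // φ u = c} = Fintype.card F ^ (finrank F M - 1) := by
  obtain ⟨x, hx⟩ : ∃ x, φ x ≠ 0 := by
    by_contra h
    push Not at h
    exact hφ (LinearMap.ext h)
  obtain ⟨v0, hv0⟩ : ∃ v0, φ v0 = c := ⟨(c / φ x) • x, by rw [map_smul, smul_eq_mul, div_mul_cancel₀ c hx]⟩
  let g : {u : M // φ u = c} ≃ LinearMap.ker φ :=
    { toFun := fun u => ⟨u.1 - v0, by rw [LinearMap.mem_ker, map_sub, hv0, u.2, sub_self]⟩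
      invFun := fun w => ⟨w.1 + v0, by rw [map_add, w.2, hv0, zero_add]⟩
      left_inv := fun u => Subtype.ext (sub_add_cancel _ _)
      right_inv := fun w => Subtype.ext (add_sub_cancel_right _ _) }
  rw [Nat.card_congr g, Module.natCard_eq_pow_finrank (K := F), Nat.card_eq_fintype_card]
  congr 1
  have h := φ.finrank_range_add_finrank_ker
  rw [LinearMap.range_eq_top.2 fun e => ⟨(e / φ x) • x, by rw [map_smul, smul_eq_mul, div_mul_cancel₀ e hx]⟩,
    finrank_top, finrank_self] at h
  omega

variable {V : Type*} [AddCommGroup V] [Module F V] [FiniteDimensional F V] (Q : QuadraticForm F V)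
  (hQ : (polarBilin Q).Nondegenerate)

include hQ in
theorem card_plus {P : Submodule F V} (hP : QuadType.Nd Q P) {a : ℕ} (hd : finrank F P = 2 * a)
    (hp : QuadType.Plus Q P) (c : F) :
    Nat.card {v : P // Q (v : V) = c} = (if c = 0 then Fintype.card F ^ a else 0) +
      (Fintype.card F ^ a - 1) * Fintype.card F ^ (a - 1) := by
  haveI : Finite V := Module.finite_of_finite F
  obtain ⟨U, hUP, hU, hUd⟩ := hp
  have hUa : finrank F U = a := by omega
  set U' := U.comap P.subtype with hU'
  have hU'd : finrank F U' = a := (Submodule.comapSubtypeEquivOfLe hUP).finrank_eq.trans hUa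
  obtain ⟨C, hC⟩ := Submodule.exists_isCompl U'
  have hCd : finrank F C = a := by
    have := Submodule.finrank_add_eq_of_isCompl hC
    omega
  let e : (C × U') ≃ P := (Submodule.prodEquivOfIsCompl C U' hC.symm).toEquiv
  have he : ∀ x : C × U', ((e x : P) : V) = ((x.1 : P) : V) + ((x.2 : P) : V) := fun x => rfl
  have hperp : P ⊓ QuadType.perp Q U = U := by
    refine (Submodule.eq_of_le_of_finrank_le (le_inf hUP (show U ≤ QuadType.perp Q U from fun u hu w hw => QuadType.ts_polar Q hU hw hu)) ?_).symm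
    have := QuadType.dim_inf_perp Q hP hUP
    omega
  let φ : C → U' →ₗ[F] F := fun s => (polarBilin Q ((s : P) : V)).comp (P.subtype.comp U'.subtype)
  have hφ : ∀ s : C, s ≠ 0 → φ s ≠ 0 := fun s hs h0 => by
    have hsU : ((s : P) : V) ∈ U := by
      rw [← hperp]
      refine ⟨(s : P).2, fun w hw => ?_⟩
      rw [quad_polar_comm]
      exact LinearMap.congr_fun h0 ⟨⟨w, hUP hw⟩, hw⟩
    have : (s : P) ∈ U' ⊓ C := ⟨hsU, s.2⟩
    rw [hC.inf_eq_bot, Submodule.mem_bot] at this
    exact hs (Subtype.ext this)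
  have hval : ∀ (s : C) (u : U'), Q ((e (s, u) : P) : V) = Q ((s : P) : V) + φ s u := fun s u => by
    have e0 : Q ((u : P) : V) = 0 := hU _ u.2
    simp only [he, quad_add, e0, add_zero]
    rfl
  rw [← Nat.card_congr (Equiv.subtypeEquiv (p := fun x : C × U' => Q ((e x : P) : V) = c) e (fun _ => Iff.rfl)),
    Nat.card_congr (Equiv.subtypeProdEquivSigmaSubtype fun (s : C) (u : U') => Q ((e (s, u) : P) : V) = c)]
  haveI : Fintype C := Fintype.ofFinite C
  rw [Nat.card_sigma, Finset.sum_eq_add_sum_sdiff_singleton_of_mem (Finset.mem_univ (0 : C))]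
  congr 1
  · have h0 : ∀ u : U', Q ((e (0, u) : P) : V) = 0 := fun u => by rw [hval]; simp [φ]
    simp only [h0]
    split_ifs with hc
    · subst hc
      rw [Nat.card_congr (Equiv.subtypeUnivEquiv fun _ => rfl), Module.natCard_eq_pow_finrank (K := F),
        Nat.card_eq_fintype_card, hU'd]
    · haveI : IsEmpty {u : U' // (0 : F) = c} := ⟨fun u => hc u.2.symm⟩
      exact Nat.card_of_isEmpty
  · rw [Finset.sum_congr rfl (g := fun _ => Fintype.card F ^ (a - 1)) fun s hs => ?_, Finset.sum_const,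
      Finset.card_univ_diff, Finset.card_singleton, smul_eq_mul, Module.card_eq_pow_finrank (K := F), hCd]
    simp only [Finset.mem_sdiff, Finset.mem_singleton] at hs
    rw [← hU'd, ← card_fibre (hφ s hs.2) (c - Q ((s : P) : V))]
    exact Nat.card_congr (Equiv.subtypeEquivRight fun u => by rw [hval]; exact eq_sub_iff_add_eq'.symm)

include hQ in
theorem card_odd (h2 : (2 : F) ≠ 0) {U : Submodule F V} (hU : QuadType.Nd Q U) {a : ℕ} (hd : finrank F U = 2 * a + 1) :
    Nat.card {v : U // Q (v : V) = 0} = Fintype.card F ^ (2 * a) := by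
  haveI : Finite V := Module.finite_of_finite F
  obtain ⟨P, hPU, hP, hPd, hPp⟩ := QuadType.exists_type Q hQ h2 a hU (by omega) True fun _ => trivial
  obtain ⟨hsup, hR, hdim⟩ := QuadType.split_off Q hU hP hPU
  obtain ⟨v, hv, hv0⟩ := (Submodule.ne_bot_iff _).1 (fun e => by rw [e, finrank_bot] at hdim; omega :
    U ⊓ QuadType.perp Q P ≠ ⊥)
  have hspan : (F ∙ v) = U ⊓ QuadType.perp Q P := Submodule.eq_of_le_of_finrank_le
    ((Submodule.span_singleton_le_iff_mem _ _).2 hv) (by rw [finrank_span_singleton hv0]; omega)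
  have hQv : Q v ≠ 0 := fun h0 => by
    obtain ⟨x, hx, hvx⟩ := hR v hv hv0
    rw [← hspan, Submodule.mem_span_singleton] at hx
    obtain ⟨c, rfl⟩ := hx
    exact hvx (by rw [map_smul, quad_polar_self, h0, mul_zero, smul_zero])
  let g : F × P → U := fun x => ⟨(x.2 : V) + x.1 • v, U.add_mem (hPU x.2.2) (U.smul_mem _ hv.1)⟩
  have hg : Function.Bijective g := by
    constructor
    · rintro ⟨s, y⟩ ⟨t, z⟩ h
      have h' : (y : V) + s • v = (z : V) + t • v := congrArg Subtype.val h
      have e : (y : V) - z = (t - s) • v := by rw [sub_smul, sub_eq_sub_iff_add_eq_add]; exact h'.trans (add_comm _ _)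
      have h0 : (y : V) - z ∈ P ⊓ (U ⊓ QuadType.perp Q P) :=
        ⟨P.sub_mem y.2 z.2, by rw [e]; exact Submodule.smul_mem _ _ hv⟩
      rw [QuadType.inf_perp Q hP, Submodule.mem_bot] at h0
      rw [h0] at e
      rw [Subtype.ext (sub_eq_zero.1 h0), (sub_eq_zero.1 ((smul_eq_zero.1 e.symm).resolve_right hv0)).symm]
    · rintro ⟨x, hx⟩
      obtain ⟨y, hy, w, hw, rfl⟩ := Submodule.mem_sup.1 (hsup.symm ▸ hx : x ∈ P ⊔ (U ⊓ QuadType.perp Q P))
      rw [← hspan, Submodule.mem_span_singleton] at hw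
      obtain ⟨s, rfl⟩ := hw
      exact ⟨(s, ⟨y, hy⟩), rfl⟩
  let e := Equiv.ofBijective g hg
  have hval : ∀ (s : F) (y : P), Q ((e (s, y) : U) : V) = Q (y : V) + s * s * Q v := fun s y => by
    show Q ((y : V) + s • v) = _
    rw [quad_add, quad_smul, map_smul, hv.2 _ y.2, smul_zero, add_zero]
  rw [← Nat.card_congr (Equiv.subtypeEquiv (p := fun x : F × P => Q ((e x : U) : V) = 0) e (fun _ => Iff.rfl)),
    Nat.card_congr (Equiv.subtypeProdEquivSigmaSubtype fun (s : F) (y : P) => Q ((e (s, y) : U) : V) = 0),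
    Nat.card_sigma, Finset.sum_congr rfl fun s _ => (Nat.card_congr (Equiv.subtypeEquivRight (q := fun y : P => Q (y : V) = -(s * s * Q v))
      fun y => by rw [hval]; exact add_eq_zero_iff_eq_neg)).trans (card_plus Q hQ hP hPd (hPp.2 trivial) _)]
  simp only [Finset.sum_add_distrib, Finset.sum_const, Finset.card_univ, smul_eq_mul]
  rw [Finset.sum_eq_single (0 : F) (fun s _ hs => by rw [if_neg (neg_ne_zero.2 (mul_ne_zero (mul_ne_zero hs hs) hQv))]) (by simp),
    if_pos (by simp)]
  have h1 : 1 ≤ Fintype.card F ^ a := Nat.one_le_pow _ _ Fintype.card_pos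
  rcases Nat.eq_zero_or_pos a with rfl | ha
  · simp
  · obtain ⟨b, rfl⟩ : ∃ b, a = b + 1 := ⟨a - 1, by omega⟩
    obtain ⟨k, hk⟩ : ∃ k, Fintype.card F ^ (b + 1) = k + 1 := ⟨Fintype.card F ^ (b + 1) - 1, by omega⟩
    rw [show 2 * (b + 1) = (b + 1) + (b + 1) by ring, pow_add _ (b + 1), Nat.add_sub_cancel b, mul_left_comm,
      ← pow_succ' (Fintype.card F) b, hk, Nat.add_sub_cancel]
    ring

omit [Fintype F] in
/-- An element of prime order in a finite group acting transitively on a set of size divisible by the prime. -/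
theorem exists_prime_order {G α : Type*} [Group G] [Finite G] (act : G → α → α) (h1 : ∀ a, act 1 a = a)
    (hm : ∀ g h a, act (g * h) a = act g (act h a)) (htr : ∀ a b, ∃ g, act g a = b) [Nonempty α] {r : ℕ} [Fact r.Prime]
    (hd : r ∣ Nat.card α) : ∃ y : G, orderOf y = r := by
  letI : MulAction G α := { smul := act, one_smul := h1, mul_smul := hm }
  haveI : MulAction.IsPretransitive G α := ⟨htr⟩
  obtain ⟨a⟩ := ‹Nonempty α›
  refine exists_prime_orderOf_dvd_card' r (hd.trans ?_)
  rw [← MulAction.index_stabilizer_of_transitive G a]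
  exact Subgroup.index_dvd_card _

end Cfsg.Agent.Lib.MaxSub.QuadCount
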