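import Cfsg.Agent.Lib.MaxSub.IsoDecomp
import Cfsg.Agent.Lib.MaxSub.LinDecomp
import Cfsg.Agent.Lib.MaxSub.QuadCount
import Cfsg.Agent.Lib.Geometry.OrthQuotient
import Mathlib

/-!
Orthogonal decomposition of isometries of quadratic spaces of odd prime order prime to the characteristic.
-/

set_option autoImplicit false
set_option maxHeartbeats 1000000
set_option linter.unusedSectionVars false

namespace Cfsg.Agent.Lib.MaxSub.OrthDecomp

open Module Polynomial Cfsg.Agent.Lib.MaxSub Cfsg.Agent.Lib.Geometry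
open Cfsg.Agent.Lib.MaxSub.QuadType (Nd TS Plus perp)
open Cfsg.Agent.Lib.MaxSub.IsoDecomp (step fixed moved mem_fixed moved_inv map_eq inf_inv sup_inv fixed_inv pow_moved decompose)
open QuadraticMap (polarBilin)
open scoped _root_.Classical

attribute [-simp] QuadraticMap.polarBilin_apply_apply

variable {ι : Type} [Fintype ι] [DecidableEq ι] {F : Type*} [Field F] (Q : QuadraticForm F (ι → F))

theorem perp_inv {X : End F (ι → F)} {r : ℕ} (hX : X ^ r = 1) (hr : 0 < r) (hiso : ∀ v, Q (X v) = Q v)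
    {U : Submodule F (ι → F)} (hU : U.map X ≤ U) : (perp Q U).map X ≤ perp Q U := by
  rintro _ ⟨w, hw, rfl⟩ u hu
  obtain ⟨u', hu', rfl⟩ := (map_eq hX hr hU).symm ▸ hu
  rw [quad_polar_map Q hiso]
  exact hw u' hu'

theorem orth {X : End F (ι → F)} {r : ℕ} [hr : Fact r.Prime] (hr0 : (r : F) ≠ 0) (hiso : ∀ v, Q (X v) = Q v)
    {a b : ι → F} (ha : a ∈ fixed X) (hb : b ∈ moved X r) : polarBilin Q a b = 0 := by
  have h1 := mem_fixed.1 ha
  have hj : ∀ j : ℕ, polarBilin Q a ((X ^ j) b) = polarBilin Q a b := fun j => by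
    induction j with
    | zero => rfl
    | succ j ih => rw [pow_succ', End.mul_apply]; nth_rw 1 [← h1]; rw [quad_polar_map Q hiso, ih]
  have h3 : aeval X (cyclotomic r F) b = 0 := hb
  rw [cyclotomic_prime, map_sum, LinearMap.sum_apply] at h3
  have h4 := congrArg (polarBilin Q a) h3
  simp only [map_pow, aeval_X, map_sum, hj, map_zero, Finset.sum_const, Finset.card_range, nsmul_eq_mul] at h4
  exact (mul_eq_zero.1 h4).resolve_left hr0

theorem nd_parts {X : End F (ι → F)} {r : ℕ} [hr : Fact r.Prime] (hr0 : (r : F) ≠ 0) (hX : X ^ r = 1)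
    (hiso : ∀ v, Q (X v) = Q v) {U : Submodule F (ι → F)}
    (hU : Nd Q U) (hUi : U.map X ≤ U) : Nd Q (U ⊓ fixed X) ∧ Nd Q (U ⊓ moved X r) := by
  have hdec := (decompose hr0 hX hUi).1
  constructor <;> intro v hv hv0 <;> obtain ⟨x, hx, hvx⟩ := hU v hv.1 hv0 <;>
    obtain ⟨a, ha, b, hb, rfl⟩ := Submodule.mem_sup.1 (hdec.symm ▸ hx : x ∈ (U ⊓ fixed X) ⊔ (U ⊓ moved X r))
  · exact ⟨a, ha, by rwa [map_add, orth Q hr0 hiso hv.2 hb.2, add_zero] at hvx⟩
  · exact ⟨b, hb, by rwa [map_add, quad_polar_comm Q v a, orth Q hr0 hiso ha.2 hv.2, zero_add] at hvx⟩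

variable [Fintype F] {p : ℕ} [Fact p.Prime] [CharP F p] {r : ℕ} [hr : Fact r.Prime]
variable (hQ : (polarBilin Q).Nondegenerate) (h2 : (2 : F) ≠ 0)

/-- A fixed-point-free invariant set of singular vectors. -/
theorem zeros_mod {X : End F (ι → F)} (hr0 : (r : F) ≠ 0) (hX : X ^ r = 1) (hiso : ∀ v, Q (X v) = Q v)
    {U : Submodule F (ι → F)} (hUi : U.map X ≤ U) (hUm : U ≤ moved X r) :
    Nat.card {v : U // Q (v : ι → F) = 0} ≡ 1 [MOD r] := by
  haveI := Fintype.ofFinite {v : U // Q (v : ι → F) = 0}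
  let f : Function.End {v : U // Q (v : ι → F) = 0} := fun v =>
    ⟨⟨X (v.1 : ι → F), hUi (Submodule.mem_map_of_mem v.1.2)⟩, by
      show Q (X (v.1 : ι → F)) = 0
      rw [hiso]; exact v.2⟩
  have hf : ∀ (j : ℕ) (v : {v : U // Q (v : ι → F) = 0}), (((f ^ j) v).1 : ι → F) = (X ^ j) (v.1 : ι → F) := fun j => by
    induction j with
    | zero => exact fun v => rfl
    | succ j ih =>
      intro v
      rw [pow_succ' X, End.mul_apply, ← ih v, pow_succ' f]
      rfl
  have hfr : f ^ r ^ 1 = 1 := by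
    funext v
    apply Subtype.ext
    apply Subtype.ext
    rw [hf, pow_one, hX]
    rfl
  have h := Equiv.Perm.card_fixedPoints_modEq hfr
  rw [Nat.card_eq_fintype_card]
  suffices h1 : Fintype.card _ = 1 from h.trans (h1 ▸ Nat.ModEq.refl _)
  rw [Fintype.card_eq_one_iff]
  refine ⟨⟨⟨0, QuadraticMap.map_zero _⟩, Subtype.ext (Subtype.ext (map_zero X))⟩, fun w => ?_⟩
  obtain ⟨⟨⟨v, hv⟩, hQv⟩, hfix⟩ := w
  have h0 : v ∈ fixed X ⊓ moved X r := ⟨mem_fixed.2 (congrArg (fun z => ((z.1 : U) : ι → F)) hfix), hUm hv⟩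
  rw [pow_moved hr0 hX, Submodule.mem_bot] at h0
  subst h0
  rfl

/-- The type of a moved space with a given number of pieces. -/
def typ (i s : ℕ) : Prop := Odd i ∨ Even s

include hQ h2 in
/-- A non-degenerate moved space has a piece of least dimension. -/
theorem exists_atom {X : End F (ι → F)} (hrp : r ≠ p) (hr2 : r ≠ 2) {i : ℕ}
    (hi : orderOf ((Fintype.card F : ℕ) : ZMod r) = i)
    (hX : X ^ r = 1) (hiso : ∀ v, Q (X v) = Q v) {U : Submodule F (ι → F)} (hU : Nd Q U)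
    (hUi : U.map X ≤ U) (hUm : U ≤ moved X r) (hne : U ≠ ⊥) :
    ∃ L ≤ U, Nd Q L ∧ L.map X ≤ L ∧ finrank F L = step i ∧ (Plus Q L ↔ Odd i) := by
  have hr0 : (r : F) ≠ 0 := PrimeElemFlags.cast_ne_zero hrp
  have hrpos := hr.out.pos
  have hperp : ∀ {S : Submodule F (ι → F)}, S.map X ≤ S → (perp Q S).map X ≤ perp Q S := fun h => perp_inv Q hX hrpos hiso h
  have hfac : ∀ W ≤ U, W.map X ≤ W → W ≠ ⊥ → ∃ g : F[X], Irreducible g ∧ g.Monic ∧ g ∣ cyclotomic r F ∧
      ∃ w ∈ W, w ≠ 0 ∧ aeval X g w = 0 := fun W hWU hW hW0 => by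
    obtain ⟨v, hv, hv0⟩ := (Submodule.ne_bot_iff W).1 hW0
    exact PrimeElem.exists_factor X hW _ (cyclotomic_ne_zero r F) v hv hv0 (hUm (hWU hv))
  have hdeg : ∀ g : F[X], Irreducible g → g ∣ cyclotomic r F → g.natDegree = i := fun g hg hd =>
    (PrimeElemFlags.deg_eq rfl hrp g hg hd).trans hi
  have hi0 : 0 < i := hi ▸ PrimeElemFlags.order_pos rfl hrp
  have hmin : ∀ W ≤ U, W.map X ≤ W → W ≠ ⊥ → ∃ S ≤ W, S.map X ≤ S ∧ finrank F S = i := fun W hWU hW hW0 => by
    obtain ⟨g, hg, hm, hgd, w, hw, hw0, hgw⟩ := hfac W hWU hW hW0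
    obtain ⟨S, hS, hSW, hSd⟩ := PrimeElem.exists_cyclic X hg hm hW hw hw0 hgw
    exact ⟨S, hSW, hS, hSd.trans (hdeg g hg hgd)⟩
  have hirr : ∀ S ≤ U, finrank F S = i → ∀ W ≤ S, W.map X ≤ W → W ≠ ⊥ → W = S := fun S hSU hSd W hWS hW hW0 => by
    obtain ⟨S', hS', -, hS'd⟩ := hmin W (hWS.trans hSU) hW hW0
    exact Submodule.eq_of_le_of_finrank_le hWS (by rw [hSd, ← hS'd]; exact Submodule.finrank_mono hS')
  have hrad : ∀ S ≤ U, S.map X ≤ S → finrank F S = i → ¬ S ≤ perp Q S → Nd Q S := by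
    intro S hSU hS hSd hnot a ha ha0
    by_contra hc
    push Not at hc
    refine hnot ?_
    have h := hirr S hSU hSd (S ⊓ perp Q S) inf_le_left (inf_inv hS (hperp hS))
      ((Submodule.ne_bot_iff _).2 ⟨a, ⟨ha, fun w hw => by rw [quad_polar_comm]; exact hc w hw⟩, ha0⟩)
    exact fun v hv => (h.symm ▸ hv : v ∈ S ⊓ perp Q S).2
  have hpow : ∀ j : ℕ, Fintype.card F ^ j ≡ 1 [MOD r] ↔ i ∣ j := fun j => by
    rw [← hi, orderOf_dvd_iff_pow_eq_one, ← Nat.cast_pow, ← Nat.cast_one (R := ZMod r), ZMod.natCast_eq_natCast_iff]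
  by_cases hex : ∃ S ≤ U, S.map X ≤ S ∧ finrank F S = i ∧ Nd Q S
  · obtain ⟨S, hSU, hS, hSd, hSn⟩ := hex
    have hcnt := zeros_mod Q hr0 hX hiso hS (hSU.trans hUm)
    rcases Nat.even_or_odd i with ⟨e, he⟩ | ⟨e, he⟩
    · refine ⟨S, hSU, hSn, hS, by rw [step, if_pos ⟨e, he⟩, hSd], iff_of_false (fun hp => ?_) (Nat.not_odd_iff_even.2 ⟨e, he⟩)⟩
      rw [Nat.card_congr (Equiv.refl _), QuadCount.card_plus Q hQ hSn (a := e) (by omega) hp 0, if_pos rfl] at hcnt
      -- half of the order gives `-1`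
      have hneg : ((Fintype.card F : ℕ) : ZMod r) ^ e = -1 := by
        have h1 : ((Fintype.card F : ℕ) : ZMod r) ^ e * ((Fintype.card F : ℕ) : ZMod r) ^ e = 1 := by
          rw [← pow_add, ← he, ← hi, pow_orderOf_eq_one]
        refine (mul_self_eq_one_iff.1 h1).resolve_left fun h2 => ?_
        have := Nat.le_of_dvd (by omega) (hi ▸ orderOf_dvd_of_pow_eq_one h2)
        omega
      have h1' : 1 ≤ Fintype.card F ^ e := Nat.one_le_pow _ _ Fintype.card_pos
      have h := (ZMod.natCast_eq_natCast_iff _ _ r).2 hcnt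
      push_cast [Nat.cast_sub h1'] at h
      obtain ⟨g, rfl⟩ : ∃ g, e = g + 1 := ⟨e - 1, by omega⟩
      rw [hneg, Nat.add_sub_cancel] at h
      rw [pow_succ] at hneg
      have h2' : (2 : ZMod r) ≠ 0 := by
        intro h
        have h' : ((2 : ℕ) : ZMod r) = 0 := by exact_mod_cast h
        exact hr2 ((Nat.prime_dvd_prime_iff_eq hr.out Nat.prime_two).1 ((ZMod.natCast_eq_zero_iff _ _).1 h'))
      set a := ((Fintype.card F : ℕ) : ZMod r)
      have h3 : a ^ g + 1 = 0 := (mul_eq_zero.1 (show (2 : ZMod r) * (a ^ g + 1) = 0 by linear_combination -h)).resolve_left h2'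
      have h4 : a = 1 := by linear_combination (-1 : ZMod r) * hneg + a * h3
      have := Nat.le_of_dvd one_pos (hi ▸ orderOf_dvd_of_pow_eq_one (show a ^ 1 = 1 by rw [pow_one, h4]))
      omega
    · exfalso
      rw [QuadCount.card_odd Q hQ h2 hSn (a := e) (hSd.trans he)] at hcnt
      have hd := (hpow _).1 hcnt
      rcases Nat.eq_zero_or_pos e with rfl | he0
      · obtain ⟨v, hv, hv0⟩ := (Submodule.ne_bot_iff S).1 fun h => by rw [h, finrank_bot] at hSd; omega
        have hspan : (F ∙ v) = S := Submodule.eq_of_le_of_finrank_le ((Submodule.span_singleton_le_iff_mem _ _).2 hv)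
          (by rw [finrank_span_singleton hv0]; omega)
        obtain ⟨ζ, hζ⟩ := Submodule.mem_span_singleton.1 (hspan.symm ▸ hS (Submodule.mem_map_of_mem hv) : X v ∈ F ∙ v)
        have hQv : Q v ≠ 0 := fun h0 => by
          obtain ⟨x, hx, hvx⟩ := hSn v hv hv0
          rw [← hspan, Submodule.mem_span_singleton] at hx
          obtain ⟨c, rfl⟩ := hx
          exact hvx (by rw [map_smul, quad_polar_self, h0, mul_zero, smul_zero])
        have hsq : ζ * ζ = 1 := mul_right_cancel₀ hQv (by rw [one_mul, ← quad_smul Q ζ v, hζ, hiso])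
        have hj : ∀ j : ℕ, (X ^ j) v = ζ ^ j • v := fun j => by
          induction j with
          | zero => simp
          | succ j ih => rw [pow_succ', End.mul_apply, ih, map_smul, ← hζ, smul_smul, pow_succ]
        have hone : ζ ^ r = 1 := smul_left_injective F hv0 (by show ζ ^ r • v = (1 : F) • v; rw [← hj, hX, one_smul]; rfl)
        obtain ⟨t, ht⟩ := hr.out.odd_of_ne_two hr2
        have hζ1 : ζ = 1 := by rw [ht, pow_succ, pow_mul, pow_two, hsq, one_pow, one_mul] at hone; exact hone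
        have h0 : v ∈ fixed X ⊓ moved X r := ⟨mem_fixed.2 (by rw [← hζ, hζ1, one_smul]), hUm (hSU hv)⟩
        rw [pow_moved hr0 hX, Submodule.mem_bot] at h0
        exact hv0 h0
      · obtain ⟨t, ht⟩ := hd
        rcases t with _ | t
        · omega
        · rw [Nat.mul_succ] at ht; omega
  have hiso' : ∀ S ≤ U, S.map X ≤ S → finrank F S = i → S ≤ perp Q S := fun S hSU hS hSd => by
    by_contra h
    exact hex ⟨S, hSU, hS, hSd, hrad S hSU hS hSd h⟩
  rcases Nat.even_or_odd i with hev | hodd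
  · exfalso
    obtain ⟨g, hg, hm, hgd, w₀, hw₀, hw₀0, hgw₀⟩ := hfac U le_rfl hUi hne
    set K := U ⊓ LinearMap.ker (aeval X g) with hK
    have hKv : ∀ v ∈ K, polarBilin Q v v = 0 := by
      intro v hv
      by_cases hv0 : v = 0
      · simp [hv0]
      let Z : Submodule F (ι → F) := LinearMap.range ((LinearMap.applyₗ v).comp (aeval X).toLinearMap)
      have hZ : ∀ h : F[X], aeval X h v ∈ Z := fun h => ⟨h, rfl⟩
      have hvZ : v ∈ Z := by simpa using hZ 1
      have hZU : Z ≤ U := by rintro _ ⟨h, rfl⟩; exact PrimeElem.aeval_mem X hUi h hv.1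
      have hZi : Z.map X ≤ Z := by
        rintro _ ⟨_, ⟨h, rfl⟩, rfl⟩
        refine ⟨Polynomial.X * h, ?_⟩
        show aeval X (Polynomial.X * h) v = X (aeval X h v)
        rw [map_mul, aeval_X, End.mul_apply]
      obtain ⟨S, hSZ, hS, hSd⟩ := hmin Z hZU hZi ((Submodule.ne_bot_iff _).2 ⟨v, hvZ, hv0⟩)
      have hS0 : S ≠ ⊥ := fun e => by rw [e, finrank_bot] at hSd; omega
      obtain ⟨w, hw, hw0⟩ := (Submodule.ne_bot_iff _).1 hS0
      obtain ⟨h, rfl⟩ := hSZ hw
      have hgv : aeval X g v = 0 := hv.2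
      have hgh : ¬ g ∣ h := by
        rintro ⟨Q, rfl⟩
        refine hw0 ?_
        show aeval X (g * Q) v = 0
        rw [mul_comm, map_mul, End.mul_apply, hgv, map_zero]
      obtain ⟨a, b, hab⟩ := hg.coprime_iff_not_dvd.2 hgh
      have hvS : v ∈ S := by
        have e := congrArg (fun P => aeval X P v) hab
        simp only [map_add, map_mul, LinearMap.add_apply, End.mul_apply, hgv, map_zero, zero_add, map_one,
          End.one_apply] at e
        rw [← e]
        exact PrimeElem.aeval_mem X hS b hw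
      exact hiso' S (hSZ.trans hZU) hS hSd hvS v hvS
    have hKK : K ≤ perp Q K := fun v hv u hu =>
      QuadType.ts_polar Q (U := K) (fun w hw => (mul_eq_zero.1 (by rw [← quad_polar_self]; exact hKv w hw)).resolve_left h2) hu hv
    obtain ⟨R, hR⟩ := IsoDecomp.dvd_recip hrp hr2 hi hev hg hgd
    obtain ⟨G', hG'⟩ := hgd
    have hco : IsCoprime g G' := by
      refine hg.coprime_iff_not_dvd.2 fun hd => ?_
      obtain ⟨G'', hG''⟩ := hd
      have hsq : Squarefree (cyclotomic r F) := (PrimeElemFlags.sq hr0 one_ne_zero).squarefree_of_dvd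
        ⟨Polynomial.X - 1, by rw [map_one, cyclotomic_prime_mul_X_sub_one]⟩
      exact hg.not_isUnit (hsq g ⟨G'', by rw [hG', hG'', mul_assoc]⟩)
    set P := g.comp (Polynomial.X ^ (r - 1)) with hP
    have hXX : (X ^ (r - 1)) ^ (r - 1) = X := by
      obtain ⟨m, hm⟩ := Nat.exists_eq_add_of_le hr.out.two_le
      rw [← pow_mul, show (r - 1) * (r - 1) = r * m + 1 by subst hm; rw [show 2 + m - 1 = m + 1 by omega]; ring,
        pow_succ, pow_mul, hX, one_pow, one_mul]
    have hPX : aeval X P = aeval (X ^ (r - 1)) g := by rw [hP, aeval_comp, map_pow, aeval_X]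
    have hPg : ∀ v, aeval X P v = 0 → aeval X g v = 0 := fun v hv => by
      have h : aeval X g = aeval (X ^ (r - 1)) P := by rw [hP, aeval_comp, map_pow, aeval_X, hXX]
      rw [h, hR, mul_comm, map_mul, End.mul_apply, ← hPX, hv, map_zero]
    have hadj : ∀ (R : F[X]) u v, polarBilin Q u (aeval (X ^ (r - 1)) R v) = polarBilin Q (aeval X R u) v := fun R u v => by
      induction R using Polynomial.induction_on generalizing v with
      | C a => simp [Algebra.algebraMap_eq_smul_one]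
      | add A B hA hB => simp only [map_add, LinearMap.add_apply, hA, hB]
      | monomial j a ih =>
        have hinv : ∀ a b, polarBilin Q a ((X ^ (r - 1)) b) = polarBilin Q (X a) b := fun a b => by
          rw [← quad_polar_map Q hiso a, ← End.mul_apply, ← pow_succ', Nat.sub_add_cancel hr.out.one_lt.le, hX, End.one_apply]
        rw [pow_succ, ← mul_assoc, map_mul, aeval_X, End.mul_apply, ih, hinv, ← End.mul_apply,
          show aeval X (C a * Polynomial.X ^ j * Polynomial.X) = X * aeval X (C a * Polynomial.X ^ j) by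
            rw [mul_comm (C a * Polynomial.X ^ j) Polynomial.X, map_mul, aeval_X]]
    let T : U →ₗ[F] U := LinearMap.restrict (aeval X P) (fun v hv => PrimeElem.aeval_mem X hUi P hv)
    have hTd : Disjoint (LinearMap.range T) (LinearMap.ker T) := by
      rw [Submodule.disjoint_def]
      rintro _ ⟨v, rfl⟩ hv
      have h1 : aeval X g (aeval X P (v : (ι → F))) = 0 := hPg _ (congrArg Subtype.val hv)
      rw [hR, ← End.mul_apply, ← map_mul, ← mul_assoc] at h1
      refine Subtype.ext ?_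
      show aeval X P (v : (ι → F)) = 0
      obtain ⟨a, b, hab⟩ := hco
      have h2 : aeval X (g * G') (v : (ι → F)) = 0 := by rw [← hG']; exact hUm v.2
      rw [hR, show g * R = a * (g * g * R) + b * R * (g * G') from by
        calc g * R = (a * g + b * G') * (g * R) := by rw [hab, one_mul]
          _ = _ := by ring, map_add, LinearMap.add_apply, map_mul, map_mul (aeval X) (b * R), End.mul_apply, End.mul_apply,
        h1, h2, map_zero, map_zero, add_zero]
    have htop : LinearMap.range T ⊔ LinearMap.ker T = ⊤ := by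
      refine Submodule.eq_top_of_finrank_eq ?_
      have h1 := Submodule.finrank_sup_add_finrank_inf_eq (LinearMap.range T) (LinearMap.ker T)
      rw [hTd.eq_bot, finrank_bot, add_zero, LinearMap.finrank_range_add_finrank_ker] at h1
      exact h1
    obtain ⟨x, hx, hwx⟩ := hU w₀ hw₀ hw₀0
    obtain ⟨_, ⟨a, rfl⟩, b, hb, hab⟩ := Submodule.mem_sup.1 (htop ▸ Submodule.mem_top : (⟨x, hx⟩ : U) ∈ _)
    have e : aeval X P (a : (ι → F)) + (b : (ι → F)) = x := congrArg Subtype.val hab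
    have hb' : (b : (ι → F)) ∈ K := ⟨b.2, hPg _ (congrArg Subtype.val hb)⟩
    refine hwx ?_
    rw [← e, map_add, hKK hb' w₀ ⟨hw₀, hgw₀⟩, hPX, hadj, hgw₀, map_zero, LinearMap.zero_apply, add_zero]
  · obtain ⟨S, hSU, hS, hSd⟩ := hmin U le_rfl hUi hne
    have hS0 : S ≠ ⊥ := fun e => by rw [e, finrank_bot] at hSd; omega
    set W' := U ⊓ perp Q S
    have hW'i : W'.map X ≤ W' := inf_inv hUi (hperp hS)
    have hy : aeval X (Polynomial.X ^ r - Polynomial.C (1 : F)) = 0 :=
      PrimeElemFlags.aeval_eq_zero (by rw [hX, one_smul])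
    obtain ⟨C, hC, hWC⟩ := PrimeElem.exists_compl (PrimeElemFlags.sq hr0 one_ne_zero) hy hW'i
    have hCU : U ⊓ C ≠ ⊥ := by
      intro h0
      obtain ⟨a, ha, ha0⟩ := (Submodule.ne_bot_iff _).1 hS0
      obtain ⟨x, hx, hax⟩ := hU a (hSU ha) ha0
      have : x ∈ W' := by
        have h1 : U = W' ⊔ U ⊓ C := by
          rw [inf_comm U C, ← sup_inf_assoc_of_le C (show W' ≤ U from inf_le_left), hWC.sup_eq_top, top_inf_eq]
        rw [h0, sup_bot_eq] at h1
        exact h1 ▸ hx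
      exact hax (this.2 a ha)
    obtain ⟨S', hS'C, hS', hS'd⟩ := hmin (U ⊓ C) inf_le_left (inf_inv hUi hC) hCU
    have hS'U : S' ≤ U := hS'C.trans inf_le_left
    have hS'0 : S' ≠ ⊥ := fun e => by rw [e, finrank_bot] at hS'd; omega
    have hd1 : S' ⊓ perp Q S = ⊥ := by
      rw [Submodule.eq_bot_iff]
      rintro v ⟨hv, hv'⟩
      exact (Submodule.mem_bot F).1 (hWC.inf_eq_bot ▸ ⟨⟨hS'U hv, hv'⟩, (hS'C hv).2⟩)
    have hd2 : S ⊓ perp Q S' = ⊥ := by
      by_contra h0
      have h := hirr S hSU hSd _ inf_le_left (inf_inv hS (hperp hS')) h0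
      refine hS'0 (le_bot_iff.1 (hd1 ▸ le_inf le_rfl fun v hv w hw => ?_))
      rw [quad_polar_comm]; exact (h.symm ▸ hw : w ∈ S ⊓ perp Q S').2 v hv
    have hSS := hiso' S hSU hS hSd
    have hS'S := hiso' S' hS'U hS' hS'd
    have hdisj : S ⊓ S' = ⊥ := le_bot_iff.1 (hd1 ▸ le_inf inf_le_right (inf_le_left.trans hSS))
    refine ⟨S ⊔ S', sup_le hSU hS'U, fun v hv hv0 => ?_, sup_inv hS hS', ?_, iff_of_true ⟨S, le_sup_left,
      QuadType.ts_of_perp Q h2 hSS, ?_⟩ hodd⟩
    · obtain ⟨a, ha, b, hb, rfl⟩ := Submodule.mem_sup.1 hv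
      by_contra hc
      push Not at hc
      have ha' : a ∈ perp Q S' := fun w hw => by
        have h1 := hc w (Submodule.mem_sup_right hw)
        rw [map_add, LinearMap.add_apply, QuadType.mem_perp' Q (hS'S hb) hw, add_zero] at h1
        rw [quad_polar_comm, h1]
      have hb' : b ∈ perp Q S := fun w hw => by
        have h1 := hc w (Submodule.mem_sup_left hw)
        rw [map_add, LinearMap.add_apply, QuadType.mem_perp' Q (hSS ha) hw, zero_add] at h1
        rw [quad_polar_comm, h1]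
      apply hv0
      have e1 : a ∈ S ⊓ perp Q S' := ⟨ha, ha'⟩
      have e2 : b ∈ S' ⊓ perp Q S := ⟨hb, hb'⟩
      rw [hd2, Submodule.mem_bot] at e1
      rw [hd1, Submodule.mem_bot] at e2
      rw [e1, e2, add_zero]
    · have h1 := Submodule.finrank_sup_add_finrank_inf_eq S S'
      rw [hdisj, finrank_bot, add_zero, hSd, hS'd] at h1
      rw [h1, step, if_neg (Nat.not_even_iff_odd.2 hodd), two_mul]
    · have h1 := Submodule.finrank_sup_add_finrank_inf_eq S S'
      rw [hdisj, finrank_bot, add_zero, hSd, hS'd] at h1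
      rw [h1, hSd, two_mul]

include hQ h2 in
/-- Non-degenerate moved spaces: dimension, pieces and type. -/
theorem exists_sub {X : End F (ι → F)} (hrp : r ≠ p) (hr2 : r ≠ 2) {i : ℕ}
    (hi : orderOf ((Fintype.card F : ℕ) : ZMod r) = i) (hX : X ^ r = 1) (hiso : ∀ v, Q (X v) = Q v) :
    ∀ (N : ℕ) {U : Submodule F (ι → F)}, finrank F U = N → Nd Q U → U.map X ≤ U → U ≤ moved X r →
      ∃ s, N = step i * s ∧ (Plus Q U ↔ typ i s) ∧
        ∀ j ≤ s, ∃ L ≤ U, Nd Q L ∧ L.map X ≤ L ∧ finrank F L = step i * j := by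
  intro N
  induction N using Nat.strong_induction_on with
  | _ N ih =>
    intro U hN hU hUi hUm
    by_cases hne : U = ⊥
    · subst hne
      rw [finrank_bot] at hN
      subst hN
      refine ⟨0, by simp, iff_of_true ⟨⊥, le_rfl, fun u hu => by rw [(Submodule.mem_bot F).1 hu, QuadraticMap.map_zero],
        by rw [finrank_bot]⟩ (Or.inr Even.zero), fun j hj => ⟨⊥, bot_le, QuadType.nd_bot Q, by simp, ?_⟩⟩
      rw [finrank_bot, Nat.le_zero.1 hj, mul_zero]
    obtain ⟨A, hAU, hA, hAi, hAd, hAp⟩ := exists_atom Q hQ h2 hrp hr2 hi hX hiso hU hUi hUm hne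
    obtain ⟨hsup, hR, hdim⟩ := QuadType.split_off Q hU hA hAU
    have hi0 : 0 < i := hi ▸ PrimeElemFlags.order_pos rfl hrp
    have hc : 0 < step i := by rw [step]; split_ifs <;> omega
    have hce : Even (step i) := by
      rw [step]; split_ifs with h
      · exact h
      · exact even_two_mul i
    obtain ⟨s, hs, hst, hsub⟩ := ih _ (by omega) rfl hR (inf_inv hUi (perp_inv Q hX hr.out.pos hiso hAi))
      (inf_le_left.trans hUm)
    refine ⟨s + 1, by rw [Nat.mul_succ]; omega, ?_, fun j hj => ?_⟩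
    · rw [← hsup, QuadType.sup_iff Q hQ h2 hA hR inf_le_right (hAd ▸ hce) (hs ▸ hce.mul_right s), hAp, hst]
      unfold typ
      rcases Nat.even_or_odd i with h | h
      · simp [Nat.not_odd_iff_even.2 h, Nat.even_add_one]
      · simp [h]
    rcases j with _ | j
    · exact ⟨⊥, bot_le, QuadType.nd_bot Q, by simp, by rw [finrank_bot, mul_zero]⟩
    obtain ⟨L, hLR, hL, hLi, hLd⟩ := hsub j (by omega)
    obtain ⟨g1, g2⟩ := QuadType.nd_sup Q hA hL (hLR.trans inf_le_right)
    refine ⟨A ⊔ L, sup_le hAU (hLR.trans inf_le_left), g1, sup_inv hAi hLi, ?_⟩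
    rw [g2, hAd, hLd, Nat.mul_succ]; ring

/-- The isometries fixing the perpendicular space of `W` pointwise. -/
def fixer (W : Submodule F (ι → F)) : Subgroup (quadIsometries Q) where
  carrier := {g | ∀ b ∈ perp Q W, (g : (ι → F) ≃ₗ[F] (ι → F)) b = b}
  mul_mem' {g h} hg hh b hb := by
    show (g : (ι → F) ≃ₗ[F] (ι → F)) ((h : (ι → F) ≃ₗ[F] (ι → F)) b) = b
    rw [hh b hb, hg b hb]
  one_mem' _ _ := rfl
  inv_mem' {g} hg b hb := by
    show (g : (ι → F) ≃ₗ[F] (ι → F)).symm b = b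
    rw [LinearEquiv.symm_apply_eq, hg b hb]

omit [Fintype F] in
theorem fixer_mem {W : Submodule F (ι → F)} (hQ : (polarBilin Q).Nondegenerate) (hW : Nd Q W) {g : quadIsometries Q}
    (hg : g ∈ fixer Q W) {v : ι → F} (hv : v ∈ W) : (g : (ι → F) ≃ₗ[F] (ι → F)) v ∈ W := by
  rw [← (QuadType.compl_perp Q hQ hW).2.2.2] at hv ⊢
  intro b hb
  have h := quad_polar_map Q (T := ((g : (ι → F) ≃ₗ[F] (ι → F)) : (ι → F) →ₗ[F] (ι → F))) g.2 b v
  simp only [LinearEquiv.coe_coe, hg b hb] at h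
  rw [h]
  exact hv b hb

include hQ in
/-- Groups on small spaces have no elements of order `r`. -/
theorem fixer_small {i : ℕ} (hrp : r ≠ p) (hi : orderOf ((Fintype.card F : ℕ) : ZMod r) = i) (hr2 : r ≠ 2)
    (h2 : (2 : F) ≠ 0) {W : Submodule F (ι → F)} (hW : Nd Q W) (hsmall : finrank F W < step i)
    (y : fixer Q W) : orderOf y ≠ r := by
  intro hy
  have hr0 : (r : F) ≠ 0 := PrimeElemFlags.cast_ne_zero hrp
  let X : End F (ι → F) := (((y : quadIsometries Q) : (ι → F) ≃ₗ[F] (ι → F)) : (ι → F) →ₗ[F] (ι → F))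
  have hpow : ∀ j : ℕ, X ^ j = ((((y ^ j : fixer Q W) : quadIsometries Q) : (ι → F) ≃ₗ[F] (ι → F)) : (ι → F) →ₗ[F] (ι → F)) := fun j => by
    induction j with
    | zero => rfl
    | succ j ih => rw [pow_succ, pow_succ, ih]; rfl
  have hX : X ^ r = 1 := by rw [hpow, ← hy, pow_orderOf_eq_one]; rfl
  have hiso : ∀ v, Q (X v) = Q v := (y : quadIsometries Q).2
  obtain ⟨-, -, hn, -⟩ := QuadType.compl_perp Q hQ hW
  have hle : perp Q W ≤ fixed X := fun b hb => mem_fixed.2 (y.2 b hb)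
  have hsum := (decompose hr0 hX (U := (⊤ : Submodule F (ι → F))) le_top).2
  rw [top_inf_eq, top_inf_eq, finrank_top] at hsum
  have hM := nd_parts Q hr0 hX hiso (QuadType.nd_top Q hQ) (le_top : (⊤ : Submodule F (ι → F)).map X ≤ ⊤)
  rw [top_inf_eq, top_inf_eq] at hM
  obtain ⟨s, hs, -, -⟩ := exists_sub Q hQ h2 hrp hr2 hi hX hiso _ rfl hM.2 moved_inv le_rfl
  have := Submodule.finrank_mono hle
  rcases s with _ | s
  · rw [mul_zero] at hs
    have htop : fixed X = ⊤ := Submodule.eq_top_of_finrank_eq (by omega)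
    have h1 : y = 1 := Subtype.ext (Subtype.ext (LinearEquiv.ext fun v =>
      mem_fixed.1 (htop.symm ▸ Submodule.mem_top : v ∈ fixed X)))
    rw [h1, orderOf_one] at hy
    exact hr.out.one_lt.ne hy
  · rw [Nat.mul_succ] at hs; omega

include hQ in
/-- Elements of order `r` in the group of a space of dimension one more than the step. -/
theorem fixer_big {i : ℕ} (hrp : r ≠ p) (hi : orderOf ((Fintype.card F : ℕ) : ZMod r) = i)
    (h2 : (2 : F) ≠ 0) {W : Submodule F (ι → F)} (hW : Nd Q W) (hdim : finrank F W = step i + 1) :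
    ∃ y : fixer Q W, orderOf y = r := by
  have hi0 : 0 < i := hi ▸ PrimeElemFlags.order_pos rfl hrp
  have hc : 0 < step i := by rw [step]; split_ifs <;> omega
  obtain ⟨a, ha⟩ : Even (step i) := by
    rw [step]; split_ifs with h
    · exact h
    · exact even_two_mul i
  let α := {v : {v : W // Q (v : ι → F) = 0} // v.1 ≠ 0}
  let act : fixer Q W → α → α := fun g v =>
    ⟨⟨⟨((g : quadIsometries Q) : (ι → F) ≃ₗ[F] (ι → F)) (v.1.1 : ι → F), fixer_mem Q hQ hW g.2 v.1.1.2⟩, by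
      show Q (((g : quadIsometries Q) : (ι → F) ≃ₗ[F] (ι → F)) (v.1.1 : ι → F)) = 0
      rw [(g : quadIsometries Q).2]; exact v.1.2⟩, fun e => v.2 (Subtype.ext (by
        have e' : ((g : quadIsometries Q) : (ι → F) ≃ₗ[F] (ι → F)) (v.1.1 : ι → F) = 0 := congrArg Subtype.val e
        simpa using e'))⟩
  haveI : Finite ((ι → F) ≃ₗ[F] (ι → F)) := Finite.of_injective (fun g => (g : (ι → F) → (ι → F))) DFunLike.coe_injective
  obtain ⟨u, hu, hu0, hQu⟩ := QuadFin.exists_singular_mem Q W (by omega)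
  haveI : Nonempty α := ⟨⟨⟨⟨u, hu⟩, hQu⟩, fun e => hu0 (congrArg Subtype.val e)⟩⟩
  refine QuadCount.exists_prime_order act (fun v => rfl) (fun g h v => rfl) (fun v w => ?_) ?_
  · have hv0 : (v.1.1 : ι → F) ≠ 0 := fun e => v.2 (Subtype.ext e)
    obtain ⟨ξ, hξ⟩ : ∃ ξ : (ι → F) →ₗ[F] F, ξ (v.1.1 : ι → F) = 1 := by
      obtain ⟨j, hj⟩ : ∃ j, (v.1.1 : ι → F) j ≠ 0 := by
        by_contra h
        push Not at h
        exact hv0 (funext h)
      exact ⟨((v.1.1 : ι → F) j)⁻¹ • LinearMap.proj j, by simp [hj]⟩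
    obtain ⟨g, hg1, hg2⟩ := QuadType.witt_on Q hQ hW (A := F ∙ (v.1.1 : ι → F))
      ((Submodule.span_singleton_le_iff_mem _ _).2 v.1.1.2) (ξ.smulRight (w.1.1 : ι → F))
      (fun a _ => W.smul_mem _ w.1.1.2) (fun a ha h => by
        obtain ⟨c, rfl⟩ := Submodule.mem_span_singleton.1 ha
        rw [LinearMap.smulRight_apply, ξ.map_smul, hξ, smul_eq_mul, mul_one, smul_eq_zero] at h
        rw [h.resolve_right (fun e => w.2 (Subtype.ext e)), zero_smul])
      (fun a ha => by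
        obtain ⟨c, rfl⟩ := Submodule.mem_span_singleton.1 ha
        rw [LinearMap.smulRight_apply, ξ.map_smul, hξ, smul_eq_mul, mul_one, quad_smul, quad_smul, v.1.2, w.1.2])
    refine ⟨⟨g, hg2⟩, Subtype.ext (Subtype.ext (Subtype.ext ?_))⟩
    show (g : (ι → F) ≃ₗ[F] (ι → F)) (v.1.1 : ι → F) = _
    rw [hg1 _ (Submodule.mem_span_singleton_self _), LinearMap.smulRight_apply, hξ, one_smul]
  · have hcard : Nat.card α = Fintype.card F ^ step i - 1 := by
      let z : {v : W // Q (v : ι → F) = 0} := ⟨0, QuadraticMap.map_zero _⟩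
      rw [Nat.card_congr (Equiv.subtypeEquivRight (q := fun v => v ≠ z) fun v =>
        not_congr ⟨fun h => Subtype.ext h, fun h => congrArg Subtype.val h⟩)]
      haveI := Fintype.ofFinite {v : W // Q (v : ι → F) = 0}
      rw [Nat.card_eq_fintype_card, Fintype.card_subtype_compl, Fintype.card_subtype_eq, ← Nat.card_eq_fintype_card,
        QuadCount.card_odd Q hQ h2 hW (a := a) (by omega), ha, two_mul]
    rw [hcard, ← ZMod.natCast_eq_zero_iff, Nat.cast_sub (Nat.one_le_pow _ _ Fintype.card_pos), Nat.cast_pow, Nat.cast_one,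
      sub_eq_zero, ← orderOf_dvd_iff_pow_eq_one, hi, step]
    split_ifs <;> simp

include hQ in
/-- An isometry of order dividing `r` with the least possible fixed space, odd dimension. -/
theorem exists_max {i d : ℕ} (hrp : r ≠ p) (hr2 : r ≠ 2) (hi : orderOf ((Fintype.card F : ℕ) : ZMod r) = i)
    (h2 : (2 : F) ≠ 0) (hn : Fintype.card ι = 2 * d + 1) :
    ∃ X : End F (ι → F), X ^ r = 1 ∧ (∀ v, Q (X v) = Q v) ∧ finrank F (fixed X) = (2 * d + 1) % step i := by
  have hr0 : (r : F) ≠ 0 := PrimeElemFlags.cast_ne_zero hrp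
  have hi0 : 0 < i := hi ▸ PrimeElemFlags.order_pos rfl hrp
  have hce : Even (step i) := by
    rw [step]; split_ifs with h
    · exact h
    · exact even_two_mul i
  have hc0 : 0 < step i := by rw [step]; split_ifs <;> omega
  suffices h : ∀ f : ℕ, (∃ X : End F (ι → F), X ^ r = 1 ∧ (∀ v, Q (X v) = Q v) ∧ finrank F (fixed X) = f) →
      ∃ X : End F (ι → F), X ^ r = 1 ∧ (∀ v, Q (X v) = Q v) ∧ finrank F (fixed X) = (2 * d + 1) % step i from
    h _ ⟨1, one_pow r, fun v => rfl, rfl⟩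
  intro f
  induction f using Nat.strong_induction_on with
  | _ f ih =>
  rintro ⟨X, hX, hiso, hf⟩
  have hsum := (decompose hr0 hX (U := (⊤ : Submodule F (ι → F))) le_top).2
  rw [top_inf_eq, top_inf_eq, finrank_top, Module.finrank_fintype_fun_eq_card, hn] at hsum
  obtain ⟨hF, hM⟩ := nd_parts Q hr0 hX hiso (QuadType.nd_top Q hQ) (le_top : (⊤ : Submodule F (ι → F)).map X ≤ ⊤)
  rw [top_inf_eq] at hF hM
  obtain ⟨s, hs, -, -⟩ := exists_sub Q hQ h2 hrp hr2 hi hX hiso _ rfl hM moved_inv le_rfl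
  rw [hf, hs] at hsum
  rcases lt_or_ge f (step i) with hlt | hge
  · refine ⟨X, hX, hiso, ?_⟩
    rw [hf, ← hsum, Nat.add_mul_mod_self_left, Nat.mod_eq_of_lt hlt]
  obtain ⟨cc, hcc⟩ := hce
  have hodd : f ≠ step i := fun e => by
    have : (step i * (s + 1)) % 2 = 0 := by rw [hcc, ← two_mul, mul_assoc]; exact Nat.mul_mod_right 2 _
    rw [e] at hsum
    rw [Nat.mul_succ] at this
    omega
  -- a space of dimension one more than the step inside the fixed space
  obtain ⟨U, hUF, hU, hUd⟩ : ∃ U ≤ fixed X, Nd Q U ∧ finrank F U = step i + 1 := by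
    obtain ⟨P, hPF, hP, hPd, -⟩ := QuadType.exists_type Q hQ h2 cc hF (by omega) True (fun _ => trivial)
    obtain ⟨-, hR, hdim⟩ := QuadType.split_off Q hF hP hPF
    obtain ⟨v, hv, hQv⟩ : ∃ v ∈ fixed X ⊓ perp Q P, Q v ≠ 0 := by
      by_contra hc
      push Not at hc
      have hle : (fixed X ⊓ perp Q P : Submodule F (ι → F)) ≠ ⊥ := fun e => by rw [e, finrank_bot] at hdim; omega
      obtain ⟨a, ha, ha0⟩ := (Submodule.ne_bot_iff _).1 hle
      obtain ⟨x, hx, hax⟩ := hR a ha ha0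
      exact hax (QuadType.ts_polar Q (U := fixed X ⊓ perp Q P) hc ha hx)
    have hvn : Nd Q (F ∙ v) := fun a ha ha0 => by
      obtain ⟨c, rfl⟩ := Submodule.mem_span_singleton.1 ha
      exact ⟨v, Submodule.mem_span_singleton_self v, by
        simp [quad_polar_self, hQv, h2, (smul_ne_zero_iff.1 ha0).1]⟩
    obtain ⟨g1, g2⟩ := QuadType.nd_sup Q hP hvn ((Submodule.span_singleton_le_iff_mem _ _).2 hv.2)
    refine ⟨_, sup_le hPF ((Submodule.span_singleton_le_iff_mem _ _).2 hv.1), g1, ?_⟩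
    rw [g2, hPd, finrank_span_singleton (fun e => hQv (by rw [e, QuadraticMap.map_zero]))]
    omega
  obtain ⟨y, hy⟩ := fixer_big Q hQ hrp hi h2 hU hUd
  let Y : End F (ι → F) := (((y : quadIsometries Q) : (ι → F) ≃ₗ[F] (ι → F)) : (ι → F) →ₗ[F] (ι → F))
  have hY : Y ^ r = 1 := by
    have hpow : ∀ j : ℕ, Y ^ j = ((((y ^ j : fixer Q U) : quadIsometries Q) : (ι → F) ≃ₗ[F] (ι → F)) : (ι → F) →ₗ[F] (ι → F)) := fun j => by
      induction j with
      | zero => rfl
      | succ j ih => rw [pow_succ, pow_succ, ih]; rfl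
    rw [hpow, ← hy, pow_orderOf_eq_one]; rfl
  have hYU : ∀ u ∈ U, Y u ∈ U := fun u hu => fixer_mem Q hQ hU y.2 hu
  have hXp : ∀ w ∈ perp Q U, X w ∈ perp Q U := fun w hw u hu => by
    rw [← mem_fixed.1 (hUF hu), quad_polar_map Q hiso]; exact hw u hu
  obtain ⟨htop, -, -, -⟩ := QuadType.compl_perp Q hQ hU
  have hcomm : Commute X Y := by
    refine LinearMap.ext fun v => ?_
    obtain ⟨u, hu, w, hw, rfl⟩ := Submodule.mem_sup.1 (htop.symm ▸ Submodule.mem_top : v ∈ U ⊔ perp Q U)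
    have e1 : Y w = w := y.2 w hw
    have e2 : Y (X w) = X w := y.2 _ (hXp w hw)
    simp only [End.mul_apply, map_add, e1, e2, mem_fixed.1 (hUF hu), mem_fixed.1 (hUF (hYU u hu))]
  have hiso' : ∀ v, Q ((X * Y) v) = Q v := fun v => by
    rw [End.mul_apply, hiso]; exact (y : quadIsometries Q).2 v
  refine ih (finrank F (fixed (X * Y))) ?_ ⟨X * Y, by rw [hcomm.mul_pow, hX, hY, one_mul], hiso', rfl⟩
  rw [← hf]
  have hmem : ∀ v ∈ fixed (X * Y), v ∈ fixed X ∧ Y v = v := fun v hv => by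
    obtain ⟨u, hu, w, hw, rfl⟩ := Submodule.mem_sup.1 (htop.symm ▸ Submodule.mem_top : v ∈ U ⊔ perp Q U)
    have h := mem_fixed.1 hv
    have e1 : Y w = w := y.2 w hw
    rw [End.mul_apply, map_add, map_add, e1, mem_fixed.1 (hUF (hYU u hu))] at h
    have h0 : Y u - u ∈ U ⊓ ((⊤ : Submodule F (ι → F)) ⊓ perp Q U) := by
      refine ⟨U.sub_mem (hYU u hu) hu, Submodule.mem_top, ?_⟩
      rw [sub_eq_sub_iff_add_eq_add.2 (h.trans (add_comm u w))]
      exact Submodule.sub_mem _ hw (hXp w hw)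
    rw [QuadType.inf_perp Q hU, Submodule.mem_bot, sub_eq_zero] at h0
    rw [h0, add_right_inj] at h
    exact ⟨mem_fixed.2 (by rw [map_add, mem_fixed.1 (hUF hu), h]), by rw [map_add, h0, e1]⟩
  refine Submodule.finrank_lt_finrank_of_lt (lt_of_le_of_ne (fun v hv => (hmem v hv).1) fun e => ?_)
  refine hr.out.one_lt.ne ?_
  rw [← hy, show y = 1 from Subtype.ext (Subtype.ext (LinearEquiv.ext fun v => ?_)), orderOf_one]
  obtain ⟨u, hu, w, hw, rfl⟩ := Submodule.mem_sup.1 (htop.symm ▸ Submodule.mem_top : v ∈ U ⊔ perp Q U)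
  show Y (u + w) = u + w
  rw [map_add, (hmem u (e.symm ▸ hUF hu)).2, show Y w = w from y.2 w hw]

omit [Fintype ι] [DecidableEq ι] [Fintype F] [Fact p.Prime] [CharP F p] in
theorem pow_mul_cancel {G : Type*} [Monoid G] {x : G} {n : ℕ} (hn : n ≠ 0) (hx : x ^ r = 1) (hco : Nat.Coprime n r) :
    ∃ k : ℕ, (x ^ n) ^ k = x := by
  obtain ⟨k, hk⟩ := Nat.exists_mul_mod_eq_one_of_coprime hco hr.out.one_lt
  exact ⟨k, by rw [← pow_mul, pow_eq_pow_mod _ hx, hk.2, pow_one]⟩

include hQ in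
/-- Odd order isometries lie in the commutator subgroup. -/
theorem mem_omega (h2 : (2 : F) ≠ 0) (hr2 : r ≠ 2) (hn : 2 ≤ Fintype.card ι) {x : GL ι F}
    (hx : x ∈ Cfsg.isometryGroup F ⇑Q) (hxr : x ^ r = 1) : x ∈ Cfsg.Geo.omegaGL (⇑Q) := by
  refine ⟨⟨x, hx⟩, ?_, rfl⟩
  have hidx : (commutator (Cfsg.isometryGroup F ⇑Q)).index = 4 := by
    rw [index_commutator_congr (isometryEquiv Q), index_commutator_odd Q hQ h2 (by
      rw [Module.finrank_fintype_fun_eq_card]; exact hn)]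
  haveI : (commutator (Cfsg.isometryGroup F ⇑Q)).FiniteIndex := ⟨by rw [hidx]; norm_num⟩
  have h4 := (commutator (Cfsg.isometryGroup F ⇑Q)).pow_index_mem (⟨x, hx⟩ : Cfsg.isometryGroup F ⇑Q)
  rw [hidx] at h4
  obtain ⟨k, hk⟩ := pow_mul_cancel (r := r) (x := (⟨x, hx⟩ : Cfsg.isometryGroup F ⇑Q)) (n := 4) (by norm_num)
    (Subtype.ext (by rw [SubmonoidClass.coe_pow, hxr]; rfl))
    (Nat.Coprime.pow_left 2 ((Nat.coprime_primes Nat.prime_two hr.out).2 (Ne.symm hr2)))
  rw [← hk]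
  exact Subgroup.pow_mem _ h4 k

end Cfsg.Agent.Lib.MaxSub.OrthDecomp
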