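import Cfsg.Agent.Lib.MaxSub.OrthExtGen
import Cfsg.Agent.Lib.Classical.AutPOmega.QuadType
import Mathlib

/-!
The centraliser of a self-adjoint quadratic extension in the orthogonal group, and its order.
-/

set_option autoImplicit false
set_option maxHeartbeats 1000000
set_option linter.unusedSectionVars false

namespace Cfsg.Agent.Lib.MaxSub.OrthExt

open Module Matrix Cfsg.Agent.Lib.MaxSub Cfsg.Agent.Lib.Geometry Cfsg.Agent.Lib.Classical
open Cfsg.Agent.Lib.MaxSub.QuadType (Nd TS Plus perp)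
open Cfsg.Agent.Lib.QuadFin (IsQFrame)
open QuadraticMap (polarBilin)
open scoped _root_.Classical

attribute [-simp] QuadraticMap.polarBilin_apply_apply

section Generic

variable {L V : Type*} [Field L] [AddCommGroup V] [Module L V] [FiniteDimensional L V] (R : QuadraticForm L V)

theorem quad_sum_zero {κ : Type*} (s : Finset κ) (w : κ → V) (h0 : ∀ i, R (w i) = 0)
    (h : ∀ i j, polarBilin R (w i) (w j) = 0) : R (∑ i ∈ s, w i) = 0 := by
  induction s using Finset.induction_on with
  | empty => simp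
  | insert a s ha ih =>
    rw [Finset.sum_insert ha, quad_add, h0, ih, map_sum, Finset.sum_eq_zero (fun j _ => h a j), add_zero, add_zero]

variable [Fintype L] {q : ℕ}

theorem card_even (hR : (polarBilin R).Nondegenerate) (hq : Fintype.card L = q) {m : ℕ} (hm : 1 ≤ m)
    (hd : finrank L V = 2 * m) :
    ((∃ b : Module.Basis (Fin m ⊕ Fin m) L V, QuadFin.IsHypBasis R b) ∧
        (q ^ m - 1) * ∏ i ∈ Finset.range (m - 1), (q ^ (2 * (i + 1)) - 1) ∣ Nat.card (quadIsometries R)) ∨
      ((∃ (b : Module.Basis ((Fin (m - 1) ⊕ Fin (m - 1)) ⊕ Fin 2) L V) (ζ : L), QuadFin.IsEllBasis R b ζ) ∧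
        (q ^ m + 1) * ∏ i ∈ Finset.range (m - 1), (q ^ (2 * (i + 1)) - 1) ∣ Nat.card (quadIsometries R)) := by
  rcases QuadFin.exists_normal_basis R hR hm hd with ⟨b, hb⟩ | ⟨b, ζ, hb⟩
  · refine Or.inl ⟨⟨b, hb⟩, ?_⟩
    rw [← card_isometryGroup_eq b.equivFun.symm (Cfsg.quadFormPlus m L) R (fun v => by
      rw [MinusModel.hyp_apply hb, LinearEquiv.apply_symm_apply]), card_orth_plus hq m hm, mul_assoc (2 * _)]
    exact dvd_mul_left _ _
  · refine Or.inr ⟨⟨b, ζ, hb⟩, ?_⟩
    rw [← card_isometryGroup_eq b.equivFun.symm (Cfsg.quadFormMinus (m - 1) L 1 ζ) R (fun v => by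
      rw [MinusModel.ell_apply hb, LinearEquiv.apply_symm_apply]), card_orth_minus hq m hm 1 ζ
      (AutPOmega.anisotropic_of_no_root fun t => by rw [one_mul]; exact hb.1 t), mul_assoc (2 * _)]
    exact dvd_mul_left _ _

theorem card_odd (hR : (polarBilin R).Nondegenerate) (hq : Fintype.card L = q) (hodd : Odd q) {m : ℕ}
    (hd : finrank L V = 2 * m + 1) :
    ∏ i ∈ Finset.range m, (q ^ (2 * (i + 1)) - 1) ∣ Nat.card (quadIsometries R) := by
  obtain ⟨p, x, hp, hx, hc⟩ := QuadFin.exists_odd_basis R hR hd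
  have hx0 : x ≠ 0 := fun e => hc (by rw [e, QuadraticMap.map_zero])
  have hli := QuadFin.linearIndependent_frameVec R hp (w := fun _ : Unit => x) (fun _ => hx)
    (LinearIndependent.of_subsingleton () hx0)
  let b := (basisOfLinearIndependentOfCardEqFinrank hli (by
    simp only [Fintype.card_sum, Fintype.card_fin, Fintype.card_unit, hd]; omega)).reindex
      (Equiv.sumComm (Fin m ⊕ Fin m) Unit)
  let cu : Unit ⊕ (Fin m ⊕ Fin m) → Lˣ := Sum.elim (fun _ => 1) (Sum.elim (fun _ => Units.mk0 _ hc) (fun _ => 1))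
  let e : (Unit ⊕ (Fin m ⊕ Fin m) → L) ≃ₗ[L] V :=
    (LinearEquiv.piCongrRight fun i => LinearEquiv.smulOfUnit (cu i)).trans b.equivFun.symm
  have he : ∀ y, e y = y (Sum.inl ()) • x + ((∑ i, (R x * y (Sum.inr (Sum.inl i))) • (p i).1) +
      ∑ i, y (Sum.inr (Sum.inr i)) • (p i).2) := fun y => by
    simp [e, b, cu, Module.Basis.equivFun_symm_apply, Fintype.sum_sum_type, QuadFin.frameVec,
      LinearEquiv.smulOfUnit, Units.smul_def]
  have hx' := (mem_hypPerp _).1 hx
  let R' : QuadraticForm L V := (R x)⁻¹ • R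
  have hform : ∀ y, Cfsg.quadFormOdd m L y = R' (e y) := fun y => by
    show _ = (R x)⁻¹ * R (e y)
    rw [he, quad_add, quad_add, quad_smul, quad_sum_zero R _ _ (fun i => by rw [quad_smul, (hp.2 i).1, mul_zero])
      (fun i j => by simp [(hp.1 i j).1]), quad_sum_zero R _ _ (fun i => by rw [quad_smul, (hp.2 i).2, mul_zero])
      (fun i j => by simp [(hp.1 i j).2.1])]
    simp only [map_add, map_sum, map_smul, LinearMap.sum_apply, LinearMap.smul_apply, LinearMap.add_apply,
      (fun i => by rw [quad_polar_comm]; exact (hx' i).1 : ∀ i, polarBilin R x (p i).1 = 0),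
      (fun i => by rw [quad_polar_comm]; exact (hx' i).2 : ∀ i, polarBilin R x (p i).2 = 0),
      (fun i j => (hp.1 i j).2.2 : ∀ i j, polarBilin R (p i).1 (p j).2 = if i = j then 1 else 0)]
    simp [Cfsg.quadFormOdd, Finset.mul_sum]
    field_simp
    rw [add_mul, Finset.sum_mul]
    congr 1
    exact Finset.sum_congr rfl fun i _ => by ring
  have heq : Nat.card (quadIsometries R') = Nat.card (quadIsometries R) := by
    refine Nat.card_congr (Equiv.subtypeEquivRight fun g => ?_)
    rw [mem_quadIsometries, mem_quadIsometries]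
    exact forall_congr' fun v => ⟨fun h => mul_left_cancel₀ (inv_ne_zero hc) h, fun h => congrArg ((R x)⁻¹ * ·) h⟩
  rw [← heq, ← card_isometryGroup_eq e (Cfsg.quadFormOdd m L) R' hform, card_orth_odd hq hodd m]
  exact dvd_mul_left _ _

end Generic

variable {ι : Type} [Fintype ι] [DecidableEq ι] {F : Type*} [Field F] [Fintype F] (Q : QuadraticForm F (ι → F))
variable (hQ : (polarBilin Q).Nondegenerate) (h2 : (2 : F) ≠ 0)
variable (ω : End F (ι → F)) (t : F) (hω : ∀ v, ω (ω v) = t • v)
variable (hsa : ∀ u v, polarBilin Q (ω u) v = polarBilin Q u (ω v)) (ht : ¬ IsSquare t)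

/-- The isometries commuting with `ω`. -/
def cent : Subgroup (quadIsometries Q) where
  carrier := {g | ∀ v, (g : (ι → F) ≃ₗ[F] (ι → F)) (ω v) = ω ((g : (ι → F) ≃ₗ[F] (ι → F)) v)}
  one_mem' v := rfl
  mul_mem' {g h} hg hh v := by
    show (g : (ι → F) ≃ₗ[F] (ι → F)) ((h : (ι → F) ≃ₗ[F] (ι → F)) (ω v)) =
      ω ((g : (ι → F) ≃ₗ[F] (ι → F)) ((h : (ι → F) ≃ₗ[F] (ι → F)) v))
    rw [hh, hg]
  inv_mem' {g} hg v := by
    show (g : (ι → F) ≃ₗ[F] (ι → F)).symm (ω v) = ω ((g : (ι → F) ≃ₗ[F] (ι → F)).symm v)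
    apply (g : (ι → F) ≃ₗ[F] (ι → F)).injective
    rw [hg, LinearEquiv.apply_symm_apply, LinearEquiv.apply_symm_apply]

include h2 ht in
theorem card_cent : haveI := fact t ht; letI := modL ω t hω
    Nat.card (cent Q ω) = Nat.card (quadIsometries (QL Q ω t hω hsa)) := by
  haveI := fact t ht
  letI := modL ω t hω
  haveI := tower ω t hω
  refine Nat.card_congr
    { toFun := fun g => ⟨{ ((g.1 : quadIsometries Q) : (ι → F) ≃ₗ[F] (ι → F)) with
        map_smul' := fun c v => ?_ }, fun v => ?_⟩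
      invFun := fun g => ⟨⟨{ (g.1 : (ι → F) ≃ₗ[QuadraticAlgebra F t 0] (ι → F)) with
        map_smul' := fun c v => ?_ }, fun v => ?_⟩, fun v => ?_⟩
      left_inv := fun g => ?_
      right_inv := fun g => ?_ }
  · show (g.1 : (ι → F) ≃ₗ[F] (ι → F)) (c.re • v + c.im • ω v) =
      c.re • (g.1 : (ι → F) ≃ₗ[F] (ι → F)) v + c.im • ω ((g.1 : (ι → F) ≃ₗ[F] (ι → F)) v)
    rw [map_add, map_smul, map_smul, g.2 v]
  · show QL Q ω t hω hsa ((g.1 : (ι → F) ≃ₗ[F] (ι → F)) v) = _
    rw [QL_apply Q h2, QL_apply Q h2, ← g.2 v]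
    refine congrArg₂ QuadraticAlgebra.mk ?_ (mem_quadIsometries.1 g.1.2 v)
    congr 1
    exact quad_polar_map Q (T := ((g.1 : (ι → F) ≃ₗ[F] (ι → F)) : End F (ι → F))) (fun w => mem_quadIsometries.1 g.1.2 w) _ _
  · show g.1 (c • v) = c • g.1 v
    rw [← algebraMap_smul (QuadraticAlgebra F t 0) c v, map_smul, algebraMap_smul]
  · show Q (g.1 v) = Q v
    have h := mem_quadIsometries.1 g.2 v
    rw [QL_apply Q h2, QL_apply Q h2] at h
    exact congrArg QuadraticAlgebra.im h
  · have hw : ∀ u : ι → F, (⟨0, 1⟩ : QuadraticAlgebra F t 0) • u = ω u := fun u => by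
      show (0 : F) • u + (1 : F) • ω u = _
      simp
    show g.1 (ω v) = ω (g.1 v)
    rw [← hw, map_smul, hw]
  · exact Subtype.ext (Subtype.ext (LinearEquiv.ext fun v => rfl))
  · exact Subtype.ext (LinearEquiv.ext fun v => rfl)

omit [Fintype F] in
include ht in
theorem card_ext [Fintype F] [Fintype (QuadraticAlgebra F t 0)] :
    Fintype.card (QuadraticAlgebra F t 0) = Fintype.card F ^ 2 := by
  rw [Module.card_eq_pow_finrank (K := F) (V := QuadraticAlgebra F t 0), QuadraticAlgebra.finrank_eq_two]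

include hQ h2 hω hsa ht in
/-- Odd dimension over the extension. -/
theorem cent_odd {m : ℕ} (hd : Fintype.card ι = 2 * (2 * m + 1)) :
    ∏ i ∈ Finset.range m, ((Fintype.card F ^ 2) ^ (2 * (i + 1)) - 1) ∣ Nat.card (cent Q ω) := by
  rw [card_cent Q h2 ω t hω hsa ht]
  letI := modL ω t hω
  haveI := fact t ht
  haveI : Finite (QuadraticAlgebra F t 0) := Module.finite_of_finite F
  letI := Fintype.ofFinite (QuadraticAlgebra F t 0)
  haveI := tower ω t hω
  haveI : Module.Finite (QuadraticAlgebra F t 0) (ι → F) := Module.Finite.of_restrictScalars_finite F _ _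
  have hodd : Odd (Fintype.card F ^ 2) := by
    refine Odd.pow (Nat.odd_iff.2 (FiniteField.odd_card_of_char_ne_two fun e => h2 ?_))
    haveI := ringChar.of_eq e
    exact CharTwo.two_eq_zero
  refine card_odd (QL Q ω t hω hsa) (QL_nondegenerate Q hQ h2 ω t hω hsa) (card_ext t ht) hodd ?_
  have h := Module.finrank_mul_finrank F (QuadraticAlgebra F t 0) (ι → F)
  rw [QuadraticAlgebra.finrank_eq_two, Module.finrank_fintype_fun_eq_card, hd] at h
  omega

include hQ h2 hω hsa ht in
/-- Even dimension over the extension: the type is the same. -/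
theorem cent_even {m : ℕ} (hm : 1 ≤ m) (hd : Fintype.card ι = 2 * (2 * m)) :
    ((if Plus Q (⊤ : Submodule F (ι → F)) then (Fintype.card F ^ 2) ^ m - 1 else (Fintype.card F ^ 2) ^ m + 1) *
      ∏ i ∈ Finset.range (m - 1), ((Fintype.card F ^ 2) ^ (2 * (i + 1)) - 1)) ∣ Nat.card (cent Q ω) := by
  rw [card_cent Q h2 ω t hω hsa ht]
  letI := modL ω t hω
  haveI := fact t ht
  haveI : Finite (QuadraticAlgebra F t 0) := Module.finite_of_finite F
  letI := Fintype.ofFinite (QuadraticAlgebra F t 0)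
  haveI := tower ω t hω
  haveI : Module.Finite (QuadraticAlgebra F t 0) (ι → F) := Module.Finite.of_restrictScalars_finite F _ _
  have hfr : finrank (QuadraticAlgebra F t 0) (ι → F) = 2 * m := by
    have h := Module.finrank_mul_finrank F (QuadraticAlgebra F t 0) (ι → F)
    rw [QuadraticAlgebra.finrank_eq_two, Module.finrank_fintype_fun_eq_card, hd] at h
    omega
  have hts : ∀ {k : ℕ} (w : Fin k → ι → F), LinearIndependent (QuadraticAlgebra F t 0) w →
      (∀ i, QL Q ω t hω hsa (w i) = 0) → (∀ i j, polarBilin (QL Q ω t hω hsa) (w i) (w j) = 0) →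
      ∀ T : Submodule (QuadraticAlgebra F t 0) (ι → F), T = Submodule.span _ (Set.range w) →
        TS Q (T.restrictScalars F) ∧ finrank F (T.restrictScalars F) = 2 * k := by
    intro k w hw h0 hp T hT
    refine ⟨fun u hu => ?_, ?_⟩
    · rw [Submodule.restrictScalars_mem, hT, Submodule.mem_span_range_iff_exists_fun] at hu
      obtain ⟨c, rfl⟩ := hu
      have h := quad_sum_zero (QL Q ω t hω hsa) Finset.univ (fun i => c i • w i)
        (fun i => by rw [quad_smul, h0, mul_zero]) (fun i j => by simp [hp])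
      rw [QL_apply Q h2] at h
      exact congrArg QuadraticAlgebra.im h
    · show finrank F T = 2 * k
      rw [← Module.finrank_mul_finrank F (QuadraticAlgebra F t 0) T, QuadraticAlgebra.finrank_eq_two, hT,
        finrank_span_eq_card hw, Fintype.card_fin]
  rcases card_even (QL Q ω t hω hsa) (QL_nondegenerate Q hQ h2 ω t hω hsa) (card_ext t ht) hm hfr with
    ⟨⟨b, h1, -, h3⟩, hdvd⟩ | ⟨⟨b, ζ, hζ, h1, -, h3, h4, h5, h6, h7⟩, hdvd⟩
  · rw [if_pos]
    · exact hdvd
    obtain ⟨hT, hTd⟩ := hts (fun i => b (Sum.inl i)) (b.linearIndependent.comp _ Sum.inl_injective) (fun i => (h1 i).1)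
      (fun i j => (h3 i j).1) _ rfl
    exact ⟨_, le_top, hT, by rw [hTd, finrank_top, Module.finrank_fintype_fun_eq_card, hd]⟩
  · rw [if_neg]
    · exact hdvd
    intro hplus
    obtain ⟨hT, hTd⟩ := hts (fun i => b (Sum.inl (Sum.inl i)))
      (b.linearIndependent.comp (fun i => Sum.inl (Sum.inl i)) (Sum.inl_injective.comp Sum.inl_injective))
      (fun i => (h1 i).1) (fun i j => (h3 i j).1) _ rfl
    set T := Submodule.span (QuadraticAlgebra F t 0) (Set.range fun i => b (Sum.inl (Sum.inl i))) with hTdef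
    set W := Submodule.span (QuadraticAlgebra F t 0) (Set.range fun k => b (Sum.inr k)) with hWdef
    have hWd : finrank F (W.restrictScalars F) = 4 := by
      show finrank F W = 4
      rw [← Module.finrank_mul_finrank F (QuadraticAlgebra F t 0) W, QuadraticAlgebra.finrank_eq_two, hWdef,
        finrank_span_eq_card (b := fun k => b (Sum.inr k)) (b.linearIndependent.comp _ Sum.inr_injective), Fintype.card_fin]
    have haniso : ∀ u ∈ W, QL Q ω t hω hsa u = 0 → u = 0 := by
      intro u hu h0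
      rw [hWdef, Submodule.mem_span_range_iff_exists_fun] at hu
      obtain ⟨c, rfl⟩ := hu
      rw [Fin.sum_univ_two, quad_add, quad_smul, quad_smul, map_smul, map_smul, LinearMap.smul_apply,
        show polarBilin (QL Q ω t hω hsa) (b (Sum.inr 0)) (b (Sum.inr 1)) = 1 from h6, h5, h7, smul_eq_mul, smul_eq_mul] at h0
      obtain ⟨e0, e1⟩ := AutPOmega.anisotropic_of_no_root (a := (1 : QuadraticAlgebra F t 0)) (b := ζ)
        (fun s => by rw [one_mul]; exact hζ s) (c 0) (c 1) (by linear_combination h0)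
      rw [Fin.sum_univ_two, e0, e1, zero_smul, zero_smul, add_zero]
    have hWi : (W.restrictScalars F).map ω ≤ W.restrictScalars F := by
      rintro _ ⟨u, hu, rfl⟩
      have := W.smul_mem (⟨0, 1⟩ : QuadraticAlgebra F t 0) hu
      have e : (⟨0, 1⟩ : QuadraticAlgebra F t 0) • u = ω u := by
        show (0 : F) • u + (1 : F) • ω u = _
        simp
      exact e ▸ this
    have hWn : Nd Q (W.restrictScalars F) := fun u hu hu0 => by
      by_contra hc
      push Not at hc
      refine hu0 (haniso u hu ?_)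
      have e1 := hc u hu
      have e2 := hc (ω u) (hWi (Submodule.mem_map_of_mem hu))
      rw [quad_polar_self] at e1
      rw [QL_apply Q h2, (mul_eq_zero.1 e1).resolve_left h2, hsa, e2, mul_zero]
      rfl
    obtain ⟨hsup, hR, hRd⟩ := QuadType.split_off Q (QuadType.nd_top Q hQ) hWn le_top
    rw [finrank_top, Module.finrank_fintype_fun_eq_card, hd] at hRd
    have hRp : Plus Q (⊤ ⊓ perp Q (W.restrictScalars F)) := by
      refine ⟨T.restrictScalars F, le_inf le_top fun x hx w hw => ?_, hT, by omega⟩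
      rw [Submodule.restrictScalars_mem] at hx hw
      have key : ∀ a ∈ T, ∀ c ∈ W, polarBilin (QL Q ω t hω hsa) c a = 0 := by
        intro a ha c hc
        rw [hTdef, Submodule.mem_span_range_iff_exists_fun] at ha
        rw [hWdef, Submodule.mem_span_range_iff_exists_fun] at hc
        obtain ⟨α, rfl⟩ := ha
        obtain ⟨γ, rfl⟩ := hc
        have h4' : ∀ k i, polarBilin (QL Q ω t hω hsa) (b (Sum.inr k)) (b (Sum.inl (Sum.inl i))) = 0 := fun k i => by
          rw [quad_polar_comm]; exact (h4 i k).1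
        simp [map_sum, h4']
      have h := key x hx w hw
      rw [QL_polar Q h2] at h
      exact congrArg QuadraticAlgebra.im h
    have hWp : Plus Q (W.restrictScalars F) := by
      rw [← hsup, QuadType.sup_iff Q hQ h2 hWn hR inf_le_right ⟨2, by omega⟩ ⟨2 * m - 2, by omega⟩] at hplus
      exact hplus.2 hRp
    obtain ⟨u, hu, hu0, hQu⟩ := exists_isotropic Q hQ h2 ω t hω hsa ht hWn hWi hWd hWp
    exact hu0 (haniso u hu hQu)

end Cfsg.Agent.Lib.MaxSub.OrthExt
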