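import Cfsg.Agent.Lib.MaxSub.QuadType
import Cfsg.Agent.Lib.MaxSub.MinusModel
import Cfsg.Agent.Lib.Geometry.OrthQuotient
import Cfsg.Agent.Lib.Geometry.OrthClassGen
import Cfsg.Agent.Lib.Classical.OrthCard
import Cfsg.Agent.Lib.Classical.AutPOmega.Odd
import Cfsg.Prelude.Def_GeometricClasses
import Mathlib

/-!
Orthogonal spaces with a self-adjoint quadratic extension field of scalars.
-/

set_option autoImplicit false
set_option maxHeartbeats 1000000
set_option linter.unusedSectionVars false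

namespace Cfsg.Agent.Lib.MaxSub.OrthExt

open Module Matrix Cfsg.Agent.Lib.MaxSub Cfsg.Agent.Lib.Geometry
open Cfsg.Agent.Lib.MaxSub.QuadType (Nd TS Plus perp)
open QuadraticMap (polarBilin)
open scoped _root_.Classical

attribute [-simp] QuadraticMap.polarBilin_apply_apply

variable {ι : Type} [Fintype ι] [DecidableEq ι] {F : Type*} [Field F]

/-- A traceless generator of the extension, and its normaliser. -/
theorem exists_omega [Nonempty ι] (h2 : (2 : F) ≠ 0) (f : (ι → F) → (ι → F) → F)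
    {K : Subalgebra F (Matrix ι ι F)} (hK : Cfsg.Geo.IsFieldSubalgebra 2 K) (hKf : Cfsg.Geo.IsSelfAdjointFor f K) :
    ∃ (ω : End F (ι → F)) (t : F), (∀ v, ω (ω v) = t • v) ∧ (∀ u v, f (ω u) v = f u (ω v)) ∧ ¬ IsSquare t ∧
      ∀ g : GL ι F, g ∈ Cfsg.Geo.subalgebraNormalizer K ↔
        ((∀ v, (g : Matrix ι ι F) *ᵥ ω v = ω ((g : Matrix ι ι F) *ᵥ v)) ∨
          (∀ v, (g : Matrix ι ι F) *ᵥ ω v = -ω ((g : Matrix ι ι F) *ᵥ v))) := by
  have h1 : (1 : Matrix ι ι F) ≠ 0 := one_ne_zero
  obtain ⟨w, hw, hns⟩ : ∃ w ∈ K, ∀ a : F, w ≠ a • (1 : Matrix ι ι F) := by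
    by_contra hne
    push Not at hne
    have hle : K ≤ ⊥ := fun k hk => by
      obtain ⟨a, ha⟩ := hne k hk
      exact Algebra.mem_bot.2 ⟨a, by rw [Algebra.algebraMap_eq_smul_one, ha]⟩
    have h := Submodule.finrank_mono (show Subalgebra.toSubmodule K ≤
      Subalgebra.toSubmodule (⊥ : Subalgebra F (Matrix ι ι F)) from hle)
    rw [Subalgebra.finrank_toSubmodule, Subalgebra.finrank_toSubmodule, hK.finrank_eq, Subalgebra.finrank_bot] at h
    omega
  have hind : ∀ (w : Matrix ι ι F), (∀ a : F, w ≠ a • (1 : Matrix ι ι F)) →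
      ∀ a b : F, a • (1 : Matrix ι ι F) + b • w = 0 → a = 0 ∧ b = 0 := by
    intro w hns a b h
    have hb : b = 0 := by
      by_contra hb
      apply hns (-a / b)
      rw [eq_comm, div_eq_mul_inv, mul_comm, mul_smul, inv_smul_eq_iff₀ hb, neg_smul, neg_eq_iff_add_eq_zero, h]
    subst hb
    rw [zero_smul, add_zero] at h
    exact ⟨(smul_eq_zero.1 h).resolve_right h1, rfl⟩
  have hmem : ∀ k, k ∈ K → ∃ a b : F, k = a • (1 : Matrix ι ι F) + b • w := by
    have hli : LinearIndependent F ![(1 : Matrix ι ι F), w] := LinearIndependent.pair_iff.2 (hind w hns)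
    have hspan : Submodule.span F (Set.range ![(1 : Matrix ι ι F), w]) = Subalgebra.toSubmodule K := by
      refine Submodule.eq_of_le_of_finrank_eq (Submodule.span_le.2 ?_) ?_
      · rintro _ ⟨i, rfl⟩
        fin_cases i
        · exact K.one_mem
        · exact hw
      · rw [finrank_span_eq_card hli, Fintype.card_fin, Subalgebra.finrank_toSubmodule, hK.finrank_eq]
    intro k hk
    rw [← Subalgebra.mem_toSubmodule, ← hspan, Submodule.mem_span_range_iff_exists_fun] at hk
    obtain ⟨c, rfl⟩ := hk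
    exact ⟨c 0, c 1, by rw [Fin.sum_univ_two]; rfl⟩
  obtain ⟨a₀, b₀, hww⟩ := hmem _ (K.mul_mem hw hw)
  set u := w - (b₀ / 2) • (1 : Matrix ι ι F) with hu
  set t := a₀ + b₀ * b₀ / 4 with ht
  have huK : u ∈ K := K.sub_mem hw (K.smul_mem K.one_mem _)
  have huu : u * u = t • (1 : Matrix ι ι F) := by
    rw [hu, sub_mul, mul_sub, mul_sub, hww]
    simp only [Matrix.smul_mul, Matrix.mul_smul, one_mul, mul_one, smul_smul, ht]
    have h4 : (4 : F) ≠ 0 := by
      rw [show (4 : F) = 2 * 2 by norm_num]; exact mul_ne_zero h2 h2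
    match_scalars <;> field_simp <;> ring
  have huns : ∀ a : F, u ≠ a • (1 : Matrix ι ι F) := fun a h => hns (a + b₀ / 2) (by
    rw [hu, sub_eq_iff_eq_add] at h; rw [h, add_smul])
  clear_value t
  have hKu : ∀ k, k ∈ K ↔ ∃ a b : F, k = a • (1 : Matrix ι ι F) + b • u := fun k => by
    refine ⟨fun hk => ?_, ?_⟩
    · obtain ⟨a, b, rfl⟩ := hmem k hk
      refine ⟨a + b * (b₀ / 2), b, ?_⟩
      rw [hu]; module
    · rintro ⟨a, b, rfl⟩
      exact K.add_mem (K.smul_mem K.one_mem _) (K.smul_mem huK _)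
  clear_value u
  have hnsq : ¬ IsSquare t := by
    rintro ⟨s, hs⟩
    have e : (u - s • (1 : Matrix ι ι F)) * (u + s • 1) = 0 := by
      rw [sub_mul, mul_add, mul_add, huu, hs]
      simp only [Matrix.smul_mul, Matrix.mul_smul, one_mul, mul_one, smul_smul]
      module
    obtain ⟨y, hy, hy'⟩ := hK.inv _ (K.sub_mem huK (K.smul_mem K.one_mem s)) (sub_ne_zero.2 (huns s))
    apply huns (-s)
    rw [neg_smul, ← add_eq_zero_iff_eq_neg]
    calc u + s • (1 : Matrix ι ι F) = (y * (u - s • 1)) * (u + s • 1) := by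
          rw [hK.comm y hy _ (K.sub_mem huK (K.smul_mem K.one_mem s)), hy', one_mul]
      _ = 0 := by rw [mul_assoc, e, mul_zero]
  refine ⟨Matrix.toLin' u, t, fun v => ?_, fun x y => ?_, hnsq, fun g => ?_⟩
  · rw [Matrix.toLin'_apply, Matrix.toLin'_apply, Matrix.mulVec_mulVec, huu, Matrix.smul_mulVec, Matrix.one_mulVec]
  · rw [Matrix.toLin'_apply, Matrix.toLin'_apply]
    exact hKf u huK x y
  have hgi : ∀ e : F, ((g : Matrix ι ι F) * u = (e • u) * (g : Matrix ι ι F)) ↔
      ∀ v, (g : Matrix ι ι F) *ᵥ Matrix.toLin' u v = e • Matrix.toLin' u ((g : Matrix ι ι F) *ᵥ v) := fun e => by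
    simp only [Matrix.toLin'_apply, Matrix.mulVec_mulVec, ← Matrix.smul_mulVec, smul_mul_assoc]
    exact ⟨fun h v => by rw [h], fun h => Matrix.toLin'.injective (LinearMap.ext fun v => by
      rw [Matrix.toLin'_apply, Matrix.toLin'_apply]; exact h v)⟩
  constructor
  · intro hg
    obtain ⟨a, b, hab⟩ := (hKu _).1 ((hg u).1 huK)
    have hsq : (a • (1 : Matrix ι ι F) + b • u) * (a • 1 + b • u) = t • 1 := by
      rw [← hab]
      simp only [mul_assoc, Units.inv_mul_cancel_left]
      rw [← mul_assoc u, huu, Matrix.smul_mul, one_mul, Matrix.mul_smul, Units.mul_inv]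
    obtain ⟨h3, h4⟩ := hind u huns (a * a + b * b * t - t) (2 * a * b) (by
      rw [← sub_eq_zero] at hsq
      rw [← hsq, add_mul, mul_add, mul_add]
      simp only [Matrix.smul_mul, Matrix.mul_smul, one_mul, mul_one, smul_smul, huu]
      module)
    have hgu : (g : Matrix ι ι F) * u = (a • (1 : Matrix ι ι F) + b • u) * (g : Matrix ι ι F) := by
      rw [← hab, Units.inv_mul_cancel_right]
    rcases mul_eq_zero.1 h4 with h5 | h5
    · have ha : a = 0 := (mul_eq_zero.1 h5).resolve_left h2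
      subst ha
      have ht0 : t ≠ 0 := fun e => hnsq (e ▸ IsSquare.zero)
      have hb : b * b = 1 := mul_right_cancel₀ ht0 (by linear_combination h3)
      rw [zero_smul, zero_add] at hgu
      rcases mul_self_eq_one_iff.1 hb with rfl | rfl
      · left; intro v; have := (hgi 1).1 hgu v; rwa [one_smul] at this
      · right; intro v; have := (hgi (-1)).1 hgu v; rwa [neg_one_smul] at this
    · subst h5
      exfalso
      apply huns a
      rw [zero_smul, add_zero, Matrix.smul_mul, one_mul] at hgu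
      have h6 : ((g⁻¹ : GL ι F) : Matrix ι ι F) * ((g : Matrix ι ι F) * u) =
          ((g⁻¹ : GL ι F) : Matrix ι ι F) * (a • (g : Matrix ι ι F)) := by rw [hgu]
      rwa [Units.inv_mul_cancel_left, Matrix.mul_smul, Units.inv_mul] at h6
  · intro hg k
    obtain ⟨e, he, hgu⟩ : ∃ e : F, e * e = 1 ∧ (g : Matrix ι ι F) * u = (e • u) * (g : Matrix ι ι F) := by
      rcases hg with h | h
      · exact ⟨1, one_mul _, (hgi 1).2 fun v => by rw [one_smul]; exact h v⟩
      · exact ⟨-1, by norm_num, (hgi (-1)).2 fun v => by rw [neg_one_smul]; exact h v⟩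
    have hconj : ∀ a b : F, (g : Matrix ι ι F) * (a • (1 : Matrix ι ι F) + b • u) * ((g⁻¹ : GL ι F) : Matrix ι ι F) =
        a • (1 : Matrix ι ι F) + (b * e) • u := fun a b => by
      rw [mul_add, Matrix.mul_smul, Matrix.mul_smul, hgu, mul_one, add_mul, Matrix.smul_mul, Matrix.smul_mul,
        Units.mul_inv, Units.mul_inv_cancel_right, smul_smul]
    constructor
    · intro hk
      obtain ⟨a, b, rfl⟩ := (hKu k).1 hk
      exact (hKu _).2 ⟨a, b * e, hconj a b⟩
    · intro hk
      obtain ⟨a, b, hab⟩ := (hKu _).1 hk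
      refine (hKu k).2 ⟨a, b * e, ?_⟩
      have h6 := hconj a (b * e)
      rw [mul_assoc b, he, mul_one, ← hab] at h6
      exact ((Units.mul_right_inj g).1 ((Units.mul_left_inj g⁻¹).1 h6)).symm

variable [Fintype F] (Q : QuadraticForm F (ι → F))
variable (hQ : (polarBilin Q).Nondegenerate) (h2 : (2 : F) ≠ 0)
variable (ω : End F (ι → F)) (t : F) (hω : ∀ v, ω (ω v) = t • v)
variable (hsa : ∀ u v, polarBilin Q (ω u) v = polarBilin Q u (ω v)) (ht : ¬ IsSquare t)

omit [Fintype F] in
include ht in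
theorem fact : Fact (∀ r : F, r ^ 2 ≠ t + 0 * r) := ⟨fun r h => ht ⟨r, by linear_combination -h⟩⟩

omit [Fintype F] in
include ht in
theorem form_ne_zero {x a : F} (ha : a ≠ 0) : x ^ 2 - t * a ^ 2 ≠ 0 := fun h =>
  ht ⟨x / a, by field_simp; linear_combination -h⟩

include h2 ht in
/-- Values of the norm form of both classes. -/
theorem exists_pair (pl : Prop) : ∃ x a : F, a ≠ 0 ∧ (IsSquare (x ^ 2 - t * a ^ 2) ↔ pl) := by
  by_cases hp : pl
  · exact ⟨(1 + t) / 2, 1, one_ne_zero, iff_of_true ⟨(1 - t) / 2, by field_simp; ring⟩ hp⟩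
  · obtain ⟨δ, hδ⟩ := FiniteField.exists_nonsquare (F := F) fun e => h2 (by
      haveI := ringChar.of_eq e
      exact CharTwo.two_eq_zero)
    have hδ0 : δ ≠ 0 := fun e => hδ (e ▸ IsSquare.zero)
    obtain ⟨x, y, hxy⟩ := exists_sq_add_sq_eq h2 (a := (1 : F)) (b := -δ) one_ne_zero (neg_ne_zero.2 hδ0) t
    have hy : y ≠ 0 := fun e => ht ⟨x, by rw [e] at hxy; linear_combination -hxy⟩
    refine ⟨x / y, y⁻¹, inv_ne_zero hy, iff_of_false (fun h => hδ ?_) hp⟩
    convert h using 1
    field_simp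
    linear_combination -hxy

/-- The action of the extension field. -/
@[reducible] def modL : Module (QuadraticAlgebra F t 0) (ι → F) where
  smul c v := c.re • v + c.im • ω v
  one_smul v := by show (1 : F) • v + (0 : F) • ω v = v; simp
  mul_smul c d v := by
    show (c * d).re • v + (c * d).im • ω v = c.re • (d.re • v + d.im • ω v) + c.im • ω (d.re • v + d.im • ω v)
    simp only [QuadraticAlgebra.re_mul, QuadraticAlgebra.im_mul, map_add, map_smul, hω]
    module
  smul_zero c := by show c.re • (0 : ι → F) + c.im • ω 0 = 0; simp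
  smul_add c u v := by
    show c.re • (u + v) + c.im • ω (u + v) = (c.re • u + c.im • ω u) + (c.re • v + c.im • ω v)
    rw [map_add]; module
  add_smul c d v := by
    show (c + d).re • v + (c + d).im • ω v = (c.re • v + c.im • ω v) + (d.re • v + d.im • ω v)
    simp only [QuadraticAlgebra.re_add, QuadraticAlgebra.im_add]; module
  zero_smul v := by show (0 : QuadraticAlgebra F t 0).re • v + (0 : QuadraticAlgebra F t 0).im • ω v = 0; simp

/-- The bilinear form over the extension. -/
def bL : letI := modL ω t hω; LinearMap.BilinForm (QuadraticAlgebra F t 0) (ι → F) :=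
  letI := modL ω t hω
  LinearMap.mk₂ (QuadraticAlgebra F t 0) (fun u v => ⟨polarBilin Q (ω u) v, polarBilin Q u v⟩)
    (fun u u' v => by ext <;> simp)
    (fun c u v => by
      ext
      · show polarBilin Q (ω (c.re • u + c.im • ω u)) v = _
        simp [hω]; ring
      · show polarBilin Q (c.re • u + c.im • ω u) v = _
        simp)
    (fun u v v' => by ext <;> simp)
    (fun c u v => by
      ext
      · show polarBilin Q (ω u) (c.re • v + c.im • ω v) = _
        simp [← hsa, hω]; ring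
      · show polarBilin Q u (c.re • v + c.im • ω v) = _
        simp [← hsa])

/-- The quadratic form over the extension. -/
noncomputable def QL : letI := modL ω t hω; QuadraticForm (QuadraticAlgebra F t 0) (ι → F) :=
  letI := modL ω t hω
  LinearMap.BilinMap.toQuadraticMap ((⟨2⁻¹, 0⟩ : QuadraticAlgebra F t 0) • bL Q ω t hω hsa)

include h2 in
theorem QL_apply (v : ι → F) : letI := modL ω t hω
    QL Q ω t hω hsa v = ⟨2⁻¹ * polarBilin Q (ω v) v, Q v⟩ := by
  letI := modL ω t hω
  rw [QL, LinearMap.BilinMap.toQuadraticMap_apply]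
  ext
  · simp [bL]
  · simp [bL, quad_polar_self, h2]

omit [Fintype F] in
include hsa in
theorem polar_swap (u v : ι → F) : polarBilin Q (ω u) v = polarBilin Q (ω v) u := by
  rw [hsa, quad_polar_comm]

include h2 in
theorem QL_polar (u v : ι → F) : letI := modL ω t hω
    polarBilin (QL Q ω t hω hsa) u v = ⟨polarBilin Q (ω u) v, polarBilin Q u v⟩ := by
  letI := modL ω t hω
  rw [QuadraticMap.polarBilin_apply_apply, QL, LinearMap.BilinMap.polar_toQuadraticMap]
  ext
  · simp [bL, polar_swap Q ω hsa v u]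
    field_simp
    ring
  · simp [bL, quad_polar_comm Q v u]
    field_simp
    ring

include hQ h2 in
theorem QL_nondegenerate : letI := modL ω t hω; (polarBilin (QL Q ω t hω hsa)).Nondegenerate := by
  letI := modL ω t hω
  refine ⟨fun u hu => hQ.1 u fun v => ?_, fun u hu => hQ.2 u fun v => ?_⟩
  · have := congrArg QuadraticAlgebra.im (hu v); rwa [QL_polar Q h2] at this
  · have := congrArg QuadraticAlgebra.im (hu v); rwa [QL_polar Q h2] at this

theorem tower : letI := modL ω t hω; IsScalarTower F (QuadraticAlgebra F t 0) (ι → F) := by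
  letI := modL ω t hω
  refine ⟨fun s c v => ?_⟩
  show (s • c).re • v + (s • c).im • ω v = s • (c.re • v + c.im • ω v)
  simp [smul_smul]

omit [Fintype F] in
include hω in
/-- The plane of a vector. -/
theorem plane_inv (v : ι → F) : ((F ∙ v) ⊔ (F ∙ ω v)).map ω ≤ (F ∙ v) ⊔ (F ∙ ω v) := by
  rw [Submodule.map_sup]
  refine sup_le ?_ ?_ <;> rw [Submodule.map_span_le] <;> intro y hy <;> rw [Set.mem_singleton_iff] at hy <;> subst hy
  · exact Submodule.mem_sup_right (Submodule.mem_span_singleton_self _)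
  · rw [hω]; exact Submodule.mem_sup_left (Submodule.smul_mem _ _ (Submodule.mem_span_singleton_self _))

include hQ h2 hω hsa ht in
theorem plane {v : ι → F} {x : F} (ha : Q v ≠ 0) (hx : polarBilin Q (ω v) v = 2 * x) :
    Nd Q ((F ∙ v) ⊔ (F ∙ ω v)) ∧ finrank F ((F ∙ v) ⊔ (F ∙ ω v) : Submodule F (ι → F)) = 2 ∧
      (Plus Q ((F ∙ v) ⊔ (F ∙ ω v)) ↔ IsSquare (x ^ 2 - t * (Q v) ^ 2)) := by
  set k := x / Q v with hk
  set w := ω v - k • v with hw
  have hvw : polarBilin Q v w = 0 := by
    rw [hw, map_sub, map_smul, quad_polar_comm Q v (ω v), hx, quad_polar_self, hk, smul_eq_mul]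
    field_simp; ring
  have hQω : Q (ω v) = t * Q v := by
    refine mul_left_cancel₀ h2 ?_
    rw [← quad_polar_self, hsa, hω, map_smul, quad_polar_self, smul_eq_mul]; ring
  have hQw : Q w = -(x ^ 2 - t * (Q v) ^ 2) / Q v := by
    rw [hw, quad_sub, quad_smul, hQω, map_smul, hx, hk, smul_eq_mul]
    field_simp; ring
  have hw0 : Q w ≠ 0 := by
    rw [hQw]; exact div_ne_zero (neg_ne_zero.2 (form_ne_zero t ht ha)) ha
  have hspan : (F ∙ v) ⊔ (F ∙ w) = (F ∙ v) ⊔ (F ∙ ω v) := by
    refine le_antisymm (sup_le le_sup_left ?_) (sup_le le_sup_left ?_) <;> rw [Submodule.span_singleton_le_iff_mem]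
    · exact Submodule.sub_mem _ (Submodule.mem_sup_right (Submodule.mem_span_singleton_self _))
        (Submodule.mem_sup_left (Submodule.smul_mem _ _ (Submodule.mem_span_singleton_self _)))
    · rw [show ω v = w + k • v by rw [hw]; abel]
      exact Submodule.add_mem _ (Submodule.mem_sup_right (Submodule.mem_span_singleton_self _))
        (Submodule.mem_sup_left (Submodule.smul_mem _ _ (Submodule.mem_span_singleton_self _)))
  obtain ⟨h1, h3, h4⟩ := QuadType.plane_iff Q hQ h2 ha hw0 hvw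
  rw [hspan] at h1 h3 h4
  refine ⟨h1, h3, h4.trans ?_⟩
  rw [hQw, show -(Q v * (-(x ^ 2 - t * (Q v) ^ 2) / Q v)) = x ^ 2 - t * (Q v) ^ 2 by field_simp]

include hω ht in
/-- An invariant subspace is a subspace over the extension. -/
theorem exists_sub {U : Submodule F (ι → F)} (hUi : U.map ω ≤ U) : letI := modL ω t hω
    ∃ U' : Submodule (QuadraticAlgebra F t 0) (ι → F), (∀ x, x ∈ U' ↔ x ∈ U) ∧
      finrank F U = 2 * finrank (QuadraticAlgebra F t 0) U' := by
  letI := modL ω t hω
  haveI := fact t ht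
  haveI := tower ω t hω
  let U' : Submodule (QuadraticAlgebra F t 0) (ι → F) :=
    { U with smul_mem' := fun c x hx => U.add_mem (U.smul_mem _ hx) (U.smul_mem _ (hUi (Submodule.mem_map_of_mem hx))) }
  refine ⟨U', fun x => Iff.rfl, ?_⟩
  have h := Module.finrank_mul_finrank F (QuadraticAlgebra F t 0) U'
  rw [QuadraticAlgebra.finrank_eq_two] at h
  exact h.symm

omit [Fintype F] in
include hsa in
theorem perp_invariant {U P : Submodule F (ι → F)} (hUi : U.map ω ≤ U) (hPi : P.map ω ≤ P) :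
    (U ⊓ perp Q P).map ω ≤ U ⊓ perp Q P := by
  rintro _ ⟨x, hx, rfl⟩
  refine ⟨hUi (Submodule.mem_map_of_mem hx.1), fun w hw => ?_⟩
  rw [← hsa]
  exact hx.2 _ (hPi (Submodule.mem_map_of_mem hw))

include hQ h2 hω hsa ht in
/-- A vector of prescribed value in an invariant space. -/
theorem exists_vec {U : Submodule F (ι → F)} (hU : Nd Q U) (hUi : U.map ω ≤ U) (hd : 4 ≤ finrank F U) {x a : F}
    (ha : a ≠ 0) : ∃ v ∈ U, Q v = a ∧ polarBilin Q (ω v) v = 2 * x := by
  letI := modL ω t hω
  haveI := fact t ht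
  haveI : Finite (QuadraticAlgebra F t 0) := Module.finite_of_finite F
  haveI := tower ω t hω
  haveI : Module.Finite (QuadraticAlgebra F t 0) (ι → F) := Module.Finite.of_restrictScalars_finite F _ _
  obtain ⟨U', hU', hfr⟩ := exists_sub ω t hω ht hUi
  have h2L : (2 : QuadraticAlgebra F t 0) ≠ 0 := by
    rw [← map_ofNat (algebraMap F (QuadraticAlgebra F t 0)) 2]; exact (map_ne_zero _).2 h2
  obtain ⟨v, hv, hQv⟩ := QuadType.exists_val (QL Q ω t hω hsa) (QL_nondegenerate Q hQ h2 ω t hω hsa) h2L (U := U')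
    (fun u hu hu0 => by
      obtain ⟨y, hy, huy⟩ := hU u ((hU' u).1 hu) hu0
      exact ⟨y, (hU' y).2 hy, fun e => huy (by
        have := congrArg QuadraticAlgebra.im e
        rwa [QL_polar Q h2] at this)⟩)
    (by omega) (c := ⟨x, a⟩) (fun e => ha (congrArg QuadraticAlgebra.im e))
  rw [QL_apply Q h2] at hQv
  refine ⟨v, (hU' v).1 hv, congrArg QuadraticAlgebra.im hQv, ?_⟩
  have h3 : 2⁻¹ * polarBilin Q (ω v) v = x := congrArg QuadraticAlgebra.re hQv
  rw [← h3]; field_simp

include hQ h2 hω hsa ht in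
/-- Invariant planes of both types. -/
theorem exists_plane {U : Submodule F (ι → F)} (hU : Nd Q U) (hUi : U.map ω ≤ U) (hd : 4 ≤ finrank F U) (pl : Prop) :
    ∃ P ≤ U, Nd Q P ∧ finrank F P = 2 ∧ P.map ω ≤ P ∧ (Plus Q P ↔ pl) := by
  obtain ⟨x, a, ha, hxa⟩ := exists_pair h2 t ht pl
  obtain ⟨v, hv, hQv, hB⟩ := exists_vec Q hQ h2 ω t hω hsa ht hU hUi hd (x := x) ha
  obtain ⟨h1, h3, h4⟩ := plane Q hQ h2 ω t hω hsa ht (by rw [hQv]; exact ha) hB
  rw [hQv] at h4
  exact ⟨_, sup_le ((Submodule.span_singleton_le_iff_mem _ _).2 hv)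
    ((Submodule.span_singleton_le_iff_mem _ _).2 (hUi (Submodule.mem_map_of_mem hv))), h1, h3,
    plane_inv ω t hω v, h4.trans hxa⟩

include h2 ht in
/-- A square norm comes from a square. -/
theorem isSquare_of_norm {z : QuadraticAlgebra F t 0} (hz : IsSquare (QuadraticAlgebra.norm z)) : IsSquare z := by
  haveI := fact t ht
  haveI : Finite (QuadraticAlgebra F t 0) := Module.finite_of_finite F
  by_contra hns
  obtain ⟨x, a, ha, hxa⟩ := exists_pair h2 t ht False
  have hnorm : QuadraticAlgebra.norm (⟨x, a⟩ : QuadraticAlgebra F t 0) = x ^ 2 - t * a ^ 2 := by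
    rw [QuadraticAlgebra.norm_def]; show x * x + 0 * x * a - t * a * a = _; ring
  have hns0 : ¬ IsSquare (⟨x, a⟩ : QuadraticAlgebra F t 0) := by
    rintro ⟨s, hs⟩
    exact hxa.1 ⟨QuadraticAlgebra.norm s, by rw [← hnorm, hs, map_mul]⟩
  obtain ⟨s, hs⟩ := isSquare_mul_iff_of_not_isSquare hns hns0
  have hprod : IsSquare (QuadraticAlgebra.norm z * (x ^ 2 - t * a ^ 2)) :=
    ⟨QuadraticAlgebra.norm s, by rw [← hnorm, ← map_mul, hs, map_mul]⟩
  obtain ⟨k, hk⟩ := hz
  have hk0 : k ≠ 0 := fun e => by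
    rw [e, mul_zero, QuadraticAlgebra.norm_eq_zero_iff_eq_zero] at hk
    exact hns (hk ▸ IsSquare.zero)
  obtain ⟨l, hl⟩ := hprod
  exact hxa.1 ⟨l / k, by rw [hk] at hl; field_simp; linear_combination hl⟩

include hQ h2 ht in
/-- An invariant four-space of plus type has a vector isotropic over the extension. -/
theorem exists_isotropic {U : Submodule F (ι → F)} (hU : Nd Q U) (hUi : U.map ω ≤ U) (hd : finrank F U = 4)
    (hp : Plus Q U) : letI := modL ω t hω
    ∃ u ∈ U, u ≠ 0 ∧ QL Q ω t hω hsa u = 0 := by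
  letI := modL ω t hω
  haveI := fact t ht
  obtain ⟨x, a, ha, hxa⟩ := exists_pair h2 t ht False
  obtain ⟨v, hv, hQv, hB⟩ := exists_vec Q hQ h2 ω t hω hsa ht hU hUi (by omega) (x := x) ha
  obtain ⟨hP, hPd, hPp⟩ := plane Q hQ h2 ω t hω hsa ht (by rw [hQv]; exact ha) hB
  rw [hQv] at hPp
  set P := (F ∙ v) ⊔ (F ∙ ω v) with hPdef
  have hPU : P ≤ U := sup_le ((Submodule.span_singleton_le_iff_mem _ _).2 hv)
    ((Submodule.span_singleton_le_iff_mem _ _).2 (hUi (Submodule.mem_map_of_mem hv)))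
  obtain ⟨hsup, hR, hRd⟩ := QuadType.split_off Q hU hP hPU
  have hRi := perp_invariant Q ω hsa hUi (plane_inv ω t hω v : P.map ω ≤ P)
  have hRp : ¬ Plus Q (U ⊓ perp Q P) := by
    intro hpR
    rw [← hsup, QuadType.sup_iff Q hQ h2 hP hR inf_le_right ⟨1, by omega⟩ ⟨1, by omega⟩] at hp
    exact hxa.1 (hPp.1 (hp.2 hpR))
  set R := U ⊓ perp Q P with hRdef
  obtain ⟨v', hv', hv'0⟩ := (Submodule.ne_bot_iff R).1 fun e => by rw [e, finrank_bot] at hRd; omega
  have ha' : Q v' ≠ 0 := fun h0 => by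
    refine hRp ⟨F ∙ v', (Submodule.span_singleton_le_iff_mem _ _).2 hv', fun u hu => ?_, ?_⟩
    · obtain ⟨c, rfl⟩ := Submodule.mem_span_singleton.1 hu
      rw [quad_smul, h0, mul_zero]
    · rw [finrank_span_singleton hv'0]; omega
  set x' := 2⁻¹ * polarBilin Q (ω v') v' with hx'
  obtain ⟨-, hP'd, hP'p⟩ := plane Q hQ h2 ω t hω hsa ht ha' (x := x') (by rw [hx']; field_simp)
  have hP'eq : (F ∙ v') ⊔ (F ∙ ω v') = R := Submodule.eq_of_le_of_finrank_le
    (sup_le ((Submodule.span_singleton_le_iff_mem _ _).2 hv')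
      ((Submodule.span_singleton_le_iff_mem _ _).2 (hRi (Submodule.mem_map_of_mem hv')))) (by omega)
  rw [hP'eq] at hP'p
  have hns' : ¬ IsSquare (x' ^ 2 - t * (Q v') ^ 2) := fun h => hRp (hP'p.2 h)
  let c : QuadraticAlgebra F t 0 := QL Q ω t hω hsa v
  let c' : QuadraticAlgebra F t 0 := QL Q ω t hω hsa v'
  obtain ⟨s, hs⟩ : IsSquare (-(c * c')) := by
    refine isSquare_of_norm h2 t ht ?_
    have hn : ∀ z : QuadraticAlgebra F t 0, QuadraticAlgebra.norm (-z) = QuadraticAlgebra.norm z := fun z => by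
      rw [QuadraticAlgebra.norm_def, QuadraticAlgebra.norm_def]; simp
    rw [hn, map_mul, QuadraticAlgebra.norm_def, QuadraticAlgebra.norm_def, show c = _ from QL_apply Q h2 ω t hω hsa v,
      show c' = _ from QL_apply Q h2 ω t hω hsa v']
    convert isSquare_mul_iff_of_not_isSquare (fun h => hxa.1 h) hns' using 1
    simp only [hB, hQv, hx']
    field_simp
    ring
  have hpol : polarBilin (QL Q ω t hω hsa) v v' = 0 := by
    rw [QL_polar Q h2]
    ext
    · exact hv'.2 _ (Submodule.mem_sup_right (Submodule.mem_span_singleton_self _))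
    · exact hv'.2 _ (Submodule.mem_sup_left (Submodule.mem_span_singleton_self _))
  have hmem : ∀ (z : QuadraticAlgebra F t 0) {W : Submodule F (ι → F)}, W.map ω ≤ W → ∀ {y : ι → F}, y ∈ W → z • y ∈ W :=
    fun z W hW y hy => W.add_mem (W.smul_mem _ hy) (W.smul_mem _ (hW (Submodule.mem_map_of_mem hy)))
  refine ⟨c' • v + s • v', U.add_mem (hmem _ hUi hv) (hmem _ hUi hv'.1), fun e => ?_, ?_⟩
  · have h5 : c' • v ∈ P ⊓ (U ⊓ perp Q P) := by
      refine ⟨hmem _ (plane_inv ω t hω v) (Submodule.mem_sup_left (Submodule.mem_span_singleton_self _)), ?_⟩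
      rw [eq_neg_of_add_eq_zero_left e]
      exact R.neg_mem (hmem _ hRi hv')
    rw [QuadType.inf_perp Q hP, Submodule.mem_bot] at h5
    have hv0 : v ≠ 0 := fun e' => ha (by rw [← hQv, e', QuadraticMap.map_zero])
    rcases smul_eq_zero.1 h5 with h6 | h6
    · exact ha' (by have := congrArg QuadraticAlgebra.im h6; rwa [show c' = _ from QL_apply Q h2 ω t hω hsa v'] at this)
    · exact hv0 h6
  · rw [quad_add, quad_smul, quad_smul, map_smul, map_smul, LinearMap.smul_apply, hpol, smul_zero, smul_zero, add_zero,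
      ← hs]
    show c' * c' * c + -(c * c') * c' = 0
    ring

include hQ h2 hω hsa ht in
/-- Moved spaces of linear isometries of odd order. -/
theorem moved_four {Y : End F (ι → F)} (hiso : ∀ v, Q (Y v) = Q v) (hcom : ∀ v, Y (ω v) = ω (Y v)) {n : ℕ}
    (hn : Odd n) (hY : Y ^ n = 1) : 4 ∣ finrank F (LinearMap.range (Y - 1)) := by
  letI := modL ω t hω
  haveI := fact t ht
  haveI : Finite (QuadraticAlgebra F t 0) := Module.finite_of_finite F
  haveI := tower ω t hω
  haveI : Module.Finite (QuadraticAlgebra F t 0) (ι → F) := Module.Finite.of_restrictScalars_finite F _ _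
  have hbij : Function.Bijective Y := by
    obtain ⟨k, hk⟩ : ∃ k, n = k + 1 := ⟨n - 1, (Nat.sub_add_cancel hn.pos).symm⟩
    refine ⟨Function.LeftInverse.injective (g := ⇑(Y ^ k)) fun v => ?_,
      Function.RightInverse.surjective (g := ⇑(Y ^ k)) fun v => ?_⟩
    · rw [← End.mul_apply, ← pow_succ, ← hk, hY]; rfl
    · rw [← End.mul_apply, ← pow_succ', ← hk, hY]; rfl
  let e : (ι → F) ≃ₗ[QuadraticAlgebra F t 0] (ι → F) := LinearEquiv.ofBijective
    { toFun := Y
      map_add' := map_add Y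
      map_smul' := fun c v => by
        show Y (c.re • v + c.im • ω v) = c.re • Y v + c.im • ω (Y v)
        rw [map_add, map_smul, map_smul, hcom] } hbij
  have he : e ∈ quadIsometries (QL Q ω t hω hsa) := by
    rw [mem_quadIsometries]
    intro v
    show QL Q ω t hω hsa (Y v) = _
    rw [QL_apply Q h2, QL_apply Q h2, ← hcom, quad_polar_map Q hiso, hiso]
  let g : quadIsometries (QL Q ω t hω hsa) := ⟨e, he⟩
  have h2L : (2 : QuadraticAlgebra F t 0) ≠ 0 := by
    rw [← map_ofNat (algebraMap F (QuadraticAlgebra F t 0)) 2]; exact (map_ne_zero _).2 h2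
  have hgn : g ^ n = 1 := by
    apply Subtype.ext
    rw [SubmonoidClass.coe_pow]
    refine LinearEquiv.ext fun v => ?_
    have hcoe : ∀ j : ℕ, ∀ v, (e ^ j) v = (Y ^ j) v := fun j => by
      induction j with
      | zero => exact fun v => rfl
      | succ j ih =>
        intro v
        rw [pow_succ', pow_succ', End.mul_apply, ← ih v]
        rfl
    show (e ^ n) v = v
    rw [hcoe, hY]; rfl
  have hd := congrArg Prod.fst (dickSpinHom_apply (QL Q ω t hω hsa) (QL_nondegenerate Q hQ h2 ω t hω hsa) h2L g)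
  have hpow := congrArg Prod.fst (map_pow (dickSpinHom (QL Q ω t hω hsa) (QL_nondegenerate Q hQ h2 ω t hω hsa) h2L) g n)
  rw [hgn, map_one, Prod.pow_fst, hd] at hpow
  simp only [Prod.fst_one] at hpow
  have hdick : dickson (QL Q ω t hω hsa) g = 1 := by
    rcases Int.units_eq_one_or (dickson (QL Q ω t hω hsa) g) with h | h
    · exact h
    · rw [h, hn.neg_one_pow] at hpow; exact absurd hpow (by decide)
  rw [dickson] at hdick
  obtain ⟨j, hj⟩ : Even (finrank (QuadraticAlgebra F t 0) (movedSpace (QL Q ω t hω hsa) g)) := by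
    rcases Nat.even_or_odd (finrank (QuadraticAlgebra F t 0) (movedSpace (QL Q ω t hω hsa) g)) with h | h
    · exact h
    · rw [h.neg_one_pow] at hdick; exact absurd hdick (by decide)
  have hfr := Module.finrank_mul_finrank F (QuadraticAlgebra F t 0) (movedSpace (QL Q ω t hω hsa) g)
  rw [QuadraticAlgebra.finrank_eq_two, hj] at hfr
  have heq : LinearMap.range (Y - 1) = (movedSpace (QL Q ω t hω hsa) g).restrictScalars F := by
    ext v
    rw [Submodule.restrictScalars_mem, movedSpace, LinearMap.mem_range, LinearMap.mem_range]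
    constructor <;> rintro ⟨y, rfl⟩ <;> refine ⟨-y, ?_⟩
    · show -y - e (-y) = Y y - y
      rw [map_neg, show e y = Y y from rfl]; abel
    · show Y (-y) - -y = y - e y
      rw [map_neg, show e y = Y y from rfl]; abel
  rw [heq]
  have hfr2 : finrank F ((movedSpace (QL Q ω t hω hsa) g).restrictScalars F) = 2 * (j + j) := hfr.symm
  exact ⟨j, by omega⟩

end Cfsg.Agent.Lib.MaxSub.OrthExt
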