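import Cfsg.Agent.Lib.MaxSub.OrthOddSub
import Mathlib

/-!
Elements of order two modulo scalars and invariant non-degenerate subspaces of odd dimension.
-/

set_option autoImplicit false
set_option maxHeartbeats 1000000
set_option linter.unusedSectionVars false

namespace Cfsg.Agent.Lib.MaxSub.OrthOddSubTwo

open Module Cfsg.Agent.Lib.MaxSub Cfsg.Agent.Lib.Geometry
open Cfsg.Agent.Lib.MaxSub.QuadType (Nd TS Plus perp)
open Cfsg.Agent.Lib.MaxSub.OrthOddSub (Sub Good nd_line)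
open QuadraticMap (polarBilin)
open scoped _root_.Classical

attribute [-simp] QuadraticMap.polarBilin_apply_apply

variable {ι : Type} [Fintype ι] [DecidableEq ι] {F : Type*} [Field F] [Fintype F] (Q : QuadraticForm F (ι → F))
variable (hQ : (polarBilin Q).Nondegenerate) (h2 : (2 : F) ≠ 0)

theorem refl_perp {v x : ι → F} (h : polarBilin Q v x = 0) : (refl Q v : (ι → F) ≃ₗ[F] (ι → F)) x = x := by
  rw [refl_apply, h, mul_zero, zero_smul, sub_zero]

/-- The condition on the type of a space of dimension `2 * k` carrying a square root of `-1`. -/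
def Cond (k : ℕ) (F : Type*) [Field F] : Prop := IsSquare (-1 : F) ∨ Even k

theorem cond_succ (k : ℕ) : Cond (k + 1) F ↔ (IsSquare (-1 : F) ↔ Cond k F) := by
  unfold Cond
  by_cases h : IsSquare (-1 : F) <;> simp [h, Nat.even_add_one]

include hQ h2 in
/-- One plane: its type, and the rotation extending an element on the complement. -/
theorem plane_step {U : Submodule F (ι → F)} (hU : Nd Q U) {k : ℕ} (hUd : finrank F U = 2 * (k + 1))
    {v w : ι → F} (hv : v ∈ U) (hw : w ∈ U) (hQv : Q v = 1) (hQw : Q w = 1) (hvw : polarBilin Q v w = 0) :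
    Nd Q (U ⊓ perp Q ((F ∙ v) ⊔ (F ∙ w))) ∧ finrank F (U ⊓ perp Q ((F ∙ v) ⊔ (F ∙ w)) : Submodule F (ι → F)) = 2 * k ∧
    (Plus Q U ↔ (IsSquare (-1 : F) ↔ Plus Q (U ⊓ perp Q ((F ∙ v) ⊔ (F ∙ w))))) ∧
    ∀ g' : quadIsometries Q, spinor Q g' = sqClass ((2 : F) ^ k) →
      (∀ b ∈ perp Q (U ⊓ perp Q ((F ∙ v) ⊔ (F ∙ w))), (g' : (ι → F) ≃ₗ[F] (ι → F)) b = b) →
      ∃ g : quadIsometries Q, spinor Q g = sqClass ((2 : F) ^ (k + 1)) ∧
        (∀ b ∈ perp Q U, (g : (ι → F) ≃ₗ[F] (ι → F)) b = b) ∧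
        (g : (ι → F) ≃ₗ[F] (ι → F)) v = w ∧ (g : (ι → F) ≃ₗ[F] (ι → F)) w = -v ∧
        ∀ x ∈ U ⊓ perp Q ((F ∙ v) ⊔ (F ∙ w)), (g : (ι → F) ≃ₗ[F] (ι → F)) x = (g' : (ι → F) ≃ₗ[F] (ι → F)) x := by
  have hv0 : Q v ≠ 0 := hQv ▸ one_ne_zero
  have hw0 : Q w ≠ 0 := hQw ▸ one_ne_zero
  have hwv : polarBilin Q w v = 0 := by rw [quad_polar_comm]; exact hvw
  obtain ⟨hP, hPd, hPp⟩ := QuadType.plane_iff Q hQ h2 hv0 hw0 hvw
  have hPU : (F ∙ v) ⊔ (F ∙ w) ≤ U := sup_le ((Submodule.span_singleton_le_iff_mem _ _).2 hv)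
    ((Submodule.span_singleton_le_iff_mem _ _).2 hw)
  obtain ⟨hsup, hR, hRd⟩ := QuadType.split_off Q hU hP hPU
  refine ⟨hR, by omega, ?_, fun g' hg' hg'p => ?_⟩
  · conv_lhs => rw [← hsup]
    rw [QuadType.sup_iff Q hQ h2 hP hR inf_le_right (by rw [hPd]; exact even_two) ⟨k, by omega⟩, hPp, hQv, hQw, mul_one]
  set R := U ⊓ perp Q ((F ∙ v) ⊔ (F ∙ w))
  have ha : Q (v - w) = 2 := by rw [quad_sub, hQv, hQw, hvw]; ring
  have ha0 : Q (v - w) ≠ 0 := ha ▸ h2
  have hmv : v ∈ (F ∙ v) ⊔ (F ∙ w) := Submodule.mem_sup_left (Submodule.mem_span_singleton_self v)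
  have hmw : w ∈ (F ∙ v) ⊔ (F ∙ w) := Submodule.mem_sup_right (Submodule.mem_span_singleton_self w)
  have hgv : (g' : (ι → F) ≃ₗ[F] (ι → F)) v = v := hg'p v fun x hx => QuadType.mem_perp' Q hx.2 hmv
  have hgw : (g' : (ι → F) ≃ₗ[F] (ι → F)) w = w := hg'p w fun x hx => QuadType.mem_perp' Q hx.2 hmw
  have hrv : (refl Q (v - w) : (ι → F) ≃ₗ[F] (ι → F)) v = w := by
    rw [refl_apply, show polarBilin Q (v - w) v = Q (v - w) by
      rw [ha, map_sub, LinearMap.sub_apply, quad_polar_self, hQv, hwv]; ring, inv_mul_cancel₀ ha0, one_smul,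
      sub_sub_cancel]
  have hrw : (refl Q (v - w) : (ι → F) ≃ₗ[F] (ι → F)) w = v := by
    rw [refl_apply, show polarBilin Q (v - w) w = -Q (v - w) by
      rw [ha, map_sub, LinearMap.sub_apply, quad_polar_self, hQw, hvw]; ring, mul_neg, inv_mul_cancel₀ ha0,
      neg_one_smul, sub_neg_eq_add, add_sub_cancel]
  refine ⟨refl Q (v - w) * (refl Q w * g'), ?_, fun b hb => ?_, ?_, ?_, fun x hx => ?_⟩
  · rw [spinor_refl_mul Q hQ _ ha0, spinor_refl_mul Q hQ _ hw0, hg', ha, hQw,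
      (sqClass_eq_one_iff (x := (1 : F))).2 IsSquare.one,
      one_mul, pow_succ', sqClass_mul h2 (pow_ne_zero _ h2)]
  · show (refl Q (v - w) : (ι → F) ≃ₗ[F] (ι → F)) ((refl Q w : (ι → F) ≃ₗ[F] (ι → F))
      ((g' : (ι → F) ≃ₗ[F] (ι → F)) b)) = b
    rw [hg'p b (QuadType.perp_anti Q inf_le_left hb), refl_perp Q (hb w hw), refl_perp Q (hb _ (U.sub_mem hv hw))]
  · show (refl Q (v - w) : (ι → F) ≃ₗ[F] (ι → F)) ((refl Q w : (ι → F) ≃ₗ[F] (ι → F))
      ((g' : (ι → F) ≃ₗ[F] (ι → F)) v)) = w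
    rw [hgv, refl_perp Q hwv, hrv]
  · show (refl Q (v - w) : (ι → F) ≃ₗ[F] (ι → F)) ((refl Q w : (ι → F) ≃ₗ[F] (ι → F))
      ((g' : (ι → F) ≃ₗ[F] (ι → F)) w)) = -v
    rw [hgw, refl_apply_self Q hw0, map_neg, hrw]
  · show (refl Q (v - w) : (ι → F) ≃ₗ[F] (ι → F)) ((refl Q w : (ι → F) ≃ₗ[F] (ι → F))
      ((g' : (ι → F) ≃ₗ[F] (ι → F)) x)) = (g' : (ι → F) ≃ₗ[F] (ι → F)) x
    have hgx : (g' : (ι → F) ≃ₗ[F] (ι → F)) x ∈ R := OrthDecomp.fixer_mem Q hQ hR hg'p hx
    rw [refl_perp Q (hgx.2 w hmw), refl_perp Q (hgx.2 _ (Submodule.sub_mem _ hmv hmw))]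

include hQ h2 in
/-- A square root of `-1` on a space of the right type. -/
theorem exists_neg_sq : ∀ (k : ℕ) {U : Submodule F (ι → F)}, finrank F U = 2 * k → Nd Q U → (Plus Q U ↔ Cond k F) →
    ∃ g : quadIsometries Q, spinor Q g = sqClass ((2 : F) ^ k) ∧
      (∀ b ∈ perp Q U, (g : (ι → F) ≃ₗ[F] (ι → F)) b = b) ∧
      ∀ u ∈ U, (g : (ι → F) ≃ₗ[F] (ι → F)) ((g : (ι → F) ≃ₗ[F] (ι → F)) u) = -u := by
  intro k
  induction k with
  | zero =>
    intro U hUd _ _
    have hU0 : U = ⊥ := Submodule.finrank_eq_zero.1 (by omega)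
    refine ⟨1, by rw [spinor_one Q hQ, pow_zero, sqClass_eq_one_iff.2 IsSquare.one], fun b _ => rfl, fun u hu => ?_⟩
    rw [hU0, Submodule.mem_bot] at hu
    subst hu
    simp
  | succ k ih =>
    intro U hUd hU hUp
    obtain ⟨v, hv, hQv⟩ := QuadType.exists_val Q hQ h2 hU (by omega) one_ne_zero
    have hv0 : v ≠ 0 := fun e => by simp [e] at hQv
    have hvn := nd_line Q h2 (hQv ▸ one_ne_zero : Q v ≠ 0)
    obtain ⟨-, hR₁, hR₁d⟩ := QuadType.split_off Q hU hvn ((Submodule.span_singleton_le_iff_mem _ _).2 hv)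
    rw [finrank_span_singleton hv0] at hR₁d
    obtain ⟨w, hw, hQw⟩ : ∃ w ∈ U ⊓ perp Q (F ∙ v), Q w = 1 := by
      rcases Nat.eq_zero_or_pos k with rfl | hk
      swap
      · exact QuadType.exists_val Q hQ h2 hR₁ (by omega) one_ne_zero
      obtain ⟨w, hw, hw0⟩ := (Submodule.ne_bot_iff _).1 (fun e => by rw [e, finrank_bot] at hR₁d; omega :
        U ⊓ perp Q (F ∙ v) ≠ ⊥)
      have hQw : Q w ≠ 0 := fun h0 => by
        obtain ⟨x, hx, hwx⟩ := hR₁ w hw hw0
        have hspan : (F ∙ w) = U ⊓ perp Q (F ∙ v) := Submodule.eq_of_le_of_finrank_le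
          ((Submodule.span_singleton_le_iff_mem _ _).2 hw) (by rw [finrank_span_singleton hw0]; omega)
        rw [← hspan, Submodule.mem_span_singleton] at hx
        obtain ⟨c, rfl⟩ := hx
        exact hwx (by rw [map_smul, quad_polar_self, h0, mul_zero, smul_zero])
      have hvw := hw.2 v (Submodule.mem_span_singleton_self v)
      obtain ⟨hP, hPd, hPp⟩ := QuadType.plane_iff Q hQ h2 (hQv ▸ one_ne_zero : Q v ≠ 0) hQw hvw
      have hPU : (F ∙ v) ⊔ (F ∙ w) = U := Submodule.eq_of_le_of_finrank_le (sup_le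
        ((Submodule.span_singleton_le_iff_mem _ _).2 hv) ((Submodule.span_singleton_le_iff_mem _ _).2 hw.1)) (by omega)
      rw [hPU, hQv, one_mul, hUp, cond_succ] at hPp
      simp only [Cond, Even.zero, or_true, iff_true] at hPp
      have hsq : IsSquare (Q w) := by
        by_cases h : IsSquare (-1 : F)
        · have := h.mul (hPp.1 h)
          rwa [neg_one_mul, neg_neg] at this
        · by_contra hc
          obtain ⟨t, ht⟩ := isSquare_mul_iff_of_not_isSquare h hc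
          exact h (hPp.2 ⟨t, by rw [← ht, neg_one_mul]⟩)
      obtain ⟨t, ht⟩ := hsq
      have ht0 : t ≠ 0 := fun e => hQw (by rw [ht, e, mul_zero])
      exact ⟨t⁻¹ • w, Submodule.smul_mem _ _ hw, by rw [quad_smul, ht]; field_simp⟩
    have hvw := hw.2 v (Submodule.mem_span_singleton_self v)
    obtain ⟨hR, hRd, htype, hext⟩ := plane_step Q hQ h2 hU hUd hv hw.1 hQv hQw hvw
    rw [hUp, cond_succ] at htype
    set R := U ⊓ perp Q ((F ∙ v) ⊔ (F ∙ w))
    obtain ⟨g', hg's, hg'p, hg'2⟩ := ih hRd hR (by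
      by_cases h : IsSquare (-1 : F) <;> by_cases h' : Cond k F <;> by_cases h'' : Plus Q R <;> simp_all)
    obtain ⟨g, hgs, hgp, hgv, hgw, hgR⟩ := hext g' hg's hg'p
    refine ⟨g, hgs, hgp, fun u hu => ?_⟩
    have hP := (QuadType.plane_iff Q hQ h2 (hQv ▸ one_ne_zero : Q v ≠ 0) (hQw ▸ one_ne_zero : Q w ≠ 0) hvw).1
    obtain ⟨hsup, -, -⟩ := QuadType.split_off Q hU hP (sup_le
      ((Submodule.span_singleton_le_iff_mem _ _).2 hv) ((Submodule.span_singleton_le_iff_mem _ _).2 hw.1))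
    obtain ⟨p, hp, x, hx, rfl⟩ := Submodule.mem_sup.1 (hsup.symm ▸ hu : u ∈ ((F ∙ v) ⊔ (F ∙ w)) ⊔ R)
    obtain ⟨q1, hq1, q2, hq2, rfl⟩ := Submodule.mem_sup.1 hp
    obtain ⟨s, rfl⟩ := Submodule.mem_span_singleton.1 hq1
    obtain ⟨t, rfl⟩ := Submodule.mem_span_singleton.1 hq2
    simp only [map_add, map_smul, map_neg, hgv, hgw, hgR x hx, hgR _ (OrthDecomp.fixer_mem Q hQ hR hg'p hx), hg'2 x hx]
    module

include hQ h2 in
/-- Every square root of `-1` on an invariant space. -/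
theorem decomp_neg_sq {X : End F (ι → F)} (hiso : ∀ v, Q (X v) = Q v) :
    ∀ (k : ℕ) {U : Submodule F (ι → F)}, finrank F U = 2 * k → Nd Q U → (∀ u ∈ U, X u ∈ U) →
      (∀ u ∈ U, X (X u) = -u) → (Plus Q U ↔ Cond k F) ∧ ∃ g : quadIsometries Q, spinor Q g = sqClass ((2 : F) ^ k) ∧
        (∀ b ∈ perp Q U, (g : (ι → F) ≃ₗ[F] (ι → F)) b = b) ∧ ∀ u ∈ U, (g : (ι → F) ≃ₗ[F] (ι → F)) u = X u := by
  intro k
  induction k with
  | zero =>
    intro U hUd _ _ _
    have hU0 : U = ⊥ := Submodule.finrank_eq_zero.1 (by omega)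
    refine ⟨iff_of_true ⟨⊥, bot_le, fun u hu => by rw [(Submodule.mem_bot F).1 hu, QuadraticMap.map_zero],
      by rw [finrank_bot, hUd]⟩ (Or.inr Even.zero), 1, by rw [spinor_one Q hQ, pow_zero, sqClass_eq_one_iff.2 IsSquare.one],
      fun b _ => rfl, fun u hu => ?_⟩
    rw [hU0, Submodule.mem_bot] at hu
    subst hu
    simp
  | succ k ih =>
    intro U hUd hU hUX hXX
    obtain ⟨v, hv, hQv⟩ := QuadType.exists_val Q hQ h2 hU (by omega) one_ne_zero
    have hanti : ∀ a ∈ U, ∀ b ∈ U, polarBilin Q a (X b) = -polarBilin Q (X a) b := fun a ha b hb => by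
      have h := quad_polar_map Q hiso a (X b)
      rw [hXX b hb, map_neg] at h
      exact h.symm
    have hvw : polarBilin Q v (X v) = 0 := by
      have h := hanti v hv v hv
      rw [quad_polar_comm Q (X v) v] at h
      exact (mul_eq_zero.1 (show (2 : F) * polarBilin Q v (X v) = 0 by linear_combination h)).resolve_left h2
    obtain ⟨hR, hRd, htype, hext⟩ := plane_step Q hQ h2 hU hUd hv (hUX v hv) hQv ((hiso v).trans hQv) hvw
    set P := (F ∙ v) ⊔ (F ∙ X v) with hPdef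
    have hPU : P ≤ U := sup_le ((Submodule.span_singleton_le_iff_mem _ _).2 hv)
      ((Submodule.span_singleton_le_iff_mem _ _).2 (hUX v hv))
    have hPX : ∀ q ∈ P, X q ∈ P := fun q hq => by
      obtain ⟨q1, hq1, q2, hq2, rfl⟩ := Submodule.mem_sup.1 hq
      obtain ⟨s, rfl⟩ := Submodule.mem_span_singleton.1 hq1
      obtain ⟨t, rfl⟩ := Submodule.mem_span_singleton.1 hq2
      rw [map_add, map_smul, map_smul, hXX v hv]
      exact P.add_mem (P.smul_mem _ (Submodule.mem_sup_right (Submodule.mem_span_singleton_self _)))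
        (P.smul_mem _ (P.neg_mem (Submodule.mem_sup_left (Submodule.mem_span_singleton_self v))))
    obtain ⟨hcond, g', hg's, hg'p, hg'X⟩ := ih hRd hR (fun u hu => ⟨hUX u hu.1, fun q hq => by
      rw [hanti q (hPU hq) u hu.1, hu.2 _ (hPX q hq), neg_zero]⟩) (fun u hu => hXX u hu.1)
    obtain ⟨g, hgs, hgp, hgv, hgw, hgR⟩ := hext g' hg's hg'p
    refine ⟨by rw [htype, hcond, cond_succ], g, hgs, hgp, fun u hu => ?_⟩
    have hP := (QuadType.plane_iff Q hQ h2 (hQv ▸ one_ne_zero : Q v ≠ 0)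
      (((hiso v).trans hQv) ▸ one_ne_zero : Q (X v) ≠ 0) hvw).1
    obtain ⟨hsup, -, -⟩ := QuadType.split_off Q hU hP hPU
    obtain ⟨p, hp, x, hx, rfl⟩ := Submodule.mem_sup.1 (hsup.symm ▸ hu : u ∈ P ⊔ (U ⊓ perp Q P))
    obtain ⟨q1, hq1, q2, hq2, rfl⟩ := Submodule.mem_sup.1 hp
    obtain ⟨s, rfl⟩ := Submodule.mem_span_singleton.1 hq1
    obtain ⟨t, rfl⟩ := Submodule.mem_span_singleton.1 hq2
    simp only [map_add, map_smul, hgv, hgw, hgR x hx, hg'X x hx, hXX v hv]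

include hQ h2 in
/-- A square root of `-1` has no invariant subspace of odd dimension. -/
theorem no_inv {X : End F (ι → F)} (hiso : ∀ v, Q (X v) = Q v) (hXX : ∀ v, X (X v) = -v) {m : ℕ} (hm : Odd m)
    {W : Submodule F (ι → F)} (hW : Nd Q W) (hWd : finrank F W = m) : ¬ W.map X ≤ W := by
  intro hWi
  have hWX : ∀ w ∈ W, X w ∈ W := fun w hw => hWi (Submodule.mem_map_of_mem hw)
  let R : W →ₗ[F] W := X.restrict hWX
  have hRR : R ∘ₗ R = (-1 : F) • LinearMap.id := LinearMap.ext fun w => Subtype.ext (by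
    show X (X (w : ι → F)) = (-1 : F) • (w : ι → F)
    rw [hXX, neg_one_smul])
  have hdet := congrArg LinearMap.det hRR
  rw [LinearMap.det_comp, LinearMap.det_smul, LinearMap.det_id, mul_one, hWd, hm.neg_one_pow] at hdet
  obtain ⟨μ, hμ⟩ : IsSquare (-1 : F) := ⟨LinearMap.det R, hdet.symm⟩
  have hμ0 : μ ≠ 0 := fun e => by simp [e] at hμ
  let A : Submodule F (ι → F) := W ⊓ LinearMap.ker (X - μ • (1 : End F (ι → F)))
  let B : Submodule F (ι → F) := W ⊓ LinearMap.ker (X + μ • (1 : End F (ι → F)))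
  have hts : ∀ (c : F) (v : ι → F), c * c = -1 → X v = c • v → Q v = 0 := fun c v hc hv => by
    have h := hiso v
    rw [hv, quad_smul, hc] at h
    exact (mul_eq_zero.1 (show (2 : F) * Q v = 0 by linear_combination -h)).resolve_left h2
  have hA : ∀ a ∈ A, X a = μ • a := fun a ha => by simpa [A, sub_eq_zero] using ha.2
  have hB : ∀ b ∈ B, X b = (-μ) • b := fun b hb => by
    have : X b + μ • b = 0 := by simpa [B] using hb.2
    rw [neg_smul]
    exact eq_neg_of_add_eq_zero_left this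
  have h1 : 2 * finrank F A ≤ finrank F W := QuadType.ts_half Q hQ hW (inf_le_left : A ≤ W) fun v hv => hts μ v hμ.symm (hA v hv)
  have h3 : 2 * finrank F B ≤ finrank F W := QuadType.ts_half Q hQ hW (inf_le_left : B ≤ W) fun v hv => hts (-μ) v (by rw [neg_mul_neg, ← hμ]) (hB v hv)
  have hle : W ≤ A ⊔ B := fun w hw => by
    have e : w = (2 * μ)⁻¹ • (μ • w + X w) + (2 * μ)⁻¹ • (μ • w - X w) := by
      rw [← smul_add, show μ • w + X w + (μ • w - X w) = (2 * μ) • w by module, smul_smul,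
        inv_mul_cancel₀ (mul_ne_zero h2 hμ0), one_smul]
    rw [e]
    refine Submodule.add_mem_sup (Submodule.smul_mem _ _ ⟨W.add_mem (W.smul_mem _ hw) (hWX w hw), ?_⟩)
      (Submodule.smul_mem _ _ ⟨W.sub_mem (W.smul_mem _ hw) (hWX w hw), ?_⟩)
    · show X (μ • w + X w) - μ • (μ • w + X w) = 0
      rw [map_add, map_smul, hXX, smul_add, smul_smul, ← hμ, neg_one_smul]
      abel
    · show X (μ • w - X w) + μ • (μ • w - X w) = 0
      rw [map_sub, map_smul, hXX, smul_sub, smul_smul, ← hμ, neg_one_smul]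
      abel
  have := (Submodule.finrank_mono hle).trans (Submodule.finrank_add_le_finrank_add_finrank A B)
  obtain ⟨b, rfl⟩ := hm
  omega

include hQ h2 in
/-- An involution has an invariant subspace of every class of small dimension. -/
theorem good_sq_one {d m : ℕ} (hn : Fintype.card ι = 2 * d) (hm : Odd m) (hmd : m < d)
    {W₀ : Submodule F (ι → F)} (hW₀ : Nd Q W₀) (hW₀d : finrank F W₀ = m)
    {X : End F (ι → F)} (hiso : ∀ v, Q (X v) = Q v) (hXX : ∀ v, X (X v) = v) : Good Q m W₀ X := by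
  let A : Submodule F (ι → F) := LinearMap.ker (X - 1)
  let B : Submodule F (ι → F) := LinearMap.ker (X + 1)
  have hA : ∀ a ∈ A, X a = a := fun a ha => by simpa [A, sub_eq_zero] using ha
  have hB : ∀ b ∈ B, X b = -b := fun b hb => by
    have : X b + b = 0 := by simpa [B] using hb
    exact eq_neg_of_add_eq_zero_left this
  have hAB : ∀ a ∈ A, ∀ b ∈ B, polarBilin Q a b = 0 := fun a ha b hb => by
    have h := quad_polar_map Q hiso a b
    rw [hA a ha, hB b hb, map_neg] at h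
    exact (mul_eq_zero.1 (show (2 : F) * polarBilin Q a b = 0 by linear_combination -h)).resolve_left h2
  have hsup : ∀ v, ∃ a ∈ A, ∃ b ∈ B, a + b = v := fun v => by
    refine ⟨(2 : F)⁻¹ • (v + X v), ?_, (2 : F)⁻¹ • (v - X v), ?_, ?_⟩
    · simp [A, hXX]; abel_nf
    · simp [B, hXX]
    · rw [← smul_add, show v + X v + (v - X v) = (2 : F) • v by rw [two_smul]; abel, smul_smul,
        inv_mul_cancel₀ h2, one_smul]
  have hnd : Nd Q A ∧ Nd Q B := by
    constructor <;> intro v hv hv0 <;> obtain ⟨x, -, hvx⟩ := QuadType.nd_top Q hQ v Submodule.mem_top hv0 <;>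
      obtain ⟨a, ha, b, hb, rfl⟩ := hsup x
    · exact ⟨a, ha, by rwa [map_add, hAB v hv b hb, add_zero] at hvx⟩
    · exact ⟨b, hb, by rwa [map_add, quad_polar_comm Q v a, hAB a ha v hv, zero_add] at hvx⟩
  have hdim : 2 * d ≤ finrank F A + finrank F B := by
    refine le_trans ?_ (Submodule.finrank_add_le_finrank_add_finrank A B)
    rw [show A ⊔ B = ⊤ from eq_top_iff.2 fun v _ => by
      obtain ⟨a, ha, b, hb, rfl⟩ := hsup v
      exact Submodule.add_mem_sup ha hb, finrank_top, Module.finrank_fintype_fun_eq_card, hn]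
  by_cases h : m < finrank F A
  · obtain ⟨W, hWA, hW⟩ := OrthOddSub.exists_in Q hQ h2 hm hW₀ hW₀d hnd.1 h
    exact ⟨W, hW, by rintro _ ⟨w, hw, rfl⟩; rwa [hA w (hWA hw)]⟩
  · obtain ⟨W, hWB, hW⟩ := OrthOddSub.exists_in Q hQ h2 hm hW₀ hW₀d hnd.2 (by omega)
    exact ⟨W, hW, by rintro _ ⟨w, hw, rfl⟩; rw [hB w (hWB hw)]; exact W.neg_mem hw⟩

include hQ h2 in
/-- The criterion for `r = 2`. -/
theorem main_two {d m : ℕ} (hn : Fintype.card ι = 2 * d) (hm : Odd m) (hmd : m < d)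
    {W₀ : Submodule F (ι → F)} (hW₀ : Nd Q W₀) (hW₀d : finrank F W₀ = m) :
    (∀ x : GL ι F, x ∈ Cfsg.Geo.omegaGL (⇑Q) → (∃ z : F, ((x ^ 2 : GL ι F) : Matrix ι ι F) = z • (1 : Matrix ι ι F)) →
      (∀ z : F, (x : Matrix ι ι F) ≠ z • (1 : Matrix ι ι F)) → Good Q m W₀ (Matrix.toLin' (x : Matrix ι ι F))) ↔
    ¬ ((Plus Q ⊤ ↔ Cond d F) ∧ IsSquare ((2 : F) ^ d)) := by
  have hfr : finrank F (⊤ : Submodule F (ι → F)) = 2 * d := by
    rw [finrank_top, Module.finrank_fintype_fun_eq_card, hn]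
  obtain ⟨v₁, -, hv₁⟩ := QuadType.exists_val Q hQ h2 (QuadType.nd_top Q hQ) (by omega) one_ne_zero
  have hv₁0 : v₁ ≠ 0 := fun e => by simp [e] at hv₁
  constructor
  · rintro h ⟨hc, hs⟩
    obtain ⟨g, hgs, -, hg2⟩ := exists_neg_sq Q hQ h2 d hfr (QuadType.nd_top Q hQ) hc
    set x := (isometryEquiv Q).symm g
    have hgx : ∀ v, ((x : GL ι F) : Matrix ι ι F).mulVec v = (g : (ι → F) ≃ₗ[F] (ι → F)) v := fun v => by
      rw [← isometryEquiv_apply, MulEquiv.apply_symm_apply]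
    have hmoved : movedSpace Q g = ⊤ := eq_top_iff.2 fun v _ => by
      refine ⟨(2 : F)⁻¹ • (v + (g : (ι → F) ≃ₗ[F] (ι → F)) v), ?_⟩
      rw [oneSub_apply, map_smul, map_add, hg2 v Submodule.mem_top, ← smul_sub]
      rw [show v + (g : (ι → F) ≃ₗ[F] (ι → F)) v - ((g : (ι → F) ≃ₗ[F] (ι → F)) v + -v) = (2 : F) • v by module,
        smul_smul, inv_mul_cancel₀ h2, one_smul]
    have hdk : dickson Q g = 1 := by
      rw [Cfsg.Agent.Lib.Geometry.dickson, hmoved, hfr, (even_two_mul d).neg_one_pow]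
    obtain ⟨W, hW, hWi⟩ := h x.1 ⟨x, (mem_Omega_iff Q hQ h2 (by omega) x).2
      ⟨by rw [MulEquiv.apply_symm_apply]; exact hdk,
        by rw [MulEquiv.apply_symm_apply, hgs]; exact sqClass_eq_one_iff.2 hs⟩, rfl⟩
      ⟨-1, Matrix.toLin'.injective (LinearMap.ext fun v => by
        rw [Units.val_pow_eq_pow_val, pow_two, Matrix.toLin'_mul, LinearMap.comp_apply, Matrix.toLin'_apply,
          Matrix.toLin'_apply, hgx, hgx, hg2 v Submodule.mem_top, map_smul, Matrix.toLin'_one, LinearMap.smul_apply,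
          LinearMap.id_apply, neg_one_smul])⟩
      (fun z hz => by
        have e1 : (g : (ι → F) ≃ₗ[F] (ι → F)) v₁ = z • v₁ := by
          rw [← hgx, hz, Matrix.smul_mulVec, Matrix.one_mulVec]
        have e3 : Q (z • v₁) = Q v₁ := by rw [← e1]; exact g.2 v₁
        rw [quad_smul, hv₁, mul_one] at e3
        have e4 := hg2 v₁ Submodule.mem_top
        rw [e1, map_smul, e1, smul_smul, e3, one_smul] at e4
        have e5 : (2 : F) • v₁ = 0 := by rw [two_smul]; exact add_eq_zero_iff_eq_neg.2 e4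
        exact hv₁0 ((smul_eq_zero.1 e5).resolve_left h2))
    refine no_inv Q hQ h2 (X := Matrix.toLin' ((x : GL ι F) : Matrix ι ι F)) (fun v => by
      rw [Matrix.toLin'_apply, hgx]; exact g.2 v) (fun v => by
      rw [Matrix.toLin'_apply, Matrix.toLin'_apply, hgx, hgx, hg2 v Submodule.mem_top]) hm hW.2.1 hW.1 hWi
  · rintro hcond x hx ⟨z, hz⟩ -
    obtain ⟨g, hg, rfl⟩ := hx
    set X := Matrix.toLin' (((Cfsg.isometryGroup F ⇑Q).subtype g : GL ι F) : Matrix ι ι F)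
    have hiso : ∀ v, Q (X v) = Q v := fun v => by rw [Matrix.toLin'_apply]; exact mem_isometryGroup_iff.1 g.2 v
    have hXX : ∀ v, X (X v) = z • v := fun v => by
      have h' := congrArg Matrix.toLin' hz
      rw [Units.val_pow_eq_pow_val, pow_two, Matrix.toLin'_mul, map_smul, Matrix.toLin'_one] at h'
      exact LinearMap.congr_fun h' v
    have hsq : z * z = 1 := by
      have := hiso (X v₁)
      rwa [hXX, quad_smul, hiso, hv₁, mul_one] at this
    rcases mul_self_eq_one_iff.1 hsq with rfl | rfl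
    · exact good_sq_one Q hQ h2 hn hm hmd hW₀ hW₀d hiso fun v => by rw [hXX, one_smul]
    exfalso
    obtain ⟨hc, g', hg's, -, hg'X⟩ := decomp_neg_sq Q hQ h2 hiso d hfr (QuadType.nd_top Q hQ)
      (fun u _ => Submodule.mem_top) (fun u _ => by rw [hXX, neg_one_smul])
    have heq : isometryEquiv Q g = g' := Subtype.ext (LinearEquiv.ext fun v => by
      rw [hg'X v Submodule.mem_top, isometryEquiv_apply, Matrix.toLin'_apply]; rfl)
    have hs := ((mem_Omega_iff Q hQ h2 (by omega) g).1 hg).2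
    rw [heq, hg's, sqClass_eq_one_iff] at hs
    exact hcond ⟨hc, hs⟩

end Cfsg.Agent.Lib.MaxSub.OrthOddSubTwo
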