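import Cfsg.Agent.Lib.MaxSub.OrthExtGen
import Cfsg.Agent.Lib.MaxSub.OrthOddSubTwo
import Mathlib

/-!
Elements squaring to a scalar and the normaliser of a self-adjoint quadratic extension.
-/

set_option autoImplicit false
set_option maxHeartbeats 1000000
set_option linter.unusedSectionVars false

namespace Cfsg.Agent.Lib.MaxSub.OrthExt

open Module Matrix Cfsg.Agent.Lib.MaxSub Cfsg.Agent.Lib.Geometry
open Cfsg.Agent.Lib.MaxSub.QuadType (Nd TS Plus perp Carries)
open Cfsg.Agent.Lib.MaxSub.OrthOddSubTwo (refl_perp decomp_neg_sq Cond cond_succ)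
open QuadraticMap (polarBilin)
open scoped _root_.Classical

attribute [-simp] QuadraticMap.polarBilin_apply_apply

variable {ι : Type} [Fintype ι] [DecidableEq ι] {F : Type*} [Field F] [Fintype F] (Q : QuadraticForm F (ι → F))
variable (hQ : (polarBilin Q).Nondegenerate) (h2 : (2 : F) ≠ 0)
variable (ω : End F (ι → F)) (t : F) (hω : ∀ v, ω (ω v) = t • v)
variable (hsa : ∀ u v, polarBilin Q (ω u) v = polarBilin Q u (ω v)) (ht : ¬ IsSquare t)

include hQ h2 in
theorem carries_pair {A B A' B' : Submodule F (ι → F)} {φ ψ : End F (ι → F)} (hA : Nd Q A) (h : B ≤ perp Q A)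
    (h' : B' ≤ perp Q A') (h1 : Carries Q φ A A') (h3 : Carries Q ψ B B') :
    ∃ χ : End F (ι → F), Carries Q χ (A ⊔ B) (A' ⊔ B') ∧ (∀ a ∈ A, χ a = φ a) ∧ (∀ b ∈ B, χ b = ψ b) := by
  obtain ⟨π, hπ1, hπ2, hπ3, -⟩ := QuadType.exists_proj Q hQ hA
  let χ : End F (ι → F) := φ ∘ₗ π + ψ ∘ₗ (LinearMap.id - π)
  have e1 : ∀ a ∈ A, χ a = φ a := fun a ha => by simp [χ, hπ2 a ha]
  have e2 : ∀ b ∈ B, χ b = ψ b := fun b hb => by simp [χ, hπ3 b (h hb)]
  refine ⟨χ, ⟨?_, fun x hx => ?_⟩, e1, e2⟩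
  · rw [Submodule.map_sup, ← h1.1, ← h3.1]
    congr 1
    · exact SetLike.coe_injective (Set.image_congr e1)
    · exact SetLike.coe_injective (Set.image_congr e2)
  · obtain ⟨a, ha, b, hb, rfl⟩ := Submodule.mem_sup.1 hx
    rw [map_add, e1 a ha, e2 b hb, quad_add, quad_add, h1.2 a ha, h3.2 b hb, h hb a ha,
      h' (h3.1 ▸ Submodule.mem_map_of_mem hb) _ (h1.1 ▸ Submodule.mem_map_of_mem ha)]

include h2 hω hsa ht in
/-- The matrix of `ω` on a plane in an orthonormal basis. -/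
theorem plane_anti {P : Submodule F (ι → F)} (hPd : finrank F P = 2) (hPi : P.map ω ≤ P) {v w : ι → F}
    (hv : v ∈ P) (hw : w ∈ P) (hQv : Q v = 1) (hQw : Q w = 1) (hvw : polarBilin Q v w = 0) :
    ∃ α γ : F, ω v = α • v + γ • w ∧ ω w = γ • v + (-α) • w := by
  have hv2 : polarBilin Q v v = 2 := by rw [quad_polar_self, hQv, mul_one]
  have hw2 : polarBilin Q w w = 2 := by rw [quad_polar_self, hQw, mul_one]
  have hwv : polarBilin Q w v = 0 := by rw [quad_polar_comm]; exact hvw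
  have hli : LinearIndependent F ![v, w] := by
    rw [LinearIndependent.pair_iff]
    intro a b h
    constructor
    · have := congrArg (polarBilin Q v) h
      simpa [hv2, hvw, h2] using this
    · have := congrArg (polarBilin Q w) h
      simpa [hw2, hwv, h2] using this
  have hspan : Submodule.span F (Set.range ![v, w]) = P := by
    refine Submodule.eq_of_le_of_finrank_le (Submodule.span_le.2 ?_) ?_
    · rintro _ ⟨i, rfl⟩
      fin_cases i
      · exact hv
      · exact hw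
    · rw [hPd, finrank_span_eq_card hli]; simp
  have hex : ∀ u ∈ P, ∃ a b : F, u = a • v + b • w := fun u hu => by
    rw [← hspan, Submodule.mem_span_range_iff_exists_fun] at hu
    obtain ⟨c, rfl⟩ := hu
    exact ⟨c 0, c 1, by simp⟩
  obtain ⟨α, γ, hωv⟩ := hex _ (hPi (Submodule.mem_map_of_mem hv))
  obtain ⟨γ', δ, hωw⟩ := hex _ (hPi (Submodule.mem_map_of_mem hw))
  have hγ : γ' = γ := by
    have h := hsa v w
    rw [hωv, hωw] at h
    simp [hv2, hw2, hvw] at h
    exact (h.resolve_right h2).symm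
  rw [hγ] at hωw
  have h := hω v
  rw [hωv, map_add, map_smul, map_smul, hωv, hωw] at h
  have h' := LinearIndependent.pair_iff.1 hli (α * α + γ * γ - t) (α * γ + γ * δ) (by
    rw [← sub_eq_zero] at h
    rw [← h]; module)
  have hγ0 : γ ≠ 0 := fun e => ht ⟨α, by rw [e] at h'; linear_combination -h'.1⟩
  have hδ : δ = -α := mul_left_cancel₀ hγ0 (by linear_combination h'.2)
  exact ⟨α, γ, hωv, hδ ▸ hωw⟩

include hQ h2 hω hsa ht in
/-- On an invariant plane a square root of `-1` anticommutes with `ω`. -/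
theorem anti_on {P : Submodule F (ι → F)} (hP : Nd Q P) (hPd : finrank F P = 2) (hPi : P.map ω ≤ P)
    {Y : End F (ι → F)} (hiso : ∀ v, Q (Y v) = Q v) (hYP : ∀ u ∈ P, Y u ∈ P) (hYY : ∀ u ∈ P, Y (Y u) = -u)
    {u : ι → F} (hu : u ∈ P) : Y (ω u) = -ω (Y u) := by
  obtain ⟨v, hv, hQv⟩ := QuadType.exists_val Q hQ h2 hP (by omega) one_ne_zero
  have hvw : polarBilin Q v (Y v) = 0 := by
    have h := quad_polar_map Q hiso v (Y v)
    rw [hYY v hv, map_neg, quad_polar_comm Q (Y v) v] at h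
    exact (mul_eq_zero.1 (show (2 : F) * polarBilin Q v (Y v) = 0 by linear_combination -h)).resolve_left h2
  obtain ⟨α, γ, h1, h3⟩ := plane_anti Q h2 ω t hω hsa ht hPd hPi hv (hYP v hv) hQv ((hiso v).trans hQv) hvw
  obtain ⟨-, hEd, -⟩ := QuadType.plane_iff Q hQ h2 (hQv ▸ one_ne_zero : Q v ≠ 0)
    (((hiso v).trans hQv) ▸ one_ne_zero : Q (Y v) ≠ 0) hvw
  have hE : (F ∙ v) ⊔ (F ∙ Y v) = P := Submodule.eq_of_le_of_finrank_le
    (sup_le ((Submodule.span_singleton_le_iff_mem _ _).2 hv) ((Submodule.span_singleton_le_iff_mem _ _).2 (hYP v hv)))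
    (by omega)
  rw [← hE] at hu
  obtain ⟨q1, hq1, q2, hq2, rfl⟩ := Submodule.mem_sup.1 hu
  obtain ⟨a, rfl⟩ := Submodule.mem_span_singleton.1 hq1
  obtain ⟨b, rfl⟩ := Submodule.mem_span_singleton.1 hq2
  simp only [map_add, map_smul, h1, h3, hYY v hv]
  simp only [map_neg, h1, map_add, map_smul, hYY v hv]
  module

include hQ h2 hω hsa ht in
/-- Matching the planes of a square root of `-1` with invariant planes. -/
theorem match_planes {X : End F (ι → F)} (hiso : ∀ v, Q (X v) = Q v) :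
    ∀ (k : ℕ) {U U' : Submodule F (ι → F)}, finrank F U = 2 * k → finrank F U' = 2 * k → Nd Q U → Nd Q U' →
      U.map ω ≤ U → (∀ u ∈ U', X u ∈ U') → (∀ u ∈ U', X (X u) = -u) → (Plus Q U ↔ Plus Q U') →
      ∃ φ : End F (ι → F), Carries Q φ U U' ∧
        (∀ u ∈ U, ∀ u' ∈ U, φ u' = X (φ u) → φ (ω u') = -X (φ (ω u))) ∧
        (0 < k → ∃ P ≤ U, Nd Q P ∧ finrank F P = 2 ∧ P.map ω ≤ P ∧
          ∀ u ∈ P, ∀ u' ∈ U, φ u' = X (φ u) → u' ∈ P) := by
  intro k
  induction k with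
  | zero =>
    intro U U' hd hd' _ _ hUi _ _ _
    have hU0 : U = ⊥ := Submodule.finrank_eq_zero.1 (by omega)
    have hU0' : U' = ⊥ := Submodule.finrank_eq_zero.1 (by omega)
    subst hU0 hU0'
    refine ⟨0, ⟨by simp, fun x hx => ?_⟩, fun u _ u' _ _ => by simp, fun h => absurd h (lt_irrefl 0)⟩
    rw [Submodule.mem_bot] at hx
    simp [hx]
  | succ k ih =>
    intro U U' hd hd' hU hU' hUi hU'X hXX htype
    obtain ⟨v', hv', hQv'⟩ := QuadType.exists_val Q hQ h2 hU' (by omega) one_ne_zero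
    have hanti : ∀ a ∈ U', ∀ b ∈ U', polarBilin Q a (X b) = -polarBilin Q (X a) b := fun a ha b hb => by
      have h := quad_polar_map Q hiso a (X b)
      rw [hXX b hb, map_neg] at h
      exact h.symm
    have hvw' : polarBilin Q v' (X v') = 0 := by
      have h := hanti v' hv' v' hv'
      rw [quad_polar_comm Q (X v') v'] at h
      exact (mul_eq_zero.1 (show (2 : F) * polarBilin Q v' (X v') = 0 by linear_combination h)).resolve_left h2
    obtain ⟨hP', hP'd, hP'p⟩ := QuadType.plane_iff Q hQ h2 (hQv' ▸ one_ne_zero : Q v' ≠ 0)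
      (((hiso v').trans hQv') ▸ one_ne_zero : Q (X v') ≠ 0) hvw'
    rw [hQv', hiso, hQv', mul_one] at hP'p
    set P' := (F ∙ v') ⊔ (F ∙ X v') with hP'def
    have hmv' : v' ∈ P' := Submodule.mem_sup_left (Submodule.mem_span_singleton_self _)
    have hmw' : X v' ∈ P' := Submodule.mem_sup_right (Submodule.mem_span_singleton_self _)
    have hP'U : P' ≤ U' := sup_le ((Submodule.span_singleton_le_iff_mem _ _).2 hv')
      ((Submodule.span_singleton_le_iff_mem _ _).2 (hU'X v' hv'))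
    have hP'X : ∀ q ∈ P', X q ∈ P' := fun q hq => by
      obtain ⟨q1, hq1, q2, hq2, rfl⟩ := Submodule.mem_sup.1 hq
      obtain ⟨a, rfl⟩ := Submodule.mem_span_singleton.1 hq1
      obtain ⟨b, rfl⟩ := Submodule.mem_span_singleton.1 hq2
      rw [map_add, map_smul, map_smul, hXX v' hv']
      exact P'.add_mem (P'.smul_mem _ hmw') (P'.smul_mem _ (P'.neg_mem hmv'))
    obtain ⟨P, hPU, hP, hPd, hPi, hPp⟩ : ∃ P ≤ U, Nd Q P ∧ finrank F P = 2 ∧ P.map ω ≤ P ∧ (Plus Q P ↔ Plus Q P') := by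
      rcases Nat.eq_zero_or_pos k with rfl | hk
      · have e : P' = U' := Submodule.eq_of_le_of_finrank_le hP'U (by omega)
        exact ⟨U, le_rfl, hU, by omega, hUi, by rw [e]; exact htype⟩
      · exact exists_plane Q hQ h2 ω t hω hsa ht hU hUi (by omega) _
    obtain ⟨hsup, hR, hRd⟩ := QuadType.split_off Q hU hP hPU
    obtain ⟨hsup', hR', hRd'⟩ := QuadType.split_off Q hU' hP' hP'U
    have hRX : ∀ u ∈ U' ⊓ perp Q P', X u ∈ U' ⊓ perp Q P' := fun u hu => ⟨hU'X u hu.1, fun q hq => by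
      rw [hanti q (hP'U hq) u hu.1, hu.2 _ (hP'X q hq), neg_zero]⟩
    have htR : Plus Q (U ⊓ perp Q P) ↔ Plus Q (U' ⊓ perp Q P') := by
      rw [← hsup, ← hsup', QuadType.sup_iff Q hQ h2 hP hR inf_le_right ⟨1, by omega⟩ ⟨k, by omega⟩,
        QuadType.sup_iff Q hQ h2 hP' hR' inf_le_right ⟨1, by omega⟩ ⟨k, by omega⟩] at htype
      tauto
    obtain ⟨ψ, hψ⟩ := QuadType.exists_carries Q hQ h2 1 hP hP' hPd hP'd hPp
    obtain ⟨φR, hφR, hφRω, -⟩ := ih (by omega) (by omega) hR hR' (perp_invariant Q ω hsa hUi hPi) hRX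
      (fun u hu => hXX u hu.1) htR
    obtain ⟨χ, hχ, hχP, hχR⟩ := carries_pair Q hQ h2 hP inf_le_right inf_le_right hψ hφR
    rw [hsup, hsup'] at hχ
    have hinj := QuadType.carries_inj Q hU hχ
    obtain ⟨v, hv, hev⟩ := Submodule.mem_map.1 (hψ.1.symm ▸ hmv' : v' ∈ P.map ψ)
    obtain ⟨w, hw, hew⟩ := Submodule.mem_map.1 (hψ.1.symm ▸ hmw' : X v' ∈ P.map ψ)
    have hQv : Q v = 1 := by rw [← hψ.2 v hv, hev, hQv']
    have hQw : Q w = 1 := by rw [← hψ.2 w hw, hew, hiso, hQv']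
    have hvw : polarBilin Q v w = 0 := by
      have h := hψ.2 (v + w) (P.add_mem hv hw)
      rw [map_add, hev, hew, quad_add, quad_add, hQv, hQw, hvw', hiso, hQv'] at h
      linear_combination -h
    obtain ⟨α, γ, h1, h3⟩ := plane_anti Q h2 ω t hω hsa ht hPd hPi hv hw hQv hQw hvw
    obtain ⟨-, hEd, -⟩ := QuadType.plane_iff Q hQ h2 (hQv ▸ one_ne_zero : Q v ≠ 0) (hQw ▸ one_ne_zero : Q w ≠ 0) hvw
    have hE : (F ∙ v) ⊔ (F ∙ w) = P := Submodule.eq_of_le_of_finrank_le
      (sup_le ((Submodule.span_singleton_le_iff_mem _ _).2 hv) ((Submodule.span_singleton_le_iff_mem _ _).2 hw))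
      (by omega)
    have hc : ∀ a b : F, χ (a • v + b • w) = a • v' + b • X v' := fun a b => by
      rw [map_add, map_smul, map_smul, hχP v hv, hχP w hw, hev, hew]
    have key : ∀ u ∈ P, ∃ u' ∈ P, χ u' = X (χ u) ∧ χ (ω u') = -X (χ (ω u)) := fun u hu => by
      rw [← hE] at hu
      obtain ⟨q1, hq1, q2, hq2, rfl⟩ := Submodule.mem_sup.1 hu
      obtain ⟨a, rfl⟩ := Submodule.mem_span_singleton.1 hq1
      obtain ⟨b, rfl⟩ := Submodule.mem_span_singleton.1 hq2
      refine ⟨(-b) • v + a • w, P.add_mem (P.smul_mem _ hv) (P.smul_mem _ hw), ?_, ?_⟩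
      · rw [hc, hc, map_add, map_smul, map_smul, hXX v' hv']; module
      · rw [show ω ((-b) • v + a • w) = (-b * α + a * γ) • v + (-b * γ - a * α) • w by
            simp only [map_add, map_smul, h1, h3]; module,
          show ω (a • v + b • w) = (a * α + b * γ) • v + (a * γ - b * α) • w by
            simp only [map_add, map_smul, h1, h3]; module,
          hc, hc, map_add, map_smul, map_smul, hXX v' hv']
        module
    refine ⟨χ, hχ, fun u hu u' hu' he => ?_, fun _ => ⟨P, hPU, hP, hPd, hPi, fun u hu u' hu' he => ?_⟩⟩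
    · obtain ⟨p, hp, s, hs, rfl⟩ := Submodule.mem_sup.1 (hsup.symm ▸ hu : u ∈ P ⊔ (U ⊓ perp Q P))
      obtain ⟨p', hp', hp'e, hp'ω⟩ := key p hp
      obtain ⟨s', hs', hs'e⟩ := Submodule.mem_map.1 (hφR.1.symm ▸ hRX (φR s) (hφR.1 ▸ Submodule.mem_map_of_mem hs) :
        X (φR s) ∈ (U ⊓ perp Q P).map φR)
      have e : u' = p' + s' := by
        rw [← sub_eq_zero]
        refine hinj _ (U.sub_mem hu' (U.add_mem (hPU hp') hs'.1)) ?_
        rw [map_sub, map_add, he, map_add, map_add, hp'e, hχR s hs, hχR s' hs', hs'e, sub_self]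
      have hωR := perp_invariant Q ω hsa hUi hPi
      subst e
      simp only [map_add]
      rw [hp'ω, hχR _ (hωR (Submodule.mem_map_of_mem hs')), hφRω s hs s' hs' hs'e,
        hχR _ (hωR (Submodule.mem_map_of_mem hs)), neg_add]
    · obtain ⟨p', hp', hp'e, -⟩ := key u hu
      have e : u' = p' := by
        rw [← sub_eq_zero]
        exact hinj _ (U.sub_mem hu' (hPU hp')) (by rw [map_sub, he, hp'e, sub_self])
      exact e ▸ hp'

include hQ h2 hω hsa ht in
/-- Invariant subspaces of both types. -/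
theorem exists_inv_sub : ∀ (h : ℕ) {U : Submodule F (ι → F)}, Nd Q U → U.map ω ≤ U → 1 ≤ h →
    2 * h + 2 ≤ finrank F U → ∀ pl : Prop, ∃ W ≤ U, Nd Q W ∧ W.map ω ≤ W ∧ finrank F W = 2 * h ∧ (Plus Q W ↔ pl) := by
  intro h
  induction h with
  | zero => intro U _ _ h1; exact absurd h1 (by omega)
  | succ h ih =>
    intro U hU hUi _ hd pl
    rcases Nat.eq_zero_or_pos h with rfl | hh
    · obtain ⟨P, hPU, hP, hPd, hPi, hPp⟩ := exists_plane Q hQ h2 ω t hω hsa ht hU hUi (by omega) pl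
      exact ⟨P, hPU, hP, hPi, hPd, hPp⟩
    obtain ⟨P, hPU, hP, hPd, hPi, hPp⟩ := exists_plane Q hQ h2 ω t hω hsa ht hU hUi (by omega) True
    obtain ⟨hsup, hR, hRd⟩ := QuadType.split_off Q hU hP hPU
    obtain ⟨W, hWR, hW, hWi, hWd, hWp⟩ := ih hR (perp_invariant Q ω hsa hUi hPi) hh (by omega) pl
    obtain ⟨g1, g2⟩ := QuadType.nd_sup Q hP hW (hWR.trans inf_le_right)
    refine ⟨P ⊔ W, sup_le hPU (hWR.trans inf_le_left), g1, IsoDecomp.sup_inv hPi hWi, by omega, ?_⟩
    rw [QuadType.sup_iff Q hQ h2 hP hW (hWR.trans inf_le_right) ⟨1, by omega⟩ ⟨h, by omega⟩, hWp]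
    simp [hPp]

include hQ h2 in
/-- Isometries of a plane of every class. -/
theorem exists_plane_class {P : Submodule F (ι → F)} (hP : Nd Q P) (hPd : finrank F P = 2) (x : ℤˣ × ℤˣ) :
    ∃ c : quadIsometries Q, dickSpinHom Q hQ h2 c = x ∧
      ∀ b ∈ perp Q P, (c : (ι → F) ≃ₗ[F] (ι → F)) b = b := by
  obtain ⟨v, hv, hQv⟩ := QuadType.exists_val Q hQ h2 hP (by omega) one_ne_zero
  obtain ⟨δ, hδ0, hδ⟩ := QuadType.exists_not_sq Q hQ h2
  obtain ⟨w, hw, hQw⟩ := QuadType.exists_val Q hQ h2 hP (by omega) hδ0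
  have h1 := dickSpinHom_refl Q hQ h2 (v := v) (hQv ▸ one_ne_zero)
  have h3 := dickSpinHom_refl Q hQ h2 (v := w) (hQw ▸ hδ0)
  rw [hQv, sqClass_eq_one_iff.2 IsSquare.one] at h1
  rw [hQw, sqClass_eq_neg_one_iff.2 hδ] at h3
  have hrv : ∀ b ∈ perp Q P, (refl Q v : (ι → F) ≃ₗ[F] (ι → F)) b = b := fun b hb => refl_perp Q (hb v hv)
  have hrw : ∀ b ∈ perp Q P, (refl Q w : (ι → F) ≃ₗ[F] (ι → F)) b = b := fun b hb => refl_perp Q (hb w hw)
  obtain ⟨a, b⟩ := x
  rcases Int.units_eq_one_or a with rfl | rfl <;> rcases Int.units_eq_one_or b with rfl | rfl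
  · exact ⟨1, map_one _, fun b _ => rfl⟩
  · refine ⟨refl Q v * refl Q w, by rw [map_mul, h1, h3]; simp, fun b hb => ?_⟩
    show (refl Q v : (ι → F) ≃ₗ[F] (ι → F)) ((refl Q w : (ι → F) ≃ₗ[F] (ι → F)) b) = b
    rw [hrw b hb, hrv b hb]
  · exact ⟨refl Q v, h1, hrv⟩
  · exact ⟨refl Q w, h3, hrw⟩

include hQ h2 hω hsa ht in
/-- Every element of order two modulo scalars has a conjugate in the normaliser. -/
theorem two_pos {N : Subgroup (GL ι F)}
    (hN : ∀ g : GL ι F, g ∈ N ↔ ((∀ v, (g : Matrix ι ι F) *ᵥ ω v = ω ((g : Matrix ι ι F) *ᵥ v)) ∨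
      (∀ v, (g : Matrix ι ι F) *ᵥ ω v = -ω ((g : Matrix ι ι F) *ᵥ v))))
    {d : ℕ} (hn : Fintype.card ι = 2 * d) (hd : 1 ≤ d) {x : GL ι F} (hx : x ∈ Cfsg.Geo.omegaGL (⇑Q))
    (hz : ∃ z : F, ((x ^ 2 : GL ι F) : Matrix ι ι F) = z • (1 : Matrix ι ι F))
    (hns : ∀ z : F, (x : Matrix ι ι F) ≠ z • (1 : Matrix ι ι F)) :
    ∃ g ∈ Cfsg.Geo.omegaGL (⇑Q), g⁻¹ * x * g ∈ N := by
  obtain ⟨x, hxc, rfl⟩ := hx
  simp only [Subgroup.coe_subtype] at hz hns ⊢
  change x ∈ Cfsg.Omega F ⇑Q at hxc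
  obtain ⟨hdx, -⟩ := (mem_Omega_iff Q hQ h2 (by omega) x).1 hxc
  set X : End F (ι → F) := Matrix.toLin' ((x : GL ι F) : Matrix ι ι F) with hX
  have hXa : ∀ v, X v = ((x : GL ι F) : Matrix ι ι F) *ᵥ v := fun v => Matrix.toLin'_apply _ v
  have hiso : ∀ v, Q (X v) = Q v := fun v => by rw [hXa]; exact mem_isometryGroup_iff.1 x.2 v
  have htop : finrank F (⊤ : Submodule F (ι → F)) = 2 * d := by
    rw [finrank_top, Module.finrank_fintype_fun_eq_card, hn]
  have hnd := QuadType.nd_top Q hQ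
  -- it is enough to find an isometry carrying `ω` to a suitable conjugate
  suffices h : ∃ (e : F) (φ : End F (ι → F)) (P : Submodule F (ι → F)), (e = 1 ∨ e = -1) ∧ Carries Q φ ⊤ ⊤ ∧
      (∀ u u', φ u' = X (φ u) → φ (ω u') = e • X (φ (ω u))) ∧ Nd Q P ∧ finrank F P = 2 ∧ P.map ω ≤ P ∧
      (∀ u ∈ P, ∀ u', φ u' = X (φ u) → u' ∈ P) ∧
      ((e = 1 ∧ ∀ u ∈ P, X (φ u) = φ u ∨ False) ∨ (e = -1 ∧ ∀ u ∈ P, X (X (φ u)) = -φ u)) by
    obtain ⟨e, φ, P, he, hφ, hφω, hP, hPd, hPi, hPY, hcase⟩ := h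
    have hinj := QuadType.carries_inj Q hnd hφ
    have hφinj : Function.Injective φ := (injective_iff_map_eq_zero φ).2 fun a ha => hinj a Submodule.mem_top ha
    let φe := LinearEquiv.ofInjectiveEndo φ hφinj
    let g₀ : quadIsometries Q := ⟨φe, mem_quadIsometries.2 fun v => hφ.2 v Submodule.mem_top⟩
    obtain ⟨c, hc, hcp⟩ := exists_plane_class Q hQ h2 hP hPd (dickSpinHom Q hQ h2 g₀)⁻¹
    set g := (isometryEquiv Q).symm (g₀ * c) with hg
    have hgΩ : g ∈ Cfsg.Omega F ⇑Q := by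
      have h1 : dickSpinHom Q hQ h2 (g₀ * c) = 1 := by rw [map_mul, hc, mul_inv_cancel]
      rw [dickSpinHom_apply, Prod.ext_iff] at h1
      refine (mem_Omega_iff Q hQ h2 (by omega) g).2 ?_
      rw [hg, MulEquiv.apply_symm_apply]
      exact h1
    refine ⟨g.1, ⟨g, hgΩ, rfl⟩, (hN _).2 ?_⟩
    set Y : End F (ι → F) := φe.symm.toLinearMap ∘ₗ X ∘ₗ φ with hY
    have hYspec : ∀ u, φ (Y u) = X (φ u) := fun u => φe.apply_symm_apply _
    have hYω : ∀ u, Y (ω u) = e • ω (Y u) := fun u => hφinj (by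
      have hee : e * e = 1 := by rcases he with rfl | rfl <;> norm_num
      rw [map_smul, hYspec, hφω u (Y u) (hYspec u), smul_smul, hee, one_smul])
    have hYiso : ∀ v, Q (Y v) = Q v := fun v => by
      rw [← hφ.2 (Y v) Submodule.mem_top, hYspec, hiso, hφ.2 v Submodule.mem_top]
    set ce : (ι → F) ≃ₗ[F] (ι → F) := (c : (ι → F) ≃ₗ[F] (ι → F)) with hce
    have hgv : ∀ v, ((g.1 : GL ι F) : Matrix ι ι F) *ᵥ v = φ (ce v) := fun v => by
      rw [← isometryEquiv_apply, hg, MulEquiv.apply_symm_apply]; rfl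
    have hgi : Function.Injective fun v => ((g.1 : GL ι F) : Matrix ι ι F) *ᵥ v := fun a b hab => by
      simp only [hgv] at hab; exact ce.injective (hφinj hab)
    have hconj : ∀ v, (((g.1)⁻¹ * (x : GL ι F) * g.1 : GL ι F) : Matrix ι ι F) *ᵥ v = ce.symm (Y (ce v)) := fun v => by
      refine hgi ?_
      simp only [Matrix.mulVec_mulVec]
      rw [← Units.val_mul, ← mul_assoc, ← mul_assoc, mul_inv_cancel, one_mul, Units.val_mul, ← Matrix.mulVec_mulVec,
        hgv, hgv, LinearEquiv.apply_symm_apply, hYspec, hXa]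
    set Z : End F (ι → F) := ce.symm.toLinearMap ∘ₗ Y ∘ₗ ce.toLinearMap with hZ
    have hZiso : ∀ v, Q (Z v) = Q v := fun v => by
      have h1 : Q (ce (ce.symm (Y (ce v)))) = Q (ce.symm (Y (ce v))) := c.2 _
      rw [LinearEquiv.apply_symm_apply, hYiso, show Q (ce v) = Q v from c.2 v] at h1
      exact h1.symm
    have hcmem : ∀ u ∈ P, ce u ∈ P := fun u hu => OrthDecomp.fixer_mem Q hQ hP hcp hu
    have hcmem' : ∀ u ∈ P, ce.symm u ∈ P := fun u hu =>
      OrthDecomp.fixer_mem Q hQ hP ((OrthDecomp.fixer Q P).inv_mem hcp) hu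
    have hYP : ∀ u ∈ P, Y u ∈ P := fun u hu => hPY u hu _ (hYspec u)
    have hZP : ∀ u ∈ P, Z u ∈ P := fun u hu => hcmem' _ (hYP _ (hcmem u hu))
    have hPperp : (perp Q P).map ω ≤ perp Q P := by
      rw [← top_inf_eq (perp Q P)]
      exact perp_invariant Q ω hsa le_top hPi
    have hYperp : ∀ b ∈ perp Q P, Y b ∈ perp Q P := fun b hb u hu => by
      obtain ⟨u₀, hu₀, rfl⟩ : ∃ u₀ ∈ P, Y u₀ = u := by
        let Yr : P →ₗ[F] P := Y.restrict hYP
        have hsur : Function.Surjective Yr := (LinearMap.injective_iff_surjective).1 fun a b hab => by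
          have h' : Y a.1 = Y b.1 := congrArg Subtype.val hab
          have h'' := congrArg φ h'
          rw [hYspec, hYspec] at h''
          have hXi : Function.Injective X := fun a' b' hab' => by
            simp only [hXa] at hab'
            exact Matrix.mulVec_injective_iff_isUnit.2 (x : GL ι F).isUnit hab'
          exact Subtype.ext (hφinj (hXi h''))
        obtain ⟨a, ha⟩ := hsur ⟨u, hu⟩
        exact ⟨a.1, a.2, congrArg Subtype.val ha⟩
      rw [quad_polar_map Q hYiso]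
      exact hb _ hu₀
    have hcfix' : ∀ b ∈ perp Q P, ce.symm b = b := fun b hb => by
      rw [LinearEquiv.symm_apply_eq]; exact (hcp b hb).symm
    have hperp : ∀ b ∈ perp Q P, Z (ω b) = e • ω (Z b) := fun b hb => by
      show ce.symm (Y (ce (ω b))) = e • ω (ce.symm (Y (ce b)))
      rw [hcp b hb, hcp _ (hPperp (Submodule.mem_map_of_mem hb)), hYω, map_smul,
        hcfix' _ (hPperp (Submodule.mem_map_of_mem (hYperp b hb))), hcfix' _ (hYperp b hb)]
    have honP : ∀ u ∈ P, Z (ω u) = e • ω (Z u) := by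
      rcases hcase with ⟨rfl, h1⟩ | ⟨rfl, h1⟩
      · intro u hu
        have hYid : ∀ u ∈ P, Y u = u := fun u hu => hφinj ((hYspec u).trans ((h1 u hu).resolve_right id))
        have hZid : ∀ u ∈ P, Z u = u := fun u hu => by
          show ce.symm (Y (ce u)) = u
          rw [hYid _ (hcmem u hu), LinearEquiv.symm_apply_apply]
        rw [one_smul, hZid _ (hPi (Submodule.mem_map_of_mem hu)), hZid u hu]
      · intro u hu
        rw [neg_one_smul]
        refine anti_on Q hQ h2 ω t hω hsa ht hP hPd hPi hZiso hZP (fun u hu => ?_) hu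
        show ce.symm (Y (ce (ce.symm (Y (ce u))))) = -u
        rw [LinearEquiv.apply_symm_apply, show Y (Y (ce u)) = -ce u from hφinj (by
          rw [hYspec, hYspec, map_neg]; exact h1 _ (hcmem u hu)), map_neg, LinearEquiv.symm_apply_apply]
    have hall : ∀ v, Z (ω v) = e • ω (Z v) := fun v => by
      obtain ⟨p, hp, b, hb, rfl⟩ := Submodule.mem_sup.1
        ((QuadType.compl_perp Q hQ hP).1.symm ▸ Submodule.mem_top : v ∈ P ⊔ perp Q P)
      simp only [map_add, smul_add, honP p hp, hperp b hb]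
    rcases he with rfl | rfl
    · left; intro v; rw [hconj, hconj]; simpa [hZ] using hall v
    · right; intro v; rw [hconj, hconj]; simpa [hZ] using hall v
  -- the square is `1` or `-1`
  obtain ⟨z, hz⟩ := hz
  have hXX : ∀ v, X (X v) = z • v := fun v => by
    rw [hXa, hXa, Matrix.mulVec_mulVec, ← pow_two, ← Units.val_pow_eq_pow_val, hz, Matrix.smul_mulVec, Matrix.one_mulVec]
  obtain ⟨v₁, -, hv₁⟩ := QuadType.exists_val Q hQ h2 hnd (by omega) one_ne_zero
  have hz1 : z * z = 1 := by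
    have h := hiso (X v₁)
    rw [hXX, quad_smul, hiso, hv₁, mul_one] at h
    exact h
  rcases mul_self_eq_one_iff.1 hz1 with rfl | rfl
  · simp only [one_smul] at hXX
    let A : Submodule F (ι → F) := LinearMap.ker (X - 1)
    let B : Submodule F (ι → F) := LinearMap.ker (X + 1)
    have hA : ∀ a ∈ A, X a = a := fun a ha => by simpa [A, sub_eq_zero] using ha
    have hB : ∀ b ∈ B, X b = -b := fun b hb => by
      have : X b + b = 0 := by simpa [B] using hb
      exact eq_neg_of_add_eq_zero_left this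
    have hAB : B ≤ perp Q A := fun b hb a ha => by
      have h := quad_polar_map Q hiso a b
      rw [hA a ha, hB b hb, map_neg] at h
      exact (mul_eq_zero.1 (show (2 : F) * polarBilin Q a b = 0 by linear_combination -h)).resolve_left h2
    have hsupv : ∀ v, ∃ a ∈ A, ∃ b ∈ B, a + b = v := fun v => by
      refine ⟨(2 : F)⁻¹ • (v + X v), ?_, (2 : F)⁻¹ • (v - X v), ?_, ?_⟩
      · simp [A, hXX]; abel_nf
      · simp [B, hXX]
      · rw [← smul_add, show v + X v + (v - X v) = (2 : F) • v by rw [two_smul]; abel, smul_smul,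
          inv_mul_cancel₀ h2, one_smul]
    have hsupAB : A ⊔ B = ⊤ := eq_top_iff.2 fun v _ => by
      obtain ⟨a, ha, b, hb, rfl⟩ := hsupv v
      exact Submodule.add_mem_sup ha hb
    have hAn : Nd Q A := fun v hv hv0 => by
      obtain ⟨y, -, hvy⟩ := hnd v Submodule.mem_top hv0
      obtain ⟨a, ha, b, hb, rfl⟩ := hsupv y
      exact ⟨a, ha, by rwa [map_add, hAB hb v hv, add_zero] at hvy⟩
    have hBn : Nd Q B := fun v hv hv0 => by
      obtain ⟨y, -, hvy⟩ := hnd v Submodule.mem_top hv0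
      obtain ⟨a, ha, b, hb, rfl⟩ := hsupv y
      exact ⟨b, hb, by rwa [map_add, quad_polar_comm Q v a, hAB hv a ha, zero_add] at hvy⟩
    have hdim : finrank F A + finrank F B = 2 * d := by
      rw [← htop, ← hsupAB]; exact ((QuadType.nd_sup Q hAn hBn hAB).2).symm
    obtain ⟨b, hb⟩ : Even (finrank F B) := by
      rw [dickson] at hdx
      have hmv : movedSpace Q (isometryEquiv Q x) = B := by
        have hoa : ∀ v, oneSub Q (isometryEquiv Q x) v = v - X v := fun v => by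
          rw [oneSub_apply, isometryEquiv_apply, hXa]
        refine le_antisymm ?_ fun u hu => ?_
        · rintro _ ⟨v, rfl⟩
          rw [hoa]
          simp [B, hXX]
        · refine ⟨(2 : F)⁻¹ • u, ?_⟩
          rw [hoa, map_smul, hB u hu, smul_neg, sub_neg_eq_add, ← two_smul F, smul_smul,
            mul_inv_cancel₀ h2, one_smul]
      rw [hmv] at hdx
      rcases Nat.even_or_odd (finrank F B) with h | h
      · exact h
      · rw [h.neg_one_pow] at hdx; exact absurd hdx (by decide)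
    have hb0 : b ≠ 0 := fun e => hns 1 (by
      have hB0 : B = ⊥ := Submodule.finrank_eq_zero.1 (by omega)
      rw [hB0, sup_bot_eq] at hsupAB
      refine Matrix.toLin'.injective (LinearMap.ext fun v => ?_)
      rw [one_smul, Matrix.toLin'_one, LinearMap.id_apply, ← hX]
      exact hA v (hsupAB ▸ Submodule.mem_top))
    have hbd : b ≠ d := fun e => hns (-1) (by
      have hA0 : A = ⊥ := Submodule.finrank_eq_zero.1 (by omega)
      rw [hA0, bot_sup_eq] at hsupAB
      refine Matrix.toLin'.injective (LinearMap.ext fun v => ?_)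
      rw [map_smul, Matrix.toLin'_one, LinearMap.smul_apply, LinearMap.id_apply, neg_one_smul, ← hX]
      exact hB v (hsupAB ▸ Submodule.mem_top))
    obtain ⟨U, -, hU, hUi, hUd, hUp⟩ := exists_inv_sub Q hQ h2 ω t hω hsa ht (d - b) hnd le_top (by omega)
      (by omega) (Plus Q A)
    obtain ⟨hsupU, hR, hRd⟩ := QuadType.split_off Q hnd hU le_top
    have hRp : Plus Q (⊤ ⊓ perp Q U) ↔ Plus Q B := by
      have e1 := QuadType.sup_iff Q hQ h2 hU hR inf_le_right ⟨d - b, by omega⟩ ⟨b, by omega⟩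
      have e2 := QuadType.sup_iff Q hQ h2 hAn hBn hAB ⟨d - b, by omega⟩ ⟨b, by omega⟩
      rw [hsupU] at e1
      rw [hsupAB] at e2
      tauto
    obtain ⟨φA, hφA⟩ := QuadType.exists_carries Q hQ h2 (d - b) hU hAn hUd (by omega) hUp
    obtain ⟨φB, hφB⟩ := QuadType.exists_carries Q hQ h2 b hR hBn (by omega) (by omega) hRp
    obtain ⟨χ, hχ, hχU, hχR⟩ := carries_pair Q hQ h2 hU inf_le_right hAB hφA hφB
    rw [hsupU, hsupAB] at hχ
    have hinj := QuadType.carries_inj Q hnd hχ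
    have hRi : (⊤ ⊓ perp Q U).map ω ≤ ⊤ ⊓ perp Q U := perp_invariant Q ω hsa le_top hUi
    have hXU : ∀ u ∈ U, X (χ u) = χ u := fun u hu => by
      rw [hχU u hu]; exact hA _ (hφA.1 ▸ Submodule.mem_map_of_mem hu)
    have hXR : ∀ u ∈ ⊤ ⊓ perp Q U, X (χ u) = -χ u := fun u hu => by
      rw [hχR u hu]; exact hB _ (hφB.1 ▸ Submodule.mem_map_of_mem hu)
    obtain ⟨P, hPU, hP, hPd, hPi⟩ : ∃ P ≤ U, Nd Q P ∧ finrank F P = 2 ∧ P.map ω ≤ P := by
      by_cases h4 : 4 ≤ finrank F U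
      · obtain ⟨P, h1, h3, h5, h6, -⟩ := exists_plane Q hQ h2 ω t hω hsa ht hU hUi h4 True
        exact ⟨P, h1, h3, h5, h6⟩
      · exact ⟨U, le_rfl, hU, by omega, hUi⟩
    refine ⟨1, χ, P, Or.inl rfl, hχ, fun u u' he => ?_, hP, hPd, hPi, fun u hu u' he => ?_,
      Or.inl ⟨rfl, fun u hu => Or.inl (hXU u (hPU hu))⟩⟩
    · obtain ⟨p, hp, s, hs, rfl⟩ := Submodule.mem_sup.1 (hsupU.symm ▸ Submodule.mem_top : u ∈ U ⊔ (⊤ ⊓ perp Q U))
      have e : u' = p - s := by
        rw [← sub_eq_zero]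
        refine hinj _ Submodule.mem_top ?_
        rw [map_sub, he, map_sub, map_add, map_add, hXU p hp, hXR s hs]
        abel
      subst e
      rw [one_smul, map_add, map_add, map_add, hXU _ (hUi (Submodule.mem_map_of_mem hp)),
        hXR _ (hRi (Submodule.mem_map_of_mem hs)), map_sub, map_sub]
      abel
    · rw [hXU u (hPU hu)] at he
      have e : u' = u := by rw [← sub_eq_zero]; exact hinj _ Submodule.mem_top (by rw [map_sub, he, sub_self])
      exact e ▸ hu
  · simp only [neg_one_smul] at hXX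
    obtain ⟨φ, hφ, hφω, hplane⟩ := match_planes Q hQ h2 ω t hω hsa ht hiso d htop htop hnd hnd le_top
      (fun u _ => Submodule.mem_top) (fun u _ => hXX u) Iff.rfl
    obtain ⟨P, -, hP, hPd, hPi, hPY⟩ := hplane (by omega)
    exact ⟨-1, φ, P, Or.inr rfl, hφ, fun u u' he => by
      rw [neg_one_smul]; exact hφω u Submodule.mem_top u' Submodule.mem_top he, hP, hPd, hPi,
      fun u hu u' he => hPY u hu u' Submodule.mem_top he, Or.inr ⟨rfl, fun u _ => hXX _⟩⟩

end Cfsg.Agent.Lib.MaxSub.OrthExt
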