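import Cfsg.Agent.Lib.MaxSub.OrthOddSub
import Cfsg.Agent.Lib.MaxSub.UnipotentOrth
import Cfsg.Agent.Lib.Geometry.SymmDiscr
import Mathlib

/-!
Unipotent elements without invariant non-degenerate subspaces of odd dimension and given class.
-/

set_option autoImplicit false
set_option maxHeartbeats 1000000
set_option linter.unusedSectionVars false

namespace Cfsg.Agent.Lib.MaxSub.OrthOddSubUnip

open Module Cfsg.Agent.Lib.MaxSub Cfsg.Agent.Lib.Geometry
open Cfsg.Agent.Lib.MaxSub.QuadType (Nd TS Plus perp Carries)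
open Cfsg.Agent.Lib.MaxSub.OrthOddSub (Sub Good nd_iff nd_line)
open Cfsg.Agent.Lib.MaxSub.UnipotentOrth (drop)
open QuadraticMap (polarBilin)
open scoped _root_.Classical

attribute [-simp] QuadraticMap.polarBilin_apply_apply

/-- Sub-multisets of a multiset with two kinds of parts. -/
theorem sub_sum {a : ℕ} (ha2 : a ≠ 2) {j e : ℕ} {ν : Multiset ℕ}
    (h : ν ≤ Multiset.replicate j a + Multiset.replicate e 2) (hev : ∀ k, Even k → Even (ν.count k)) :
    ∃ A B, A ≤ j ∧ Even B ∧ ν.sum = A * a + B * 2 := by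
  have hmem : ∀ x ∈ ν, x = a ∨ x = 2 := fun x hx => by
    rcases Multiset.mem_add.1 (Multiset.mem_of_le h hx) with h1 | h1
    · exact Or.inl (Multiset.eq_of_mem_replicate h1)
    · exact Or.inr (Multiset.eq_of_mem_replicate h1)
  have hν : ν = Multiset.replicate (ν.count a) a + Multiset.replicate (ν.count 2) 2 := Multiset.ext' fun x => by
    rw [Multiset.count_add, Multiset.count_replicate, Multiset.count_replicate]
    by_cases hx : x ∈ ν
    · rcases hmem x hx with rfl | rfl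
      · simp [Ne.symm ha2]
      · simp [ha2]
    · rw [Multiset.count_eq_zero.2 hx]
      split_ifs with h1 h3 h3 <;> simp_all [Multiset.count_eq_zero]
  refine ⟨ν.count a, ν.count 2, ?_, hev 2 even_two, ?_⟩
  · have h1 := Multiset.le_iff_count.1 h a
    rwa [Multiset.count_add, Multiset.count_replicate_self, Multiset.count_replicate, if_neg (Ne.symm ha2), add_zero] at h1
  · conv_lhs => rw [hν]
    rw [Multiset.sum_add, Multiset.sum_replicate, Multiset.sum_replicate, smul_eq_mul, smul_eq_mul]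

variable {ι : Type} [Fintype ι] [DecidableEq ι] {F : Type*} [Field F] [Fintype F] {p : ℕ} [hp : Fact p.Prime] [CharP F p]
variable (Q : QuadraticForm F (ι → F)) (hQ : (polarBilin Q).Nondegenerate) (h2 : (2 : F) ≠ 0)

include hQ h2 in
/-- In twice an odd dimension, some unipotent element has no invariant subspace. -/
theorem not_all_odd {d m : ℕ} (hn : Fintype.card ι = 2 * d) (hd : 4 ≤ d) (hdo : Odd d) (hm : Odd m)
    {W₀ : Submodule F (ι → F)}
    (hall : ∀ x : GL ι F, x ∈ Cfsg.Geo.omegaGL (⇑Q) → x ^ p = 1 →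
      (∀ z : F, (x : Matrix ι ι F) ≠ z • (1 : Matrix ι ι F)) → Good Q m W₀ (Matrix.toLin' (x : Matrix ι ι F))) : False := by
  have hp3 : 3 ≤ p := by
    have := hp.out.two_le
    rcases eq_or_ne p 2 with rfl | h
    · exact absurd CharTwo.two_eq_zero h2
    · omega
  obtain ⟨a, e, j, ha, hj, hje, hae, hme⟩ : ∃ a e j, (a = 1 ∨ a = 3) ∧ j = 2 ∧ Even e ∧ j * a + e * 2 = 2 * d ∧
      (a = 1 → m % 4 = 3) ∧ (a = 3 → m % 4 = 1) := by
    obtain ⟨t, rfl⟩ := hdo
    have hm2 := Nat.odd_iff.1 hm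
    rcases (show m % 4 = 1 ∨ m % 4 = 3 by omega) with h | h
    · exact ⟨3, 2 * t - 2, 2, Or.inr rfl, rfl, ⟨t - 1, by omega⟩, by omega, by omega, fun _ => h⟩
    · exact ⟨1, 2 * t, 2, Or.inl rfl, rfl, ⟨t, by omega⟩, by omega, fun _ => h, by omega⟩
  have ha2 : a ≠ 2 := by omega
  subst hj
  obtain ⟨W, N, ν, hW, -, -, -, -, hν, hνs, hνe⟩ := UnipotentOrth.exists_witness h2 Q hQ (Sub Q m W₀)
    (fun W hW => (nd_iff Q).2 hW.2.1) hall (Multiset.replicate 2 a + Multiset.replicate e 2)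
    (fun b hb => by
      rcases Multiset.mem_add.1 hb with h1 | h1 <;> rw [Multiset.eq_of_mem_replicate h1] <;> omega)
    (fun k hk => by
      rw [Multiset.count_add, Multiset.count_replicate, Multiset.count_replicate]
      refine Even.add ?_ ?_ <;> split_ifs <;> first | exact Even.zero | exact even_two | exact hje)
    (by rw [Multiset.sum_add, Multiset.sum_replicate, Multiset.sum_replicate, smul_eq_mul, smul_eq_mul, hae, hn])
    ⟨2, Multiset.mem_add.2 (Or.inr (Multiset.mem_replicate.2 ⟨by omega, rfl⟩)), by omega⟩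
    (Or.inl ⟨a, Multiset.mem_add.2 (Or.inl (Multiset.mem_replicate.2 ⟨by omega, rfl⟩)), by rw [Nat.odd_iff]; omega⟩)
  obtain ⟨A, B, hA, ⟨B', rfl⟩, hsum⟩ := sub_sum ha2 hν hνe
  rw [hνs, hW.1] at hsum
  have hm2 := Nat.odd_iff.1 hm
  interval_cases A <;> rcases ha with rfl | rfl <;> omega

include hQ h2 in
/-- With all blocks of size two there is no invariant subspace of odd dimension. -/
theorem not_all_square {d m : ℕ} (hn : Fintype.card ι = 2 * d) (hd : 4 ≤ d) (hde : Even d) (hm : Odd m)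
    (hdet : IsSquare (LinearMap.BilinForm.toMatrix' (polarBilin Q)).det) {W₀ : Submodule F (ι → F)}
    (hall : ∀ x : GL ι F, x ∈ Cfsg.Geo.omegaGL (⇑Q) → x ^ p = 1 →
      (∀ z : F, (x : Matrix ι ι F) ≠ z • (1 : Matrix ι ι F)) → Good Q m W₀ (Matrix.toLin' (x : Matrix ι ι F))) : False := by
  obtain ⟨W, N, ν, hW, -, -, -, -, hν, hνs, hνe⟩ := UnipotentOrth.exists_witness h2 Q hQ (Sub Q m W₀)
    (fun W hW => (nd_iff Q).2 hW.2.1) hall (Multiset.replicate 0 1 + Multiset.replicate d 2)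
    (fun b hb => by
      rcases Multiset.mem_add.1 hb with h1 | h1
      · simp at h1
      · rw [Multiset.eq_of_mem_replicate h1]; exact ⟨two_pos, hp.out.two_le⟩)
    (fun k hk => by
      rw [Multiset.count_add, Multiset.count_replicate, Multiset.count_replicate]
      refine Even.add ?_ ?_ <;> split_ifs <;> first | exact Even.zero | exact hde)
    (by rw [Multiset.sum_add, Multiset.sum_replicate, Multiset.sum_replicate, smul_eq_mul, smul_eq_mul, hn]; omega)
    ⟨2, Multiset.mem_add.2 (Or.inr (Multiset.mem_replicate.2 ⟨by omega, rfl⟩)), by omega⟩ (Or.inr hdet)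
  obtain ⟨A, B, hA, -, hsum⟩ := sub_sum (by omega) hν hνe
  rw [hνs, hW.1] at hsum
  have hm2 := Nat.odd_iff.1 hm
  omega

omit [Fintype F] in
theorem no_scaling {m : ℕ} (hm : Odd m) {W : Submodule F (ι → F)} (hW : Nd Q W) (hWd : finrank F W = m) {c : F}
    (hc : ¬ IsSquare c) (e : W ≃ₗ[F] W) : ¬ ∀ w, Q (e w : ι → F) = c * Q (w : ι → F) := by
  intro he
  let B : LinearMap.BilinForm F W := (polarBilin Q).domRestrict₁₂ W W
  let b := Module.finBasisOfFinrankEq F W hWd
  have hBe : B.comp e.toLinearMap e.toLinearMap = c • B := LinearMap.ext fun u => LinearMap.ext fun v => by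
    show polarBilin Q (e u : ι → F) (e v : ι → F) = c * polarBilin Q (u : ι → F) (v : ι → F)
    have h := he (u + v)
    rw [map_add, Submodule.coe_add, Submodule.coe_add, quad_add, quad_add, he, he] at h
    linear_combination h
  have hB : (LinearMap.BilinForm.toMatrix b B).det ≠ 0 := by
    refine (LinearMap.BilinForm.nondegenerate_iff_det_ne_zero b).1 ?_
    have key : ∀ u : W, (∀ v : W, B u v = 0) → u = 0 := fun u hu => by
      by_contra h0
      obtain ⟨x, hx, hux⟩ := hW u u.2 (fun e => h0 (Subtype.ext e))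
      exact hux (hu ⟨x, hx⟩)
    exact ⟨key, fun v hv => key v fun u => by
      show polarBilin Q (v : ι → F) (u : ι → F) = 0
      rw [quad_polar_comm]; exact hv u⟩
  have h := congrArg (fun C => (LinearMap.BilinForm.toMatrix b C).det) hBe
  simp only [LinearMap.BilinForm.toMatrix_comp b b, map_smul, Matrix.det_mul, Matrix.det_transpose, Matrix.det_smul,
    Fintype.card_fin] at h
  set D := (LinearMap.toMatrix b b e.toLinearMap).det
  obtain ⟨t, rfl⟩ := hm
  have h' : D * D = c ^ (2 * t + 1) := mul_right_cancel₀ hB (by linear_combination h)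
  refine hc ?_
  have hc0 : c ≠ 0 := fun e => hc (e ▸ IsSquare.zero)
  exact ⟨D / c ^ t, by field_simp; rw [pow_two]; linear_combination -h'⟩

include hQ h2 in
/-- The class of an invariant subspace on which the square of the nilpotent part vanishes. -/
theorem class_of {N : End F (ι → F)} {n₀ : ℕ} (hN : N ^ n₀ = 0)
    (hiso : ∀ u v, polarBilin Q (u + N u) (v + N v) = polarBilin Q u v)
    (hker : finrank F (LinearMap.ker N) ≤ finrank F (LinearMap.ker N ⊓ LinearMap.range N : Submodule F (ι → F)) + 1)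
    {U U' : Submodule F (ι → F)} (hU : Nd Q U) (hUi : U.map N ≤ U) (hU'i : U'.map N ≤ U') (htop : U ⊔ U' = ⊤)
    (hdis : U ⊓ U' = ⊥) (hN2 : ∀ u ∈ U, N (N u) = 0) (hodd : Odd (finrank F U)) :
    finrank F U % 4 = 1 ∧ ∃ v ∈ U, N v = 0 ∧ v ∉ LinearMap.range N ∧ Q v ≠ 0 ∧
      Plus Q (U ⊓ perp Q (F ∙ v)) := by
  have hrel : ∀ u v, polarBilin Q (N u) v + polarBilin Q u (N v) + polarBilin Q (N u) (N v) = 0 := fun u v => by
    have := hiso u v
    simp only [map_add, LinearMap.add_apply] at this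
    linear_combination this
  set T := U.map N
  have hT : TS Q T := by
    rintro _ ⟨u, hu, rfl⟩
    have h := hrel u (N u)
    rw [hN2 u hu, map_zero, map_zero, add_zero, add_zero, quad_polar_self] at h
    exact (mul_eq_zero.1 h).resolve_left h2
  have hTU : T ≤ U := hUi
  obtain ⟨hK, hKd⟩ := UnipotentOrth.drop_eq N hUi 0
  rw [pow_zero, Module.End.one_eq_id, Submodule.map_id] at hK hKd
  rw [zero_add, pow_one, hK] at hKd
  set K := LinearMap.ker N ⊓ U
  have hKd' : finrank F K + finrank F T = finrank F U := hKd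
  have hhalf := QuadType.ts_half Q hQ hU hTU hT
  have hKT : finrank F T < finrank F K := by obtain ⟨t, ht⟩ := hodd; omega
  obtain ⟨v, hv, hvT⟩ := SetLike.not_le_iff_exists.1 fun h => absurd (Submodule.finrank_mono h) (not_le.2 hKT)
  have hrange : ∀ x ∈ U, x ∈ LinearMap.range N → x ∈ T := by
    rintro x hx ⟨y, rfl⟩
    obtain ⟨u, hu, w, hw, rfl⟩ := Submodule.mem_sup.1 (htop.symm ▸ Submodule.mem_top : y ∈ U ⊔ U')
    rw [map_add] at hx ⊢
    have h0 : N w ∈ U ⊓ U' :=
      ⟨by rw [show N w = N u + N w - N u by abel]; exact U.sub_mem hx (hUi (Submodule.mem_map_of_mem hu)),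
        hU'i (Submodule.mem_map_of_mem hw)⟩
    rw [hdis, Submodule.mem_bot] at h0
    rw [h0, add_zero]
    exact Submodule.mem_map_of_mem hu
  have hvr : v ∉ LinearMap.range N := fun h => hvT (hrange v hv.2 h)
  have hv0 : v ≠ 0 := fun e => hvr (e ▸ zero_mem _)
  have hspan : (LinearMap.ker N ⊓ LinearMap.range N) ⊔ (F ∙ v) = LinearMap.ker N := by
    refine Submodule.eq_of_le_of_finrank_le (sup_le inf_le_left ((Submodule.span_singleton_le_iff_mem _ _).2 hv.1)) ?_
    have hlt : LinearMap.ker N ⊓ LinearMap.range N < (LinearMap.ker N ⊓ LinearMap.range N) ⊔ (F ∙ v) :=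
      lt_of_le_of_ne le_sup_left fun e => hvr (e.symm ▸ Submodule.mem_sup_right (Submodule.mem_span_singleton_self v) :
        v ∈ LinearMap.ker N ⊓ LinearMap.range N).2
    have := Submodule.finrank_lt_finrank_of_lt hlt
    omega
  have hTK : ∀ t ∈ T, polarBilin Q v t = 0 := by
    rintro _ ⟨u, hu, rfl⟩
    have h := hrel u v
    rw [LinearMap.mem_ker.1 hv.1, map_zero, map_zero, add_zero, add_zero, quad_polar_comm] at h
    exact h
  have hKle : K ≤ T ⊔ (F ∙ v) := fun x hx => by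
    obtain ⟨y, hy, z, hz, rfl⟩ := Submodule.mem_sup.1 (hspan.symm ▸ hx.1 : x ∈ (LinearMap.ker N ⊓ LinearMap.range N) ⊔ (F ∙ v))
    obtain ⟨c, rfl⟩ := Submodule.mem_span_singleton.1 hz
    refine Submodule.add_mem_sup (hrange y ?_ hy.2) (Submodule.smul_mem _ _ (Submodule.mem_span_singleton_self v))
    rw [show y = y + c • v - c • v by abel]
    exact U.sub_mem hx.2 (U.smul_mem _ hv.2)
  have hKle' := (Submodule.finrank_mono hKle).trans (Submodule.finrank_add_le_finrank_add_finrank T (F ∙ v))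
  rw [finrank_span_singleton hv0] at hKle'
  have hUd : finrank F U = 2 * finrank F T + 1 := by omega
  have hev : Even (finrank F T) := by
    have h := UnipotentOrth.even_drop h2 (polarBilin Q) (fun a b => quad_polar_comm Q a b) N hiso hUi
      (fun u hu h => by
        by_contra h0
        obtain ⟨x, hx, hux⟩ := hU u hu h0
        exact hux (h x hx)) hN odd_one
    have h3 : U.map (N ^ 2) = ⊥ := by
      rw [Submodule.eq_bot_iff]
      rintro _ ⟨u, hu, rfl⟩
      rw [pow_two, End.mul_apply, hN2 u hu]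
    have h4 : U.map (N ^ 3) = ⊥ := le_bot_iff.1 (h3 ▸ UnipotentOrth.map_pow_succ_le N hUi 2)
    have e1 : drop N U 1 = finrank F T := by
      unfold drop
      rw [pow_one, show (1 : ℕ) + 1 = 2 from rfl, h3, finrank_bot, Nat.sub_zero]
    have e2 : drop N U (1 + 1) = 0 := by
      unfold drop
      rw [show (1 : ℕ) + 1 = 2 from rfl, h3, finrank_bot, Nat.zero_sub]
    rwa [e1, e2, Nat.sub_zero] at h
  have hQv : Q v ≠ 0 := fun h0 => by
    have hts : TS Q (T ⊔ (F ∙ v)) := fun x hx => by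
      obtain ⟨t, ht, z, hz, rfl⟩ := Submodule.mem_sup.1 hx
      obtain ⟨c, rfl⟩ := Submodule.mem_span_singleton.1 hz
      rw [quad_add, hT t ht, quad_smul, h0, map_smul, quad_polar_comm Q t v, hTK t ht]
      simp
    have h := QuadType.ts_half Q hQ hU (sup_le hTU ((Submodule.span_singleton_le_iff_mem _ _).2 hv.2)) hts
    have hlt : T < T ⊔ (F ∙ v) := lt_of_le_of_ne le_sup_left fun e =>
      hvT (e.symm ▸ Submodule.mem_sup_right (Submodule.mem_span_singleton_self v))
    have := Submodule.finrank_lt_finrank_of_lt hlt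
    omega
  refine ⟨by obtain ⟨t, ht⟩ := hev; omega, v, hv.2, hv.1, hvr, hQv, T, le_inf hTU fun t ht w hw => ?_, hT, ?_⟩
  · obtain ⟨c, rfl⟩ := Submodule.mem_span_singleton.1 hw
    rw [map_smul, LinearMap.smul_apply, hTK t ht, smul_zero]
  · have h := QuadType.dim_inf_perp Q hU ((Submodule.span_singleton_le_iff_mem _ _).2 hv.2)
    rw [finrank_span_singleton hv0] at h
    omega

include hQ h2 in
/-- In a dimension divisible by four, the invariant subspaces of one unipotent element miss one class. -/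
theorem not_all_even {d m : ℕ} (hn : Fintype.card ι = 2 * d) (hd : 4 ≤ d) (hde : Even d) (hm : Odd m)
    {W₀ : Submodule F (ι → F)} (hW₀ : Nd Q W₀) (hW₀d : finrank F W₀ = m)
    (hall : ∀ x : GL ι F, x ∈ Cfsg.Geo.omegaGL (⇑Q) → x ^ p = 1 →
      (∀ z : F, (x : Matrix ι ι F) ≠ z • (1 : Matrix ι ι F)) → Good Q m W₀ (Matrix.toLin' (x : Matrix ι ι F))) : False := by
  have hp3 : 3 ≤ p := by
    have := hp.out.two_le
    rcases eq_or_ne p 2 with rfl | h
    · exact absurd CharTwo.two_eq_zero h2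
    · omega
  obtain ⟨dd, hdd⟩ := id hde
  set μ : Multiset ℕ := 3 ::ₘ 1 ::ₘ Multiset.replicate (d - 2) 2 with hμ
  obtain ⟨x, hxΩ, hxp, hrk⟩ := UnipotentOrth.exists_unipotent (p := p) h2 Q hQ μ (fun b hb => by
      rw [hμ] at hb
      rcases Multiset.mem_cons.1 hb with h | h
      · omega
      rcases Multiset.mem_cons.1 h with h | h
      · omega
      · have := Multiset.eq_of_mem_replicate h
        omega)
    (fun k hk => by
      obtain ⟨k', rfl⟩ := hk
      rw [hμ, Multiset.count_cons, Multiset.count_cons, Multiset.count_replicate, if_neg (show ¬ k' + k' = 1 by omega),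
        if_neg (show ¬ k' + k' = 3 by omega)]
      simp only [add_zero, zero_add]
      split_ifs
      · exact ⟨dd - 1, by omega⟩
      · exact Even.zero)
    (by rw [hμ, Multiset.sum_cons, Multiset.sum_cons, Multiset.sum_replicate, smul_eq_mul, hn]; omega)
    (Or.inl ⟨3, by simp [hμ], by decide⟩)
  set X := Matrix.toLin' (x : Matrix ι ι F) with hXdef
  set N : End F (ι → F) := X - 1 with hNdef
  have hXN : ∀ v, X v = v + N v := fun v => by simp [hNdef]
  have hXp : X ^ p = 1 := by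
    have h' := congrArg Matrix.toLinAlgEquiv' (congrArg Units.val hxp)
    rw [Units.val_pow_eq_pow_val, map_pow, Units.val_one, map_one] at h'
    exact h'
  have hXiso : ∀ v, Q (X v) = Q v := fun v => by
    obtain ⟨g, -, rfl⟩ := id hxΩ
    rw [hXdef, Matrix.toLin'_apply]
    exact mem_isometryGroup_iff.1 g.2 v
  have hiso : ∀ u v, polarBilin Q (u + N u) (v + N v) = polarBilin Q u v := fun u v => by
    rw [← hXN, ← hXN, quad_polar_map Q hXiso]
  have h1 : finrank F (LinearMap.range (N ^ 1)) = d := by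
    rw [hrk 1, hμ, Multiset.map_cons, Multiset.map_cons, Multiset.map_replicate, Multiset.sum_cons, Multiset.sum_cons,
      Multiset.sum_replicate, smul_eq_mul]
    omega
  have h2' : finrank F (LinearMap.range (N ^ 2)) = 1 := by
    rw [hrk 2, hμ, Multiset.map_cons, Multiset.map_cons, Multiset.map_replicate, Multiset.sum_cons, Multiset.sum_cons,
      Multiset.sum_replicate, smul_eq_mul]
    omega
  have hN3 : N ^ 3 = 0 := by
    rw [← LinearMap.range_eq_bot, ← Submodule.finrank_eq_zero, hrk 3, hμ, Multiset.map_cons, Multiset.map_cons,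
      Multiset.map_replicate, Multiset.sum_cons, Multiset.sum_cons, Multiset.sum_replicate, smul_eq_mul]
    omega
  rw [pow_one] at h1
  have hker : finrank F (LinearMap.ker N) ≤ finrank F (LinearMap.ker N ⊓ LinearMap.range N : Submodule F (ι → F)) + 1 := by
    have e1 := LinearMap.finrank_range_add_finrank_ker N
    rw [Module.finrank_fintype_fun_eq_card, hn] at e1
    have e2 := (UnipotentOrth.drop_eq N (U := (⊤ : Submodule F (ι → F))) le_top 1).2
    have e3 := (UnipotentOrth.drop_eq N (U := (⊤ : Submodule F (ι → F))) le_top 1).1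
    rw [pow_one, Submodule.map_top] at e3
    rw [show (1 : ℕ) + 1 = 2 from rfl, Submodule.map_top, Submodule.map_top, h2', pow_one, h1, e3] at e2
    omega
  -- the part of an invariant subspace that is killed by the square
  have hsel : ∀ W : Submodule F (ι → F), Nd Q W → finrank F W = m → W.map X ≤ W →
      ∃ U, (U = W ∧ m % 4 = 1 ∨ U = perp Q W ∧ m % 4 = 3) ∧ Nd Q U ∧ ∃ v ∈ U, N v = 0 ∧ v ∉ LinearMap.range N ∧ Q v ≠ 0 ∧
        Plus Q (U ⊓ perp Q (F ∙ v)) := by
    intro W hW hWd hWX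
    have hinv : ∀ {S : Submodule F (ι → F)}, S.map X ≤ S → S.map N ≤ S := fun {S} hS => by
      rintro _ ⟨s, hs, rfl⟩
      show X s - s ∈ S
      exact S.sub_mem (hS (Submodule.mem_map_of_mem hs)) hs
    have hWi := hinv hWX
    have hPi := hinv (OrthDecomp.perp_inv Q hXp hp.out.pos hXiso hWX)
    obtain ⟨htop, hP, hPd, -⟩ := QuadType.compl_perp Q hQ hW
    rw [Module.finrank_fintype_fun_eq_card, hn, hWd] at hPd
    have hdis : W ⊓ perp Q W = ⊥ := le_bot_iff.1 (le_trans (le_inf inf_le_left (le_inf le_top inf_le_right))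
      (QuadType.inf_perp Q hW ⊤).le)
    have hpow : ∀ {S : Submodule F (ι → F)}, S.map N ≤ S → S.map (N ^ 2) ≤ S := fun {S} hS => by
      rintro _ ⟨s, hs, rfl⟩
      rw [pow_two, End.mul_apply]
      exact hS (Submodule.mem_map_of_mem (hS (Submodule.mem_map_of_mem hs)))
    have hsum := Submodule.finrank_sup_add_finrank_inf_eq (W.map (N ^ 2)) ((perp Q W).map (N ^ 2))
    rw [← Submodule.map_sup, htop, Submodule.map_top, h2', show W.map (N ^ 2) ⊓ (perp Q W).map (N ^ 2) = ⊥ from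
      le_bot_iff.1 ((inf_le_inf (hpow hWi) (hpow hPi)).trans hdis.le), finrank_bot, add_zero] at hsum
    have hzero : ∀ {S : Submodule F (ι → F)}, finrank F (S.map (N ^ 2)) = 0 → ∀ u ∈ S, N (N u) = 0 := fun {S} h u hu => by
      have h0 : (N ^ 2) u ∈ S.map (N ^ 2) := Submodule.mem_map_of_mem hu
      rw [Submodule.finrank_eq_zero.1 h, Submodule.mem_bot, pow_two] at h0
      exact h0
    obtain ⟨t, rfl⟩ := hm
    rcases Nat.eq_zero_or_pos (finrank F (W.map (N ^ 2))) with h0 | h0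
    · obtain ⟨h4, hv⟩ := class_of Q hQ h2 hN3 hiso hker hW hWi hPi htop hdis (hzero h0) ⟨t, hWd⟩
      exact ⟨W, Or.inl ⟨rfl, hWd ▸ h4⟩, hW, hv⟩
    · obtain ⟨h4, hv⟩ := class_of Q hQ h2 hN3 hiso hker hP hPi hWi (by rw [sup_comm]; exact htop)
        (by rw [inf_comm]; exact hdis) (hzero (by omega)) ⟨d - t - 1, by omega⟩
      exact ⟨perp Q W, Or.inr ⟨rfl, by omega⟩, hP, hv⟩
  -- two invariant subspaces are isometric
  have hiso2 : ∀ W₁ W₂ : Submodule F (ι → F), Nd Q W₁ → Nd Q W₂ → finrank F W₁ = m → finrank F W₂ = m →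
      W₁.map X ≤ W₁ → W₂.map X ≤ W₂ → Cfsg.Geo.AreIsometricFor (⇑Q) W₁ W₂ := by
    intro W₁ W₂ hW₁ hW₂ hW₁d hW₂d hW₁X hW₂X
    obtain ⟨U₁, hU₁e, hU₁, v₁, hv₁, hv₁k, hv₁r, hQv₁, hp₁⟩ := hsel W₁ hW₁ hW₁d hW₁X
    obtain ⟨U₂, hU₂e, hU₂, v₂, hv₂, hv₂k, hv₂r, hQv₂, hp₂⟩ := hsel W₂ hW₂ hW₂d hW₂X
    have hspan : (LinearMap.ker N ⊓ LinearMap.range N) ⊔ (F ∙ v₁) = LinearMap.ker N := by
      refine Submodule.eq_of_le_of_finrank_le (sup_le inf_le_left ((Submodule.span_singleton_le_iff_mem _ _).2 hv₁k)) ?_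
      have hlt : LinearMap.ker N ⊓ LinearMap.range N < (LinearMap.ker N ⊓ LinearMap.range N) ⊔ (F ∙ v₁) :=
        lt_of_le_of_ne le_sup_left fun e => hv₁r (e.symm ▸ Submodule.mem_sup_right (Submodule.mem_span_singleton_self v₁) :
          v₁ ∈ LinearMap.ker N ⊓ LinearMap.range N).2
      have := Submodule.finrank_lt_finrank_of_lt hlt
      omega
    obtain ⟨y, ⟨hyk, z, rfl⟩, q, hq, e⟩ := Submodule.mem_sup.1 (hspan.symm ▸ hv₂k :
      v₂ ∈ (LinearMap.ker N ⊓ LinearMap.range N) ⊔ (F ∙ v₁))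
    obtain ⟨c, rfl⟩ := Submodule.mem_span_singleton.1 hq
    have hyk' : N (N z) = 0 := hyk
    have hrel : ∀ u v, polarBilin Q (N u) v + polarBilin Q u (N v) + polarBilin Q (N u) (N v) = 0 := fun u v => by
      have := hiso u v
      simp only [map_add, LinearMap.add_apply] at this
      linear_combination this
    have hQy : Q (N z) = 0 := by
      have h := hrel z (N z)
      rw [hyk', map_zero, map_zero, add_zero, add_zero, quad_polar_self] at h
      exact (mul_eq_zero.1 h).resolve_left h2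
    have hzv : polarBilin Q (N z) v₁ = 0 := by
      have h := hrel z v₁
      rwa [show N v₁ = 0 from hv₁k, map_zero, map_zero, add_zero, add_zero] at h
    have hQ12 : Q v₂ = c * c * Q v₁ := by
      rw [← e, quad_add, hQy, quad_smul, map_smul, hzv, smul_zero, zero_add, add_zero]
    have hc : c ≠ 0 := fun h => by
      rw [h, zero_smul, add_zero] at e
      exact hv₂r ⟨z, e⟩
    have hv₁0 : v₁ ≠ 0 := fun e => hQv₁ (by rw [e, QuadraticMap.map_zero])
    have hv₂0 : v₂ ≠ 0 := fun e => hQv₂ (by rw [e, QuadraticMap.map_zero])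
    have hdims : finrank F U₁ = finrank F U₂ := by
      obtain ⟨-, -, hP₁, -⟩ := QuadType.compl_perp Q hQ hW₁
      obtain ⟨-, -, hP₂, -⟩ := QuadType.compl_perp Q hQ hW₂
      rcases hU₁e with ⟨rfl, h1⟩ | ⟨rfl, h1⟩ <;> rcases hU₂e with ⟨rfl, h3⟩ | ⟨rfl, h3⟩ <;> omega
    obtain ⟨hs₁, hR₁, hR₁d⟩ := QuadType.split_off Q hU₁ (nd_line Q h2 hQv₁) ((Submodule.span_singleton_le_iff_mem _ _).2 hv₁)
    obtain ⟨hs₂, hR₂, hR₂d⟩ := QuadType.split_off Q hU₂ (nd_line Q h2 hQv₂) ((Submodule.span_singleton_le_iff_mem _ _).2 hv₂)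
    rw [finrank_span_singleton hv₁0] at hR₁d
    rw [finrank_span_singleton hv₂0] at hR₂d
    obtain ⟨T₁, hT₁, hT₁ts, hT₁d⟩ := id hp₁
    obtain ⟨φ, hφ⟩ := QuadType.exists_carries Q hQ h2 (finrank F T₁) hR₁ hR₂ hT₁d.symm (by omega)
      (iff_of_true hp₁ hp₂)
    let ψ : End F (ι → F) := ((2 * Q v₁)⁻¹ • polarBilin Q v₁).smulRight (c⁻¹ • v₂)
    have hψv : ψ v₁ = c⁻¹ • v₂ := by
      simp only [ψ, LinearMap.smulRight_apply, LinearMap.smul_apply, quad_polar_self, smul_eq_mul,
        inv_mul_cancel₀ (mul_ne_zero h2 hQv₁), one_smul]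
    have hψ : Carries Q ψ (F ∙ v₁) (F ∙ v₂) := by
      refine ⟨by rw [Submodule.map_span, Set.image_singleton, hψv,
        Submodule.span_singleton_smul_eq (Ne.isUnit (inv_ne_zero hc))], fun x hx => ?_⟩
      obtain ⟨s, rfl⟩ := Submodule.mem_span_singleton.1 hx
      rw [map_smul, hψv, quad_smul, quad_smul, quad_smul, hQ12]
      field_simp
    obtain ⟨χ, hχ⟩ := QuadType.carries_sup Q hQ (nd_line Q h2 hQv₁) inf_le_right inf_le_right hψ hφ
    rw [hs₁, hs₂] at hχ
    rcases hU₁e with ⟨rfl, h1⟩ | ⟨rfl, h1⟩ <;> rcases hU₂e with ⟨rfl, h3⟩ | ⟨rfl, h3⟩ <;> try omega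
    · exact OrthOddSub.iso_of_carries Q hW₁ hχ
    · obtain ⟨g, hg, -⟩ := QuadType.witt_on Q hQ (QuadType.nd_top Q hQ) (A := perp Q W₁) le_top χ
        (fun a _ => Submodule.mem_top) (QuadType.carries_inj Q hU₁ hχ) hχ.2
      set G := ((g : (ι → F) ≃ₗ[F] (ι → F)) : (ι → F) →ₗ[F] (ι → F))
      obtain ⟨-, -, -, hpp₁⟩ := QuadType.compl_perp Q hQ hW₁
      obtain ⟨-, -, -, hpp₂⟩ := QuadType.compl_perp Q hQ hW₂
      refine OrthOddSub.iso_of_carries Q hW₁ (φ := G) ⟨?_, fun w _ => g.2 w⟩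
      refine Submodule.eq_of_le_of_finrank_le ?_ (by rw [LinearEquiv.finrank_map_eq]; omega)
      rintro _ ⟨w, hw, rfl⟩
      rw [← hpp₂]
      intro b hb
      obtain ⟨a, ha, rfl⟩ : b ∈ (perp Q W₁).map χ := hχ.1.symm ▸ hb
      rw [← hg a ha]
      have e := quad_polar_map Q (T := G) g.2 a w
      simp only [G, LinearEquiv.coe_coe] at e ⊢
      rw [e]
      exact QuadType.mem_perp' Q ha hw
  -- conjugating by a similitude
  obtain ⟨δ, hδ0, hδ⟩ := QuadType.exists_not_sq Q hQ h2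
  have hdet0 : (LinearMap.BilinForm.toMatrix (Pi.basisFun F ι) (polarBilin Q)).det ≠ 0 :=
    (LinearMap.BilinForm.nondegenerate_iff_det_ne_zero (Pi.basisFun F ι)).1 hQ
  obtain ⟨g, hg⟩ := exists_isometry_of_isSquare_det_mul h2 (δ • polarBilin Q) (polarBilin Q)
    ⟨fun u v => by
      show δ • polarBilin Q u v = δ • polarBilin Q v u
      rw [quad_polar_comm]⟩
    ⟨fun u v => quad_polar_comm Q u v⟩
    ((LinearMap.BilinForm.nondegenerate_iff_det_ne_zero (Pi.basisFun F ι)).2 (by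
      rw [map_smul, Matrix.det_smul]; exact mul_ne_zero (pow_ne_zero _ hδ0) hdet0))
    hQ (Pi.basisFun F ι) (by
      rw [map_smul, Matrix.det_smul, hn]
      exact ⟨δ ^ d * (LinearMap.BilinForm.toMatrix (Pi.basisFun F ι) (polarBilin Q)).det, by ring⟩)
  have hgQ : ∀ u, Q (g u) = δ * Q u := fun u => by
    have h := hg u u
    rw [quad_polar_self, LinearMap.smul_apply, LinearMap.smul_apply, smul_eq_mul, quad_polar_self] at h
    exact mul_left_cancel₀ h2 (h.trans (mul_left_comm _ _ _))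
  have hx1 : X ≠ 1 := fun e => by
    rw [hNdef, e, sub_self, LinearMap.range_zero, finrank_bot] at h1
    omega
  let X' : End F (ι → F) := g.conj X
  have hX'v : ∀ v, X' v = g (X (g.symm v)) := fun v => by simp [X', LinearEquiv.conj_apply]
  have hX'p : X' ^ p = 1 := by
    have hpow : ∀ j : ℕ, X' ^ j = g.conj (X ^ j) := fun j => by
      induction j with
      | zero => rw [pow_zero, pow_zero, Module.End.one_eq_id, LinearEquiv.conj_id]
      | succ j ih => rw [pow_succ, pow_succ, ih]; simp only [X', Module.End.mul_eq_comp, LinearEquiv.conj_comp]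
    rw [hpow, hXp, Module.End.one_eq_id, LinearEquiv.conj_id]
  have hX'iso : ∀ v, Q (X' v) = Q v := fun v => by
    rw [hX'v, hgQ, hXiso, ← hgQ, LinearEquiv.apply_symm_apply]
  obtain ⟨x', hx'i, hx'p, hx'X⟩ := OrthNdSub.exists_matrix Q hX'p hX'iso
  have hns : ∀ z : F, ∀ y : GL ι F, Matrix.toLin' (y : Matrix ι ι F) ≠ 1 → y ^ p = 1 →
      (y : Matrix ι ι F) ≠ z • (1 : Matrix ι ι F) := fun z y hy hyp hz => by
    obtain ⟨i⟩ : Nonempty ι := Fintype.card_pos_iff.1 (by omega)
    have h := congrArg Units.val hyp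
    rw [Units.val_pow_eq_pow_val, hz, smul_pow, one_pow, Units.val_one] at h
    have hzp := congrFun (congrFun h i) i
    rw [Matrix.smul_apply, Matrix.one_apply_eq, smul_eq_mul, mul_one] at hzp
    have h1 : (z - 1) ^ p = 0 := by rw [sub_pow_char, one_pow, hzp, sub_self]
    rw [sub_eq_zero.1 ((pow_eq_zero_iff hp.out.ne_zero).1 h1), one_smul] at hz
    exact hy (by rw [hz, Matrix.toLin'_one]; rfl)
  obtain ⟨W₁, hW₁, hW₁X⟩ := hall x hxΩ hxp (fun z => hns z x hx1 hxp)
  obtain ⟨W', hW', hW'X⟩ := hall x' (UnipotentOrth.mem_omega_of_odd h2 Q hQ hx'i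
    (hp.out.odd_of_ne_two (by omega)) hx'p) hx'p (fun z => hns z x' (fun e => hx1 (LinearMap.ext fun v => by
      rw [hx'X] at e
      have := LinearMap.congr_fun e (g v)
      rw [hX'v, LinearEquiv.symm_apply_apply, End.one_apply] at this
      exact g.injective this)) hx'p)
  rw [hx'X] at hW'X
  set W₂ := W'.map g.symm.toLinearMap with hW₂def
  have hW₂ : Nd Q W₂ := by
    rintro _ ⟨a, ha, rfl⟩ hne
    obtain ⟨b, hb, hab⟩ := hW'.2.1 a ha (fun e => hne (by rw [e, map_zero]))
    refine ⟨g.symm b, Submodule.mem_map_of_mem hb, fun e => hab ?_⟩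
    have h := hg (g.symm a) (g.symm b)
    rw [LinearEquiv.apply_symm_apply, LinearEquiv.apply_symm_apply] at h
    simp only [LinearMap.smul_apply, LinearEquiv.coe_coe] at e ⊢ h
    rw [h, e, smul_zero]
  have hW₂X : W₂.map X ≤ W₂ := by
    rintro _ ⟨_, ⟨a, ha, rfl⟩, rfl⟩
    refine ⟨X' a, hW'X (Submodule.mem_map_of_mem ha), ?_⟩
    show g.symm (X' a) = X (g.symm a)
    rw [hX'v, LinearEquiv.symm_apply_apply]
  have hW₂d : finrank F W₂ = m := (LinearEquiv.finrank_map_eq g.symm W').trans hW'.1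
  obtain ⟨e₁, he₁⟩ := OrthOddSub.iso_symm Q hW₁.2.2
  obtain ⟨e₁₂, he₁₂⟩ := hiso2 W₁ W₂ hW₁.2.1 hW₂ hW₁.1 hW₂d hW₁X hW₂X
  obtain ⟨e', he'⟩ := hW'.2.2
  let eg : W₂ ≃ₗ[F] W' := (g.symm.submoduleMap W').symm
  have heg : ∀ w : W₂, Q (eg w : ι → F) = δ * Q (w : ι → F) := fun w => by
    obtain ⟨a, rfl⟩ := (g.symm.submoduleMap W').surjective w
    show Q (((g.symm.submoduleMap W').symm ((g.symm.submoduleMap W') a) : W') : ι → F) = _
    rw [LinearEquiv.symm_apply_apply]
    show Q (a : ι → F) = δ * Q (g.symm (a : ι → F))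
    rw [← hgQ, LinearEquiv.apply_symm_apply]
  exact no_scaling Q hm hW₀ hW₀d hδ (((e₁.trans e₁₂).trans eg).trans e') fun w => by
    rw [LinearEquiv.trans_apply, LinearEquiv.trans_apply, LinearEquiv.trans_apply, he', heg, he₁₂, he₁]

end Cfsg.Agent.Lib.MaxSub.OrthOddSubUnip
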