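import Cfsg.Agent.Lib.MaxSub.OrthOddSubTwo
import Cfsg.Agent.Lib.MaxSub.OrthOddSubUnip
import Cfsg.Agent.Lib.Geometry.OrthNegOne
import Mathlib

/-!
Elusive primes for the action on non-degenerate subspaces of odd dimension and given class.
-/

set_option autoImplicit false
set_option maxHeartbeats 1000000
set_option linter.unusedSectionVars false

namespace Cfsg.Agent.Lib.MaxSub.OrthOddSubMain

open Module Cfsg.Agent.Lib.MaxSub Cfsg.Agent.Lib.Geometry
open Cfsg.Agent.Lib.MaxSub.QuadType (Nd TS Plus perp)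
open Cfsg.Agent.Lib.MaxSub.IsoDecomp (step)
open Cfsg.Agent.Lib.MaxSub.OrthDecomp (typ)
open Cfsg.Agent.Lib.MaxSub.OrthOddSub (Sub Good)
open QuadraticMap (polarBilin)
open scoped _root_.Classical

attribute [-simp] QuadraticMap.polarBilin_apply_apply

variable {ι : Type} [Fintype ι] [DecidableEq ι] {F : Type*} [Field F] [Fintype F] {p : ℕ} [hp : Fact p.Prime] [CharP F p]
  {r : ℕ} [hr : Fact r.Prime] (Q : QuadraticForm F (ι → F))

omit [Fact p.Prime] in
/-- An isometry of order `r` when `r` divides the order of the group. -/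
theorem exists_of_dvd (h : r ∣ Nat.card (Cfsg.isometryGroup F ⇑Q)) :
    ∃ X : End F (ι → F), X ^ r = 1 ∧ (∀ v, Q (X v) = Q v) ∧ X ≠ 1 := by
  obtain ⟨g, hg⟩ := exists_prime_orderOf_dvd_card' r h
  refine ⟨Matrix.toLin' ((g : GL ι F) : Matrix ι ι F), ?_, fun v => by
    rw [Matrix.toLin'_apply]; exact mem_isometryGroup_iff.1 g.2 v, fun h1 => ?_⟩
  · have h' := congrArg Units.val (congrArg Subtype.val (hg ▸ pow_orderOf_eq_one g : g ^ r = 1))
    rw [SubmonoidClass.coe_pow, Units.val_pow_eq_pow_val] at h'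
    have h'' := congrArg Matrix.toLinAlgEquiv' h'
    rw [map_pow] at h''
    refine h''.trans ?_
    show Matrix.toLinAlgEquiv' (1 : Matrix ι ι F) = 1
    rw [map_one]
  · have hg1 : g = 1 := Subtype.ext (Units.ext (Matrix.toLin'.injective (by
      rw [h1, OneMemClass.coe_one, Units.val_one, Matrix.toLin'_one]; rfl)))
    rw [hg1, orderOf_one] at hg
    exact hr.out.one_lt.ne hg

/-- Half of an even order is `-1`. -/
theorem half_pow {q : ℕ} {e : ℕ} (he : 0 < e) (h : orderOf (q : ZMod r) = 2 * e) : r ∣ q ^ e + 1 := by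
  rw [← ZMod.natCast_eq_zero_iff, Nat.cast_add, Nat.cast_pow, Nat.cast_one]
  have h1 : (q : ZMod r) ^ e * (q : ZMod r) ^ e = 1 := by rw [← pow_add, ← two_mul, ← h, pow_orderOf_eq_one]
  refine eq_neg_iff_add_eq_zero.1 ((mul_self_eq_one_iff.1 h1).resolve_left fun h2 => ?_)
  have := Nat.le_of_dvd he (h ▸ orderOf_dvd_of_pow_eq_one h2)
  omega

variable (hQ : (polarBilin Q).Nondegenerate) (h2 : (2 : F) ≠ 0)

/-- The condition in all cases. -/
def Crit (d m : ℕ) (pl : Prop) (p r i : ℕ) (F : Type*) [Field F] : Prop :=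
  (r = 2 ∧ ¬ ((pl ↔ OrthOddSubTwo.Cond d F) ∧ IsSquare ((2 : F) ^ d))) ∨
    (r ≠ p ∧ 2 < r ∧ ((2 * d % step i = 0 ∧ ¬ (typ i (2 * d / step i) ↔ pl)) ∨
      (step i ≤ m ∧ m % step i < 2 * d % step i)))

include hQ h2 in
theorem main {i d m : ℕ} (hi : orderOf ((Fintype.card F : ℕ) : ZMod r) = i)
    (hn : Fintype.card ι = 2 * d) (hd : 4 ≤ d) (hm : Odd m) (hmd : m < d)
    {W₀ : Submodule F (ι → F)} (hW₀ : Nd Q W₀) (hW₀d : finrank F W₀ = m)
    (htop : r ≠ p → r ≠ 2 → step i = 2 * d → (typ i 1 ↔ Plus Q ⊤) →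
      ∃ X : End F (ι → F), X ^ r = 1 ∧ (∀ v, Q (X v) = Q v) ∧ X ≠ 1)
    (hdiv : r ∣ Nat.card {W // Sub Q m W₀ W})
    (huni : (∀ x : GL ι F, x ∈ Cfsg.Geo.omegaGL (⇑Q) → x ^ p = 1 →
      (∀ z : F, (x : Matrix ι ι F) ≠ z • (1 : Matrix ι ι F)) → Good Q m W₀ (Matrix.toLin' (x : Matrix ι ι F))) → False) :
    (∀ x : GL ι F, x ∈ Cfsg.Geo.omegaGL (⇑Q) → (∃ z : F, ((x ^ r : GL ι F) : Matrix ι ι F) = z • (1 : Matrix ι ι F)) →
      (∀ z : F, (x : Matrix ι ι F) ≠ z • (1 : Matrix ι ι F)) → Good Q m W₀ (Matrix.toLin' (x : Matrix ι ι F))) ↔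
    Crit d m (Plus Q ⊤) p r i F := by
  have hp2 : p ≠ 2 := fun e => by subst e; exact h2 CharTwo.two_eq_zero
  rcases eq_or_ne r 2 with hr2 | hr2
  · subst hr2
    simp only [Crit, lt_irrefl, false_and, and_false, or_false, true_and]
    exact OrthOddSubTwo.main_two Q hQ h2 hn hm hmd hW₀ hW₀d
  rcases eq_or_ne r p with hrp | hrp
  · subst hrp
    simp only [Crit, hr2, ne_eq, not_true, false_and, false_or, iff_false]
    intro h
    refine huni fun x hx hxp hns => h x hx ⟨1, ?_⟩ hns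
    rw [hxp, Units.val_one, one_smul]
  have hr3 : 2 < r := lt_of_le_of_ne hr.out.two_le (Ne.symm hr2)
  simp only [Crit, hr2, false_and, false_or, ne_eq, hrp, not_false_iff, hr3, true_and]
  rw [OrthOddSub.all_iff Q hQ h2 hr2 (by omega) hm hW₀ hW₀d (by omega)]
  exact OrthOddSub.main_odd Q hQ h2 hrp hr2 hi hn hm hmd hW₀ hW₀d (htop hrp hr2) hdiv

omit [Fintype F] in
theorem isSquare_two_pow (h2 : (2 : F) ≠ 0) (d : ℕ) : IsSquare ((2 : F) ^ d) ↔ Even d ∨ IsSquare (2 : F) := by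
  constructor
  · intro h
    rcases Nat.even_or_odd d with he | ⟨t, ht⟩
    · exact Or.inl he
    · refine Or.inr ?_
      obtain ⟨s, hs⟩ := h
      refine ⟨s / 2 ^ t, ?_⟩
      rw [ht, pow_succ] at hs
      field_simp
      linear_combination hs
  · rintro (he | h)
    · exact he.isSquare_pow _
    · exact h.pow d

end Cfsg.Agent.Lib.MaxSub.OrthOddSubMain
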