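import Cfsg.Agent.Lib.MaxSub.OrthExtCard
import Cfsg.Agent.Lib.MaxSub.OrthExtTwo
import Cfsg.Agent.Lib.MaxSub.OrthOddSubMain
import Cfsg.Agent.Lib.MaxSub.UnipotentOrth
import Mathlib

/-!
Elements of prime order and the normaliser of a self-adjoint quadratic extension.
-/

set_option autoImplicit false
set_option maxHeartbeats 1000000
set_option linter.unusedSectionVars false

namespace Cfsg.Agent.Lib.MaxSub.OrthExt

open Module Matrix Cfsg.Agent.Lib.MaxSub Cfsg.Agent.Lib.Geometry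
open Cfsg.Agent.Lib.MaxSub.QuadType (Nd TS Plus perp)
open Cfsg.Agent.Lib.MaxSub.IsoDecomp (step fixed moved mem_fixed decompose moved_inv)
open QuadraticMap (polarBilin)
open scoped _root_.Classical

attribute [-simp] QuadraticMap.polarBilin_apply_apply

variable {ι : Type} [Fintype ι] [DecidableEq ι] {F : Type*} [Field F] [Fintype F] {p : ℕ} [hp : Fact p.Prime]
  [hchar : CharP F p] {r : ℕ} [hr : Fact r.Prime] (Q : QuadraticForm F (ι → F))
variable (hQ : (polarBilin Q).Nondegenerate) (h2 : (2 : F) ≠ 0)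
variable (ω : End F (ι → F)) (t : F) (hω : ∀ v, ω (ω v) = t • v)
variable (hsa : ∀ u v, polarBilin Q (ω u) v = polarBilin Q u (ω v)) (ht : ¬ IsSquare t)

omit [Fintype F] [Fact p.Prime] [CharP F p] in
theorem not_dvd_sub {q e i : ℕ} (hq : 0 < q) (hi : orderOf (q : ZMod r) = i) (h : ¬ i ∣ e) : ¬ r ∣ q ^ e - 1 := by
  intro hd
  apply h
  rw [← hi, orderOf_dvd_iff_pow_eq_one]
  rwa [← ZMod.natCast_eq_zero_iff, Nat.cast_sub (Nat.one_le_pow _ _ hq), Nat.cast_pow, Nat.cast_one, sub_eq_zero] at hd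

theorem prod_split (f : ℕ → ℕ) : ∀ m, ∏ i ∈ Finset.range (2 * m), f i =
    (∏ j ∈ Finset.range m, f (2 * j + 1)) * ∏ j ∈ Finset.range m, f (2 * j) := by
  intro m
  induction m with
  | zero => simp
  | succ m ih =>
    rw [show 2 * (m + 1) = 2 * m + 1 + 1 by ring, Finset.prod_range_succ, Finset.prod_range_succ, ih,
      Finset.prod_range_succ, Finset.prod_range_succ]
    ring

include hQ h2 hω hsa ht in
/-- The order of the group divides the order of the centraliser up to a number prime to `r`. -/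
theorem card_split {i d : ℕ} (hrp : r ≠ p) (hr2 : r ≠ 2) (hi : orderOf ((Fintype.card F : ℕ) : ZMod r) = i)
    (h4 : 4 ∣ i) (hn : Fintype.card ι = 2 * d) (hd : 2 ≤ d)
    (hcard : Nat.card (Cfsg.isometryGroup F ⇑Q) = 2 * Fintype.card F ^ (d * (d - 1)) *
      (if Plus Q (⊤ : Submodule F (ι → F)) then Fintype.card F ^ d - 1 else Fintype.card F ^ d + 1) *
      ∏ j ∈ Finset.range (d - 1), (Fintype.card F ^ (2 * (j + 1)) - 1)) :
    ∃ M, ¬ r ∣ M ∧ Nat.card (Cfsg.isometryGroup F ⇑Q) ∣ Nat.card (cent Q ω) * M := by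
  set q := Fintype.card F with hq
  have hq0 : 0 < q := Fintype.card_pos
  have hodd : ∀ j, ¬ r ∣ q ^ (2 * (2 * j + 1)) - 1 := fun j =>
    not_dvd_sub hq0 hi fun h => by
      have h' := h4.trans h
      rw [show 2 * (2 * j + 1) = 4 * j + 2 by ring, Nat.dvd_add_right (dvd_mul_right 4 j)] at h'
      norm_num at h'
  have hP : ∀ m, ¬ r ∣ ∏ j ∈ Finset.range m, (q ^ (2 * (2 * j + 1)) - 1) := fun m h => by
    obtain ⟨j, -, hj⟩ := (Prime.dvd_finsetProd_iff (Nat.prime_iff.1 hr.out) _).1 h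
    exact hodd j hj
  have hq' : ¬ r ∣ q ^ (d * (d - 1)) := fun h => by
    obtain ⟨n, -, hn'⟩ := FiniteField.card F p
    rw [hq, hn', ← pow_mul] at h
    exact hrp ((Nat.prime_dvd_prime_iff_eq hr.out hp.out).1 (hr.out.dvd_of_dvd_pow h))
  have hr2' : ¬ r ∣ 2 := fun h => hr2 ((Nat.prime_dvd_prime_iff_eq hr.out Nat.prime_two).1 h)
  rcases Nat.even_or_odd' d with ⟨m, rfl | rfl⟩
  · refine ⟨2 * q ^ (2 * m * (2 * m - 1)) * ∏ j ∈ Finset.range m, (q ^ (2 * (2 * j + 1)) - 1), ?_, ?_⟩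
    · rw [hr.out.dvd_mul, hr.out.dvd_mul, not_or, not_or]
      exact ⟨⟨hr2', hq'⟩, hP m⟩
    · obtain ⟨k, rfl⟩ : ∃ k, m = k + 1 := ⟨m - 1, by omega⟩
      have h := cent_even Q hQ h2 ω t hω hsa ht (m := k + 1) (by omega) hn
      refine dvd_trans ?_ (Nat.mul_dvd_mul_right h _)
      refine dvd_of_eq ?_
      have e1 : (q ^ 2) ^ (k + 1) = q ^ (2 * (k + 1)) := by rw [← pow_mul]
      have e2 : ∀ j, (q ^ 2) ^ (2 * (j + 1)) = q ^ (2 * (2 * j + 1 + 1)) := fun j => by
        rw [← pow_mul, show 2 * (2 * (j + 1)) = 2 * (2 * j + 1 + 1) by ring]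
      simp only [← hq, e1, e2, Nat.add_sub_cancel]
      rw [hcard, show 2 * (k + 1) - 1 = 2 * k + 1 by omega, Finset.prod_range_succ, prod_split,
        Finset.prod_range_succ]
      ring
  · refine ⟨2 * q ^ ((2 * m + 1) * (2 * m + 1 - 1)) *
      (if Plus Q (⊤ : Submodule F (ι → F)) then q ^ (2 * m + 1) - 1 else q ^ (2 * m + 1) + 1) *
      ∏ j ∈ Finset.range m, (q ^ (2 * (2 * j + 1)) - 1), ?_, ?_⟩
    · rw [hr.out.dvd_mul, hr.out.dvd_mul, hr.out.dvd_mul, not_or, not_or, not_or]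
      refine ⟨⟨⟨hr2', hq'⟩, ?_⟩, hP m⟩
      split_ifs
      · exact not_dvd_sub hq0 hi fun h => by
          have := (dvd_trans (by norm_num : 2 ∣ 4) h4).trans h
          omega
      · intro h
        refine hodd m (h.trans ?_)
        rw [show 2 * (2 * m + 1) = (2 * m + 1) * 2 by ring, pow_mul,
          show (q ^ (2 * m + 1)) ^ 2 - 1 = (q ^ (2 * m + 1) + 1) * (q ^ (2 * m + 1) - 1) by
            rw [← Nat.sq_sub_sq, one_pow]]
        exact dvd_mul_right _ _
    · have h := cent_odd Q hQ h2 ω t hω hsa ht (m := m) hn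
      refine dvd_trans ?_ (Nat.mul_dvd_mul_right h _)
      refine dvd_of_eq ?_
      rw [hcard, Nat.add_sub_cancel, prod_split]
      have e2 : ∀ j, (Fintype.card F ^ 2) ^ (2 * (j + 1)) = q ^ (2 * (2 * j + 1 + 1)) := fun j => by
        rw [← pow_mul, show 2 * (2 * (j + 1)) = 2 * (2 * j + 1 + 1) by ring]
      simp only [e2]
      ring

include hQ h2 hω hsa ht in
/-- Odd primes with `4` dividing the order do not divide the index. -/
theorem index_prime {N : Subgroup (GL ι F)}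
    (hN : ∀ g : GL ι F, (∀ v, (g : Matrix ι ι F) *ᵥ ω v = ω ((g : Matrix ι ι F) *ᵥ v)) → g ∈ N)
    (hr2 : r ≠ 2) {M : ℕ} (hM : ¬ r ∣ M) (hdvd : Nat.card (Cfsg.isometryGroup F ⇑Q) ∣ Nat.card (cent Q ω) * M) :
    ¬ r ∣ N.relIndex (Cfsg.Geo.omegaGL (⇑Q)) := by
  intro hrel
  set Ω := Cfsg.Geo.omegaGL (⇑Q)
  haveI : Finite (quadIsometries Q) := Finite.of_equiv _ (isometryEquiv Q).toEquiv
  obtain ⟨k, n', hn', hk⟩ := Nat.exists_eq_pow_mul_and_not_dvd (Nat.card_pos (α := cent Q ω)).ne' r hr.out.ne_one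
  obtain ⟨P, hPc⟩ := Sylow.exists_subgroup_card_pow_prime r (G := cent Q ω) (n := k) (by rw [hk]; exact dvd_mul_right _ _)
  let f : cent Q ω →* GL ι F :=
    ((Cfsg.isometryGroup F ⇑Q).subtype.comp (isometryEquiv Q).symm.toMonoidHom).comp (cent Q ω).subtype
  have hf : Function.Injective f :=
    ((Subgroup.subtype_injective _).comp (isometryEquiv Q).symm.injective).comp (Subgroup.subtype_injective _)
  have hle : P.map f ≤ N ⊓ Ω := by
    rintro _ ⟨y, hy, rfl⟩
    have hfv : ∀ v, ((f y : GL ι F) : Matrix ι ι F) *ᵥ v = ((y : quadIsometries Q) : (ι → F) ≃ₗ[F] (ι → F)) v := fun v => by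
      show (((isometryEquiv Q).symm (y : quadIsometries Q) : GL ι F) : Matrix ι ι F) *ᵥ v = _
      rw [← isometryEquiv_apply, MulEquiv.apply_symm_apply]
    refine ⟨hN _ fun v => by rw [hfv, hfv]; exact y.2 v, ?_⟩
    refine UnipotentOrth.mem_omega_of_odd h2 Q hQ ((isometryEquiv Q).symm (y : quadIsometries Q)).2 (r := r ^ k)
      ((hr.out.odd_of_ne_two hr2).pow) ?_
    have h1 : y ^ (r ^ k) = 1 := by
      have := congrArg Subtype.val (pow_card_eq_one' (x := (⟨y, hy⟩ : P)))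
      rwa [hPc] at this
    show f y ^ (r ^ k) = 1
    rw [← map_pow, h1, map_one]
  have h1 : r ^ k ∣ Nat.card (N ⊓ Ω : Subgroup (GL ι F)) := by
    rw [← hPc, Nat.card_congr (P.equivMapOfInjective f hf).toEquiv]
    exact Subgroup.card_dvd_of_le hle
  have h3 : Nat.card (N ⊓ Ω : Subgroup (GL ι F)) * N.relIndex Ω = Nat.card Ω := by
    rw [← Subgroup.relIndex_bot_left (N ⊓ Ω), ← Subgroup.relIndex_bot_left Ω, ← Subgroup.inf_relIndex_right N Ω,
      Subgroup.relIndex_mul_relIndex _ _ _ bot_le inf_le_right]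
  have h5 : Nat.card Ω ∣ Nat.card (Cfsg.isometryGroup F ⇑Q) := Subgroup.card_dvd_of_le (Subgroup.map_subtype_le _)
  have h6 : r ^ k * r ∣ Nat.card (cent Q ω) * M :=
    ((Nat.mul_dvd_mul h1 hrel).trans (h3 ▸ h5)).trans hdvd
  rw [hk, mul_assoc] at h6
  have h7 := (Nat.mul_dvd_mul_iff_left (pow_pos hr.out.pos k)).1 h6
  exact (hr.out.dvd_mul.1 h7).elim hn' hM

omit [Fintype F] in
theorem pow_mulVec (x : GL ι F) : ∀ (n : ℕ) v, ((x ^ n : GL ι F) : Matrix ι ι F) *ᵥ v =
    (Matrix.toLin' (x : Matrix ι ι F) ^ n) v := by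
  intro n
  induction n with
  | zero => intro v; simp
  | succ n ih => intro v; rw [pow_succ', pow_succ', Units.val_mul, ← Matrix.mulVec_mulVec, ih, End.mul_apply,
      Matrix.toLin'_apply]

include hQ h2 hω hsa ht in
/-- An element with a conjugate in the normaliser moves a space of dimension divisible by four. -/
theorem moved_conj {N : Subgroup (GL ι F)}
    (hN : ∀ g : GL ι F, g ∈ N ↔ ((∀ v, (g : Matrix ι ι F) *ᵥ ω v = ω ((g : Matrix ι ι F) *ᵥ v)) ∨
      (∀ v, (g : Matrix ι ι F) *ᵥ ω v = -ω ((g : Matrix ι ι F) *ᵥ v))))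
    (hne : Nonempty ι) {n : ℕ} (hn : Odd n) {x g : GL ι F} (hx : x ∈ Cfsg.isometryGroup F ⇑Q) (hg : g ∈ Cfsg.isometryGroup F ⇑Q)
    (hxn : x ^ n = 1) (hgx : g⁻¹ * x * g ∈ N) :
    4 ∣ finrank F (LinearMap.range (Matrix.toLin' (x : Matrix ι ι F) - 1)) := by
  set y := g⁻¹ * x * g with hy
  set Y : End F (ι → F) := Matrix.toLin' (y : Matrix ι ι F) with hY
  have hyI : y ∈ Cfsg.isometryGroup F ⇑Q := mul_mem (mul_mem (inv_mem hg) hx) hg
  have hiso : ∀ v, Q (Y v) = Q v := fun v => by rw [hY, Matrix.toLin'_apply]; exact mem_isometryGroup_iff.1 hyI v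
  have hyn : y ^ n = 1 := by
    rw [hy, show g⁻¹ * x * g = MulAut.conj g⁻¹ x by simp, ← map_pow, hxn, map_one]
  have hYn : Y ^ n = 1 := LinearMap.ext fun v => by
    rw [← pow_mulVec, hyn, Units.val_one, Matrix.one_mulVec]; rfl
  have hcom : ∀ v, Y (ω v) = ω (Y v) := by
    rcases (hN y).1 hgx with h | h
    · intro v; rw [hY, Matrix.toLin'_apply, Matrix.toLin'_apply]; exact h v
    · intro v
      exfalso
      have hj : ∀ j v, (Y ^ j) (ω v) = (-1 : F) ^ j • ω ((Y ^ j) v) := fun j => by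
        induction j with
        | zero => intro v; simp
        | succ j ih =>
          intro v
          rw [pow_succ', End.mul_apply, ih, map_smul, End.mul_apply, hY, Matrix.toLin'_apply, h, ← hY,
            Matrix.toLin'_apply, pow_succ, mul_smul, neg_one_smul]
      obtain ⟨w, hw⟩ : ∃ w : ι → F, w ≠ 0 := by
        obtain ⟨i₀⟩ := hne
        exact ⟨Pi.single i₀ 1, by simp⟩
      have h5 := hj n w
      rw [hYn, End.one_apply, hn.neg_one_pow, neg_one_smul, End.one_apply] at h5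
      have hw0 : ω w ≠ 0 := fun e => hw (by
        have := hω w
        rw [e, map_zero] at this
        exact (smul_eq_zero.1 this.symm).resolve_left fun e' => ht (e' ▸ IsSquare.zero))
      have h7 : (2 : F) • ω w = 0 := by rw [two_smul]; exact add_eq_zero_iff_eq_neg.2 h5
      exact hw0 ((smul_eq_zero.1 h7).resolve_left h2)
  have h := moved_four Q hQ h2 ω t hω hsa ht hiso hcom hn hYn
  have e : finrank F (LinearMap.range (Matrix.toLin' (x : Matrix ι ι F) - 1)) = finrank F (LinearMap.range (Y - 1)) := by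
    let ge : (ι → F) ≃ₗ[F] (ι → F) :=
      LinearMap.GeneralLinearGroup.generalLinearEquiv F (ι → F) (Matrix.GeneralLinearGroup.toLin g)
    have hge : ∀ v, ge v = (g : Matrix ι ι F) *ᵥ v := fun v => rfl
    have hmap : (LinearMap.range (Y - 1)).map (ge : (ι → F) →ₗ[F] (ι → F)) =
        LinearMap.range (Matrix.toLin' (x : Matrix ι ι F) - 1) := by
      have he : ∀ v, ge ((Y - 1) v) = (Matrix.toLin' (x : Matrix ι ι F) - 1) (ge v) := fun v => by
        simp only [LinearMap.sub_apply, End.one_apply, map_sub, hge, hY, Matrix.toLin'_apply, Matrix.mulVec_sub, Matrix.mulVec_mulVec]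
        rw [← Units.val_mul, hy, ← mul_assoc, ← mul_assoc, mul_inv_cancel, one_mul, Units.val_mul]
      ext u
      simp only [Submodule.mem_map, LinearMap.mem_range]
      constructor
      · rintro ⟨_, ⟨v, rfl⟩, rfl⟩; exact ⟨ge v, (he v).symm⟩
      · rintro ⟨v, rfl⟩
        refine ⟨_, ⟨ge.symm v, rfl⟩, ?_⟩
        show ge ((Y - 1) (ge.symm v)) = _
        rw [he, LinearEquiv.apply_symm_apply]
    rw [← hmap, LinearEquiv.finrank_map_eq]
  rw [e]; exact h

include hQ h2 hω hsa ht hp hchar in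
/-- The criterion. -/
theorem main {N : Subgroup (GL ι F)}
    (hN : ∀ g : GL ι F, g ∈ N ↔ ((∀ v, (g : Matrix ι ι F) *ᵥ ω v = ω ((g : Matrix ι ι F) *ᵥ v)) ∨
      (∀ v, (g : Matrix ι ι F) *ᵥ ω v = -ω ((g : Matrix ι ι F) *ᵥ v))))
    {d : ℕ} (hn : Fintype.card ι = 2 * d) (hd : 4 ≤ d)
    (hcard : Nat.card (Cfsg.isometryGroup F ⇑Q) = 2 * Fintype.card F ^ (d * (d - 1)) *
      (if Plus Q (⊤ : Submodule F (ι → F)) then Fintype.card F ^ d - 1 else Fintype.card F ^ d + 1) *
      ∏ j ∈ Finset.range (d - 1), (Fintype.card F ^ (2 * (j + 1)) - 1))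
    (hΩ : r ∣ N.relIndex (Cfsg.Geo.omegaGL (⇑Q))) :
    (∀ x ∈ Cfsg.Geo.omegaGL (⇑Q), (∃ z : F, ((x ^ r : GL ι F) : Matrix ι ι F) = z • (1 : Matrix ι ι F)) →
      (∀ z : F, (x : Matrix ι ι F) ≠ z • (1 : Matrix ι ι F)) →
      ∃ g ∈ Cfsg.Geo.omegaGL (⇑Q), g⁻¹ * x * g ∈ N) ↔ r = 2 := by
  constructor
  swap
  · rintro rfl x hx hz hns
    exact two_pos Q hQ h2 ω t hω hsa ht hN hn (by omega) hx hz hns
  intro hall
  by_contra hr2
  have hrodd : Odd r := hr.out.odd_of_ne_two hr2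
  have key : ∀ x : GL ι F, x ∈ Cfsg.Geo.omegaGL (⇑Q) → x ^ r = 1 →
      finrank F (LinearMap.range (Matrix.toLin' (x : Matrix ι ι F) - 1)) % 4 = 2 → False := by
    intro x hx hxr hrk
    obtain ⟨g, hg, hgN⟩ := hall x hx ⟨1, by rw [hxr, Units.val_one, one_smul]⟩ fun z hz => by
      have hxI := Subgroup.map_subtype_le _ hx
      obtain ⟨v, hv, hQv⟩ := QuadType.exists_val Q hQ h2 (QuadType.nd_top Q hQ) (by
        rw [finrank_top, Module.finrank_fintype_fun_eq_card]; omega) one_ne_zero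
      have e1 := mem_isometryGroup_iff.1 hxI v
      rw [hz, Matrix.smul_mulVec, Matrix.one_mulVec, quad_smul, hQv, mul_one] at e1
      have e2 : z ^ r = 1 := by
        have := congrArg Units.val hxr
        rw [Units.val_pow_eq_pow_val, hz, _root_.smul_pow, one_pow, Units.val_one] at this
        have h' := congrArg (fun A : Matrix ι ι F => A *ᵥ v) this
        simp only [Matrix.smul_mulVec, Matrix.one_mulVec] at h'
        exact ((smul_left_injective F (fun e : v = 0 => by rw [e, QuadraticMap.map_zero] at hQv; exact zero_ne_one hQv))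
          (show z ^ r • v = (1 : F) • v by rw [h', one_smul]))
      have hz1 : z = 1 := by
        rcases mul_self_eq_one_iff.1 e1 with h | h
        · exact h
        · rw [h, hrodd.neg_one_pow] at e2
          exact absurd (show (2 : F) = 0 by linear_combination -e2) h2
      rw [hz, hz1, one_smul, Matrix.toLin'_one] at hrk
      have : (LinearMap.id - 1 : End F (ι → F)) = 0 := LinearMap.ext fun u => sub_self u
      rw [this, LinearMap.range_zero, finrank_bot] at hrk
      omega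
    have := moved_conj Q hQ h2 ω t hω hsa ht hN (Fintype.card_pos_iff.1 (by omega)) hrodd (Subgroup.map_subtype_le _ hx) (Subgroup.map_subtype_le _ hg) hxr hgN
    omega
  rcases eq_or_ne r p with hrp | hrp
  · subst hrp
    obtain ⟨x, hxΩ, hxp, hxr⟩ := UnipotentOrth.exists_unipotent h2 Q hQ (3 ::ₘ Multiset.replicate (2 * d - 3) 1)
      (fun b hb => by
        rcases Multiset.mem_cons.1 hb with rfl | hb
        · have := hp.out.two_le
          rcases hrodd with ⟨s, hs⟩
          omega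
        · rw [Multiset.eq_of_mem_replicate hb]; exact hp.out.one_le)
      (fun e he => by
        rw [Multiset.count_cons, Multiset.count_replicate]
        rw [if_neg (by rintro rfl; exact absurd he (by decide)), if_neg (by rintro rfl; exact absurd he (by decide))]
        simp)
      (by rw [Multiset.sum_cons, Multiset.sum_replicate, hn, smul_eq_mul, mul_one]; omega)
      (Or.inl ⟨3, Multiset.mem_cons_self _ _, by decide⟩)
    refine key x hxΩ hxp ?_
    have := hxr 1
    rw [pow_one] at this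
    rw [this, Multiset.map_cons, Multiset.sum_cons, Multiset.map_replicate, Multiset.sum_replicate]
    simp
  obtain ⟨i, hi⟩ : ∃ i, orderOf ((Fintype.card F : ℕ) : ZMod r) = i := ⟨_, rfl⟩
  have hi0 : 0 < i := hi ▸ PrimeElemFlags.order_pos rfl hrp
  by_cases h4 : 4 ∣ i
  · obtain ⟨M, hM, hdvd⟩ := card_split Q hQ h2 ω t hω hsa ht hrp hr2 hi h4 hn (by omega) hcard
    exact index_prime Q hQ h2 ω t hω hsa ht (fun g hg => (hN g).2 (Or.inl hg)) hr2 hM hdvd hΩ
  have hI : r ∣ Nat.card (Cfsg.isometryGroup F ⇑Q) :=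
    (hΩ.trans (Subgroup.relIndex_dvd_card _ _)).trans (Subgroup.card_dvd_of_le (Subgroup.map_subtype_le _))
  obtain ⟨X, hX, hXiso, hX1⟩ := OrthOddSubMain.exists_of_dvd Q hI
  have hr0 : (r : F) ≠ 0 := PrimeElemFlags.cast_ne_zero hrp
  have hM := OrthDecomp.nd_parts Q hr0 hX hXiso (QuadType.nd_top Q hQ) (le_top : (⊤ : Submodule F (ι → F)).map X ≤ ⊤)
  rw [top_inf_eq, top_inf_eq] at hM
  have hsum := decompose hr0 hX (U := (⊤ : Submodule F (ι → F))) le_top
  rw [top_inf_eq, top_inf_eq] at hsum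
  have hne : moved X r ≠ ⊥ := fun e => hX1 (by
    have h := hsum.1
    rw [e, sup_bot_eq] at h
    exact LinearMap.ext fun v => mem_fixed.1 (h.symm ▸ Submodule.mem_top : v ∈ fixed X))
  obtain ⟨L, hLm, hL, hLi, hLd, -⟩ := OrthDecomp.exists_atom Q hQ h2 hrp hr2 hi hX hXiso hM.2 moved_inv le_rfl hne
  obtain ⟨π, hπ1, hπ2, hπ3, hπ4⟩ := QuadType.exists_proj Q hQ hL
  let Y : End F (ι → F) := X ∘ₗ π + (LinearMap.id - π)
  have hYL : ∀ u ∈ L, Y u = X u := fun u hu => by simp [Y, hπ2 u hu]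
  have hYp : ∀ u ∈ perp Q L, Y u = u := fun u hu => by simp [Y, hπ3 u hu]
  have hYiso : ∀ v, Q (Y v) = Q v := fun v => by
    have e : v = π v + (v - π v) := by abel
    rw [e, map_add, hYL _ (hπ1 v), hYp _ (hπ4 v), quad_add, quad_add, hXiso, hπ4 v _ (hπ1 v),
      hπ4 v _ (hLi (Submodule.mem_map_of_mem (hπ1 v)))]
  have hYj : ∀ j : ℕ, (∀ u ∈ L, (Y ^ j) u = (X ^ j) u ∧ (X ^ j) u ∈ L) ∧ ∀ u ∈ perp Q L, (Y ^ j) u = u := by
    intro j
    induction j with
    | zero => exact ⟨fun u hu => ⟨rfl, hu⟩, fun u _ => rfl⟩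
    | succ j ih =>
      refine ⟨fun u hu => ?_, fun u hu => by rw [pow_succ', End.mul_apply, ih.2 u hu, hYp u hu]⟩
      obtain ⟨h1, h3⟩ := ih.1 u hu
      rw [pow_succ', End.mul_apply, h1, hYL _ h3, pow_succ', End.mul_apply]
      exact ⟨rfl, hLi (Submodule.mem_map_of_mem h3)⟩
  have hYr : Y ^ r = 1 := LinearMap.ext fun v => by
    have e : v = π v + (v - π v) := by abel
    rw [e, map_add, ((hYj r).1 _ (hπ1 v)).1, (hYj r).2 _ (hπ4 v), hX]
    rfl
  have hrange : LinearMap.range (Y - 1) = L := by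
    refine Submodule.eq_of_le_of_finrank_le ?_ ?_
    · rintro _ ⟨v, rfl⟩
      have e : (Y - 1) v = X (π v) - π v := by simp [Y]; abel
      rw [e]
      exact L.sub_mem (hLi (Submodule.mem_map_of_mem (hπ1 v))) (hπ1 v)
    · let φ : L →ₗ[F] LinearMap.range (Y - 1) :=
        ((Y - 1).domRestrict L).codRestrict _ fun u => LinearMap.mem_range_self _ _
      refine LinearMap.finrank_le_finrank_of_injective (f := φ) ((injective_iff_map_eq_zero φ).2 fun u hu => ?_)
      have h' : (Y - 1) u.1 = 0 := congrArg Subtype.val hu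
      rw [LinearMap.sub_apply, End.one_apply, hYL _ u.2, sub_eq_zero] at h'
      have hd' := hsum.2
      have hdis : fixed X ⊓ moved X r = ⊥ := by
        have h := Submodule.finrank_sup_add_finrank_inf_eq (fixed X) (moved X r)
        rw [hsum.1, hd'] at h
        exact Submodule.finrank_eq_zero.1 (by omega)
      exact Subtype.ext ((Submodule.mem_bot F).1 (hdis ▸ ⟨mem_fixed.2 h', hLm u.2⟩ : u.1 ∈ (⊥ : Submodule F (ι → F))))
  let y : GL ι F := ⟨LinearMap.toMatrix' Y, LinearMap.toMatrix' (Y ^ (r - 1)),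
    by rw [← LinearMap.toMatrix'_mul, ← pow_succ', Nat.sub_add_cancel hr.out.one_le, hYr, LinearMap.toMatrix'_one],
    by rw [← LinearMap.toMatrix'_mul, ← pow_succ, Nat.sub_add_cancel hr.out.one_le, hYr, LinearMap.toMatrix'_one]⟩
  have hyI : y ∈ Cfsg.isometryGroup F ⇑Q := mem_isometryGroup_iff.2 fun v => by
    show Q (LinearMap.toMatrix' Y *ᵥ v) = Q v
    rw [LinearMap.toMatrix'_mulVec, hYiso]
  have hyr : y ^ r = 1 := Cfsg.Agent.Lib.Classical.gl_ext_mulVec fun v => by
    rw [pow_mulVec, show Matrix.toLin' (y : Matrix ι ι F) = Y from Matrix.toLin'_toMatrix' Y, hYr, Units.val_one,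
      Matrix.one_mulVec]
    rfl
  refine key y (UnipotentOrth.mem_omega_of_odd h2 Q hQ hyI hrodd hyr) hyr ?_
  rw [show Matrix.toLin' (y : Matrix ι ι F) = Y from Matrix.toLin'_toMatrix' Y, hrange, hLd, step]
  split_ifs with he
  · rcases he with ⟨a, rfl⟩; omega
  · rw [Nat.not_even_iff_odd] at he; rcases he with ⟨a, rfl⟩; omega

end Cfsg.Agent.Lib.MaxSub.OrthExt
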