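import Cfsg.Agent.Lib.MaxSub.OrthSplitMain
import Cfsg.Agent.Lib.Geometry.MaxIsotropic

/-!
The two families of maximal totally singular subspaces are not exchanged by `omegaGL`.
-/

set_option autoImplicit false

namespace Cfsg.Agent.Lib.MaxSub.OrthFamily

open Matrix QuadraticMap
open Cfsg.Agent.Lib.Geometry (quad_add quad_smul quad_polar_comm)
open scoped MatrixGroups Matrix

attribute [-simp] QuadraticMap.polarBilin_apply_apply

variable {ι : Type} [Fintype ι] [DecidableEq ι] {F : Type*} [Field F] {Q : QuadraticForm F (ι → F)}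

theorem finrank_map (g : GL ι F) (U : Submodule F (ι → F)) :
    Module.finrank F (U.map (Matrix.toLin' (g : Matrix ι ι F))) = Module.finrank F U := by
  refine (Submodule.equivMapOfInjective _ (fun x y h => ?_) U).finrank_eq.symm
  have h1 := congrArg (fun z => ((g⁻¹ : GL ι F) : Matrix ι ι F) *ᵥ z) h
  simpa only [Matrix.toLin'_apply, Matrix.mulVec_mulVec, ← Units.val_mul, inv_mul_cancel, Units.val_one,
    Matrix.one_mulVec] using h1

/-- An element of `omegaGL` meets a maximal totally singular subspace in even codimension. -/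
theorem even_codim (hN : (polarBilin Q).Nondegenerate) {m : ℕ} (hn : Fintype.card ι = 2 * m)
    {U : Submodule F (ι → F)} (hU : Module.finrank F U = m) (hU0 : ∀ u ∈ U, Q u = 0) {g : GL ι F}
    (hg : g ∈ Cfsg.Geo.omegaGL ⇑Q) :
    Even (m - Module.finrank F ↥(U ⊓ U.map (Matrix.toLin' (g : Matrix ι ι F)))) := by
  have hV : Module.finrank F (ι → F) = 2 * m := by rw [Module.finrank_fintype_fun_eq_card, hn]
  let I := Cfsg.isometryGroup F ⇑Q
  let d : I → ℕ := fun a => m - Module.finrank F ↥(U ⊓ U.map (Matrix.toLin' (a.1 : Matrix ι ι F)))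
  have hsing : ∀ a : I, ∀ u ∈ U.map (Matrix.toLin' (a.1 : Matrix ι ι F)), Q u = 0 := by
    rintro a _ ⟨x, hx, rfl⟩
    rw [Matrix.toLin'_apply, Orth.iso_quad a.2, hU0 x hx]
  have hadd : ∀ a b : I, (-1 : ℤˣ) ^ d (a * b) = (-1) ^ d a * (-1) ^ d b := by
    intro a b
    have h := Cfsg.Agent.Lib.Geometry.even_codim_sum Q hN hV hU hU0 ((finrank_map a.1 U).trans hU) (hsing a)
      ((finrank_map (a * b).1 U).trans hU) (hsing (a * b))
    have hab : U.map (Matrix.toLin' (a.1 : Matrix ι ι F)) ⊓ U.map (Matrix.toLin' ((a * b : I).1 : Matrix ι ι F)) =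
        (U ⊓ U.map (Matrix.toLin' (b.1 : Matrix ι ι F))).map (Matrix.toLin' (a.1 : Matrix ι ι F)) := by
      rw [Submodule.map_inf _ (fun x y hxy => by
        have h1 := congrArg (fun z => ((a.1⁻¹ : GL ι F) : Matrix ι ι F) *ᵥ z) hxy
        simpa only [Matrix.toLin'_apply, Matrix.mulVec_mulVec, ← Units.val_mul, inv_mul_cancel, Units.val_one,
          Matrix.one_mulVec] using h1), ← Submodule.map_comp, ← Matrix.toLin'_mul]
      rfl
    rw [hab, finrank_map] at h
    rw [← pow_add]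
    refine neg_one_pow_congr ?_
    rw [Nat.even_add, Nat.even_add] at h
    rw [Nat.even_add]
    tauto
  have hd1 : d 1 = 0 := by
    simp only [d, OneMemClass.coe_one, Units.val_one]
    have h : U ⊓ U.map (Matrix.toLin' (1 : Matrix ι ι F)) = U := by rw [Matrix.toLin'_one, Submodule.map_id, inf_idem]
    erw [h]
    rw [hU, Nat.sub_self]
  let χ : I →* ℤˣ :=
    { toFun := fun a => (-1) ^ d a
      map_one' := by rw [hd1, pow_zero]
      map_mul' := hadd }
  obtain ⟨a, ha, rfl⟩ := hg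
  have h1 : χ a = 1 := by
    exact Abelianization.commutator_subset_ker χ ha
  exact neg_one_pow_eq_one_iff_even (show (-1 : ℤˣ) ≠ 1 by decide) |>.mp h1

/-- An element of `omegaGL` stabilises one subspace but moves another. -/
theorem exists_move [Finite F] (hN : (polarBilin Q).Nondegenerate) (h7 : 7 ≤ Fintype.card ι)
    {A U : Submodule F (ι → F)} {u z : ι → F} (hqu : Q u = 0) (huU : u ∉ U) (hzU : z ∈ U) (hz : z ∉ F ∙ u)
    (huz : polarBilin Q u z = 0) (huA : u ∈ A) (hA : ∀ w ∈ A, polarBilin Q u w = 0) :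
    ∃ g : GL ι F, g ∈ Cfsg.Geo.subspaceStabilizer A ⊓ Cfsg.Geo.omegaGL ⇑Q ∧
      g ∉ Cfsg.Geo.subspaceStabilizer U := by
  obtain ⟨x, hxu, hxz⟩ := Orth.exists_dual hN (F ∙ u) hz
  have hux : polarBilin Q u x = 0 := by rw [quad_polar_comm]; exact hxu u (Submodule.mem_span_singleton_self u)
  refine ⟨Orth.eichGL Q u x hqu hux, ⟨OrthSplit.mem_stab_of_map fun w hw => ?_,
    Orth.eichGL_mem_omega hN h7 hqu hux⟩, fun h => huU ?_⟩
  · rw [Orth.eichGL_mulVec, quad_polar_comm Q w u, hA w hw, zero_smul, add_zero]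
    exact A.sub_mem hw (A.smul_mem _ huA)
  · have h1 := (h z).mp hzU
    change (Orth.eichGL Q u x hqu hux : Matrix ι ι F) *ᵥ z ∈ U at h1
    rwa [Orth.eichGL_mulVec, quad_polar_comm Q z u, huz, zero_smul, add_zero, mul_zero, add_zero, quad_polar_comm Q z x,
      hxz, one_smul, Submodule.sub_mem_iff_right _ hzU] at h1

/-- A singular subspace is moved by some element of `omegaGL`. -/
theorem stab_lt [Finite F] (hN : (polarBilin Q).Nondegenerate) (h7 : 7 ≤ Fintype.card ι)
    {U : Submodule F (ι → F)} {u z : ι → F} (hqu : Q u = 0) (huU : u ∉ U) (hzU : z ∈ U) (hz : z ∉ F ∙ u)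
    (huz : polarBilin Q u z = 0) :
    Cfsg.Geo.subspaceStabilizer U ⊓ Cfsg.Geo.omegaGL ⇑Q < Cfsg.Geo.omegaGL ⇑Q := by
  obtain ⟨g, hg, hgU⟩ := exists_move hN h7 (A := F ∙ u) hqu huU hzU hz huz (Submodule.mem_span_singleton_self u)
    (fun w hw => by
      obtain ⟨c, rfl⟩ := Submodule.mem_span_singleton.mp hw
      rw [map_smul, Orth.polar_self_of_sing Q hqu, smul_zero])
  refine lt_of_le_of_ne inf_le_right fun h => hgU ?_
  have h1 := hg.2
  rw [← h] at h1
  exact h1.1

end Cfsg.Agent.Lib.MaxSub.OrthFamily
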