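import Cfsg.Agent.Lib.MaxSub.OrthFamily
import Cfsg.Agent.Lib.MaxSub.DecompAux

/-!
Orthogonal decompositions into small blocks whose stabiliser lies strictly inside the stabiliser of a finer frame.
-/

set_option autoImplicit false

namespace Cfsg.Agent.Lib.MaxSub.OrthFrame

open Matrix QuadraticMap
open Cfsg.Agent.Lib.Geometry (quad_add quad_sub quad_smul quad_polar_self quad_polar_comm refl refl_apply)
open scoped MatrixGroups Matrix commutatorElement

attribute [-simp] QuadraticMap.polarBilin_apply_apply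

variable {ι : Type} [Fintype ι] [DecidableEq ι] {F : Type*} [Field F] {Q : QuadraticForm F (ι → F)}

/-- A matrix mapping a finite set into itself stabilises it. -/
theorem mem_stabilizing_of_maps [Finite F] {S : Set (ι → F)} {g : GL ι F}
    (h : ∀ v ∈ S, (g : Matrix ι ι F) *ᵥ v ∈ S) : g ∈ Cfsg.stabilizing (Cfsg.glToMat ι F) S := by
  let f : S → S := fun v => ⟨(g : Matrix ι ι F) *ᵥ v.1, h v.1 v.2⟩
  have hinj : Function.Injective fun v : ι → F => (g : Matrix ι ι F) *ᵥ v := fun x y hxy => by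
    have := congrArg (fun z => ((g⁻¹ : GL ι F) : Matrix ι ι F) *ᵥ z) hxy
    simpa [Matrix.mulVec_mulVec, ← Units.val_mul] using this
  refine fun v => ⟨h v, fun hv => ?_⟩
  obtain ⟨w, hw⟩ := (Finite.injective_iff_surjective.mp
    (fun x y hxy => Subtype.ext (hinj (congrArg Subtype.val hxy)) : Function.Injective f)) ⟨_, hv⟩
  exact hinj (congrArg Subtype.val hw) ▸ w.2

/-- Coordinates in a subspace with a dual family. -/
theorem expand {k : ℕ} {W : Submodule F (ι → F)} (hW : Module.finrank F W = k) (v w : Fin k → ι → F)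
    (hv : ∀ i, v i ∈ W) (hd : ∀ i j, polarBilin Q (v i) (w j) = if i = j then 1 else 0) {x : ι → F} (hx : x ∈ W) :
    x = ∑ i, polarBilin Q x (w i) • v i := by
  classical
  have key : ∀ c : Fin k → F, ∀ j, polarBilin Q (∑ i, c i • v i) (w j) = c j := fun c j => by
    simp [map_sum, LinearMap.sum_apply, hd]
  have hli : LinearIndependent F v := Fintype.linearIndependent_iff.mpr fun c hc j => by
    rw [← key c j, hc, map_zero, LinearMap.zero_apply]
  have hspan : Submodule.span F (Set.range v) = W := Submodule.eq_of_le_of_finrank_eq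
    (Submodule.span_le.mpr (Set.range_subset_iff.mpr hv))
    (by rw [finrank_span_eq_card hli, Fintype.card_fin, hW])
  rw [← hspan, Submodule.mem_span_range_iff_exists_fun] at hx
  obtain ⟨c, rfl⟩ := hx
  exact Finset.sum_congr rfl fun i _ => by rw [key]

variable {t m : ℕ} {D : Fin t → Submodule F (ι → F)}

theorem polar_zero (hD : Cfsg.Geo.IsOrthogonalMDecomposition (⇑Q) m D) {i j : Fin t} (h : i ≠ j) {x y : ι → F}
    (hx : x ∈ D i) (hy : y ∈ D j) : polarBilin Q x y = 0 :=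
  hD.decomp.orthogonal i j h x hx y hy

theorem nondeg (hD : Cfsg.Geo.IsOrthogonalMDecomposition (⇑Q) m D) {i : Fin t} {x : ι → F} (hx : x ∈ D i)
    (hx0 : x ≠ 0) : ∃ y ∈ D i, polarBilin Q x y ≠ 0 :=
  (hD.decomp.nondegenerate i x hx hx0).2

theorem eq_zero_of_two (hD : Cfsg.Geo.IsOrthogonalMDecomposition (⇑Q) m D) {i j : Fin t} (h : i ≠ j) {x : ι → F}
    (hx : x ∈ D i) (hy : x ∈ D j) : x = 0 := by
  by_contra hx0
  obtain ⟨y, hy', hne⟩ := nondeg hD hx hx0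
  exact hne (polar_zero hD h.symm hy hy')

/-- The stabiliser of a decomposition preserves the vectors of given value inside the blocks. -/
theorem stab_maps (g : GL ι F) (hg : g ∈ Cfsg.Geo.decompositionStabilizer D ⊓ Cfsg.Geo.omegaGL ⇑Q) (d : F)
    {x : ι → F} {i : Fin t} (hx : x ∈ D i) (hQ : Q x = d) :
    ∃ j, (g : Matrix ι ι F) *ᵥ x ∈ D j ∧ Q ((g : Matrix ι ι F) *ᵥ x) = d := by
  obtain ⟨⟨σ, hσ⟩, hgo⟩ := hg
  exact ⟨σ i, hσ i ▸ ⟨x, hx, Matrix.toLin'_apply _ _⟩, by rw [Orth.iso_quad (Orth.omegaGL_le_isometry hgo), hQ]⟩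

/-- An element sending two vectors of one block to different blocks is outside the stabiliser. -/
theorem notMem_stab (hD : Cfsg.Geo.IsOrthogonalMDecomposition (⇑Q) m D) {g : GL ι F} {i j₁ j₂ : Fin t}
    (hj : j₁ ≠ j₂) {y x : ι → F} (hy : y ∈ D i) (hx : x ∈ D i) (h1 : (g : Matrix ι ι F) *ᵥ y ∈ D j₁)
    (h2 : (g : Matrix ι ι F) *ᵥ x ∈ D j₂) (hy0 : (g : Matrix ι ι F) *ᵥ y ≠ 0) (hx0 : (g : Matrix ι ι F) *ᵥ x ≠ 0) :
    g ∉ Cfsg.Geo.decompositionStabilizer D := by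
  rintro ⟨σ, hσ⟩
  have e1 : σ i = j₁ := by_contra fun h => hy0 (eq_zero_of_two hD h (hσ i ▸ ⟨y, hy, Matrix.toLin'_apply _ _⟩) h1)
  have e2 : σ i = j₂ := by_contra fun h => hx0 (eq_zero_of_two hD h (hσ i ▸ ⟨x, hx, Matrix.toLin'_apply _ _⟩) h2)
  exact hj (e1.symm.trans e2)

/-- The subgroup of a set between the stabiliser and `omegaGL`. -/
theorem between {S : Set (ι → F)}
    (hle : Cfsg.Geo.decompositionStabilizer D ⊓ Cfsg.Geo.omegaGL ⇑Q ≤ Cfsg.stabilizing (Cfsg.glToMat ι F) S)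
    (h1 : ∃ g, g ∈ Cfsg.stabilizing (Cfsg.glToMat ι F) S ∧ g ∈ Cfsg.Geo.omegaGL ⇑Q ∧
      g ∉ Cfsg.Geo.decompositionStabilizer D)
    (h2 : ∃ g, g ∈ Cfsg.Geo.omegaGL ⇑Q ∧ g ∉ Cfsg.stabilizing (Cfsg.glToMat ι F) S) :
    ∃ K, Cfsg.Geo.decompositionStabilizer D ⊓ Cfsg.Geo.omegaGL ⇑Q < K ∧ K < Cfsg.Geo.omegaGL ⇑Q := by
  obtain ⟨g, hgS, hgo, hgD⟩ := h1
  obtain ⟨g', hgo', hgS'⟩ := h2
  refine ⟨Cfsg.stabilizing (Cfsg.glToMat ι F) S ⊓ Cfsg.Geo.omegaGL ⇑Q, lt_of_le_of_ne (le_inf hle inf_le_right) ?_,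
    lt_of_le_of_ne inf_le_right ?_⟩
  · intro h
    have h1 : g ∈ Cfsg.stabilizing (Cfsg.glToMat ι F) S ⊓ Cfsg.Geo.omegaGL ⇑Q := ⟨hgS, hgo⟩
    rw [← h] at h1
    exact hgD h1.1
  · intro h
    have h1 := hgo'
    rw [← h] at h1
    exact hgS' h1.1

set_option maxHeartbeats 800000 in
/-- Blocks in which a value is only taken by one frame. -/
theorem exists_between [Finite F] (hN : (polarBilin Q).Nondegenerate) (h7 : 7 ≤ Fintype.card ι)
    (hD : Cfsg.Geo.IsOrthogonalMDecomposition (⇑Q) m D) (h3 : 3 ≤ t) (hm : 2 ≤ m) {i₀ : Fin t} {a : ι → F}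
    (ha : a ∈ D i₀) (hd : 2 * Q a ≠ 0)
    (H : ∀ x ∈ D i₀, Q x = Q a → x = a ∨ x = -a ∨ polarBilin Q a x = 0) :
    ∃ K, Cfsg.Geo.decompositionStabilizer D ⊓ Cfsg.Geo.omegaGL ⇑Q < K ∧ K < Cfsg.Geo.omegaGL ⇑Q := by
  classical
  set d := Q a with hd'
  -- transport to every block
  have htr : ∀ i, ∃ b ∈ D i, Q b = d ∧ ∀ x ∈ D i, Q x = d → x = b ∨ x = -b ∨ polarBilin Q b x = 0 := by
    intro i
    obtain ⟨e, he⟩ := hD.isometric i₀ i
    refine ⟨(e ⟨a, ha⟩).1, (e ⟨a, ha⟩).2, he _, fun x hx hxd => ?_⟩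
    obtain ⟨⟨y, hy⟩, hye⟩ := e.surjective ⟨x, hx⟩
    have hxy : (e ⟨y, hy⟩).1 = x := congrArg Subtype.val hye
    have hyd : Q y = d := by rw [← hxd, ← hxy, he]
    rcases H y hy hyd with h | h | h
    · exact Or.inl (by rw [← hxy]; simp [h])
    · refine Or.inr (Or.inl ?_)
      rw [← hxy, show (⟨y, hy⟩ : D i₀) = -⟨a, ha⟩ from Subtype.ext h, map_neg]
      rfl
    · refine Or.inr (Or.inr ?_)
      rw [← hxy, polarBilin_apply_apply, polar, ← Submodule.coe_add, ← map_add, he, he, he]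
      exact h
  obtain ⟨i₁, hi₁, i₂, hi₂, hi₁₂⟩ : ∃ i₁, i₁ ≠ i₀ ∧ ∃ i₂, i₂ ≠ i₀ ∧ i₁ ≠ i₂ := by
    obtain ⟨x, y, hx, hy, hxy⟩ := Finset.one_lt_card_iff.mp
      (show 1 < ((Finset.univ : Finset (Fin t)).erase i₀).card by simp; omega)
    exact ⟨x, Finset.ne_of_mem_erase hx, y, Finset.ne_of_mem_erase hy, hxy⟩
  obtain ⟨b, hb, hbd, Hb⟩ := htr i₁
  obtain ⟨c, hc, hcd, Hc⟩ := htr i₂
  have hd0 : d ≠ 0 := fun h => hd (by rw [h, mul_zero])
  have hne : ∀ z, Q z = d → z ≠ 0 := fun z hz h0 => hd0 (by rw [← hz, h0, map_zero])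
  let A : Set (ι → F) := {x | ∃ i, x ∈ D i ∧ Q x = d}
  -- swaps
  have swap : ∀ (i j : Fin t) (p q : ι → F), i ≠ j → p ∈ D i → q ∈ D j → Q p = d → Q q = d →
      (∀ x ∈ D i, Q x = d → x = p ∨ x = -p ∨ polarBilin Q p x = 0) →
      (∀ x ∈ D j, Q x = d → x = q ∨ x = -q ∨ polarBilin Q q x = 0) →
      ∃ s : GL ι F, s ∈ Cfsg.isometryGroup F ⇑Q ∧ s ∈ Cfsg.stabilizing (Cfsg.glToMat ι F) A ∧
        (s : Matrix ι ι F) *ᵥ p = q ∧ (s : Matrix ι ι F) *ᵥ q = p ∧
        ∀ x, polarBilin Q p x = 0 → polarBilin Q q x = 0 → (s : Matrix ι ι F) *ᵥ x = x := by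
    intro i j p q hij hp hq hpd hqd Hp Hq
    have hpq : polarBilin Q p q = 0 := polar_zero hD hij hp hq
    have hQ : Q (p - q) = 2 * d := by rw [quad_sub, hpd, hqd, hpq]; ring
    let s := Orth.toGL Q (refl Q (p - q))
    have hs : ∀ x, (s : Matrix ι ι F) *ᵥ x = x - ((2 * d)⁻¹ * (polarBilin Q p x - polarBilin Q q x)) • (p - q) :=
      fun x => by rw [Orth.toGL_mulVec, refl_apply, hQ, map_sub, LinearMap.sub_apply]
    have hsp : (s : Matrix ι ι F) *ᵥ p = q := by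
      rw [hs, quad_polar_self, hpd, quad_polar_comm Q q p, hpq, sub_zero, inv_mul_cancel₀ hd, one_smul, sub_sub_cancel]
    have hsq : (s : Matrix ι ι F) *ᵥ q = p := by
      rw [hs, quad_polar_self, hqd, hpq, zero_sub, mul_neg, inv_mul_cancel₀ hd, neg_one_smul, sub_neg_eq_add,
        add_sub_cancel]
    have hfix : ∀ x, polarBilin Q p x = 0 → polarBilin Q q x = 0 → (s : Matrix ι ι F) *ᵥ x = x := fun x h1 h2 => by
      rw [hs, h1, h2, sub_zero, mul_zero, zero_smul, sub_zero]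
    refine ⟨s, Orth.toGL_mem_isometry Q _, mem_stabilizing_of_maps ?_, hsp, hsq, hfix⟩
    rintro x ⟨l, hl, hxd⟩
    by_cases hli : l = i
    · subst hli
      rcases Hp x hl hxd with rfl | rfl | h
      · exact ⟨j, hsp.symm ▸ hq, by rw [hsp, hqd]⟩
      · refine ⟨j, ?_, ?_⟩
        · rw [Matrix.mulVec_neg, hsp]; exact neg_mem hq
        · rw [Matrix.mulVec_neg, hsp, QuadraticMap.map_neg, hqd]
      · rw [hfix x h (polar_zero hD hij.symm hq hl)]
        exact ⟨_, hl, hxd⟩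
    by_cases hlj : l = j
    · subst hlj
      rcases Hq x hl hxd with rfl | rfl | h
      · exact ⟨i, hsq.symm ▸ hp, by rw [hsq, hpd]⟩
      · refine ⟨i, ?_, ?_⟩
        · rw [Matrix.mulVec_neg, hsq]; exact neg_mem hp
        · rw [Matrix.mulVec_neg, hsq, QuadraticMap.map_neg, hpd]
      · rw [hfix x (polar_zero hD hij hp hl) h]
        exact ⟨_, hl, hxd⟩
    rw [hfix x (polar_zero hD (Ne.symm hli) hp hl) (polar_zero hD (Ne.symm hlj) hq hl)]
    exact ⟨_, hl, hxd⟩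
  obtain ⟨s, hsI, hsA, hsa, hsb, hsf⟩ := swap i₀ i₁ a b hi₁.symm ha hb rfl hbd H Hb
  obtain ⟨r, hrI, hrA, hrb, hrc, hrf⟩ := swap i₁ i₂ b c hi₁₂ hb hc hbd hcd Hb Hc
  -- a further vector of the first block
  obtain ⟨a', ⟨ha', haa'⟩, ha'0⟩ := (Submodule.ne_bot_iff (D i₀ ⊓ LinearMap.ker (polarBilin Q a))).mp fun h => by
    have h1 := OrthSplit.finrank_inf_ker (D i₀) (polarBilin Q a)
    rw [h, finrank_bot, hD.decomp.decomp.finrank_eq] at h1
    omega
  have haa' : polarBilin Q a a' = 0 := haa'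
  refine between (S := A) ?_ ⟨s * r * s⁻¹ * r⁻¹,
    mul_mem (mul_mem (mul_mem hsA hrA) (inv_mem hsA)) (inv_mem hrA), ?_, ?_⟩ ?_
  · intro g hg
    exact mem_stabilizing_of_maps fun x ⟨i, hx, hxd⟩ => stab_maps g hg d hx hxd
  · have hc' : ⁅(⟨s, hsI⟩ : Cfsg.isometryGroup F ⇑Q), ⟨r, hrI⟩⁆ ∈ commutator (Cfsg.isometryGroup F ⇑Q) :=
      Subgroup.commutator_mem_commutator (Subgroup.mem_top _) (Subgroup.mem_top _)
    refine Subgroup.mem_map.mpr ⟨_, hc', ?_⟩
    rw [map_commutatorElement]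
    rfl
  · have hmv : ∀ (g : GL ι F) (x y : ι → F), (g : Matrix ι ι F) *ᵥ x = y → ((g⁻¹ : GL ι F) : Matrix ι ι F) *ᵥ y = x :=
      fun g x y h => by
        rw [← h, Matrix.mulVec_mulVec, ← Units.val_mul, inv_mul_cancel, Units.val_one, Matrix.one_mulVec]
    have hra : (r : Matrix ι ι F) *ᵥ a = a := hrf a (polar_zero hD hi₁ hb ha) (polar_zero hD hi₂ hc ha)
    have hsc : (s : Matrix ι ι F) *ᵥ c = c := hsf c (polar_zero hD hi₂.symm ha hc) (polar_zero hD hi₁₂ hb hc)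
    have hsa' : (s : Matrix ι ι F) *ᵥ a' = a' := hsf a' haa' (polar_zero hD hi₁ hb ha')
    have hra' : (r : Matrix ι ι F) *ᵥ a' = a' := hrf a' (polar_zero hD hi₁ hb ha') (polar_zero hD hi₂ hc ha')
    refine notMem_stab hD hi₂ ha ha' (j₁ := i₂) (j₂ := i₀) ?_ ?_ ?_ ?_ <;>
      simp only [Units.val_mul, ← Matrix.mulVec_mulVec, hmv r a a hra, hmv s b a hsb, hrb, hsc, hmv r a' a' hra',
        hmv s a' a' hsa', hra', hsa']
    · exact hc
    · exact ha'
    · exact hne c hcd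
    · exact ha'0
  · -- an element of `omegaGL` moving the frame
    have hperp : 3 ≤ Module.finrank F (LinearMap.BilinForm.orthogonal (polarBilin Q) (D i₀)) := by
      rw [LinearMap.BilinForm.finrank_orthogonal hN, Module.finrank_fintype_fun_eq_card, hD.decomp.decomp.finrank_eq,
        DecompAux.card_eq_mul hD.decomp.decomp]
      have h1 := Nat.mul_le_mul_right m h3
      omega
    obtain ⟨u, hu, hu0, hQu⟩ := Orth.exists_singular (Q := Q) _ hperp
    have hu' : ∀ w ∈ D i₀, polarBilin Q w u = 0 := hu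
    obtain ⟨x, hxu, hxa⟩ := Orth.exists_dual hN (F ∙ u) (x := a) fun h => by
      obtain ⟨k, hk⟩ := Submodule.mem_span_singleton.mp h
      exact hd0 (by rw [hd', ← hk, quad_smul, hQu, mul_zero])
    have hux : polarBilin Q u x = 0 := by rw [quad_polar_comm]; exact hxu u (Submodule.mem_span_singleton_self u)
    refine ⟨Orth.eichGL Q u x hQu hux, Orth.eichGL_mem_omega hN h7 hQu hux, fun h => ?_⟩
    obtain ⟨j, hj, hjd⟩ := (h a).mp ⟨i₀, ha, rfl⟩
    change (Orth.eichGL Q u x hQu hux : Matrix ι ι F) *ᵥ a ∈ D j at hj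
    rw [Orth.eichGL_mulVec, hu' a ha, zero_smul, add_zero, mul_zero, add_zero, quad_polar_comm Q a x, hxa,
      one_smul] at hj
    by_cases hji : j = i₀
    · subst hji
      have huD : u ∈ D j := by simpa using (D j).sub_mem ha hj
      obtain ⟨z, hz, hzu⟩ := nondeg hD huD hu0
      exact hzu (by rw [quad_polar_comm]; exact hu' z hz)
    · have h1 := polar_zero hD (Ne.symm hji) ha hj
      rw [map_sub, quad_polar_self, hu' a ha, sub_zero] at h1
      exact hd h1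

/-- Over the field of three elements a vector with anisotropic perpendicular in the block does it. -/
theorem frame_cond_three (h3 : ∀ z : F, z ≠ 0 → z * z = 1) (h2 : (2 : F) ≠ 0) {W : Submodule F (ι → F)} {a : ι → F}
    (ha : a ∈ W) (hQa : Q a ≠ 0) (H : ∀ w ∈ W, polarBilin Q a w = 0 → Q w = 0 → w = 0) :
    ∀ x ∈ W, Q x = Q a → x = a ∨ x = -a ∨ polarBilin Q a x = 0 := by
  intro x hx hxd
  by_cases hax : polarBilin Q a x = 0
  · exact Or.inr (Or.inr hax)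
  set α := polarBilin Q a x / (2 * Q a) with hα
  have hα0 : α ≠ 0 := div_ne_zero hax (mul_ne_zero h2 hQa)
  have hmul : α * (2 * Q a) = polarBilin Q a x := div_mul_cancel₀ _ (mul_ne_zero h2 hQa)
  have hw : x - α • a = 0 := by
    refine H _ (W.sub_mem hx (W.smul_mem _ ha)) ?_ ?_
    · rw [map_sub, map_smul, quad_polar_self, smul_eq_mul, hmul, sub_self]
    · rw [quad_sub, quad_smul, map_smul, quad_polar_comm Q x a, smul_eq_mul, hxd, ← hmul, h3 α hα0]
      linear_combination (-2 * Q a) * h3 α hα0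
  rcases mul_self_eq_one_iff.mp (h3 α hα0) with h | h <;> rw [sub_eq_zero.mp hw, h]
  · left; rw [one_smul]
  · right; left; rw [neg_one_smul]

/-- Existence of such a vector for blocks of dimension two or three. -/
theorem exists_frame_three (h3 : ∀ z : F, z ≠ 0 → z * z = 1) (h2 : (2 : F) ≠ 0) {W : Submodule F (ι → F)}
    (hW : Module.finrank F W = 2 ∨ Module.finrank F W = 3)
    (hnd : ∀ x ∈ W, x ≠ 0 → ∃ y ∈ W, polarBilin Q x y ≠ 0) :
    ∃ a ∈ W, Q a ≠ 0 ∧ ∀ w ∈ W, polarBilin Q a w = 0 → Q w = 0 → w = 0 := by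
  classical
  have aniso : ∀ U : Submodule F (ι → F), U ≠ ⊥ → (∀ x ∈ U, x ≠ 0 → ∃ y ∈ U, polarBilin Q x y ≠ 0) →
      ∃ a ∈ U, Q a ≠ 0 := by
    intro U hU hn
    obtain ⟨x, hx, hx0⟩ := (Submodule.ne_bot_iff U).mp hU
    obtain ⟨y, hy, hxy⟩ := hn x hx hx0
    by_contra hall
    push Not at hall
    have := hall (x + y) (U.add_mem hx hy)
    rw [quad_add, hall x hx, hall y hy, zero_add, zero_add] at this
    exact hxy this
  have cut : ∀ U : Submodule F (ι → F), (∀ x ∈ U, x ≠ 0 → ∃ y ∈ U, polarBilin Q x y ≠ 0) → ∀ a ∈ U, Q a ≠ 0 →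
      ∀ x ∈ U ⊓ LinearMap.ker (polarBilin Q a), x ≠ 0 →
        ∃ y ∈ U ⊓ LinearMap.ker (polarBilin Q a), polarBilin Q x y ≠ 0 := by
    intro U hn a ha hQa x hx hx0
    obtain ⟨y, hy, hxy⟩ := hn x hx.1 hx0
    refine ⟨y - (polarBilin Q a y / (2 * Q a)) • a, ⟨U.sub_mem hy (U.smul_mem _ ha), ?_⟩, ?_⟩
    · show polarBilin Q a _ = 0
      rw [map_sub, map_smul, quad_polar_self, smul_eq_mul, div_mul_cancel₀ _ (mul_ne_zero h2 hQa), sub_self]
    · have hxa : polarBilin Q x a = 0 := by rw [quad_polar_comm]; exact hx.2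
      rwa [map_sub, map_smul, hxa, smul_zero, sub_zero]
  have hne : ∀ U : Submodule F (ι → F), ∀ a, 2 ≤ Module.finrank F U →
      U ⊓ LinearMap.ker (polarBilin Q a) ≠ ⊥ := fun U a hU h => by
    have h1 := OrthSplit.finrank_inf_ker U (polarBilin Q a)
    rw [h, finrank_bot] at h1
    omega
  have hW0 : W ≠ ⊥ := fun h => by rw [h, finrank_bot] at hW; omega
  obtain ⟨a₁, ha₁, hQ₁⟩ := aniso W hW0 hnd
  set P₁ := W ⊓ LinearMap.ker (polarBilin Q a₁) with hP₁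
  have hn₁ := cut W hnd a₁ ha₁ hQ₁
  obtain ⟨a₂, ha₂, hQ₂⟩ := aniso P₁ (hne W a₁ (by omega)) hn₁
  have h12 : polarBilin Q a₁ a₂ = 0 := ha₂.2
  have hcan : ∀ z : F, z ≠ 0 → z⁻¹ * 2⁻¹ * (2 * z) = 1 := fun z hz => by field_simp
  rcases hW with hW | hW
  · refine ⟨a₁, ha₁, hQ₁, fun w hw haw hQw => ?_⟩
    have he := expand (Q := Q) hW ![a₁, a₂] ![(2 * Q a₁)⁻¹ • a₁, (2 * Q a₂)⁻¹ • a₂]
      (Fin.forall_fin_two.mpr ⟨ha₁, ha₂.1⟩) (fun i j => by
        fin_cases i <;> fin_cases j <;>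
          simp [quad_polar_self, h12, quad_polar_comm Q a₂ a₁, hcan, h2, hQ₁, hQ₂]) hw
    simp only [Fin.sum_univ_two, Matrix.cons_val_zero, Matrix.cons_val_one, map_smul, quad_polar_comm Q w a₁, haw,
      smul_eq_mul, mul_zero, zero_smul, zero_add] at he
    rw [he, quad_smul, mul_eq_zero, mul_self_eq_zero] at hQw
    rw [he, hQw.resolve_right hQ₂, zero_smul]
  have h3' : 2 ≤ Module.finrank F P₁ := by
    have h1 := OrthSplit.finrank_inf_ker W (polarBilin Q a₁)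
    rw [← hP₁] at h1
    omega
  obtain ⟨a₃, ha₃, hQ₃⟩ := aniso (P₁ ⊓ LinearMap.ker (polarBilin Q a₂)) (hne P₁ a₂ h3') (cut P₁ hn₁ a₂ ha₂ hQ₂)
  have h13 : polarBilin Q a₁ a₃ = 0 := ha₃.1.2
  have h23 : polarBilin Q a₂ a₃ = 0 := ha₃.2
  -- two equal values among three
  have key : ∀ p q r : ι → F, p ∈ W → q ∈ W → r ∈ W → Q p ≠ 0 → Q q ≠ 0 → Q r ≠ 0 → polarBilin Q p q = 0 →
      polarBilin Q p r = 0 → polarBilin Q q r = 0 → Q q = Q r →
      ∀ w ∈ W, polarBilin Q p w = 0 → Q w = 0 → w = 0 := by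
    intro p q r hp hq hr hQp hQq hQr hpq hpr hqr he w hw hpw hQw
    have hx := expand (Q := Q) hW ![p, q, r] ![(2 * Q p)⁻¹ • p, (2 * Q q)⁻¹ • q, (2 * Q r)⁻¹ • r]
      (by intro i; fin_cases i <;> assumption) (fun i j => by
        fin_cases i <;> fin_cases j <;>
          simp [quad_polar_self, hpq, hpr, hqr, quad_polar_comm Q q p, quad_polar_comm Q r p, quad_polar_comm Q r q,
            hcan, h2, hQp, hQq, hQr]) hw
    simp only [Fin.sum_univ_three, Matrix.cons_val_zero, Matrix.cons_val_one, Matrix.cons_val, map_smul,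
      quad_polar_comm Q w p, hpw, smul_eq_mul, mul_zero, zero_smul, zero_add] at hx
    generalize (2 * Q q)⁻¹ * polarBilin Q w q = β at hx
    generalize (2 * Q r)⁻¹ * polarBilin Q w r = γ at hx
    rw [hx, quad_add, quad_smul, quad_smul, map_smul, map_smul, LinearMap.smul_apply, hqr, smul_zero, smul_zero,
      add_zero, ← he, ← add_mul, mul_eq_zero] at hQw
    have hsum := hQw.resolve_right hQq
    have hβ : β = 0 := by
      by_contra h
      rw [h3 β h] at hsum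
      by_cases hγ : γ = 0
      · simp [hγ] at hsum
      · rw [h3 γ hγ] at hsum
        exact h2 (by linear_combination hsum)
    rw [hβ, zero_mul, zero_add, mul_self_eq_zero] at hsum
    rw [hx, hβ, hsum, zero_smul, zero_smul, add_zero]
  have hpigeon : Q a₂ = Q a₃ ∨ Q a₁ = Q a₃ ∨ Q a₁ = Q a₂ := by
    rcases mul_self_eq_one_iff.mp (h3 _ hQ₁) with h | h <;> rcases mul_self_eq_one_iff.mp (h3 _ hQ₂) with h' | h' <;>
      rcases mul_self_eq_one_iff.mp (h3 _ hQ₃) with h'' | h'' <;> simp [h, h', h'']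
  rcases hpigeon with h | h | h
  · exact ⟨a₁, ha₁, hQ₁, key a₁ a₂ a₃ ha₁ ha₂.1 ha₃.1.1 hQ₁ hQ₂ hQ₃ h12 h13 h23 h⟩
  · exact ⟨a₂, ha₂.1, hQ₂, key a₂ a₁ a₃ ha₂.1 ha₁ ha₃.1.1 hQ₂ hQ₁ hQ₃ (Orth.polar_symm Q _ _ h12) h23 h13 h⟩
  · exact ⟨a₃, ha₃.1.1, hQ₃, key a₃ a₁ a₂ ha₃.1.1 ha₁ ha₂.1 hQ₃ hQ₁ hQ₂ (Orth.polar_symm Q _ _ h13)
      (Orth.polar_symm Q _ _ h23) h12 h⟩

/-- The field of three elements. -/
theorem card_three [Fintype F] (hq : Fintype.card F = 3) :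
    (∀ z : F, z ≠ 0 → z * z = 1) ∧ (2 : F) ≠ 0 := by
  refine ⟨fun z hz => ?_, fun h => ?_⟩
  · have := FiniteField.pow_card_sub_one_eq_one z hz
    rwa [hq, pow_two] at this
  · have := FiniteField.cast_card_eq_zero F
    rw [hq] at this
    push_cast at this
    exact one_ne_zero (α := F) (by linear_combination this - h)

/-- The case of the field of three elements. -/
theorem exists_between_three [Fintype F] (hq : Fintype.card F = 3) (hN : (polarBilin Q).Nondegenerate)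
    (h7 : 7 ≤ Fintype.card ι) (hD : Cfsg.Geo.IsOrthogonalMDecomposition (⇑Q) m D) (hm : m = 2 ∨ m = 3) :
    ∃ K, Cfsg.Geo.decompositionStabilizer D ⊓ Cfsg.Geo.omegaGL ⇑Q < K ∧ K < Cfsg.Geo.omegaGL ⇑Q := by
  obtain ⟨h3, h2⟩ := card_three hq
  have hc := DecompAux.card_eq_mul hD.decomp.decomp
  have ht : 3 ≤ t := by rcases hm with rfl | rfl <;> omega
  let i₀ : Fin t := ⟨0, by omega⟩
  have hf := hD.decomp.decomp.finrank_eq i₀
  obtain ⟨a, ha, hQa, H⟩ := exists_frame_three (Q := Q) h3 h2 (W := D i₀) (by omega)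
    (fun x hx hx0 => nondeg hD hx hx0)
  exact exists_between hN h7 hD ht (by omega) ha (mul_ne_zero h2 hQa) (frame_cond_three h3 h2 ha hQa H)

end Cfsg.Agent.Lib.MaxSub.OrthFrame
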