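import Cfsg.Agent.Lib.MaxSub.OrthFrame

/-!
Orthogonal decompositions into hyperbolic planes or four-dimensional plus blocks over the smallest fields.
-/

set_option autoImplicit false

namespace Cfsg.Agent.Lib.MaxSub.OrthFrame

open Matrix QuadraticMap
open Cfsg.Agent.Lib.Geometry (quad_add quad_sub quad_smul quad_polar_self quad_polar_comm)
open scoped MatrixGroups Matrix

attribute [-simp] QuadraticMap.polarBilin_apply_apply

variable {ι : Type} [Fintype ι] [DecidableEq ι] {F : Type*} [Field F] {Q : QuadraticForm F (ι → F)}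
variable {t m : ℕ} {D : Fin t → Submodule F (ι → F)}

/-- A hyperbolic pair spans a plane of plus type. -/
theorem exists_hyperbolic (hN : (polarBilin Q).Nondegenerate)
    (hD : Cfsg.Geo.IsOrthogonalMDecomposition (⇑Q) m D) (hm : m = 2) {i : Fin t}
    (hplus : Cfsg.Geo.IsPlusTypeOn (⇑Q) (D i)) :
    ∃ e ∈ D i, ∃ f ∈ D i, Q e = 0 ∧ Q f = 0 ∧ polarBilin Q e f = 1 ∧
      ∀ x ∈ D i, x = polarBilin Q x f • e + polarBilin Q x e • f := by
  obtain ⟨U, hUD, hU, hUd⟩ := hplus
  rw [hD.decomp.decomp.finrank_eq i] at hUd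
  obtain ⟨e, he, he0⟩ := (Submodule.ne_bot_iff U).mp fun h => by rw [h, finrank_bot] at hUd; omega
  obtain ⟨z, hz, hez⟩ := nondeg hD (hUD he) he0
  have hQe : Q e = 0 := hU e he
  obtain ⟨f, hf, hQf, hef⟩ := Orth.exists_partner hN hQe (hUD he) hz hez
  refine ⟨e, hUD he, f, hf, hQe, hQf, hef, fun x hx => ?_⟩
  have h := expand (Q := Q) ((hD.decomp.decomp.finrank_eq i).trans hm) ![e, f] ![f, e]
    (Fin.forall_fin_two.mpr ⟨hUD he, hf⟩) (fun i j => by
      fin_cases i <;> fin_cases j <;>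
        simp [hef, quad_polar_comm Q f e, Orth.polar_self_of_sing Q hQe, Orth.polar_self_of_sing Q hQf]) hx
  simpa [Fin.sum_univ_two] using h

theorem quad_hyperbolic {e f : ι → F} (hQe : Q e = 0) (hQf : Q f = 0) (hef : polarBilin Q e f = 1) (a b : F) :
    Q (a • e + b • f) = a * b := by
  rw [quad_add, quad_smul, quad_smul, hQe, hQf, map_smul, map_smul, LinearMap.smul_apply, hef, smul_eq_mul,
    smul_eq_mul]
  ring

theorem polar_hyperbolic {e f : ι → F} (hQe : Q e = 0) (hQf : Q f = 0) (hef : polarBilin Q e f = 1) (a b c d : F) :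
    polarBilin Q (a • e + b • f) (c • e + d • f) = a * d + b * c := by
  simp only [map_add, map_smul, LinearMap.add_apply, LinearMap.smul_apply, smul_eq_mul, hef, quad_polar_comm Q f e,
    Orth.polar_self_of_sing Q hQe, Orth.polar_self_of_sing Q hQf]
  ring

/-- Hyperbolic planes over the field of five elements. -/
theorem exists_between_five [Finite F] (h4 : ∀ z : F, z ≠ 0 → z * z * (z * z) = 1) (h2 : (2 : F) ≠ 0)
    (hN : (polarBilin Q).Nondegenerate) (h7 : 7 ≤ Fintype.card ι)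
    (hD : Cfsg.Geo.IsOrthogonalMDecomposition (⇑Q) m D) (hm : m = 2) (h3 : 3 ≤ t)
    (hplus : ∀ i, Cfsg.Geo.IsPlusTypeOn (⇑Q) (D i)) :
    ∃ K, Cfsg.Geo.decompositionStabilizer D ⊓ Cfsg.Geo.omegaGL ⇑Q < K ∧ K < Cfsg.Geo.omegaGL ⇑Q := by
  set i₀ : Fin t := ⟨0, by omega⟩
  obtain ⟨e, he, f, hf, hQe, hQf, hef, hspan⟩ := exists_hyperbolic hN hD hm (hplus i₀)
  have hQ1 : Q (e + f) = 1 := by rw [quad_add, hQe, hQf, hef]; ring
  refine exists_between hN h7 hD h3 (by omega) (i₀ := i₀) (a := e + f) (add_mem he hf)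
    (by rw [hQ1, mul_one]; exact h2) fun x hx hxd => ?_
  rw [hQ1] at hxd
  obtain ⟨α, β, rfl⟩ : ∃ α β : F, x = α • e + β • f := ⟨_, _, hspan x hx⟩
  rw [quad_hyperbolic hQe hQf hef] at hxd
  have hα : α ≠ 0 := fun h => by rw [h, zero_mul] at hxd; exact zero_ne_one hxd
  have hB : polarBilin Q (e + f) (α • e + β • f) = β + α := by
    conv_lhs => rw [← one_smul F e, ← one_smul F f]
    rw [one_smul F e, one_smul F f]
    have := polar_hyperbolic hQe hQf hef 1 1 α β
    rw [one_smul, one_smul] at this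
    rw [this]; ring
  rcases mul_self_eq_one_iff.mp (h4 α hα) with h | h
  · rcases mul_self_eq_one_iff.mp h with rfl | rfl
    · left; rw [one_mul] at hxd; rw [hxd, one_smul, one_smul]
    · right; left
      rw [neg_one_mul, neg_eq_iff_eq_neg] at hxd
      rw [hxd, neg_one_smul, neg_one_smul, neg_add]
  · right; right
    rw [hB]
    linear_combination β * h - α * hxd

/-- The set of vectors of value one inside the blocks. -/
def ones (Q : QuadraticForm F (ι → F)) (D : Fin t → Submodule F (ι → F)) : Set (ι → F) :=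
  {x | ∃ i, x ∈ D i ∧ Q x = 1}

theorem stab_le_ones [Finite F] :
    Cfsg.Geo.decompositionStabilizer D ⊓ Cfsg.Geo.omegaGL ⇑Q ≤ Cfsg.stabilizing (Cfsg.glToMat ι F) (ones Q D) :=
  fun g hg => mem_stabilizing_of_maps fun _ ⟨_, hx, hQ⟩ => stab_maps g hg 1 hx hQ

theorem stabilizing_le_closure [Finite F] (S : Set (ι → F)) :
    Cfsg.stabilizing (Cfsg.glToMat ι F) S ≤
      Cfsg.stabilizing (Cfsg.glToMat ι F) (AddSubgroup.closure S : Set (ι → F)) := by
  refine fun g hg => mem_stabilizing_of_maps fun v hv => ?_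
  induction hv using AddSubgroup.closure_induction with
  | mem x hx => exact AddSubgroup.subset_closure ((hg x).mp hx)
  | zero => rw [Matrix.mulVec_zero]; exact zero_mem _
  | add x y _ _ hx hy => rw [Matrix.mulVec_add]; exact add_mem hx hy
  | neg x _ hx => rw [Matrix.mulVec_neg]; exact neg_mem hx

set_option maxHeartbeats 800000 in
/-- Planes in characteristic two in which the polar form of the vectors of value one takes only the values zero and
one: the stabiliser of the additive group they generate is larger. -/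
theorem exists_between_closure [Finite F] (hN : (polarBilin Q).Nondegenerate) (h7 : 7 ≤ Fintype.card ι)
    (hD : Cfsg.Geo.IsOrthogonalMDecomposition (⇑Q) m D) (h2 : (2 : F) = 0) (P : AddSubgroup F)
    (hP : ∀ c ∈ P, c = 0 ∨ c = 1) (hPA : ∀ x ∈ ones Q D, ∀ y ∈ ones Q D, polarBilin Q x y ∈ P)
    {i₀ i₁ i₂ : Fin t} (h01 : i₀ ≠ i₁) (h02 : i₀ ≠ i₂) (h12 : i₁ ≠ i₂) {a b c : ι → F}
    (ha : a ∈ D i₀) (hb : b ∈ D i₁) (hc : c ∈ D i₂) (hQa : Q a = 1) (hQb : Q b = 1) (hQc : Q c = 1)
    {e y : ι → F} (he : e ∈ D i₁) (hQe : Q e = 0) (hy : y ∈ D i₁) (hQy : Q y = 1) (hey : polarBilin Q e y ∉ P) :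
    ∃ K, Cfsg.Geo.decompositionStabilizer D ⊓ Cfsg.Geo.omegaGL ⇑Q < K ∧ K < Cfsg.Geo.omegaGL ⇑Q := by
  classical
  haveI : CharP F 2 := CharTwo.of_one_ne_zero_of_two_eq_zero one_ne_zero h2
  let L : AddSubgroup (ι → F) := AddSubgroup.closure (ones Q D)
  have hA : ∀ {i x}, x ∈ D i → Q x = 1 → x ∈ L := fun {i x} hx hQ => AddSubgroup.subset_closure ⟨i, hx, hQ⟩
  have hL1 : ∀ x ∈ L, ∀ z ∈ ones Q D, polarBilin Q x z ∈ P := fun x hx z hz => by
    induction hx using AddSubgroup.closure_induction with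
    | mem x hx => exact hPA x hx z hz
    | zero => rw [map_zero, LinearMap.zero_apply]; exact zero_mem _
    | add x x' _ _ h h' => rw [map_add, LinearMap.add_apply]; exact add_mem h h'
    | neg x _ h => rw [map_neg, LinearMap.neg_apply]; exact neg_mem h
  have hL2 : ∀ x ∈ L, ∀ z ∈ L, polarBilin Q x z ∈ P := fun x hx z hz => by
    induction hz using AddSubgroup.closure_induction with
    | mem z hz => exact hL1 x hx z hz
    | zero => rw [map_zero]; exact zero_mem _
    | add z z' _ _ h h' => rw [map_add]; exact add_mem h h'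
    | neg z _ h => rw [map_neg]; exact neg_mem h
  have hsmul : ∀ k ∈ P, ∀ x ∈ L, k • x ∈ L := fun k hk x hx => by
    rcases hP k hk with rfl | rfl
    · rw [zero_smul]; exact zero_mem _
    · rwa [one_smul]
  have hab : polarBilin Q a b = 0 := polar_zero hD h01 ha hb
  have hu : Q (a + b) = 0 := by rw [quad_add, hQa, hQb, hab]; linear_combination h2
  have hux : polarBilin Q (a + b) c = 0 := by
    rw [map_add, LinearMap.add_apply, polar_zero hD h02 ha hc, polar_zero hD h12 hb hc, add_zero]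
  refine between (S := (L : Set (ι → F))) (stab_le_ones.trans (stabilizing_le_closure _))
    ⟨Orth.eichGL Q (a + b) c hu hux, mem_stabilizing_of_maps fun w hw => ?_,
      Orth.eichGL_mem_omega hN h7 hu hux, ?_⟩ ?_
  · have huL : a + b ∈ L := add_mem (hA ha hQa) (hA hb hQb)
    have hcL : c ∈ L := hA hc hQc
    show _ ∈ L
    rw [Orth.eichGL_mulVec, hQc, one_mul]
    exact sub_mem (add_mem hw (hsmul _ (hL2 w hw _ huL) _ hcL))
      (hsmul _ (add_mem (hL2 w hw _ hcL) (hL2 w hw _ huL)) _ huL)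
  · -- a vector spread over three blocks
    have hne : ∀ x, Q x = 1 → x ≠ 0 := fun x h h0 => by rw [h0, map_zero] at h; exact zero_ne_one h
    obtain ⟨z₀, hz₀, hza⟩ := nondeg hD ha (hne a hQa)
    set z := (polarBilin Q a z₀)⁻¹ • z₀ with hz'
    have hz : z ∈ D i₀ := (D i₀).smul_mem _ hz₀
    have hza : polarBilin Q z a = 1 := by
      rw [hz', map_smul, LinearMap.smul_apply, quad_polar_comm Q z₀ a, smul_eq_mul, inv_mul_cancel₀ hza]
    have himg : (Orth.eichGL Q (a + b) c hu hux : Matrix ι ι F) *ᵥ z = z + c - (a + b) := by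
      rw [Orth.eichGL_mulVec, hQc, map_add (polarBilin Q z), hza, polar_zero hD h01 hz hb, polar_zero hD h02 hz hc]
      simp
    rintro ⟨σ, hσ⟩
    have hmem : z + c - (a + b) ∈ D (σ i₀) := hσ i₀ ▸ ⟨z, hz, by rw [Matrix.toLin'_apply, himg]⟩
    obtain ⟨z₁, hz₁, hbz⟩ := nondeg hD hb (hne b hQb)
    obtain ⟨z₂, hz₂, hcz⟩ := nondeg hD hc (hne c hQc)
    have e1 : polarBilin Q (z + c - (a + b)) z₁ = -polarBilin Q b z₁ := by
      simp [map_sub, map_add, polar_zero hD h01 hz hz₁, polar_zero hD h01 ha hz₁,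
        polar_zero hD h12.symm hc hz₁]
    have e2 : polarBilin Q (z + c - (a + b)) z₂ = polarBilin Q c z₂ := by
      simp [map_sub, map_add, polar_zero hD h02 hz hz₂, polar_zero hD h02 ha hz₂, polar_zero hD h12 hb hz₂]
    have hj1 : σ i₀ = i₁ := by_contra fun h => neg_ne_zero.mpr hbz (e1.symm.trans (polar_zero hD h hmem hz₁))
    have hj2 : σ i₀ = i₂ := by_contra fun h => hcz (e2.symm.trans (polar_zero hD h hmem hz₂))
    exact h12 (hj1.symm.trans hj2)
  · -- an element moving the group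
    obtain ⟨x, hxe, hxa⟩ := Orth.exists_dual hN (F ∙ e) (x := a) fun h => by
      obtain ⟨k, hk⟩ := Submodule.mem_span_singleton.mp h
      rw [← hk, quad_smul, hQe, mul_zero] at hQa
      exact zero_ne_one hQa
    have hex : polarBilin Q e x = 0 := by rw [quad_polar_comm]; exact hxe e (Submodule.mem_span_singleton_self e)
    refine ⟨Orth.eichGL Q e x hQe hex, Orth.eichGL_mem_omega hN h7 hQe hex, fun h => hey ?_⟩
    have h1 : (Orth.eichGL Q e x hQe hex : Matrix ι ι F) *ᵥ a ∈ L := (h a).mp (hA ha hQa)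
    rw [Orth.eichGL_mulVec, polar_zero hD h01 ha he, zero_smul, add_zero, mul_zero, add_zero, quad_polar_comm Q a x,
      hxa, one_smul] at h1
    have heL : e ∈ L := by simpa using sub_mem (hA ha hQa) h1
    exact hL2 e heL y (hA hy hQy)

set_option maxHeartbeats 800000 in
/-- Blocks containing a triangle of vectors of value one perpendicular to all others. -/
theorem exists_between_triangle [Finite F] (hN : (polarBilin Q).Nondegenerate) (h7 : 7 ≤ Fintype.card ι)
    (hD : Cfsg.Geo.IsOrthogonalMDecomposition (⇑Q) m D) (h2 : (2 : F) = 0) {i₀ i₁ : Fin t} (h01 : i₀ ≠ i₁)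
    {a b c d : ι → F} (ha : a ∈ D i₀) (hb : b ∈ D i₀) (hc : c ∈ D i₁) (hd : d ∈ D i₁) (hQa : Q a = 1) (hQb : Q b = 1)
    (hQc : Q c = 1) (hQd : Q d = 1) (hab : polarBilin Q a b = 1) (hcd : polarBilin Q c d = 1)
    (H₀ : ∀ x ∈ D i₀, Q x = 1 → x = a ∨ x = b ∨ x = a + b ∨ polarBilin Q x a = 0 ∧ polarBilin Q x b = 0)
    (H₁ : ∀ x ∈ D i₁, Q x = 1 → x = c ∨ x = d ∨ x = c + d ∨ polarBilin Q x c = 0 ∧ polarBilin Q x d = 0)
    {p : ι → F} (hp : p ∈ D i₀) (hp0 : p ≠ 0) (hpa : polarBilin Q p a = 0) (hpb : polarBilin Q p b = 0)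
    (hm : m + 3 ≤ Fintype.card ι) :
    ∃ K, Cfsg.Geo.decompositionStabilizer D ⊓ Cfsg.Geo.omegaGL ⇑Q < K ∧ K < Cfsg.Geo.omegaGL ⇑Q := by
  classical
  haveI : CharP F 2 := CharTwo.of_one_ne_zero_of_two_eq_zero one_ne_zero h2
  have hac : polarBilin Q a c = 0 := polar_zero hD h01 ha hc
  have had : polarBilin Q a d = 0 := polar_zero hD h01 ha hd
  have hbc : polarBilin Q b c = 0 := polar_zero hD h01 hb hc
  have hbd : polarBilin Q b d = 0 := polar_zero hD h01 hb hd
  have hu : Q (a + c) = 0 := by rw [quad_add, hQa, hQc, hac]; linear_combination h2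
  have hQf : Q (b + d) = 0 := by rw [quad_add, hQb, hQd, hbd]; linear_combination h2
  have hux : polarBilin Q (a + c) (b + d) = 0 := by
    simp [map_add, hab, hcd, had, quad_polar_comm Q c b, hbc, CharTwo.add_self_eq_zero]
  set g := Orth.eichGL Q (a + c) (b + d) hu hux
  have hvv : ∀ x : ι → F, x + x = 0 := fun x => by rw [← two_smul F x, h2, zero_smul]
  have hvs : ∀ x y : ι → F, x - y = x + y := fun x y => by
    rw [sub_eq_add_neg, neg_eq_of_add_eq_zero_left (hvv y)]
  have hg : ∀ w, (g : Matrix ι ι F) *ᵥ w =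
      w + polarBilin Q w (a + c) • (b + d) + polarBilin Q w (b + d) • (a + c) := fun w => by
    rw [Orth.eichGL_mulVec, hQf, zero_mul, add_zero, hvs]
  have hsa : polarBilin Q a a = 0 := by rw [quad_polar_self, hQa, mul_one, h2]
  have hsb : polarBilin Q b b = 0 := by rw [quad_polar_self, hQb, mul_one, h2]
  have hsc : polarBilin Q c c = 0 := by rw [quad_polar_self, hQc, mul_one, h2]
  have hsd : polarBilin Q d d = 0 := by rw [quad_polar_self, hQd, mul_one, h2]
  have hga : (g : Matrix ι ι F) *ᵥ a = c := by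
    simp [hg, map_add, hsa, hab, hac, had, ← add_assoc, hvv]
  have hgb : (g : Matrix ι ι F) *ᵥ b = d := by
    simp [hg, map_add, hsb, quad_polar_comm Q b a, hab, hbc, hbd, ← add_assoc, hvv]
  have hgc : (g : Matrix ι ι F) *ᵥ c = a := by
    simp [hg, map_add, hsc, hcd, quad_polar_comm Q c a, quad_polar_comm Q c b, hac, hbc,
      add_comm a c, ← add_assoc, hvv]
  have hgd : (g : Matrix ι ι F) *ᵥ d = b := by
    simp [hg, map_add, hsd, quad_polar_comm Q d c, hcd, quad_polar_comm Q d a, quad_polar_comm Q d b, had, hbd,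
      add_comm b d, ← add_assoc, hvv]
  have hfix : ∀ w, polarBilin Q w a = 0 → polarBilin Q w b = 0 → polarBilin Q w c = 0 → polarBilin Q w d = 0 →
      (g : Matrix ι ι F) *ᵥ w = w := fun w h₁ h₂ h₃ h₄ => by simp [hg, map_add, h₁, h₂, h₃, h₄]
  refine between (S := ones Q D) stab_le_ones ⟨g, mem_stabilizing_of_maps ?_, Orth.eichGL_mem_omega hN h7 hu hux,
    notMem_stab hD h01.symm ha hp (j₁ := i₁) (j₂ := i₀) (hga ▸ hc) ?_ ?_ ?_⟩ ?_
  · rintro x ⟨i, hx, hQx⟩
    by_cases hi0 : i = i₀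
    · subst hi0
      rcases H₀ x hx hQx with rfl | rfl | rfl | ⟨h₁, h₂⟩
      · exact ⟨i₁, hga.symm ▸ hc, by rw [hga, hQc]⟩
      · exact ⟨i₁, hgb.symm ▸ hd, by rw [hgb, hQd]⟩
      · refine ⟨i₁, ?_, ?_⟩
        · rw [Matrix.mulVec_add, hga, hgb]; exact add_mem hc hd
        · rw [Matrix.mulVec_add, hga, hgb, quad_add, hQc, hQd, hcd]; linear_combination h2
      · rw [hfix x h₁ h₂ (polar_zero hD h01 hx hc) (polar_zero hD h01 hx hd)]
        exact ⟨_, hx, hQx⟩
    by_cases hi1 : i = i₁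
    · subst hi1
      rcases H₁ x hx hQx with rfl | rfl | rfl | ⟨h₁, h₂⟩
      · exact ⟨i₀, hgc.symm ▸ ha, by rw [hgc, hQa]⟩
      · exact ⟨i₀, hgd.symm ▸ hb, by rw [hgd, hQb]⟩
      · refine ⟨i₀, ?_, ?_⟩
        · rw [Matrix.mulVec_add, hgc, hgd]; exact add_mem ha hb
        · rw [Matrix.mulVec_add, hgc, hgd, quad_add, hQa, hQb, hab]; linear_combination h2
      · rw [hfix x (polar_zero hD h01.symm hx ha) (polar_zero hD h01.symm hx hb) h₁ h₂]
        exact ⟨_, hx, hQx⟩
    rw [hfix x (polar_zero hD hi0 hx ha) (polar_zero hD hi0 hx hb) (polar_zero hD hi1 hx hc)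
      (polar_zero hD hi1 hx hd)]
    exact ⟨_, hx, hQx⟩
  · rw [hfix p hpa hpb (polar_zero hD h01 hp hc) (polar_zero hD h01 hp hd)]; exact hp
  · rw [hga]; exact fun h => by rw [h, map_zero] at hQc; exact zero_ne_one hQc
  · rw [hfix p hpa hpb (polar_zero hD h01 hp hc) (polar_zero hD h01 hp hd)]; exact hp0
  · have hperp : 3 ≤ Module.finrank F (LinearMap.BilinForm.orthogonal (polarBilin Q) (D i₀)) := by
      rw [LinearMap.BilinForm.finrank_orthogonal hN, Module.finrank_fintype_fun_eq_card, hD.decomp.decomp.finrank_eq]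
      omega
    obtain ⟨u, hu', hu0, hQu⟩ := Orth.exists_singular (Q := Q) _ hperp
    have hu' : ∀ w ∈ D i₀, polarBilin Q w u = 0 := hu'
    obtain ⟨x, hxu, hxa⟩ := Orth.exists_dual hN (F ∙ u) (x := a) fun h => by
      obtain ⟨k, hk⟩ := Submodule.mem_span_singleton.mp h
      rw [← hk, quad_smul, hQu, mul_zero] at hQa
      exact zero_ne_one hQa
    have hux' : polarBilin Q u x = 0 := by rw [quad_polar_comm]; exact hxu u (Submodule.mem_span_singleton_self u)
    refine ⟨Orth.eichGL Q u x hQu hux', Orth.eichGL_mem_omega hN h7 hQu hux', fun h => ?_⟩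
    obtain ⟨j, hj, -⟩ := (h a).mp ⟨i₀, ha, hQa⟩
    change (Orth.eichGL Q u x hQu hux' : Matrix ι ι F) *ᵥ a ∈ D j at hj
    rw [Orth.eichGL_mulVec, hu' a ha, zero_smul, add_zero, mul_zero, add_zero, quad_polar_comm Q a x, hxa,
      one_smul] at hj
    by_cases hji : j = i₀
    · subst hji
      have huD : u ∈ D j := by simpa using (D j).sub_mem ha hj
      obtain ⟨z, hz, hzu⟩ := nondeg hD huD hu0
      exact hzu (by rw [quad_polar_comm]; exact hu' z hz)
    · have h1 := polar_zero hD (Ne.symm hji) hb hj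
      rw [map_sub, quad_polar_comm Q b a, hab, hu' b hb, sub_zero] at h1
      exact one_ne_zero h1

end Cfsg.Agent.Lib.MaxSub.OrthFrame
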