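import Cfsg.Agent.Lib.MaxSub.OrthSplitMain

/-!
Stabilisers of non-singular lines in `omegaGL`.
-/

set_option autoImplicit false

namespace Cfsg.Agent.Lib.MaxSub.OrthSplit

open Matrix QuadraticMap
open Cfsg.Agent.Lib.Geometry (quad_add quad_sub quad_smul quad_polar_self quad_polar_comm)
open scoped MatrixGroups Matrix

attribute [-simp] QuadraticMap.polarBilin_apply_apply

variable {ι : Type} [Fintype ι] [DecidableEq ι] {F : Type*} [Field F] {Q : QuadraticForm F (ι → F)}

theorem line_stabiliser_maximal [Finite F] (hn : 13 ≤ Fintype.card ι)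
    (hN : (polarBilin Q).Nondegenerate) {v : ι → F} (hv : v ≠ 0) :
    Cfsg.Geo.IsMaximalIn (Cfsg.Geo.omegaGL ⇑Q)
      (Cfsg.Geo.subspaceStabilizer (F ∙ v) ⊓ Cfsg.Geo.omegaGL ⇑Q) := by
  have h7 : 7 ≤ Fintype.card ι := by omega
  have hfix : ∀ u x, (hu : Q u = 0) → (hx : polarBilin Q u x = 0) → polarBilin Q u v = 0 → polarBilin Q x v = 0 →
      Orth.eichGL Q u x hu hx ∈ Cfsg.Geo.subspaceStabilizer (F ∙ v) ⊓ Cfsg.Geo.omegaGL ⇑Q := by
    intro u x hu hx huv hxv
    refine ⟨OrthSplit.mem_stab_of_map fun w hw => ?_, Orth.eichGL_mem_omega hN h7 hu hx⟩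
    obtain ⟨c, rfl⟩ := Submodule.mem_span_singleton.mp hw
    rw [Orth.eichGL_mulVec, quad_polar_comm Q (c • v) u, quad_polar_comm Q (c • v) x, map_smul, map_smul, huv, hxv]
    simpa using hw
  obtain ⟨zv, -, hzv⟩ := Orth.exists_dual hN ⊥ (x := v) (by simpa using hv)
  refine ⟨lt_of_le_of_ne inf_le_right ?_, ?_⟩
  · intro h
    obtain ⟨u, hu, hu0, hqu⟩ := Orth.exists_singular (Q := Q)
      (LinearMap.ker (polarBilin Q v) ⊓ LinearMap.ker (polarBilin Q zv)) (by
        have h1 := OrthSplit.finrank_inf_ker ⊤ (polarBilin Q v)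
        have h2 := OrthSplit.finrank_inf_ker (LinearMap.ker (polarBilin Q v)) (polarBilin Q zv)
        rw [top_inf_eq, finrank_top, Module.finrank_fintype_fun_eq_card] at h1
        omega)
    have huv : u ∉ F ∙ v := fun hm => by
      obtain ⟨c, rfl⟩ := Submodule.mem_span_singleton.mp hm
      have h1 : polarBilin Q zv (c • v) = 0 := hu.2
      rw [map_smul, hzv, smul_eq_mul, mul_one] at h1
      exact hu0 (by rw [h1, zero_smul])
    obtain ⟨x, hxu, hxv⟩ := Orth.exists_dual hN (F ∙ u) (x := v) (fun hm => by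
      obtain ⟨c, hc⟩ := Submodule.mem_span_singleton.mp hm
      rcases eq_or_ne c 0 with rfl | hc0
      · exact hv (by rw [← hc, zero_smul])
      · exact huv (Submodule.mem_span_singleton.mpr ⟨c⁻¹, by rw [← hc, smul_smul, inv_mul_cancel₀ hc0, one_smul]⟩))
    have hux : polarBilin Q u x = 0 := by rw [quad_polar_comm]; exact hxu u (Submodule.mem_span_singleton_self u)
    have hm : Orth.eichGL Q u x hqu hux ∈ Cfsg.Geo.subspaceStabilizer (F ∙ v) ⊓ Cfsg.Geo.omegaGL ⇑Q := by
      rw [h]; exact Orth.eichGL_mem_omega hN h7 hqu hux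
    have h1 := (hm.1 v).mp (Submodule.mem_span_singleton_self v)
    change (Orth.eichGL Q u x hqu hux : Matrix ι ι F) *ᵥ v ∈ F ∙ v at h1
    have huv' : polarBilin Q v u = 0 := hu.1
    rw [Orth.eichGL_mulVec, huv', zero_smul, add_zero, mul_zero, add_zero, quad_polar_comm Q v x, hxv, one_smul,
      Submodule.sub_mem_iff_right _ (Submodule.mem_span_singleton_self v)] at h1
    exact huv h1
  intro M hle hMS
  by_cases hN' : M ≤ Cfsg.Geo.subspaceStabilizer (F ∙ v)
  · exact Or.inl (le_antisymm (le_inf hN' hMS) hle)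
  right
  obtain ⟨g, hgM, hg⟩ := SetLike.not_le_iff_exists.mp hN'
  have hgi := Orth.omegaGL_le_isometry (hMS hgM)
  set v' := (g : Matrix ι ι F) *ᵥ v with hv'
  have hgg : ∀ x, (g : Matrix ι ι F) *ᵥ (((g⁻¹ : GL ι F) : Matrix ι ι F) *ᵥ x) = x :=
    fun x => by rw [Matrix.mulVec_mulVec, ← Units.val_mul, mul_inv_cancel, Units.val_one, Matrix.one_mulVec]
  have hind : v' ∉ F ∙ v := fun hm => hg (OrthSplit.mem_stab_of_map fun w hw => by
    obtain ⟨c, rfl⟩ := Submodule.mem_span_singleton.mp hw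
    rw [Matrix.mulVec_smul]
    exact Submodule.smul_mem _ c hm)
  have hv'0 : v' ≠ 0 := fun h => hind (by rw [h]; exact Submodule.zero_mem _)
  have hind' : v ∉ F ∙ v' := fun hm => by
    obtain ⟨c, hc⟩ := Submodule.mem_span_singleton.mp hm
    rcases eq_or_ne c 0 with rfl | hc0
    · exact hv (by rw [← hc, zero_smul])
    · exact hind (Submodule.mem_span_singleton.mpr ⟨c⁻¹, by rw [← hc, smul_smul, inv_mul_cancel₀ hc0, one_smul]⟩)
  have hone : ∀ u x, (hu : Q u = 0) → (hx : polarBilin Q u x = 0) → polarBilin Q u v = 0 → polarBilin Q x v = 0 →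
      Orth.eichGL Q u x hu hx ∈ M := fun u x hu hx a b => hle (hfix u x hu hx a b)
  have htwo : ∀ u x, (hu : Q u = 0) → (hx : polarBilin Q u x = 0) → polarBilin Q u v' = 0 → polarBilin Q x v' = 0 →
      Orth.eichGL Q u x hu hx ∈ M := by
    intro u x hu hx hu' hx'
    obtain ⟨u₀, rfl⟩ : ∃ u₀, (g : Matrix ι ι F) *ᵥ u₀ = u := ⟨_, hgg u⟩
    obtain ⟨x₀, rfl⟩ : ∃ x₀, (g : Matrix ι ι F) *ᵥ x₀ = x := ⟨_, hgg x⟩
    rw [hv', Orth.iso_polar hgi] at hu' hx'
    have hu₀ : Q u₀ = 0 := by rw [← Orth.iso_quad hgi, hu]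
    have hx₀ : polarBilin Q u₀ x₀ = 0 := by rw [← Orth.iso_polar hgi, hx]
    rw [← Orth.conj_eichGL hgi hu₀ hx₀]
    exact M.mul_mem (M.mul_mem hgM (hone u₀ x₀ hu₀ hx₀ hu' hx')) (M.inv_mem hgM)
  -- roots
  have hroot : ∀ u, Q u = 0 → polarBilin Q u v = 0 → polarBilin Q u v' = 0 → u ∉ Submodule.span F {v, v'} →
      Orth.Root Q M u := by
    intro u hu huv huv' hout
    have hnot : v ∉ Submodule.span F {v', u} := fun hm => by
      obtain ⟨a, b, hab⟩ := Submodule.mem_span_pair.mp hm
      rcases eq_or_ne b 0 with rfl | hb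
      · exact hind' (Submodule.mem_span_singleton.mpr ⟨a, by rw [← hab, zero_smul, add_zero]⟩)
      · refine hout (Submodule.mem_span_pair.mpr ⟨b⁻¹, -(b⁻¹ * a), ?_⟩)
        rw [← hab, smul_add, smul_smul, smul_smul, inv_mul_cancel₀ hb, neg_smul, one_smul]
        abel
    obtain ⟨y, hy, hyv⟩ := Orth.exists_dual hN _ hnot
    have hyv' := hy v' (Submodule.subset_span (Set.mem_insert _ _))
    have hyu : polarBilin Q u y = 0 := by
      rw [quad_polar_comm]; exact hy u (Submodule.subset_span (Set.mem_insert_of_mem _ rfl))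
    refine ⟨hu, fun x hx => ?_⟩
    have h1 : polarBilin Q u (x - polarBilin Q x v • y) = 0 := by
      rw [map_sub, map_smul, hx, hyu, smul_zero, sub_zero]
    have h2 : polarBilin Q u (polarBilin Q x v • y) = 0 := by rw [map_smul, hyu, smul_zero]
    have hm := M.mul_mem
      (hone u _ hu h1 huv (by rw [map_sub, LinearMap.sub_apply, map_smul, LinearMap.smul_apply, hyv, smul_eq_mul,
        mul_one, sub_self]))
      (htwo u _ hu h2 huv' (by rw [map_smul, LinearMap.smul_apply, hyv', smul_zero]))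
    rw [Orth.eichGL, Orth.eichGL, ← map_mul, Cfsg.Agent.Lib.Classical.eich_mul] at hm
    simp only [sub_add_cancel] at hm
    exact hm
  obtain ⟨za, hza', hza⟩ := Orth.exists_dual hN _ hind'
  obtain ⟨zb, hzb', hzb⟩ := Orth.exists_dual hN _ hind
  have hza'' := hza' v' (Submodule.mem_span_singleton_self v')
  have hzb'' := hzb' v (Submodule.mem_span_singleton_self v)
  obtain ⟨u, hu, hu0, hqu⟩ := Orth.exists_singular (Q := Q)
    (LinearMap.ker (polarBilin Q v) ⊓ LinearMap.ker (polarBilin Q v') ⊓ LinearMap.ker (polarBilin Q za) ⊓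
      LinearMap.ker (polarBilin Q zb)) (by
      have h1 := OrthSplit.finrank_inf_ker ⊤ (polarBilin Q v)
      have h2 := OrthSplit.finrank_inf_ker (LinearMap.ker (polarBilin Q v)) (polarBilin Q v')
      have h3 := OrthSplit.finrank_inf_ker
        (LinearMap.ker (polarBilin Q v) ⊓ LinearMap.ker (polarBilin Q v')) (polarBilin Q za)
      have h4 := OrthSplit.finrank_inf_ker
        (LinearMap.ker (polarBilin Q v) ⊓ LinearMap.ker (polarBilin Q v') ⊓ LinearMap.ker (polarBilin Q za))
        (polarBilin Q zb)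
      rw [top_inf_eq, finrank_top, Module.finrank_fintype_fun_eq_card] at h1
      omega)
  obtain ⟨⟨⟨huv, huv'⟩, huza⟩, huzb⟩ := hu
  simp only [SetLike.mem_coe, LinearMap.mem_ker] at huv huv' huza huzb
  have hout : u ∉ Submodule.span F {v, v'} := fun hm => by
    obtain ⟨a, b, rfl⟩ := Submodule.mem_span_pair.mp hm
    rw [map_add, map_smul, map_smul, hza, hza'', smul_eq_mul, smul_eq_mul, mul_one, mul_zero, add_zero] at huza
    rw [map_add, map_smul, map_smul, hzb'', hzb, smul_eq_mul, smul_eq_mul, mul_one, mul_zero, zero_add] at huzb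
    exact hu0 (by rw [huza, huzb, zero_smul, zero_smul, add_zero])
  obtain ⟨z, hz, hzu⟩ := Orth.exists_dual hN _ hout
  obtain ⟨w, hw, hqw, huw⟩ := Orth.exists_partner hN hqu
    (W := LinearMap.ker (polarBilin Q v) ⊓ LinearMap.ker (polarBilin Q v')) ⟨huv, huv'⟩ (z := z)
    ⟨(quad_polar_comm Q v z).trans (hz v (Submodule.subset_span (Set.mem_insert _ _))),
      (quad_polar_comm Q v' z).trans (hz v' (Submodule.subset_span (Set.mem_insert_of_mem _ rfl)))⟩
    (by rw [quad_polar_comm, hzu]; exact one_ne_zero)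
  obtain ⟨hwv, hwv'⟩ := hw
  simp only [SetLike.mem_coe, LinearMap.mem_ker] at hwv hwv'
  have houtw : w ∉ Submodule.span F {v, v'} := fun hm => by
    obtain ⟨a, b, rfl⟩ := Submodule.mem_span_pair.mp hm
    rw [map_add, map_smul, map_smul, quad_polar_comm Q u v, huv, quad_polar_comm Q u v', huv', smul_zero, smul_zero,
      add_zero] at huw
    exact zero_ne_one huw
  exact le_antisymm hMS (Orth.omega_le hN h7 (Orth.Root.all hN
    (hroot u hqu (by rw [quad_polar_comm]; exact huv) (by rw [quad_polar_comm]; exact huv') hout)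
    (hroot w hqw (by rw [quad_polar_comm]; exact hwv) (by rw [quad_polar_comm]; exact hwv') houtw)
    (by rw [huw]; exact one_ne_zero)))

/-- The stabiliser of a hyperbolic plane over a field of order two or three is not maximal. -/
theorem plane_not_maximal [Finite F] (hn : 13 ≤ Fintype.card ι) (hN : (polarBilin Q).Nondegenerate)
    (hq : Nat.card F ≤ 3) {W : Submodule F (ι → F)} (hdim : Module.finrank F W = 2)
    (hW : Cfsg.Geo.IsNondegenerateOn (polar ⇑Q) W) (hplus : Cfsg.Geo.IsPlusTypeOn ⇑Q W) :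
    ∃ K : Subgroup (GL ι F), Cfsg.Geo.subspaceStabilizer W ⊓ Cfsg.Geo.omegaGL ⇑Q < K ∧ K < Cfsg.Geo.omegaGL ⇑Q := by
  obtain ⟨U, hUW, hU, hUd⟩ := hplus
  obtain ⟨e, heU, he0⟩ := (Submodule.ne_bot_iff U).mp fun h => by
    rw [h, finrank_bot] at hUd
    omega
  obtain ⟨Y, S⟩ := exists_split hN hW
  have he := hUW heU
  have hqe : Q e = 0 := hU e heU
  obtain ⟨z, hz, hez⟩ := S.nd he he0
  obtain ⟨f, hf, hqf, hef⟩ := Orth.exists_partner hN hqe he hz hez
  have hee := Orth.polar_self_of_sing Q hqe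
  have hff := Orth.polar_self_of_sing Q hqf
  have hfe : polarBilin Q f e = 1 := by rw [quad_polar_comm, hef]
  have hli : LinearIndependent F ![e, f] := by
    rw [LinearIndependent.pair_iff]
    intro a b hab
    have h1 := congrArg (polarBilin Q e) hab
    have h2 := congrArg (polarBilin Q f) hab
    rw [map_add, map_smul, map_smul, hee, hef, map_zero, smul_zero, zero_add, smul_eq_mul, mul_one] at h1
    rw [map_add, map_smul, map_smul, hfe, hff, map_zero, smul_zero, add_zero, smul_eq_mul, mul_one] at h2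
    exact ⟨h2, h1⟩
  have hspan : Submodule.span F {e, f} = W := by
    refine Submodule.eq_of_le_of_finrank_eq (Submodule.span_le.mpr (Set.insert_subset_iff.mpr
      ⟨he, Set.singleton_subset_iff.mpr hf⟩)) ?_
    rw [hdim, show ({e, f} : Set (ι → F)) = Set.range ![e, f] by simp [Set.range_comp, Matrix.range_cons,
      Matrix.range_empty, Set.union_singleton, Set.pair_comm], finrank_span_eq_card hli, Fintype.card_fin]
  set v := e + f with hv
  have hqv : Q v = 1 := by rw [hv, quad_add, hqe, hqf, hef, zero_add, zero_add]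
  have hv0 : v ≠ 0 := fun h => one_ne_zero (α := F) (by rw [← hqv, h, map_zero])
  haveI := Fintype.ofFinite F
  have hsq : ∀ a : F, a ≠ 0 → a * a = 1 := by
    intro a ha
    have h1 := FiniteField.pow_card_sub_one_eq_one a ha
    rw [Nat.card_eq_fintype_card] at hq
    have h2 := Fintype.one_lt_card (α := F)
    interval_cases h3 : Fintype.card F
    · rw [pow_one] at h1; rw [h1, one_mul]
    · rwa [pow_two] at h1
  refine ⟨Cfsg.Geo.subspaceStabilizer (F ∙ v) ⊓ Cfsg.Geo.omegaGL ⇑Q, lt_of_le_of_ne ?_ ?_,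
    (line_stabiliser_maximal hn hN hv0).1⟩
  · rintro g ⟨hg, hgo⟩
    refine ⟨mem_stab_of_map fun x hx => ?_, hgo⟩
    obtain ⟨c, rfl⟩ := Submodule.mem_span_singleton.mp hx
    rw [Matrix.mulVec_smul]
    refine Submodule.smul_mem _ c ?_
    have h1 := (hg v).mp (W.add_mem he hf)
    change (g : Matrix ι ι F) *ᵥ v ∈ W at h1
    rw [← hspan] at h1
    obtain ⟨a, b, hab⟩ := Submodule.mem_span_pair.mp h1
    have h2 : a * b = 1 := by
      have := Orth.iso_quad (Orth.omegaGL_le_isometry hgo) v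
      rw [← hab, hqv, quad_add, quad_smul, quad_smul, hqe, hqf, map_smul, map_smul, LinearMap.smul_apply, hef] at this
      simpa [mul_comm] using this
    have ha : a ≠ 0 := left_ne_zero_of_mul_eq_one h2
    have hb : b = a := mul_left_cancel₀ ha (h2.trans (hsq a ha).symm)
    exact Submodule.mem_span_singleton.mpr ⟨a, by rw [← hab, hb, hv, smul_add]⟩
  · intro h
    have hY : 3 ≤ Module.finrank F Y := by have := S.finrank_add; omega
    obtain ⟨u, hu, hu0, hqu⟩ := Orth.exists_singular (Q := Q) Y hY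
    have hue : polarBilin Q u e = 0 := by rw [quad_polar_comm]; exact S.orth e he u hu
    have huf : polarBilin Q u f = 0 := by rw [quad_polar_comm]; exact S.orth f hf u hu
    have hux : polarBilin Q u (e - f) = 0 := by rw [map_sub, hue, huf, sub_zero]
    have hm : Orth.eichGL Q u (e - f) hqu hux ∈ Cfsg.Geo.subspaceStabilizer W ⊓ Cfsg.Geo.omegaGL ⇑Q := by
      rw [h]
      refine ⟨mem_stab_of_map fun x hx => ?_, Orth.eichGL_mem_omega hN (by omega) hqu hux⟩
      obtain ⟨c, rfl⟩ := Submodule.mem_span_singleton.mp hx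
      rw [Orth.eichGL_mulVec, map_smul, LinearMap.smul_apply, LinearMap.smul_apply, hv, map_add, LinearMap.add_apply,
        LinearMap.add_apply, map_sub, map_sub, quad_polar_comm Q e u, hue, quad_polar_comm Q f u, huf, hee, hef, hfe,
        hff]
      simpa using Submodule.smul_mem _ c (Submodule.mem_span_singleton_self (e + f))
    have h1 := (hm.1 e).mp he
    change (Orth.eichGL Q u (e - f) hqu hux : Matrix ι ι F) *ᵥ e ∈ W at h1
    rw [Orth.eichGL_mulVec, quad_polar_comm Q e u, hue, zero_smul, add_zero, mul_zero, add_zero, map_sub, hee, hef,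
      zero_sub, neg_smul, one_smul, sub_neg_eq_add, Submodule.add_mem_iff_right _ he] at h1
    exact hu0 (Submodule.disjoint_def.mp S.compl.disjoint u h1 hu)

end Cfsg.Agent.Lib.MaxSub.OrthSplit
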