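import Cfsg.Agent.Lib.MaxSub.OrthAny
import Mathlib

/-!
Invariant non-degenerate subspaces of given type for isometries of odd prime order, even dimension, any characteristic.
-/

set_option autoImplicit false
set_option maxHeartbeats 1000000
set_option linter.unusedSectionVars false

namespace Cfsg.Agent.Lib.MaxSub.OrthNdAny

open Module Polynomial Cfsg.Agent.Lib.MaxSub Cfsg.Agent.Lib.Geometry
open Cfsg.Agent.Lib.MaxSub.QuadType (Nd TS Plus perp Carries)
open Cfsg.Agent.Lib.MaxSub.IsoDecomp (step fixed moved mem_fixed moved_inv map_eq inf_inv sup_inv fixed_inv decompose)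
open Cfsg.Agent.Lib.MaxSub.OrthDecomp (typ fixer fixer_mem nd_parts orth)
open Cfsg.Agent.Lib.MaxSub.OrthNdSub (Sub Good sub_map)
open QuadraticMap (polarBilin)
open scoped _root_.Classical

attribute [-simp] QuadraticMap.polarBilin_apply_apply

variable {ι : Type} [Fintype ι] [DecidableEq ι] {F : Type*} [Field F] (Q : QuadraticForm F (ι → F))

theorem plus_bot : Plus Q (⊥ : Submodule F (ι → F)) :=
  ⟨⊥, le_rfl, fun u hu => by rw [(Submodule.mem_bot F).1 hu, QuadraticMap.map_zero], by rw [finrank_bot]⟩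

theorem plus_zero {S : Submodule F (ι → F)} (h : finrank F S = 0) : Plus Q S := by
  rw [Submodule.finrank_eq_zero.1 h]; exact plus_bot Q

variable [Fintype F] (hQ : (polarBilin Q).Nondegenerate)

include hQ in
/-- Hyperbolic subspaces of the same dimension are isometric. -/
theorem carries_plus : ∀ (h : ℕ) {W W' : Submodule F (ι → F)}, Nd Q W → Nd Q W' → finrank F W = 2 * h →
    finrank F W' = 2 * h → Plus Q W → Plus Q W' → ∃ φ, Carries Q φ W W' := by
  intro h
  induction h with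
  | zero =>
    intro W W' _ _ hd hd' _ _
    refine ⟨0, ?_, fun x hx => ?_⟩
    · rw [Submodule.map_zero, Submodule.finrank_eq_zero.1 hd']
    · rw [Submodule.finrank_eq_zero.1 hd] at hx
      simp [(Submodule.mem_bot F).1 hx]
  | succ h ih =>
    intro W W' hW hW' hd hd' hp hp'
    have hplane : ∀ {W : Submodule F (ι → F)}, Nd Q W → finrank F W = 2 * (h + 1) → Plus Q W →
        ∃ u z, Q u = 0 ∧ Q z = 0 ∧ polarBilin Q u z = 1 ∧ (F ∙ u) ⊔ (F ∙ z) ≤ W ∧ Nd Q ((F ∙ u) ⊔ (F ∙ z)) ∧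
          finrank F (W ⊓ perp Q ((F ∙ u) ⊔ (F ∙ z)) : Submodule F (ι → F)) = 2 * h ∧
          Plus Q (W ⊓ perp Q ((F ∙ u) ⊔ (F ∙ z))) := by
      intro W hW hd hp
      obtain ⟨T, hTW, hT, hTd⟩ := id hp
      obtain ⟨u, hu, hu0⟩ := (Submodule.ne_bot_iff T).1 fun e => by rw [e, finrank_bot] at hTd; omega
      obtain ⟨z, -, hQz, huz, hle, hH, hHd, hHp⟩ := QuadAny.exists_hyp Q hQ hW (hTW hu) hu0 (hT u hu)
      obtain ⟨hsup, hR, hRd⟩ := QuadType.split_off Q hW hH hle
      have h' := QuadAny.sup_iff Q hQ hH hR inf_le_right (hHd ▸ even_two) ⟨h, by omega⟩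
      rw [hsup] at h'
      exact ⟨u, z, hT u hu, hQz, huz, hle, hH, by omega, (h'.1 hp).1 hHp⟩
    obtain ⟨u, z, hQu, hQz, huz, hle, hH, hRd, hRp⟩ := hplane hW hd hp
    obtain ⟨u', z', hQu', hQz', huz', hle', hH', hRd', hRp'⟩ := hplane hW' hd' hp'
    let φ : (ι → F) →ₗ[F] (ι → F) := (polarBilin Q z).smulRight u' + (polarBilin Q u).smulRight z'
    have huu : polarBilin Q u u = 0 := by rw [quad_polar_self, hQu, mul_zero]
    have hzz : polarBilin Q z z = 0 := by rw [quad_polar_self, hQz, mul_zero]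
    have hzu : polarBilin Q z u = 1 := by rw [quad_polar_comm]; exact huz
    have eu : φ u = u' := by simp [φ, hzu, huu]
    have ez : φ z = z' := by simp [φ, hzz, huz]
    have hc : Carries Q φ ((F ∙ u) ⊔ (F ∙ z)) ((F ∙ u') ⊔ (F ∙ z')) := by
      refine ⟨by rw [Submodule.map_sup, Submodule.map_span, Submodule.map_span, Set.image_singleton,
        Set.image_singleton, eu, ez], fun x hx => ?_⟩
      obtain ⟨a, ha, b, hb, rfl⟩ := Submodule.mem_sup.1 hx
      obtain ⟨a, rfl⟩ := Submodule.mem_span_singleton.1 ha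
      obtain ⟨b, rfl⟩ := Submodule.mem_span_singleton.1 hb
      simp [map_add, eu, ez, quad_add, quad_smul, hQu, hQz, hQu', hQz', huz, huz']
    obtain ⟨hsup, hR, -⟩ := QuadType.split_off Q hW hH hle
    obtain ⟨hsup', hR', -⟩ := QuadType.split_off Q hW' hH' hle'
    obtain ⟨ψ, hψ⟩ := ih hR hR' hRd hRd' hRp hRp'
    rw [← hsup, ← hsup']
    exact QuadType.carries_sup Q hQ hH inf_le_right inf_le_right hc hψ

include hQ in
/-- Anisotropic planes are isometric in characteristic two. -/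
theorem carries_aniso (h2 : (2 : F) = 0) {E E' : Submodule F (ι → F)} (hE : Nd Q E) (hE' : Nd Q E')
    (hd : finrank F E = 2) (hd' : finrank F E' = 2) (ha : ∀ v ∈ E, Q v = 0 → v = 0) (ha' : ∀ v ∈ E', Q v = 0 → v = 0) :
    ∃ φ, Carries Q φ E E' := by
  haveI : CharP F 2 := CharTwo.of_one_ne_zero_of_two_eq_zero one_ne_zero h2
  have key : ∀ {E : Submodule F (ι → F)}, Nd Q E → finrank F E = 2 → (∀ v ∈ E, Q v = 0 → v = 0) →
      ∃ v ∈ E, ∃ w ∈ E, Q v = 1 ∧ polarBilin Q v w = 1 ∧ (∀ t : F, t * t + t ≠ Q w) ∧ (F ∙ v) ⊔ (F ∙ w) = E := by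
    intro E hE hd ha
    obtain ⟨x, hx, hx0⟩ := (Submodule.ne_bot_iff E).1 fun e => by rw [e, finrank_bot] at hd; omega
    obtain ⟨t, ht⟩ := isSquare_of_charTwo' (Q x)
    have hQx : Q x ≠ 0 := fun h => hx0 (ha x hx h)
    have ht0 : t ≠ 0 := fun e => hQx (by rw [ht, e, mul_zero])
    obtain ⟨v, hv, hQv⟩ : ∃ v ∈ E, Q v = 1 := ⟨t⁻¹ • x, E.smul_mem _ hx, by rw [quad_smul, ht]; field_simp⟩
    have hv0 : v ≠ 0 := fun e => by simp [e] at hQv
    obtain ⟨y, hy, hvy⟩ := hE v hv hv0
    obtain ⟨w, hw, hvw⟩ : ∃ w ∈ E, polarBilin Q v w = 1 :=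
      ⟨(polarBilin Q v y)⁻¹ • y, E.smul_mem _ hy, by rw [map_smul, smul_eq_mul, inv_mul_cancel₀ hvy]⟩
    refine ⟨v, hv, w, hw, hQv, hvw, fun s hs => ?_, ?_⟩
    · have h0 := ha (s • v + w) (E.add_mem (E.smul_mem _ hv) hw) (by
        rw [quad_add, quad_smul, map_smul, LinearMap.smul_apply, hvw, hQv, ← hs, smul_eq_mul]
        linear_combination (s * s + s) * h2)
      have h := congrArg (polarBilin Q v) h0
      rw [map_add, map_smul, hvw, quad_polar_self, hQv, map_zero, smul_eq_mul, h2, mul_one, mul_zero, zero_add] at h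
      exact one_ne_zero h
    · refine Submodule.eq_of_le_of_finrank_le (sup_le ((Submodule.span_singleton_le_iff_mem _ _).2 hv)
        ((Submodule.span_singleton_le_iff_mem _ _).2 hw)) ?_
      have hlt : (F ∙ v) < (F ∙ v) ⊔ (F ∙ w) := left_lt_sup.2 fun hle => by
        obtain ⟨c, hc⟩ := Submodule.mem_span_singleton.1 (hle (Submodule.mem_span_singleton_self w))
        rw [← hc, map_smul, quad_polar_self, h2, zero_mul, smul_zero] at hvw
        exact zero_ne_one hvw
      have := Submodule.finrank_lt_finrank_of_lt hlt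
      rw [finrank_span_singleton hv0] at this
      omega
  obtain ⟨v, hv, w, hw, hQv, hvw, hnw, hsp⟩ := key hE hd ha
  obtain ⟨v', hv', w₀, hw₀, hQv', hvw₀, hnw₀, hsp'⟩ := key hE' hd' ha'
  obtain ⟨s, hs⟩ : ∃ s : F, s * s + s = Q w + Q w₀ := by
    let f : F →+ F := AddMonoidHom.mk' (fun s => s * s + s) fun a b => by linear_combination (a * b) * h2
    have hidx : f.range.index = 2 := by
      have h1 := f.ker.card_mul_index
      rw [AddSubgroup.index_ker] at h1
      have h3 : Nat.card f.ker = 2 := by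
        rw [Nat.card_eq_two_iff]
        refine ⟨⟨0, f.map_zero⟩, ⟨1, show (1 : F) * 1 + 1 = 0 by linear_combination h2⟩,
          fun e => zero_ne_one (congrArg Subtype.val e), Set.eq_univ_of_forall fun ⟨a, ha⟩ => ?_⟩
        have h : a * (a + 1) = 0 := by
          have : a * a + a = 0 := ha
          linear_combination this
        rcases mul_eq_zero.1 h with h | h
        · exact Or.inl (Subtype.ext h)
        · exact Or.inr (Subtype.ext (show a = 1 by linear_combination h - h2))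
      have h4 := f.range.card_mul_index
      rw [h3] at h1
      have hpos : 0 < Nat.card f.range := Nat.card_pos
      nlinarith
    exact (AddSubgroup.add_mem_iff_of_index_two hidx).2
      (iff_of_false (fun ⟨t, ht⟩ => hnw t ht) fun ⟨t, ht⟩ => hnw₀ t ht)
  set w' := w₀ + s • v' with hw'
  have hQw' : Q w' = Q w := by
    rw [hw', quad_add, quad_smul, map_smul, quad_polar_comm Q w₀ v', hvw₀, hQv', smul_eq_mul]
    linear_combination hs + (Q w₀) * h2
  have hvw' : polarBilin Q v' w' = 1 := by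
    rw [hw', map_add, hvw₀, map_smul, quad_polar_self, h2, zero_mul, smul_zero, add_zero]
  have hspw : (F ∙ v') ⊔ (F ∙ w') = E' := by
    rw [← hsp']
    refine le_antisymm (sup_le le_sup_left ((Submodule.span_singleton_le_iff_mem _ _).2 ?_))
      (sup_le le_sup_left ((Submodule.span_singleton_le_iff_mem _ _).2 ?_))
    · exact Submodule.add_mem _ (Submodule.mem_sup_right (Submodule.mem_span_singleton_self _))
        (Submodule.smul_mem _ _ (Submodule.mem_sup_left (Submodule.mem_span_singleton_self _)))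
    · rw [show w₀ = w' + (-s) • v' by rw [hw', neg_smul, add_neg_cancel_right]]
      exact Submodule.add_mem _ (Submodule.mem_sup_right (Submodule.mem_span_singleton_self _))
        (Submodule.smul_mem _ _ (Submodule.mem_sup_left (Submodule.mem_span_singleton_self _)))
  let φ : (ι → F) →ₗ[F] (ι → F) := (polarBilin Q w).smulRight v' + (polarBilin Q v).smulRight w'
  have hvv : polarBilin Q v v = 0 := by rw [quad_polar_self, h2, zero_mul]
  have hww : polarBilin Q w w = 0 := by rw [quad_polar_self, h2, zero_mul]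
  have hwv : polarBilin Q w v = 1 := by rw [quad_polar_comm]; exact hvw
  have ev : φ v = v' := by simp [φ, hwv, hvv]
  have ew : φ w = w' := by simp [φ, hww, hvw]
  refine ⟨φ, by rw [← hsp, ← hspw, Submodule.map_sup, Submodule.map_span, Submodule.map_span, Set.image_singleton,
    Set.image_singleton, ev, ew], fun x hx => ?_⟩
  obtain ⟨a, ha, b, hb, rfl⟩ := Submodule.mem_sup.1 (hsp.symm ▸ hx : x ∈ (F ∙ v) ⊔ (F ∙ w))
  obtain ⟨a, rfl⟩ := Submodule.mem_span_singleton.1 ha
  obtain ⟨b, rfl⟩ := Submodule.mem_span_singleton.1 hb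
  simp [map_add, ev, ew, quad_add, quad_smul, hQv, hQv', hQw', hvw, hvw']

include hQ in
/-- Subspaces of the same dimension and type are isometric. -/
theorem exists_carries (h : ℕ) {W W' : Submodule F (ι → F)} (hW : Nd Q W) (hW' : Nd Q W') (hd : finrank F W = 2 * h)
    (hd' : finrank F W' = 2 * h) (hiff : Plus Q W ↔ Plus Q W') : ∃ φ, Carries Q φ W W' := by
  by_cases h2 : (2 : F) = 0
  swap
  · exact QuadType.exists_carries Q hQ h2 h hW hW' hd hd' hiff
  by_cases hp : Plus Q W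
  · exact carries_plus Q hQ h hW hW' hd hd' hp (hiff.1 hp)
  obtain ⟨P, E, hP, hPp, hE, hEd, hEa, hEP, hsup, hPd⟩ := QuadAny.decomp Q hQ _ rfl hW (hd ▸ even_two_mul h) hp
  obtain ⟨P', E', hP', hPp', hE', hEd', hEa', hEP', hsup', hPd'⟩ :=
    QuadAny.decomp Q hQ _ rfl hW' (hd' ▸ even_two_mul h) (fun e => hp (hiff.2 e))
  obtain ⟨φ, hφ⟩ := carries_plus Q hQ (h - 1) hP hP' (by omega) (by omega) hPp hPp'
  obtain ⟨ψ, hψ⟩ := carries_aniso Q hQ h2 hE hE' hEd hEd' hEa hEa'
  rw [← hsup, ← hsup']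
  exact QuadType.carries_sup Q hQ hP hEP hEP' hφ hψ

variable {p : ℕ} [Fact p.Prime] [CharP F p] {r : ℕ} [hr : Fact r.Prime]

include hQ in
/-- Groups on small spaces have no elements of order `r`. -/
theorem fixer_small {i : ℕ} (hrp : r ≠ p) (hi : orderOf ((Fintype.card F : ℕ) : ZMod r) = i) (hr2 : r ≠ 2)
    {W : Submodule F (ι → F)} (hW : Nd Q W) (hsmall : finrank F W < step i) (y : fixer Q W) : orderOf y ≠ r := by
  intro hy
  have hr0 : (r : F) ≠ 0 := PrimeElemFlags.cast_ne_zero hrp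
  let X : End F (ι → F) := (((y : quadIsometries Q) : (ι → F) ≃ₗ[F] (ι → F)) : (ι → F) →ₗ[F] (ι → F))
  have hpow : ∀ j : ℕ, X ^ j = ((((y ^ j : fixer Q W) : quadIsometries Q) : (ι → F) ≃ₗ[F] (ι → F)) : (ι → F) →ₗ[F] (ι → F)) := fun j => by
    induction j with
    | zero => rfl
    | succ j ih => rw [pow_succ, pow_succ, ih]; rfl
  have hX : X ^ r = 1 := by rw [hpow, ← hy, pow_orderOf_eq_one]; rfl
  have hiso : ∀ v, Q (X v) = Q v := (y : quadIsometries Q).2
  obtain ⟨-, -, hn, -⟩ := QuadType.compl_perp Q hQ hW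
  have hle : perp Q W ≤ fixed X := fun b hb => mem_fixed.2 (y.2 b hb)
  have hsum := (decompose hr0 hX (U := (⊤ : Submodule F (ι → F))) le_top).2
  rw [top_inf_eq, top_inf_eq, finrank_top] at hsum
  have hM := nd_parts Q hr0 hX hiso (QuadType.nd_top Q hQ) (le_top : (⊤ : Submodule F (ι → F)).map X ≤ ⊤)
  rw [top_inf_eq, top_inf_eq] at hM
  obtain ⟨s, hs, -, -⟩ := OrthAny.exists_sub Q hQ hrp hr2 hi hX hiso _ rfl hM.2 moved_inv le_rfl
  have := Submodule.finrank_mono hle
  rcases s with _ | s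
  · rw [mul_zero] at hs
    have htop : fixed X = ⊤ := Submodule.eq_top_of_finrank_eq (by omega)
    have h1 : y = 1 := Subtype.ext (Subtype.ext (LinearEquiv.ext fun v =>
      mem_fixed.1 (htop.symm ▸ Submodule.mem_top : v ∈ fixed X)))
    rw [h1, orderOf_one] at hy
    exact hr.out.one_lt.ne hy
  · rw [Nat.mul_succ] at hs; omega

include hQ in
/-- Existence of an invariant subspace in terms of the number of moved pieces. -/
theorem good_iff {i d m e : ℕ} {pl : Prop} (hrp : r ≠ p) (hr2 : r ≠ 2)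
    (hi : orderOf ((Fintype.card F : ℕ) : ZMod r) = i) (hn : Fintype.card ι = 2 * d) (hme : Even m)
    {X : End F (ι → F)} (hX : X ^ r = 1) (hiso : ∀ v, Q (X v) = Q v) (he : finrank F (moved X r) = step i * e) :
    Good Q m pl X ↔ ∃ j ≤ e, step i * j ≤ m ∧ m + step i * e ≤ 2 * d + step i * j ∧ (m = step i * j → (typ i j ↔ pl)) ∧
      (m + step i * e = 2 * d + step i * j → ((typ i j ↔ pl) ↔ (Plus Q ⊤ ↔ typ i e))) := by
  have hr0 : (r : F) ≠ 0 := PrimeElemFlags.cast_ne_zero hrp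
  obtain ⟨hF, hM, e', he', hfe, hfev, hFp⟩ := OrthAny.parts Q hQ hrp hr2 hi hX hiso hn
  obtain ⟨hc0, hce⟩ := OrthNdSub.step_pos (F := F) hi hrp
  obtain rfl : e = e' := Nat.eq_of_mul_eq_mul_left hc0 (he.symm.trans he')
  constructor
  · rintro ⟨W, ⟨hWd, hW, hWp⟩, hWi⟩
    obtain ⟨hsup, hdim⟩ := decompose hr0 hX hWi
    obtain ⟨hA, hB⟩ := nd_parts Q hr0 hX hiso hW hWi
    obtain ⟨s, hs, hst, -⟩ := OrthAny.exists_sub Q hQ hrp hr2 hi hX hiso _ rfl hB (inf_inv hWi moved_inv) inf_le_right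
    have h1 := Submodule.finrank_mono (inf_le_right : W ⊓ fixed X ≤ fixed X)
    have h3 := Submodule.finrank_mono (inf_le_right : W ⊓ moved X r ≤ moved X r)
    obtain ⟨a, ha⟩ := hce.mul_right s
    obtain ⟨b, hb⟩ := id hme
    have hsi := QuadAny.sup_iff Q hQ hA hB (fun v hv w hw => orth Q hr0 hiso hw.2 hv.2) ⟨b - a, by omega⟩ ⟨a, by omega⟩
    rw [hsup, hWp, hst] at hsi
    refine ⟨s, Nat.le_of_mul_le_mul_left (by omega) hc0, by omega, by omega, fun hms => ?_, fun hms => ?_⟩
    · have h5 := plus_zero Q (S := W ⊓ fixed X) (by omega)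
      by_cases h6 : pl <;> by_cases h7 : typ i s <;> simp_all
    · have hAF : W ⊓ fixed X = fixed X := Submodule.eq_of_le_of_finrank_le inf_le_right (by omega)
      rw [hAF, hFp] at hsi
      by_cases h6 : pl <;> by_cases h7 : typ i s <;> by_cases h8 : typ i e <;> by_cases h9 : Plus Q ⊤ <;> simp_all
  · rintro ⟨j, hje, hj1, hj2, hj3, hj4⟩
    obtain ⟨s, hs, -, hsub⟩ := OrthAny.exists_sub Q hQ hrp hr2 hi hX hiso _ rfl hM moved_inv le_rfl
    obtain rfl : s = e := Nat.eq_of_mul_eq_mul_left hc0 (hs.symm.trans he)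
    obtain ⟨L, hLM, hL, hLi, hLd⟩ := hsub j hje
    obtain ⟨s', hs', hLt, -⟩ := OrthAny.exists_sub Q hQ hrp hr2 hi hX hiso _ rfl hL hLi hLM
    obtain rfl : j = s' := Nat.eq_of_mul_eq_mul_left hc0 (hLd.symm.trans hs')
    obtain ⟨a, ha⟩ := hce.mul_right j
    obtain ⟨b, hb⟩ := id hme
    obtain ⟨A, hAF, hA, hAd, hAp⟩ : ∃ A ≤ fixed X, Nd Q A ∧ finrank F A = 2 * (b - a) ∧ (Plus Q A ↔ (typ i j ↔ pl)) := by
      by_cases h0 : b - a = 0
      · exact ⟨⊥, bot_le, QuadType.nd_bot Q, by rw [finrank_bot, h0], iff_of_true (plus_bot Q) (hj3 (by omega))⟩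
      by_cases h1 : 2 * (b - a) = finrank F (fixed X)
      · exact ⟨_, le_rfl, hF, h1.symm, hFp.trans (hj4 (by omega)).symm⟩
      obtain ⟨g, hg⟩ := id hfev
      exact QuadAny.exists_type Q hQ (b - a) hF (by omega) hfev _ (fun h => absurd h h0)
    have hperp : L ≤ perp Q A := fun v hv w hw => orth Q hr0 hiso (hAF hw) (hLM hv)
    obtain ⟨g1, g2⟩ := QuadType.nd_sup Q hA hL hperp
    refine ⟨A ⊔ L, ⟨by omega, g1, ?_⟩, sup_inv (fixed_inv hAF) hLi⟩
    rw [QuadAny.sup_iff Q hQ hA hL hperp (hAd ▸ even_two_mul _) (hLd ▸ hce.mul_right j), hAp, hLt]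
    by_cases h1 : typ i j <;> simp [h1]

include hQ in
/-- The number of subspaces is prime to `r` if some lies in the fixed space of a maximal element but none moved fits. -/
theorem not_dvd {i m : ℕ} {pl : Prop} (hrp : r ≠ p) (hr2 : r ≠ 2)
    (hi : orderOf ((Fintype.card F : ℕ) : ZMod r) = i) (hme : Even m)
    {X : End F (ι → F)} (hX : X ^ r = 1) (hiso : ∀ v, Q (X v) = Q v) (hF : Nd Q (fixed X))
    (hfc : finrank F (fixed X) < step i) (hmc : m < step i)
    {A : Submodule F (ι → F)} (hA : Sub Q m pl A) (hAF : A ≤ fixed X) : ¬ r ∣ Nat.card {W // Sub Q m pl W} := by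
  intro hdiv
  have hr0 : (r : F) ≠ 0 := PrimeElemFlags.cast_ne_zero hrp
  haveI : Finite (Submodule F (ι → F)) := Finite.of_injective (fun W => (W : Set (ι → F))) SetLike.coe_injective
  haveI := Fintype.ofFinite {W // Sub Q m pl W}
  have hXi : Function.Injective X := IsoDecomp.inj hX hr.out.pos
  let φ : Function.End {W // Sub Q m pl W} := fun W => ⟨W.1.map X, sub_map Q hXi hiso W.2⟩
  have hφ : ∀ (j : ℕ) (W : {W // Sub Q m pl W}), ((φ ^ j) W).1 = W.1.map (X ^ j) := fun j => by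
    induction j with
    | zero => intro W; exact (Submodule.map_id _).symm
    | succ j ih =>
      intro W
      rw [pow_succ' X, End.mul_eq_comp, Submodule.map_comp, ← ih W, pow_succ' φ]
      rfl
  have hφr : φ ^ r ^ 1 = 1 := by
    funext W
    apply Subtype.ext
    rw [hφ, pow_one, hX]
    exact Submodule.map_id _
  have h := Equiv.Perm.card_fixedPoints_modEq hφr
  have hle : ∀ W, Sub Q m pl W → W.map X ≤ W → W ≤ fixed X := fun W hW hWi => by
    obtain ⟨hsup, hdim⟩ := decompose hr0 hX hWi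
    obtain ⟨-, hB⟩ := nd_parts Q hr0 hX hiso hW.2.1 hWi
    obtain ⟨s, hs, -, -⟩ := OrthAny.exists_sub Q hQ hrp hr2 hi hX hiso _ rfl hB (inf_inv hWi moved_inv) inf_le_right
    have hs0 : s = 0 := by
      rcases s with _ | s
      · rfl
      · rw [Nat.mul_succ] at hs; have := hW.1; omega
    rw [hs0, mul_zero] at hs
    rw [Submodule.finrank_eq_zero.1 hs, sup_bot_eq] at hsup
    rw [← hsup]; exact inf_le_right
  let α := {W // Sub Q m pl W ∧ W ≤ fixed X}
  let e : Function.fixedPoints φ ≃ α :=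
    { toFun := fun W => ⟨W.1.1, W.1.2, hle _ W.1.2 (congrArg Subtype.val W.2).le⟩
      invFun := fun W => ⟨⟨W.1, W.2.1⟩, Subtype.ext (map_eq hX hr.out.pos (fixed_inv W.2.2))⟩
      left_inv := fun _ => rfl
      right_inv := fun _ => rfl }
  have hd' : r ∣ Fintype.card {W // Sub Q m pl W} := by rw [← Nat.card_eq_fintype_card]; exact hdiv
  have hα : r ∣ Nat.card α := by
    rw [← Nat.card_congr e, Nat.card_eq_fintype_card]
    exact Nat.modEq_zero_iff_dvd.1 (h.symm.trans (Nat.modEq_zero_iff_dvd.2 hd'))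
  obtain ⟨h', rfl⟩ := hme
  haveI : Nonempty α := ⟨⟨A, hA, hAF⟩⟩
  haveI : Finite ((ι → F) ≃ₗ[F] (ι → F)) := Finite.of_injective (fun g => (g : (ι → F) → (ι → F))) DFunLike.coe_injective
  let lin : fixer Q (fixed X) → End F (ι → F) := fun g => (((g : quadIsometries Q) : (ι → F) ≃ₗ[F] (ι → F)) : (ι → F) →ₗ[F] (ι → F))
  let act : fixer Q (fixed X) → α → α := fun g W => ⟨W.1.map (lin g),
    sub_map Q ((g : quadIsometries Q) : (ι → F) ≃ₗ[F] (ι → F)).injective (g : quadIsometries Q).2 W.2.1, by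
      rintro _ ⟨w, hw, rfl⟩
      exact fixer_mem Q hQ hF g.2 (W.2.2 hw)⟩
  obtain ⟨y, hy⟩ := QuadCount.exists_prime_order act (fun W => Subtype.ext (Submodule.map_id _))
    (fun g k W => Subtype.ext (Submodule.map_comp (lin k) (lin g) W.1)) (fun W W' => by
      obtain ⟨χ, hχ⟩ := exists_carries Q hQ h' W.2.1.2.1 W'.2.1.2.1 (by rw [W.2.1.1]; omega)
        (by rw [W'.2.1.1]; omega) (W.2.1.2.2.trans W'.2.1.2.2.symm)
      obtain ⟨g, hg1, hg2⟩ := QuadType.witt_on Q hQ hF W.2.2 χ
        (fun a ha => W'.2.2 (hχ.1 ▸ Submodule.mem_map_of_mem ha)) (QuadType.carries_inj Q W.2.1.2.1 hχ) hχ.2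
      refine ⟨⟨g, hg2⟩, Subtype.ext ?_⟩
      show W.1.map (lin ⟨g, hg2⟩) = W'.1
      rw [← hχ.1]
      exact SetLike.coe_injective (Set.image_congr fun a ha => hg1 a ha)) hα
  exact fixer_small Q hQ hrp hi hr2 hF hfc y hy

/-- The criterion for odd primes. -/
def Cond (i d m : ℕ) (P pl : Prop) : Prop :=
  (2 * d % step i = 0 ∧ (¬ (P ↔ typ i (2 * d / step i)) ∨ (m % step i = 0 ∧ (typ i (m / step i) ↔ pl)))) ∨
  (0 < 2 * d % step i ∧ step i ≤ m ∧ ((0 < m % step i ∧ m % step i < 2 * d % step i) ∨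
    (m % step i = 0 ∧ (typ i (m / step i) ↔ pl)) ∨
    (m % step i = 2 * d % step i ∧ ((typ i (m / step i) ↔ pl) ↔ (P ↔ typ i (2 * d / step i))))))

theorem typ_succ (i e : ℕ) : typ i (e + 1) ↔ (Odd i ∨ ¬ typ i e) := by
  unfold typ
  rcases Nat.even_or_odd i with h | h
  · simp [Nat.not_odd_iff_even.2 h, Nat.even_add_one]
  · simp [h]

include hQ in
theorem good_of_cond {i d m : ℕ} {pl : Prop} (hrp : r ≠ p) (hr2 : r ≠ 2)
    (hi : orderOf ((Fintype.card F : ℕ) : ZMod r) = i) (hn : Fintype.card ι = 2 * d) (hme : Even m) (hm0 : m ≠ 0)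
    (hmd : m < 2 * d) (hC : Cond i d m (Plus Q ⊤) pl) {X : End F (ι → F)} (hX : X ^ r = 1) (hiso : ∀ v, Q (X v) = Q v) :
    Good Q m pl X := by
  obtain ⟨-, -, e, he, hfe, -, hFp⟩ := OrthAny.parts Q hQ hrp hr2 hi hX hiso hn
  rw [good_iff Q hQ hrp hr2 hi hn hme hX hiso he]
  obtain ⟨hc0, -⟩ := OrthNdSub.step_pos (F := F) hi hrp
  unfold Cond at hC
  have hdm := Nat.div_add_mod m (step i)
  have hdn := Nat.div_add_mod (2 * d) (step i)
  have hlc := Nat.mod_lt m hc0
  have hkc := Nat.mod_lt (2 * d) hc0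
  have heN : e ≤ 2 * d / step i := (Nat.le_div_iff_mul_le hc0).2 (by rw [mul_comm]; omega)
  generalize hcdef : step i = c at hC hdm hdn hlc hkc heN hc0 he hfe ⊢
  generalize m / c = M at hC hdm
  generalize m % c = l at hC hdm hlc
  generalize 2 * d / c = N at hC hdn heN
  generalize 2 * d % c = k at hC hdn hkc
  have hfix0 : finrank F (fixed X) = 0 → (Plus Q ⊤ ↔ typ i e) := fun h => hFp.1 (plus_zero Q h)
  rcases lt_trichotomy e M with hlt | heq | hgt
  · have h1 : c * e + c ≤ c * M := by rw [← Nat.mul_succ]; exact Nat.mul_le_mul_left c hlt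
    exact ⟨e, le_rfl, by omega, by omega, fun h => by omega, fun h => by omega⟩
  · subst e
    by_cases ht : (typ i M ↔ pl) ∨ 0 < l
    · refine ⟨M, le_rfl, by omega, by omega, fun h => ?_, fun h => by omega⟩
      exact ht.resolve_right (by omega)
    · rw [not_or, Nat.pos_iff_ne_zero, not_not] at ht
      obtain ⟨ht, hl⟩ := ht
      obtain ⟨hk, hN⟩ : k = 0 ∧ ¬ (Plus Q ⊤ ↔ typ i N) := by
        rcases hC with ⟨h1, h2 | h2⟩ | ⟨h1, -, h2 | h2 | h2⟩
        · exact ⟨h1, h2⟩
        · exact absurd h2.2 ht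
        · omega
        · exact absurd h2.2 ht
        · omega
      obtain ⟨M', hM'⟩ : ∃ M', M = M' + 1 := ⟨M - 1, by
        have : M ≠ 0 := fun h0 => by rw [h0, mul_zero] at hdm; omega
        omega⟩
      have hMN : M < N := Nat.lt_of_mul_lt_mul_left (a := c) (by omega)
      have h1 : c * M + c ≤ c * N := by rw [← Nat.mul_succ]; exact Nat.mul_le_mul_left c hMN
      have h2 : c * M = c * M' + c := by rw [hM', Nat.mul_succ]
      refine ⟨M', by omega, by omega, by omega, fun h => by omega, fun h => ?_⟩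
      have hN' : N = M + 1 := Nat.eq_of_mul_eq_mul_left hc0 (by rw [Nat.mul_succ]; omega)
      rw [hN', typ_succ i M] at hN
      rw [hM', typ_succ i M'] at ht hN
      rw [hM', typ_succ i M']
      by_cases ho : Odd i
      · have h3 : ∀ s, typ i s := fun s => Or.inl ho
        simp only [ho, true_or, h3] at ht hN ⊢
        tauto
      · simp only [ho, false_or] at ht hN ⊢
        by_cases h6 : pl <;> by_cases h7 : typ i M' <;> by_cases h8 : Plus Q ⊤ <;> simp_all
  · have h1 : c * M + c ≤ c * e := by rw [← Nat.mul_succ]; exact Nat.mul_le_mul_left c hgt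
    by_cases hl : 0 < l
    · refine ⟨M, hgt.le, by omega, ?_, fun h => by omega, fun h => ?_⟩
      · rcases lt_or_eq_of_le heN with h | rfl
        · have : c * e + c ≤ c * N := by rw [← Nat.mul_succ]; exact Nat.mul_le_mul_left c h
          omega
        · rcases hC with ⟨hk, h2 | h2⟩ | ⟨-, -, h2 | h2 | h2⟩
          · exact absurd (hfix0 (by omega)) h2
          all_goals omega
      · rcases lt_or_eq_of_le heN with h' | rfl
        · have : c * e + c ≤ c * N := by rw [← Nat.mul_succ]; exact Nat.mul_le_mul_left c h'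
          omega
        · rcases hC with ⟨hk, h2 | h2⟩ | ⟨-, -, h2 | h2 | h2⟩
          · exact absurd (hfix0 (by omega)) h2
          · omega
          · omega
          · omega
          · exact h2.2
    · have hl0 : l = 0 := by omega
      by_cases ht : typ i M ↔ pl
      · have hce : c * e ≤ c * N := Nat.mul_le_mul_left c heN
        refine ⟨M, hgt.le, by omega, by omega, fun _ => ht, fun h => ?_⟩
        exact iff_of_true ht (hfix0 (by omega))
      · obtain ⟨hk, hN⟩ : k = 0 ∧ ¬ (Plus Q ⊤ ↔ typ i N) := by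
          rcases hC with ⟨h1, h2 | h2⟩ | ⟨h1, -, h2 | h2 | h2⟩
          · exact ⟨h1, h2⟩
          · exact absurd h2.2 ht
          · omega
          · exact absurd h2.2 ht
          · omega
        obtain ⟨M', hM'⟩ : ∃ M', M = M' + 1 := ⟨M - 1, by
          have : M ≠ 0 := fun h0 => by rw [h0, mul_zero] at hdm; omega
          omega⟩
        have h2 : c * M = c * M' + c := by rw [hM', Nat.mul_succ]
        have hne : e ≠ N := fun h => hN (h ▸ hfix0 (by rw [h] at hfe; omega))
        have h3 : c * e + c ≤ c * N := by rw [← Nat.mul_succ]; exact Nat.mul_le_mul_left c (by omega : e < N)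
        refine ⟨M', by omega, by omega, by omega, fun h => by omega, fun h => ?_⟩
        have hN' : N = e + 1 := Nat.eq_of_mul_eq_mul_left hc0 (by rw [Nat.mul_succ]; omega)
        rw [hN', typ_succ i e] at hN
        rw [hM', typ_succ i M'] at ht
        by_cases ho : Odd i
        · have h5 : ∀ s, typ i s := fun s => Or.inl ho
          simp only [ho, true_or, h5] at ht hN ⊢
          tauto
        · simp only [ho, false_or] at ht hN ⊢
          by_cases h6 : pl <;> by_cases h7 : typ i M' <;> by_cases h8 : Plus Q ⊤ <;> by_cases h9 : typ i e <;> simp_all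

include hQ in
theorem cond_of_all {i d m : ℕ} {pl : Prop} (hrp : r ≠ p) (hr2 : r ≠ 2)
    (hi : orderOf ((Fintype.card F : ℕ) : ZMod r) = i) (hn : Fintype.card ι = 2 * d) (hme : Even m)
    (hdiv : r ∣ Nat.card {W // Sub Q m pl W})
    (h : ∀ X : End F (ι → F), X ^ r = 1 → (∀ v, Q (X v) = Q v) → Good Q m pl X) : Cond i d m (Plus Q ⊤) pl := by
  obtain ⟨hc0, -⟩ := OrthNdSub.step_pos (F := F) hi hrp
  obtain ⟨X, hX, hiso, hmax⟩ := OrthAny.exists_max Q hQ hrp hr2 hi hn
  obtain ⟨hF, -, e, he, hfe, -, hFp⟩ := OrthAny.parts Q hQ hrp hr2 hi hX hiso hn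
  have hg := h X hX hiso
  unfold Cond
  rcases hmax with hlt | ⟨hfc, htyp⟩
  · have hk : 2 * d % step i = finrank F (fixed X) := by
      rw [← hfe, Nat.add_mul_mod_self_left, Nat.mod_eq_of_lt hlt]
    have hN : 2 * d / step i = e := Nat.eq_of_mul_eq_mul_left hc0 (by
      have := Nat.div_add_mod (2 * d) (step i); omega)
    obtain ⟨W, hW, hWi⟩ := id hg
    obtain ⟨j, hje, hj1, hj2, hj3, hj4⟩ := (good_iff Q hQ hrp hr2 hi hn hme hX hiso he).1 hg
    have hM : m / step i = j :=
      Nat.div_eq_of_lt_le (by rw [mul_comm]; exact hj1) (by rw [mul_comm, Nat.mul_succ]; omega)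
    have hl := Nat.div_add_mod m (step i)
    rw [hM] at hl
    rw [hN, hk, hM]
    rcases Nat.eq_zero_or_pos (finrank F (fixed X)) with hf | hf
    · exact Or.inl ⟨hf, Or.inr ⟨by omega, hj3 (by omega)⟩⟩
    refine Or.inr ⟨hf, ?_, ?_⟩
    · by_contra hmc
      rw [not_le] at hmc
      refine not_dvd Q hQ hrp hr2 hi hme hX hiso hF hlt hmc hW ?_ hdiv
      obtain ⟨hsup, -⟩ := decompose (PrimeElemFlags.cast_ne_zero hrp) hX hWi
      obtain ⟨-, hB⟩ := nd_parts Q (PrimeElemFlags.cast_ne_zero hrp) hX hiso hW.2.1 hWi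
      obtain ⟨s, hs, -, -⟩ := OrthAny.exists_sub Q hQ hrp hr2 hi hX hiso _ rfl hB (inf_inv hWi moved_inv) inf_le_right
      have hs0 : s = 0 := by
        have := Submodule.finrank_mono (inf_le_left : W ⊓ moved X r ≤ W)
        rcases s with _ | s
        · rfl
        · rw [Nat.mul_succ] at hs; have := hW.1; omega
      rw [hs0, mul_zero] at hs
      rw [Submodule.finrank_eq_zero.1 hs, sup_bot_eq] at hsup
      rw [← hsup]; exact inf_le_right
    · rcases Nat.eq_zero_or_pos (m % step i) with hl0 | hlpos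
      · exact Or.inr (Or.inl ⟨hl0, hj3 (by omega)⟩)
      rcases lt_or_eq_of_le (show m % step i ≤ finrank F (fixed X) by omega) with h1 | h1
      · exact Or.inl ⟨hlpos, h1⟩
      · exact Or.inr (Or.inr ⟨h1, hj4 (by omega)⟩)
  · have hk : 2 * d % step i = 0 := by rw [← hfe, hfc, Nat.add_mul_mod_self_left, Nat.mod_self]
    have hN : 2 * d / step i = e + 1 := Nat.eq_of_mul_eq_mul_left hc0 (by
      have := Nat.div_add_mod (2 * d) (step i); rw [Nat.mul_succ]; omega)
    refine Or.inl ⟨hk, Or.inl ?_⟩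
    rw [hN, typ_succ]
    rw [hFp] at htyp
    by_cases ho : Odd i
    · have h3 : typ i e := Or.inl ho
      simp only [ho, h3, true_or, iff_true] at htyp ⊢
      exact htyp
    · simp only [ho, false_or, iff_false, not_not] at htyp ⊢
      tauto

end Cfsg.Agent.Lib.MaxSub.OrthNdAny
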