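import Cfsg.Agent.Lib.MaxSub.OrthNdTwo
import Mathlib

/-!
Elements of prime order modulo scalars and invariant non-degenerate subspaces of given type, even dimension.
-/

set_option autoImplicit false
set_option maxHeartbeats 1000000
set_option linter.unusedSectionVars false

namespace Cfsg.Agent.Lib.MaxSub.OrthNdAnyMain

open Module Polynomial Cfsg.Agent.Lib.MaxSub Cfsg.Agent.Lib.Geometry
open Cfsg.Agent.Lib.MaxSub.QuadType (Nd TS Plus perp)
open Cfsg.Agent.Lib.MaxSub.OrthNdSub (Sub Good)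
open QuadraticMap (polarBilin)
open scoped _root_.Classical

attribute [-simp] QuadraticMap.polarBilin_apply_apply

variable {ι : Type} [Fintype ι] [DecidableEq ι] {F : Type*} [Field F] [Fintype F] (Q : QuadraticForm F (ι → F))

/-- All elements of order `r` modulo scalars fix a subspace of the given kind. -/
def All (r m : ℕ) (pl : Prop) : Prop :=
  ∀ x : GL ι F, x ∈ Cfsg.Geo.omegaGL (⇑Q) →
    (∃ z : F, ((x ^ r : GL ι F) : Matrix ι ι F) = z • (1 : Matrix ι ι F)) →
    (∀ z : F, (x : Matrix ι ι F) ≠ z • (1 : Matrix ι ι F)) → Good Q m pl (Matrix.toLin' (x : Matrix ι ι F))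

variable {p : ℕ} [Fact p.Prime] [CharP F p] {d m : ℕ} {pl : Prop}

/-- The prime two, odd characteristic. -/
theorem main_two (hQ : (polarBilin Q).Nondegenerate) (h2 : (2 : F) ≠ 0) (hn : Fintype.card ι = 2 * d) (hd : 4 ≤ d)
    (hme : Even m) (hm0 : m ≠ 0) (hmd : m + 2 ≤ 2 * d) :
    All Q 2 m pl ↔ OrthNdTwo.Cond (Fintype.card F) d m (Plus Q ⊤) pl := by
  have hn2 : 2 ≤ Fintype.card ι := by omega
  obtain ⟨v₀, hv₀⟩ := exists_quad_ne_zero_of_nondeg Q hQ (by rw [Module.finrank_fintype_fun_eq_card]; omega)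
  constructor
  · intro h
    by_contra hC
    obtain ⟨g, z, hgd, hgs, hgg, hns, hgW⟩ := OrthNdTwo.bad_two Q hQ h2 (m := m) (pl := pl) hn hd hC
    have happ : ∀ v, Matrix.toLin' (((isometryEquiv Q).symm g).1 : Matrix ι ι F) v = (g : (ι → F) ≃ₗ[F] (ι → F)) v := fun v => by
      rw [Matrix.toLin'_apply, ← isometryEquiv_apply, MulEquiv.apply_symm_apply]
    have hx : ((isometryEquiv Q).symm g).1 ∈ Cfsg.Geo.omegaGL (⇑Q) :=
      ⟨_, (mem_Omega_iff Q hQ h2 hn2 _).2
        ⟨by rw [MulEquiv.apply_symm_apply]; exact hgd, by rw [MulEquiv.apply_symm_apply]; exact hgs⟩, rfl⟩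
    obtain ⟨W, hW, hWi⟩ := h _ hx ⟨z, Matrix.toLin'.injective (LinearMap.ext fun v => by
        rw [Units.val_pow_eq_pow_val, pow_two, Matrix.toLin'_mul, LinearMap.comp_apply, happ, happ, hgg, map_smul,
          Matrix.toLin'_one, LinearMap.smul_apply, LinearMap.id_apply])⟩
      fun c hc => by
        obtain ⟨v, hv⟩ := hns c
        exact hv (by rw [← happ, hc, map_smul, Matrix.toLin'_one, LinearMap.smul_apply, LinearMap.id_apply])
    refine hgW ⟨W, hW, fun v hv => ?_⟩
    rw [← happ]; exact hWi (Submodule.mem_map_of_mem hv)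
  · intro hC x hx hz _
    obtain ⟨z, hz⟩ := hz
    obtain ⟨g, hg, rfl⟩ := hx
    obtain ⟨hd1, hs1⟩ := (mem_Omega_iff Q hQ h2 hn2 g).1 hg
    have hXg : ∀ v, ((isometryEquiv Q g : quadIsometries Q) : (ι → F) ≃ₗ[F] (ι → F)) v =
        Matrix.toLin' (((Cfsg.isometryGroup F ⇑Q).subtype g : GL ι F) : Matrix ι ι F) v := fun v => by
      rw [isometryEquiv_apply, Matrix.toLin'_apply]; rfl
    set X := Matrix.toLin' (((Cfsg.isometryGroup F ⇑Q).subtype g : GL ι F) : Matrix ι ι F)
    have hX : X ^ 2 = z • (1 : End F (ι → F)) := by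
      have h' := congrArg Matrix.toLinAlgEquiv' hz
      rw [Units.val_pow_eq_pow_val, map_pow, map_smul, map_one] at h'
      exact h'
    have hXX : ∀ v, X (X v) = z • v := fun v => by rw [← End.mul_apply, ← pow_two, hX]; rfl
    have hzz : z * z = 1 := by
      have e : Q (X (X v₀)) = Q v₀ := by
        rw [← hXg, ← hXg, (isometryEquiv Q g).2, (isometryEquiv Q g).2]
      rw [hXX, quad_smul] at e
      exact mul_right_cancel₀ hv₀ (e.trans (one_mul _).symm)
    rcases mul_self_eq_one_iff.1 hzz with rfl | rfl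
    · exact OrthNdTwo.good_inv Q hQ h2 hn hd hme hm0 hmd _ hd1 hXg (fun v => by rw [hXX, one_smul])
    · exact OrthNdTwo.good_turn Q hQ h2 hn hme (by omega) hC _ hs1 hXg (fun v => by rw [hXX, neg_one_smul])

variable {r : ℕ} [hr : Fact r.Prime]

/-- Odd primes prime to the characteristic. -/
theorem main_odd {i : ℕ} (hQ : (polarBilin Q).Nondegenerate) (hrp : r ≠ p) (hr2 : r ≠ 2) (hn : Fintype.card ι = 2 * d)
    (hd : 4 ≤ d) (hme : Even m) (hm0 : m ≠ 0) (hmd : m + 2 ≤ 2 * d)
    (hi : orderOf ((Fintype.card F : ℕ) : ZMod r) = i) (hdiv : r ∣ Nat.card {W // Sub Q m pl W}) :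
    All Q r m pl ↔ OrthNdAny.Cond i d m (Plus Q ⊤) pl := by
  obtain ⟨v₀, hv₀⟩ := exists_quad_ne_zero_of_nondeg Q hQ (by rw [Module.finrank_fintype_fun_eq_card]; omega)
  have hfr : finrank F (⊤ : Submodule F (ι → F)) = 2 * d := by
    rw [finrank_top, Module.finrank_fintype_fun_eq_card, hn]
  obtain ⟨t, ht⟩ := hr.out.odd_of_ne_two hr2
  constructor
  · intro h
    refine OrthNdAny.cond_of_all Q hQ hrp hr2 hi hn hme hdiv fun X hX hiso => ?_
    by_cases hX1 : X = 1
    · obtain ⟨j, hj⟩ := id hme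
      obtain ⟨W, -, hW, hWd, hWp⟩ := QuadAny.exists_type Q hQ j (QuadType.nd_top Q hQ) (by omega)
        (hfr ▸ even_two_mul d) pl (fun e => by omega)
      exact ⟨W, ⟨by omega, hW, hWp⟩, by rw [hX1]; exact (Submodule.map_id W).le⟩
    · obtain ⟨x, hxi, hxr, hxX⟩ := OrthNdSub.exists_matrix Q hX hiso
      obtain ⟨W, h1, h4⟩ := h x (OrthAny.mem_omega Q hQ hr2 (by omega) hn hxi hxr)
        ⟨1, by rw [hxr, Units.val_one, one_smul]⟩ fun z hz => by
          have hXz : X = z • (1 : End F (ι → F)) := by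
            rw [← hxX, hz, map_smul, Matrix.toLin'_one]; rfl
          have hv : v₀ ≠ 0 := fun e => hv₀ (by rw [e, QuadraticMap.map_zero])
          have hzr : z ^ r = 1 := by
            have e := congrArg (fun Y : End F (ι → F) => Y v₀) hX
            simp only [hXz, _root_.smul_pow, one_pow, LinearMap.smul_apply, End.one_apply] at e
            exact smul_left_injective F hv (e.trans (one_smul F v₀).symm)
          have hz2 : z * z = 1 := by
            have e := hiso v₀
            rw [hXz, LinearMap.smul_apply, End.one_apply, quad_smul] at e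
            exact mul_right_cancel₀ hv₀ (e.trans (one_mul _).symm)
          rw [ht, pow_succ, pow_mul, pow_two, hz2, one_pow, one_mul] at hzr
          exact hX1 (by rw [hXz, hzr, one_smul])
      exact ⟨W, h1, hxX ▸ h4⟩
  · rintro hC x hx ⟨z, hz⟩ -
    obtain ⟨g, -, rfl⟩ := hx
    set X := Matrix.toLin' (((Cfsg.isometryGroup F ⇑Q).subtype g : GL ι F) : Matrix ι ι F)
    have hiso : ∀ v, Q (X v) = Q v := fun v => by
      rw [Matrix.toLin'_apply]; exact mem_isometryGroup_iff.1 g.2 v
    have hX : X ^ r = z • (1 : End F (ι → F)) := by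
      have h' := congrArg Matrix.toLinAlgEquiv' hz
      rw [Units.val_pow_eq_pow_val, map_pow, map_smul, map_one] at h'
      exact h'
    have hpow : ∀ (k : ℕ) v, Q ((X ^ k) v) = Q v := fun k => by
      induction k with
      | zero => exact fun v => rfl
      | succ k ih => intro v; rw [pow_succ', End.mul_apply, hiso, ih]
    have hz2 : z * z = 1 := by
      have e := hpow r v₀
      rw [hX, LinearMap.smul_apply, End.one_apply, quad_smul] at e
      exact mul_right_cancel₀ hv₀ (e.trans (one_mul _).symm)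
    have hXr : (z • X) ^ r = 1 := by
      rw [_root_.smul_pow, hX, smul_smul, ← pow_succ, show r + 1 = 2 * (t + 1) by omega, pow_mul, pow_two, hz2, one_pow,
        one_smul]
    obtain ⟨W, hW, hWi⟩ := OrthNdAny.good_of_cond Q hQ hrp hr2 hi hn hme hm0 (by omega) hC hXr
      (fun v => by rw [LinearMap.smul_apply, quad_smul, hz2, one_mul, hiso])
    refine ⟨W, hW, ?_⟩
    rintro _ ⟨v, hv, rfl⟩
    have h1 := W.smul_mem z (hWi (Submodule.mem_map_of_mem hv))
    rwa [LinearMap.smul_apply, smul_smul, hz2, one_smul] at h1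

theorem all_iff {m : ℕ} {pl : Prop} {P : Submodule F (ι → F) → Prop} (h : ∀ W, P W ↔ Sub Q m pl W) :
    (∀ x : GL ι F, x ∈ Cfsg.Geo.omegaGL (⇑Q) →
      (∃ z : F, ((x ^ r : GL ι F) : Matrix ι ι F) = z • (1 : Matrix ι ι F)) →
      (∀ z : F, (x : Matrix ι ι F) ≠ z • (1 : Matrix ι ι F)) →
      ∃ W : Submodule F (ι → F), P W ∧ W.map (Matrix.toLin' (x : Matrix ι ι F)) ≤ W) ↔ All Q r m pl :=
  forall₄_congr fun _ _ _ _ => exists_congr fun W => and_congr_left fun _ => h W

end Cfsg.Agent.Lib.MaxSub.OrthNdAnyMain
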