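import Cfsg.Agent.Lib.MaxSub.OrthNdUnip
import Mathlib

/-!
Invariant non-degenerate subspaces of involutions in characteristic two.
-/

set_option autoImplicit false
set_option maxHeartbeats 1000000
set_option linter.unusedSectionVars false

namespace Cfsg.Agent.Lib.MaxSub.OrthNdInvolTwo

open Module Cfsg.Agent.Lib.MaxSub Cfsg.Agent.Lib.Geometry
open Cfsg.Agent.Lib.MaxSub.QuadType (Nd TS Plus perp)
open Cfsg.Agent.Lib.MaxSub.OrthNdSub (Sub Good)
open Cfsg.Agent.Lib.MaxSub.OrthNdAny (plus_bot plus_zero)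
open QuadraticMap (polarBilin)
open scoped _root_.Classical

attribute [-simp] QuadraticMap.polarBilin_apply_apply

variable {ι : Type} [Fintype ι] [DecidableEq ι] {F : Type*} [Field F] [Fintype F] (Q : QuadraticForm F (ι → F))

/-- The data of an involution `1 + n`. -/
structure Nil (n : End F (ι → F)) : Prop where
  two : (2 : F) = 0
  sq : ∀ v, n (n v) = 0
  sym : ∀ v w, polarBilin Q (n v) w = polarBilin Q v (n w)
  val : ∀ v, Q (n v) = polarBilin Q (n v) v

variable {n : End F (ι → F)}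

theorem plane (h2 : (2 : F) = 0) {a b : ι → F} (hab : polarBilin Q a b ≠ 0) :
    Nd Q ((F ∙ a) ⊔ (F ∙ b)) ∧ finrank F ((F ∙ a) ⊔ (F ∙ b) : Submodule F (ι → F)) = 2 := by
  have hd0 : ∀ v, polarBilin Q v v = 0 := fun v => by rw [quad_polar_self, h2, zero_mul]
  refine ⟨fun x hx hx0 => ?_, ?_⟩
  · obtain ⟨x1, h1, x2, h3, rfl⟩ := Submodule.mem_sup.1 hx
    obtain ⟨s, rfl⟩ := Submodule.mem_span_singleton.1 h1
    obtain ⟨t, rfl⟩ := Submodule.mem_span_singleton.1 h3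
    by_cases hs : s = 0
    · subst hs
      refine ⟨a, Submodule.mem_sup_left (Submodule.mem_span_singleton_self a), ?_⟩
      rw [zero_smul, zero_add] at hx0 ⊢
      rw [map_smul, LinearMap.smul_apply, quad_polar_comm Q b a]
      exact smul_ne_zero (smul_ne_zero_iff.1 hx0).1 hab
    · refine ⟨b, Submodule.mem_sup_right (Submodule.mem_span_singleton_self b), ?_⟩
      rw [map_add, LinearMap.add_apply, map_smul, map_smul, LinearMap.smul_apply, LinearMap.smul_apply, hd0, smul_zero,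
        add_zero]
      exact smul_ne_zero hs hab
  · have hi : (F ∙ a) ⊓ (F ∙ b) = ⊥ := by
      rw [Submodule.eq_bot_iff]
      rintro x ⟨h1, h3⟩
      obtain ⟨s, rfl⟩ := Submodule.mem_span_singleton.1 h1
      obtain ⟨t, ht⟩ := Submodule.mem_span_singleton.1 h3
      have e := congrArg (fun z => polarBilin Q z b) ht
      simp only [map_smul, LinearMap.smul_apply, hd0, smul_zero] at e
      rw [(smul_eq_zero.1 e.symm).resolve_right hab, zero_smul]
    have h4 := Submodule.finrank_sup_add_finrank_inf_eq (F ∙ a) (F ∙ b)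
    rw [hi, finrank_bot, add_zero, finrank_span_singleton (fun e => hab (by rw [e, map_zero, LinearMap.zero_apply])),
      finrank_span_singleton (fun e => hab (by rw [e, map_zero]))] at h4
    exact h4

theorem split_inv (hn : Nil Q n) {U A : Submodule F (ι → F)} (hU : U.map n ≤ U) (hA : A.map n ≤ A) :
    (U ⊓ perp Q A).map n ≤ U ⊓ perp Q A := by
  rintro _ ⟨x, hx, rfl⟩
  exact ⟨hU (Submodule.mem_map_of_mem hx.1), fun a ha => by rw [← hn.sym]; exact hx.2 _ (hA (Submodule.mem_map_of_mem ha))⟩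

theorem map_dim {U A : Submodule F (ι → F)} (hU : Nd Q U) (hA : Nd Q A) (hAU : A ≤ U) (hAi : A.map n ≤ A)
    (hRi : (U ⊓ perp Q A).map n ≤ U ⊓ perp Q A) :
    finrank F (U.map n) = finrank F (A.map n) + finrank F ((U ⊓ perp Q A).map n) := by
  obtain ⟨hsup, -, -⟩ := QuadType.split_off Q hU hA hAU
  have h := Submodule.finrank_sup_add_finrank_inf_eq (A.map n) ((U ⊓ perp Q A).map n)
  have hi : A.map n ⊓ (U ⊓ perp Q A).map n = ⊥ := by
    refine le_bot_iff.1 ((inf_le_inf hAi hRi).trans ?_)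
    rw [QuadType.inf_perp Q hA]
  rw [hi, finrank_bot, add_zero, ← Submodule.map_sup, hsup] at h
  exact h

/-- A four dimensional piece with totally singular image. -/
theorem apiece (hQ : (polarBilin Q).Nondegenerate) (hn : Nil Q n) {U : Submodule F (ι → F)} (hU : Nd Q U) (hUi : U.map n ≤ U)
    (halt : ∀ v ∈ U, Q (n v) = 0) (hne : U.map n ≠ ⊥) :
    ∃ A ≤ U, Nd Q A ∧ finrank F A = 4 ∧ Plus Q A ∧ A.map n ≤ A ∧ finrank F (A.map n) = 2 := by
  obtain ⟨_, ⟨v, hv, rfl⟩, hv0⟩ := (Submodule.ne_bot_iff _).1 hne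
  obtain ⟨w₀, hw₀, hvw₀⟩ := hU _ (hUi (Submodule.mem_map_of_mem hv)) hv0
  obtain ⟨w, hw, hvw⟩ : ∃ w ∈ U, polarBilin Q (n v) w = 1 :=
    ⟨_, U.smul_mem _ hw₀, by rw [map_smul, smul_eq_mul, inv_mul_cancel₀ hvw₀]⟩
  obtain ⟨v', hv', hnv', hv'w⟩ : ∃ v' ∈ U, n v' = n v ∧ polarBilin Q v' w = 0 :=
    ⟨v - polarBilin Q v w • n v, U.sub_mem hv (U.smul_mem _ (hUi (Submodule.mem_map_of_mem hv))),
      by rw [map_sub, map_smul, hn.sq, smul_zero, sub_zero],
      by rw [map_sub, LinearMap.sub_apply, map_smul, LinearMap.smul_apply, hvw, smul_eq_mul, mul_one, sub_self]⟩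
  have hnv0 : Q (n v) = 0 := halt v hv
  have hnw0 : Q (n w) = 0 := halt w hw
  have e1 : polarBilin Q (n v) (n w) = 0 := by rw [hn.sym, hn.sq, map_zero]
  have e2 : polarBilin Q (n v) v' = 0 := by rw [← hnv', ← hn.val, halt _ hv']
  have e3 : polarBilin Q (n w) v' = 1 := by rw [quad_polar_comm, ← hn.sym, hnv', hvw]
  have e4 : polarBilin Q w (n w) = 0 := by rw [quad_polar_comm, ← hn.val, hnw0]
  obtain ⟨hP, hPd⟩ := plane Q hn.two (a := n v) (b := w) (by rw [hvw]; exact one_ne_zero)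
  obtain ⟨hR, hRd⟩ := plane Q hn.two (a := n w) (b := v') (by rw [e3]; exact one_ne_zero)
  have hperp : (F ∙ n w) ⊔ (F ∙ v') ≤ perp Q ((F ∙ n v) ⊔ (F ∙ w)) := by
    intro x hx y hy
    obtain ⟨x1, h1, x2, h3, rfl⟩ := Submodule.mem_sup.1 hx
    obtain ⟨y1, h5, y2, h6, rfl⟩ := Submodule.mem_sup.1 hy
    obtain ⟨s, rfl⟩ := Submodule.mem_span_singleton.1 h1
    obtain ⟨t, rfl⟩ := Submodule.mem_span_singleton.1 h3
    obtain ⟨s', rfl⟩ := Submodule.mem_span_singleton.1 h5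
    obtain ⟨t', rfl⟩ := Submodule.mem_span_singleton.1 h6
    simp only [map_add, map_smul, LinearMap.add_apply, LinearMap.smul_apply, e1, e2, e4,
      (quad_polar_comm Q w v').trans hv'w, smul_zero, add_zero]
  have hmemP : n v ∈ (F ∙ n v) ⊔ (F ∙ w) := Submodule.mem_sup_left (Submodule.mem_span_singleton_self _)
  have hmemR : n w ∈ (F ∙ n w) ⊔ (F ∙ v') := Submodule.mem_sup_left (Submodule.mem_span_singleton_self _)
  obtain ⟨g1, g2⟩ := QuadType.nd_sup Q hP hR hperp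
  have hmap : (((F ∙ n v) ⊔ (F ∙ w)) ⊔ ((F ∙ n w) ⊔ (F ∙ v'))).map n = (F ∙ n w) ⊔ (F ∙ n v) := by
    rw [Submodule.map_sup, Submodule.map_sup, Submodule.map_sup, Submodule.map_span, Submodule.map_span,
      Submodule.map_span, Submodule.map_span, Set.image_singleton, Set.image_singleton, Set.image_singleton,
      Set.image_singleton, hn.sq, hn.sq, hnv', Submodule.span_zero_singleton, bot_sup_eq, bot_sup_eq]
  refine ⟨_, sup_le (sup_le ((Submodule.span_singleton_le_iff_mem _ _).2 (hUi (Submodule.mem_map_of_mem hv)))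
      ((Submodule.span_singleton_le_iff_mem _ _).2 hw))
    (sup_le ((Submodule.span_singleton_le_iff_mem _ _).2 (hUi (Submodule.mem_map_of_mem hw)))
      ((Submodule.span_singleton_le_iff_mem _ _).2 hv')), g1, by omega, ?_, ?_, ?_⟩
  · refine QuadType.plus_sup Q hQ hP hR hperp ⟨F ∙ n v, le_sup_left, fun x hx => ?_, ?_⟩
      ⟨F ∙ n w, le_sup_left, fun x hx => ?_, ?_⟩
    · obtain ⟨c, rfl⟩ := Submodule.mem_span_singleton.1 hx
      rw [quad_smul, hnv0, mul_zero]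
    · rw [hPd, finrank_span_singleton (fun e => by rw [e, map_zero, LinearMap.zero_apply] at hvw; exact zero_ne_one hvw)]
    · obtain ⟨c, rfl⟩ := Submodule.mem_span_singleton.1 hx
      rw [quad_smul, hnw0, mul_zero]
    · rw [hRd, finrank_span_singleton (fun e => by rw [e, map_zero, LinearMap.zero_apply] at e3; exact zero_ne_one e3)]
  · rw [hmap]
    exact sup_le ((Submodule.span_singleton_le_iff_mem _ _).2 (Submodule.mem_sup_right hmemR))
      ((Submodule.span_singleton_le_iff_mem _ _).2 (Submodule.mem_sup_left hmemP))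
  · rw [hmap]
    have hi : (F ∙ n w) ⊓ (F ∙ n v) = ⊥ := by
      refine le_bot_iff.1 ?_
      rintro x ⟨h1, h3⟩
      obtain ⟨s, rfl⟩ := Submodule.mem_span_singleton.1 h1
      obtain ⟨t, ht⟩ := Submodule.mem_span_singleton.1 h3
      have e := congrArg (fun z => polarBilin Q z v') ht
      simp only [map_smul, LinearMap.smul_apply, e2, e3, smul_zero, smul_eq_mul, mul_one] at e
      rw [Submodule.mem_bot, ← e, mul_zero, zero_smul]
    have h4 := Submodule.finrank_sup_add_finrank_inf_eq (F ∙ n w) (F ∙ n v)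
    rw [hi, finrank_bot, add_zero, finrank_span_singleton (fun e => by rw [e, map_zero, LinearMap.zero_apply] at e3; exact zero_ne_one e3),
      finrank_span_singleton (fun e => by rw [e, map_zero, LinearMap.zero_apply] at hvw; exact zero_ne_one hvw)] at h4
    exact h4

/-- Alternating parts have even rank. -/
theorem alt_even (hQ : (polarBilin Q).Nondegenerate) (hn : Nil Q n) : ∀ (N : ℕ) {U : Submodule F (ι → F)}, finrank F U = N →
    Nd Q U → U.map n ≤ U → (∀ v ∈ U, Q (n v) = 0) → Even (finrank F (U.map n)) := by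
  intro N
  induction N using Nat.strong_induction_on with
  | _ N ih =>
  intro U hN hU hUi halt
  by_cases hne : U.map n = ⊥
  · rw [hne, finrank_bot]; exact Even.zero
  obtain ⟨A, hAU, hA, hAd, -, hAi, hAr⟩ := apiece Q hQ hn hU hUi halt hne
  obtain ⟨-, hR, hdim⟩ := QuadType.split_off Q hU hA hAU
  have hRi := split_inv Q hn hUi hAi
  rw [map_dim Q hU hA hAU hAi hRi, hAr]
  exact (even_two).add (ih _ (by omega) rfl hR hRi fun v hv => halt v hv.1)

/-- A two dimensional piece. -/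
theorem tpiece (hn : Nil Q n) {v : ι → F} (hv : Q (n v) ≠ 0) :
    Nd Q ((F ∙ v) ⊔ (F ∙ n v)) ∧ finrank F ((F ∙ v) ⊔ (F ∙ n v) : Submodule F (ι → F)) = 2 ∧
      ((F ∙ v) ⊔ (F ∙ n v)).map n ≤ (F ∙ v) ⊔ (F ∙ n v) ∧ finrank F (((F ∙ v) ⊔ (F ∙ n v)).map n) = 1 := by
  obtain ⟨h1, h3⟩ := plane Q hn.two (a := v) (b := n v) (by rw [quad_polar_comm, ← hn.val]; exact hv)
  have hmap : ((F ∙ v) ⊔ (F ∙ n v)).map n = F ∙ n v := by
    rw [Submodule.map_sup, Submodule.map_span, Submodule.map_span, Set.image_singleton, Set.image_singleton, hn.sq,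
      Submodule.span_zero_singleton, sup_bot_eq]
  exact ⟨h1, h3, hmap.le.trans le_sup_right, by
    rw [hmap, finrank_span_singleton (fun e => hv (by rw [e, QuadraticMap.map_zero]))]⟩

/-- The type of a piece can be prescribed. -/
theorem retype (hn : Nil Q n) {v u : ι → F} (hv : Q (n v) ≠ 0) (hu : n u = 0) (hvu : polarBilin Q v u = 0) (hQu : Q u ≠ 0)
    (τ : Prop) : ∃ c : F, n (v + c • u) = n v ∧ (Plus Q ((F ∙ (v + c • u)) ⊔ (F ∙ n v)) ↔ τ) := by
  haveI : CharP F 2 := CharTwo.of_one_ne_zero_of_two_eq_zero one_ne_zero hn.two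
  have hnn : ∀ c : F, n (v + c • u) = n v := fun c => by rw [map_add, map_smul, hu, smul_zero, add_zero]
  have hval : ∀ c : F, Q (v + c • u) = Q v + c * c * Q u := fun c => by
    rw [quad_add, quad_smul, map_smul, hvu, smul_zero, add_zero]
  have hset : ∀ b : F, ∃ c : F, Q (v + c • u) = b := fun b => by
    obtain ⟨c, hc⟩ := isSquare_of_charTwo' ((b - Q v) / Q u)
    exact ⟨c, by rw [hval, ← hc]; field_simp; ring⟩
  by_cases hτ : τ
  · obtain ⟨c, hc⟩ := hset 0
    refine ⟨c, hnn c, iff_of_true ⟨F ∙ (v + c • u), le_sup_left, fun x hx => ?_, ?_⟩ hτ⟩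
    · obtain ⟨a, rfl⟩ := Submodule.mem_span_singleton.1 hx
      rw [quad_smul, hc, mul_zero]
    · have h := (tpiece Q hn (v := v + c • u) (by rw [hnn]; exact hv)).2.1
      rw [hnn] at h
      rw [h, finrank_span_singleton fun e => hv (by rw [← hnn c, e, map_zero, QuadraticMap.map_zero])]
  · obtain ⟨ζ, hζ⟩ : ∃ ζ : F, ∀ t : F, t ^ 2 + t + ζ ≠ 0 := by
      by_contra hc
      push Not at hc
      choose g hg using hc
      have hsur : Function.Surjective (fun t : F => t ^ 2 + t) := fun c => ⟨g (-c), by linear_combination hg (-c)⟩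
      have := Finite.injective_iff_surjective.2 hsur (show (fun t : F => t ^ 2 + t) 0 = (fun t : F => t ^ 2 + t) (-1) by
        show (0 : F) ^ 2 + 0 = (-1) ^ 2 + (-1); ring)
      exact neg_ne_zero.2 one_ne_zero this.symm
    obtain ⟨c, hc⟩ := hset (ζ * Q (n v))
    refine ⟨c, hnn c, iff_of_false (fun ⟨T, hT, hTs, hTd⟩ => ?_) hτ⟩
    have h := (tpiece Q hn (v := v + c • u) (by rw [hnn]; exact hv)).2.1
    rw [hnn] at h
    obtain ⟨x, hx, hx0⟩ := (Submodule.ne_bot_iff T).1 fun e => by rw [e, finrank_bot, h] at hTd; omega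
    obtain ⟨x1, h1, x2, h3, rfl⟩ := Submodule.mem_sup.1 (hT hx)
    obtain ⟨s, rfl⟩ := Submodule.mem_span_singleton.1 h1
    obtain ⟨t, rfl⟩ := Submodule.mem_span_singleton.1 h3
    have hB : polarBilin Q (v + c • u) (n v) = Q (n v) := by
      rw [map_add, LinearMap.add_apply, map_smul, LinearMap.smul_apply, quad_polar_comm Q v, ← hn.val,
        quad_polar_comm Q u, hn.sym, hu, map_zero, smul_zero, add_zero]
    have e := hTs _ hx
    rw [quad_add, quad_smul, quad_smul, map_smul, map_smul, LinearMap.smul_apply, hB, hc, smul_eq_mul, smul_eq_mul] at e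
    have e' : (s ^ 2 * ζ + s * t + t ^ 2) * Q (n v) = 0 := by linear_combination e
    have e'' := (mul_eq_zero.1 e').resolve_right hv
    by_cases hs : s = 0
    · subst hs
      have : t = 0 := by simpa using e''
      exact hx0 (by rw [this, zero_smul, zero_smul, add_zero])
    · refine hζ (t / s) ?_
      field_simp
      linear_combination e''

/-- The target type. -/
def tgt (D M : ℕ) (P : Prop) : Prop := M = 0 ∨ P ∨ (Even M ∧ Odd D)

theorem sub_dim (hQ : (polarBilin Q).Nondegenerate) (hn : Nil Q n) : ∀ (N : ℕ) {U : Submodule F (ι → F)}, finrank F U = N →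
    Nd Q U → U.map n ≤ U → Even (finrank F (U.map n)) → ∀ D M : ℕ, N = 2 * D → M ≤ D → (Even M ∨ Odd D ∨ ¬ Plus Q U) →
      ∃ W ≤ U, Nd Q W ∧ W.map n ≤ W ∧ finrank F W = 2 * M ∧ (Plus Q W ↔ tgt D M (Plus Q U)) := by
  intro N
  induction N using Nat.strong_induction_on with
  | _ N ih =>
  intro U hN hU hUi hev D M hD hMD hcond
  subst hD
  by_cases hM0 : M = 0
  · exact ⟨⊥, bot_le, QuadType.nd_bot Q, by simp, by rw [finrank_bot, hM0], iff_of_true (plus_bot Q) (Or.inl hM0)⟩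
  by_cases hMD' : M = D
  · subst hMD'
    refine ⟨U, le_rfl, hU, hUi, hN, ?_⟩
    simp only [tgt, hM0, false_or, ← Nat.not_even_iff_odd, and_not_self, or_false]
  by_cases hne : U.map n = ⊥
  · obtain ⟨W, hWU, hW, hWd, hWp⟩ := QuadAny.exists_type Q hQ M hU (by omega) (hN ▸ even_two_mul D)
      (tgt D M (Plus Q U)) (fun h => absurd h hM0)
    exact ⟨W, hWU, hW, (Submodule.map_mono hWU).trans (hne ▸ bot_le), hWd, hWp⟩
  by_cases halt : ∀ v ∈ U, Q (n v) = 0
  · obtain ⟨A, hAU, hA, hAd, hAp, hAi, hAr⟩ := apiece Q hQ hn hU hUi halt hne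
    obtain ⟨hsup, hR, hdim⟩ := QuadType.split_off Q hU hA hAU
    have hRi := split_inv Q hn hUi hAi
    have hRe : Even (finrank F (U ⊓ perp Q A : Submodule F (ι → F))) := ⟨D - 2, by omega⟩
    have hRp : Plus Q (U ⊓ perp Q A) ↔ Plus Q U := by
      have h := QuadAny.sup_iff Q hQ hA hR inf_le_right (hAd ▸ ⟨2, rfl⟩) hRe
      rw [hsup] at h
      simp [hAp] at h
      exact h.symm
    have hRev : Even (finrank F ((U ⊓ perp Q A).map n)) := alt_even Q hQ hn _ rfl hR hRi fun v hv => halt v hv.1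
    have ih' := ih _ (by omega) rfl hR hRi hRev (D - 2)
    rw [hRp] at ih'
    have hpar : Odd (D - 2) ↔ Odd D := by simp only [Nat.odd_iff]; omega
    by_cases hout : M + 2 ≤ D
    · obtain ⟨W, hWR, hW, hWi, hWd, hWp⟩ := ih' M (by omega) (by omega) (by rwa [hpar])
      refine ⟨W, hWR.trans inf_le_left, hW, hWi, hWd, hWp.trans ?_⟩
      simp only [tgt, hpar]
    rcases (show M = 1 ∨ M = 2 ∨ 3 ≤ M by omega) with rfl | rfl | hM3
    · exfalso
      have hD2 : D = 2 := by omega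
      subst hD2
      have := plus_zero Q (S := U ⊓ perp Q A) (by omega)
      simp only [Nat.not_even_one, Nat.not_odd_iff_even.2 even_two, false_or] at hcond
      exact hcond (hRp.1 this)
    · have hD3 : D = 3 := by omega
      subst hD3
      exact ⟨A, hAU, hA, hAi, by omega, iff_of_true hAp (Or.inr (Or.inr ⟨even_two, ⟨1, rfl⟩⟩))⟩
    · have hpar' : Even (M - 2) ↔ Even M := by simp only [Nat.even_iff]; omega
      obtain ⟨W, hWR, hW, hWi, hWd, hWp⟩ := ih' (M - 2) (by omega) (by omega) (by rwa [hpar, hpar'])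
      obtain ⟨g1, g2⟩ := QuadType.nd_sup Q hA hW (hWR.trans inf_le_right)
      refine ⟨A ⊔ W, sup_le hAU (hWR.trans inf_le_left), g1, ?_, by omega, ?_⟩
      · rw [Submodule.map_sup]; exact sup_le_sup hAi hWi
      · rw [QuadAny.sup_iff Q hQ hA hW (hWR.trans inf_le_right) (hAd ▸ ⟨2, rfl⟩) (hWd ▸ even_two_mul _), hWp]
        simp only [tgt, hpar, hpar', hAp, true_iff, show M - 2 ≠ 0 by omega, hM0]
  push Not at halt
  obtain ⟨v1, hv1, hq1⟩ := halt
  obtain ⟨hP1, hP1d, hP1i, hP1r⟩ := tpiece Q hn hq1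
  have hm1 : (F ∙ v1) ⊔ (F ∙ n v1) ≤ U := sup_le ((Submodule.span_singleton_le_iff_mem _ _).2 hv1)
    ((Submodule.span_singleton_le_iff_mem _ _).2 (hUi (Submodule.mem_map_of_mem hv1)))
  obtain ⟨hsup1, hR1, hdim1⟩ := QuadType.split_off Q hU hP1 hm1
  have hR1i := split_inv Q hn hUi hP1i
  have hmap1 := map_dim Q hU hP1 hm1 hP1i hR1i
  obtain ⟨v2, hv2, hq2⟩ : ∃ v2 ∈ U ⊓ perp Q ((F ∙ v1) ⊔ (F ∙ n v1)), Q (n v2) ≠ 0 := by
    by_contra hc
    push Not at hc
    obtain ⟨a, ha⟩ := alt_even Q hQ hn _ rfl hR1 hR1i hc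
    obtain ⟨b, hb⟩ := hev
    omega
  obtain ⟨hP2, hP2d, hP2i, hP2r⟩ := tpiece Q hn hq2
  have hm2 : (F ∙ v2) ⊔ (F ∙ n v2) ≤ U ⊓ perp Q ((F ∙ v1) ⊔ (F ∙ n v1)) :=
    sup_le ((Submodule.span_singleton_le_iff_mem _ _).2 hv2)
    ((Submodule.span_singleton_le_iff_mem _ _).2 (hR1i (Submodule.mem_map_of_mem hv2)))
  by_cases hEE : Even M ∧ Even D
  swap
  · -- a plane of prescribed type and a subspace of the remaining part
    obtain ⟨hsup2, hR2, hdim2⟩ := QuadType.split_off Q hR1 hP2 hm2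
    have hR2i := split_inv Q hn hR1i hP2i
    have hmap2 := map_dim Q hR1 hP2 hm2 hP2i hR2i
    have hR2ev : Even (finrank F ((U ⊓ perp Q ((F ∙ v1) ⊔ (F ∙ n v1)) ⊓ perp Q ((F ∙ v2) ⊔ (F ∙ n v2))).map n)) := by
      obtain ⟨b, hb⟩ := hev
      exact ⟨b - 1, by omega⟩
    obtain ⟨W, hWR, hW, hWi, hWd, -⟩ := ih _ (by omega) rfl hR2 hR2i hR2ev (D - 2) (M - 1) (by omega) (by omega) (by
      rcases Nat.even_or_odd M with h | h
      · refine Or.inr (Or.inl ?_)
        rcases Nat.even_or_odd D with h' | h'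
        · exact absurd ⟨h, h'⟩ hEE
        · simp only [Nat.odd_iff] at h' ⊢; omega
      · exact Or.inl (by simp only [Nat.odd_iff] at h; simp only [Nat.even_iff]; omega))
    have hnv2 : n (n v2) = 0 := hn.sq v2
    obtain ⟨c, hc1, hc2⟩ := retype Q hn (v := v1) (u := n v2) hq1 hnv2
      ((hm2 (Submodule.mem_sup_right (Submodule.mem_span_singleton_self _))).2 v1
        (Submodule.mem_sup_left (Submodule.mem_span_singleton_self _))) hq2 (tgt D M (Plus Q U) ↔ Plus Q W)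
    obtain ⟨hP, hPd, hPi, -⟩ := tpiece Q hn (v := v1 + c • n v2) (by rw [hc1]; exact hq1)
    rw [hc1] at hP hPd hPi
    have hPle : (F ∙ (v1 + c • n v2)) ⊔ (F ∙ n v1) ≤ ((F ∙ v1) ⊔ (F ∙ n v1)) ⊔ ((F ∙ v2) ⊔ (F ∙ n v2)) :=
      sup_le ((Submodule.span_singleton_le_iff_mem _ _).2 (Submodule.add_mem_sup
        (Submodule.mem_sup_left (Submodule.mem_span_singleton_self _))
        (Submodule.smul_mem _ _ (Submodule.mem_sup_right (Submodule.mem_span_singleton_self _)))))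
        (le_sup_of_le_left le_sup_right)
    have hperp : W ≤ perp Q ((F ∙ (v1 + c • n v2)) ⊔ (F ∙ n v1)) := fun x hx y hy => by
      obtain ⟨a, ha, b, hb, rfl⟩ := Submodule.mem_sup.1 (hPle hy)
      rw [map_add, LinearMap.add_apply, (hWR hx).1.2 a ha, (hWR hx).2 b hb, add_zero]
    obtain ⟨g1, g2⟩ := QuadType.nd_sup Q hP hW hperp
    refine ⟨_, sup_le (hPle.trans (sup_le hm1 (hm2.trans inf_le_left))) (hWR.trans (inf_le_left.trans inf_le_left)), g1, ?_,
      by omega, ?_⟩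
    · rw [Submodule.map_sup]; exact sup_le_sup hPi hWi
    · rw [QuadAny.sup_iff Q hQ hP hW hperp (hPd ▸ even_two) (hWd ▸ even_two_mul _), hc2]
      by_cases h5 : Plus Q W <;> simp [h5]
  obtain ⟨hMe, hDe⟩ := hEE
  obtain ⟨P, hPR, hP, hPd, hPi, hPr, hplus⟩ : ∃ P ≤ U ⊓ perp Q ((F ∙ v1) ⊔ (F ∙ n v1)), Nd Q P ∧ finrank F P = 2 ∧
      P.map n ≤ P ∧ finrank F (P.map n) = 1 ∧ Plus Q (U ⊓ perp Q ((F ∙ v1) ⊔ (F ∙ n v1)) ⊓ perp Q P) := by
    obtain ⟨hsup2, hR2, hdim2⟩ := QuadType.split_off Q hR1 hP2 hm2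
    have hR2i := split_inv Q hn hR1i hP2i
    set R2 := U ⊓ perp Q ((F ∙ v1) ⊔ (F ∙ n v1)) ⊓ perp Q ((F ∙ v2) ⊔ (F ∙ n v2)) with hR2def
    by_cases hp : Plus Q R2
    · exact ⟨_, hm2, hP2, hP2d, hP2i, hP2r, hp⟩
    obtain ⟨u, hu, hnu, hQu⟩ : ∃ u ∈ R2, n u = 0 ∧ Q u ≠ 0 := by
      by_contra hc
      push Not at hc
      refine hp ⟨R2 ⊓ LinearMap.ker n, inf_le_left, fun x hx => hc x hx.1 hx.2, ?_⟩
      have h1 := (n.domRestrict R2).finrank_range_add_finrank_ker
      rw [LinearMap.range_domRestrict] at h1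
      have h3 : finrank F (LinearMap.ker (n.domRestrict R2)) = finrank F (R2 ⊓ LinearMap.ker n : Submodule F (ι → F)) := by
        have e : (LinearMap.ker (n.domRestrict R2)).map R2.subtype = R2 ⊓ LinearMap.ker n := by
          ext v
          constructor
          · rintro ⟨w, hw, rfl⟩
            exact ⟨w.2, hw⟩
          · rintro ⟨hv, hv'⟩
            exact ⟨⟨v, hv⟩, hv', rfl⟩
        rw [← e, Submodule.finrank_map_subtype_eq]
      rw [h3] at h1
      have h4 := Submodule.finrank_mono (show R2.map n ≤ R2 ⊓ LinearMap.ker n from fun x hx => ⟨hR2i hx, by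
        obtain ⟨y, -, rfl⟩ := hx
        exact hn.sq y⟩)
      have h5 := QuadType.ts_half Q hQ hR2 (inf_le_left : R2 ⊓ LinearMap.ker n ≤ R2) fun x hx => hc x hx.1 hx.2
      omega
    obtain ⟨c, hc1, hc2⟩ := retype Q hn (v := v2) (u := u) hq2 hnu
      (hu.2 v2 (Submodule.mem_sup_left (Submodule.mem_span_singleton_self _))) hQu
      (¬ Plus Q ((F ∙ v2) ⊔ (F ∙ n v2)))
    obtain ⟨hP, hPd, hPi, hPr⟩ := tpiece Q hn (v := v2 + c • u) (by rw [hc1]; exact hq2)
    rw [hc1] at hP hPd hPi hPr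
    have hPR : (F ∙ (v2 + c • u)) ⊔ (F ∙ n v2) ≤ U ⊓ perp Q ((F ∙ v1) ⊔ (F ∙ n v1)) :=
      sup_le ((Submodule.span_singleton_le_iff_mem _ _).2 (Submodule.add_mem _ hv2 (Submodule.smul_mem _ _ hu.1)))
        (le_sup_right.trans hm2)
    refine ⟨_, hPR, hP, hPd, hPi, hPr, ?_⟩
    obtain ⟨hsup3, hR3, hdim3⟩ := QuadType.split_off Q hR1 hP hPR
    have e1 := QuadAny.sup_iff Q hQ hP2 hR2 inf_le_right (hP2d ▸ even_two) ⟨D - 2, by omega⟩
    have e2 := QuadAny.sup_iff Q hQ hP hR3 inf_le_right (hPd ▸ even_two) ⟨D - 2, by omega⟩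
    rw [hsup2] at e1
    rw [hsup3, hc2] at e2
    by_cases h6 : Plus Q ((F ∙ v2) ⊔ (F ∙ n v2)) <;> simp_all
  obtain ⟨hsup2, hR2, hdim2⟩ := QuadType.split_off Q hR1 hP hPR
  have hR2i := split_inv Q hn hR1i hPi
  have hmap2 := map_dim Q hR1 hP hPR hPi hR2i
  have hR2ev : Even (finrank F ((U ⊓ perp Q ((F ∙ v1) ⊔ (F ∙ n v1)) ⊓ perp Q P).map n)) := by
    obtain ⟨b, hb⟩ := hev
    exact ⟨b - 1, by omega⟩
  obtain ⟨b, hb⟩ := id hMe
  obtain ⟨W, hWR, hW, hWi, hWd, hWp⟩ := ih _ (by omega) rfl hR2 hR2i hR2ev (D - 2) (M - 2) (by omega) (by omega)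
    (Or.inl ⟨b - 1, by omega⟩)
  have hWplus : Plus Q W := hWp.2 (Or.inr (Or.inl hplus))
  obtain ⟨hC, hCd⟩ := QuadType.nd_sup Q hP1 hP (hPR.trans inf_le_right)
  have hCi : (((F ∙ v1) ⊔ (F ∙ n v1)) ⊔ P).map n ≤ ((F ∙ v1) ⊔ (F ∙ n v1)) ⊔ P := by
    rw [Submodule.map_sup]; exact sup_le_sup hP1i hPi
  have hperp : W ≤ perp Q (((F ∙ v1) ⊔ (F ∙ n v1)) ⊔ P) := fun x hx y hy => by
    obtain ⟨a, ha, c, hc, rfl⟩ := Submodule.mem_sup.1 hy
    rw [map_add, LinearMap.add_apply, (hWR hx).1.2 a ha, (hWR hx).2 c hc, add_zero]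
  obtain ⟨g1, g2⟩ := QuadType.nd_sup Q hC hW hperp
  refine ⟨_, sup_le (sup_le hm1 (hPR.trans inf_le_left)) (hWR.trans (inf_le_left.trans inf_le_left)), g1, ?_, by omega, ?_⟩
  · rw [Submodule.map_sup]; exact sup_le_sup hCi hWi
  have e1 := QuadAny.sup_iff Q hQ hP1 hR1 inf_le_right (hP1d ▸ even_two) ⟨D - 1, by omega⟩
  have e2 := QuadAny.sup_iff Q hQ hP hR2 inf_le_right (hPd ▸ even_two) ⟨D - 2, by omega⟩
  rw [hsup1] at e1
  rw [hsup2] at e2
  rw [QuadAny.sup_iff Q hQ hC hW hperp (⟨2, by omega⟩) (hWd ▸ even_two_mul _),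
    QuadAny.sup_iff Q hQ hP1 hP (hPR.trans inf_le_right) (hP1d ▸ even_two) (hPd ▸ even_two)]
  simp only [tgt, hM0, Nat.not_odd_iff_even.2 hDe, and_false, or_false, false_or, hWplus, iff_true]
  by_cases h6 : Plus Q P <;> simp_all

variable {p : ℕ} [Fact p.Prime] [CharP F p]

/-- Involutions fix a subspace of the type of the whole space. -/
theorem all_good (hQ : (polarBilin Q).Nondegenerate) (h2 : (2 : F) = 0) {d M : ℕ} (hn : Fintype.card ι = 2 * d) (hd : 4 ≤ d)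
    (hM0 : M ≠ 0) (hMd : M < d) (hc : (Plus Q ⊤ → Odd d ∨ Even M) ∧ (¬ Plus Q ⊤ → Even d ∨ Odd M)) (x : GL ι F)
    (hx : x ∈ Cfsg.Geo.omegaGL (⇑Q)) (hz : ∃ z : F, ((x ^ 2 : GL ι F) : Matrix ι ι F) = z • (1 : Matrix ι ι F)) :
    Good Q (2 * M) (Plus Q ⊤) (Matrix.toLin' (x : Matrix ι ι F)) := by
  haveI : CharP F 2 := CharTwo.of_one_ne_zero_of_two_eq_zero one_ne_zero h2
  obtain ⟨z, hz⟩ := hz
  obtain ⟨g, hg, rfl⟩ := hx
  set X := Matrix.toLin' (((Cfsg.isometryGroup F ⇑Q).subtype g : GL ι F) : Matrix ι ι F) with hXdef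
  have hiso : ∀ v, Q (X v) = Q v := fun v => by rw [hXdef, Matrix.toLin'_apply]; exact mem_isometryGroup_iff.1 g.2 v
  obtain ⟨v₀, hv₀⟩ := exists_quad_ne_zero_of_nondeg Q hQ (by rw [Module.finrank_fintype_fun_eq_card]; omega)
  have hX : X ^ 2 = z • (1 : End F (ι → F)) := by
    have h' := congrArg Matrix.toLinAlgEquiv' hz
    rw [Units.val_pow_eq_pow_val, map_pow, map_smul, map_one] at h'
    exact h'
  have hXX' : ∀ v, X (X v) = z • v := fun v => by rw [← End.mul_apply, ← pow_two, hX]; rfl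
  have hz1 : z = 1 := by
    have e : Q (X (X v₀)) = Q v₀ := by rw [hiso, hiso]
    rw [hXX', quad_smul] at e
    have e1 : z * z = 1 := mul_right_cancel₀ hv₀ (e.trans (one_mul _).symm)
    have e2 : (z - 1) * (z - 1) = 0 := by linear_combination e1 + (1 - z) * h2
    exact sub_eq_zero.1 ((mul_self_eq_zero).1 e2)
  have hXX : ∀ v, X (X v) = v := fun v => by rw [hXX', hz1, one_smul]
  let n : End F (ι → F) := X - 1
  have hnv : ∀ v, n v = X v - v := fun v => rfl
  have hN : Nil Q n := by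
    refine ⟨h2, fun v => ?_, fun v w => ?_, fun v => ?_⟩
    · rw [hnv, hnv, map_sub, hXX, show v - X v - (X v - v) = (2 : F) • (v - X v) by module, h2, zero_smul]
    · have h := quad_polar_map Q hiso v (X w)
      rw [hXX] at h
      rw [hnv, hnv, map_sub, map_sub, LinearMap.sub_apply, h]
    · rw [hnv, quad_sub, hiso, map_sub, LinearMap.sub_apply, quad_polar_self]
      linear_combination (Q v + (-polarBilin Q (X v) v) + Q v) * h2
  have hev : Even (finrank F ((⊤ : Submodule F (ι → F)).map n)) := by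
    have h := (Cfsg.Agent.Lib.QuadFin.mem_Omega_iff_even Q hQ (by omega) (Or.inr (by omega)) g).1 hg
    rw [Cfsg.Agent.Lib.Geometry.dickson] at h
    rw [Submodule.map_top]
    have hmv : movedSpace Q (isometryEquiv Q g) = LinearMap.range n := by
      rw [movedSpace, ← LinearMap.range_neg n]
      congr 1
      refine LinearMap.ext fun v => ?_
      rw [oneSub_apply, isometryEquiv_apply, LinearMap.neg_apply, hnv, hXdef, Matrix.toLin'_apply, neg_sub]
      rfl
    rwa [hmv, neg_one_pow_eq_one_iff_even (by decide)] at h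
  have hfr : finrank F (⊤ : Submodule F (ι → F)) = 2 * d := by
    rw [finrank_top, Module.finrank_fintype_fun_eq_card, hn]
  have fin : ∀ W : Submodule F (ι → F), Nd Q W → W.map n ≤ W → finrank F W = 2 * M → (Plus Q W ↔ Plus Q ⊤) →
      Good Q (2 * M) (Plus Q ⊤) X := fun W hW hWi hWd hWp => by
    refine ⟨W, ⟨hWd, hW, hWp⟩, ?_⟩
    rintro _ ⟨w, hw, rfl⟩
    have := W.add_mem (hWi (Submodule.mem_map_of_mem hw)) hw
    rwa [hnv, sub_add_cancel] at this
  have key := fun (K : ℕ) (hK : K ≤ d) (hcK : Even K ∨ Odd d ∨ ¬ Plus Q ⊤) =>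
    sub_dim Q hQ hN _ hfr (QuadType.nd_top Q hQ) le_top hev d K rfl hK hcK
  by_cases hP : Plus Q ⊤
  · rcases Nat.even_or_odd M with hMe | hMo
    · obtain ⟨W, -, hW, hWi, hWd, hWp⟩ := key M hMd.le (Or.inl hMe)
      exact fin W hW hWi hWd (iff_of_true (hWp.2 (Or.inr (Or.inl hP))) hP)
    · have hdo : Odd d := (hc.1 hP).resolve_right (Nat.not_even_iff_odd.2 hMo)
      obtain ⟨W, -, hW, hWi, hWd, hWp⟩ := key (d - M) (by omega) (Or.inr (Or.inl hdo))
      have hWplus : Plus Q W := hWp.2 (Or.inr (Or.inl hP))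
      obtain ⟨htop, hPn, hPd, -⟩ := QuadType.compl_perp Q hQ hW
      rw [Module.finrank_fintype_fun_eq_card, hn] at hPd
      refine fin _ hPn ?_ (by omega) (iff_of_true ?_ hP)
      · rintro _ ⟨y, hy, rfl⟩
        intro a ha
        rw [← hN.sym]
        exact hy _ (hWi (Submodule.mem_map_of_mem ha))
      · have h := QuadAny.sup_iff Q hQ hW hPn le_rfl (hWd ▸ even_two_mul _) ⟨M, by omega⟩
        rw [htop] at h
        exact (h.1 hP).1 hWplus
  · obtain ⟨W, -, hW, hWi, hWd, hWp⟩ := key M hMd.le (Or.inr (Or.inr hP))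
    refine fin W hW hWi hWd (iff_of_false ?_ hP)
    rw [hWp, tgt]
    rintro (h | h | ⟨h1, h3⟩)
    · exact hM0 h
    · exact hP h
    · rcases hc.2 hP with h | h
      · exact Nat.not_odd_iff_even.2 h h3
      · exact Nat.not_odd_iff_even.2 h1 h

/-- An involution without invariant subspace of the type of the whole space in the bad cases. -/
theorem bad (hQ : (polarBilin Q).Nondegenerate) (h2 : (2 : F) = 0) {d M : ℕ} (hn : Fintype.card ι = 2 * d) (hd : 4 ≤ d)
    (hc : ¬ ((Plus Q ⊤ → Odd d ∨ Even M) ∧ (¬ Plus Q ⊤ → Even d ∨ Odd M))) :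
    ∃ x : GL ι F, x ∈ Cfsg.Geo.omegaGL (⇑Q) ∧ (∃ z : F, ((x ^ 2 : GL ι F) : Matrix ι ι F) = z • (1 : Matrix ι ι F)) ∧
      (∀ z : F, (x : Matrix ι ι F) ≠ z • (1 : Matrix ι ι F)) ∧
      ¬ Good Q (2 * M) (Plus Q ⊤) (Matrix.toLin' (x : Matrix ι ι F)) := by
  haveI : CharP F 2 := CharTwo.of_one_ne_zero_of_two_eq_zero one_ne_zero h2
  haveI : Fact (Nat.Prime 2) := ⟨Nat.prime_two⟩
  have hfr : finrank F (⊤ : Submodule F (ι → F)) = 2 * d := by
    rw [finrank_top, Module.finrank_fintype_fun_eq_card, hn]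
  obtain ⟨U, hU, t, hUd, ht, hcase⟩ : ∃ (U : Submodule F (ι → F)) (_ : TS Q U) (t : ℕ), finrank F U = 2 * t ∧ 0 < t ∧
      ((Plus Q ⊤ ∧ 2 * t = d ∧ Odd M) ∨ (¬ Plus Q ⊤ ∧ 2 * t + 1 = d ∧ Even M)) := by
    by_cases hP : Plus Q ⊤
    · have h : ¬ (Odd d ∨ Even M) := fun h => hc ⟨fun _ => h, fun h' => absurd hP h'⟩
      rw [not_or, Nat.not_odd_iff_even, Nat.not_even_iff_odd] at h
      obtain ⟨⟨t, ht⟩, hMo⟩ := h
      obtain ⟨T, -, hT, hTd⟩ := id hP
      exact ⟨T, hT, t, by omega, by omega, Or.inl ⟨hP, by omega, hMo⟩⟩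
    · have h : ¬ (Even d ∨ Odd M) := fun h => hc ⟨fun h' => absurd h' hP, fun _ => h⟩
      rw [not_or, Nat.not_even_iff_odd, Nat.not_odd_iff_even] at h
      obtain ⟨⟨t, ht⟩, hMe⟩ := h
      obtain ⟨T, -, hT, hTd⟩ := OrthTSAny.exists_ts Q hQ (QuadType.nd_top Q hQ) (hfr ▸ even_two_mul d) (e := d - 1)
        (Or.inl (by omega))
      exact ⟨T, hT, t, by omega, by omega, Or.inr ⟨hP, by omega, hMe⟩⟩
  obtain ⟨x, hx, hxp, hns, n, hxn, hnU, hker, hnn⟩ := OrthNdUnip.exists_elem (p := 2) Q hQ hn hd ht hU hUd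
  refine ⟨x, hx, hxp, hns, ?_⟩
  rintro ⟨W, ⟨hWd, hW, hWp⟩, hWi⟩
  have hWn : ∀ w ∈ W, n w ∈ W := fun w hw => by
    have := W.sub_mem (hWi (Submodule.mem_map_of_mem hw)) hw
    rwa [hxn, add_sub_cancel_left] at this
  have hiso : ∀ v, Q (v + n v) = Q v := by
    obtain ⟨g, -, rfl⟩ := hx
    intro v
    rw [← hxn, Matrix.toLin'_apply]
    exact mem_isometryGroup_iff.1 g.2 v
  have h0 : ∀ v, polarBilin Q v (n v) = 0 := fun v => by
    have h := hiso v
    rw [quad_add, hU _ (hnU v), add_zero] at h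
    exact add_left_cancel (h.trans (add_zero _).symm)
  have hN : Nil Q n := by
    refine ⟨h2, hnn, fun v w => ?_, fun v => by rw [hU _ (hnU v), quad_polar_comm, h0]⟩
    have h := h0 (v + w)
    rw [map_add, map_add, map_add, LinearMap.add_apply, LinearMap.add_apply, h0, h0, zero_add, add_zero,
      quad_polar_comm Q w (n v)] at h
    linear_combination h - (polarBilin Q v (n w)) * h2
  obtain ⟨k, hk, -, -, hk2, hk3, hplus, -⟩ := OrthNdUnip.inv_dims Q hQ hU hnU hker hW hWn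
  obtain ⟨a, ha⟩ := alt_even Q hQ hN _ rfl hW (by rintro _ ⟨w, hw, rfl⟩; exact hWn w hw) fun v _ => hU _ (hnU v)
  rw [hn, hUd, hWd] at hk3
  rcases hcase with ⟨-, htd, ⟨b, hb⟩⟩ | ⟨hP, htd, ⟨b, hb⟩⟩
  · omega
  · exact hP (hWp.1 (hplus (by omega)))

end Cfsg.Agent.Lib.MaxSub.OrthNdInvolTwo
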