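import Cfsg.Agent.Lib.MaxSub.OrthTS
import Cfsg.Agent.Lib.MaxSub.IsoTIElem
import Mathlib

/-!
Isometries of prime order of quadratic spaces of odd dimension with prescribed multiplicities of self-reciprocal factors.
-/

set_option autoImplicit false
set_option maxHeartbeats 1000000
set_option linter.unusedSectionVars false

namespace Cfsg.Agent.Lib.MaxSub.OrthTSElem

open Module Polynomial Cfsg.Agent.Lib.MaxSub Cfsg.Agent.Lib.Geometry
open Cfsg.Agent.Lib.MaxSub.QuadType (Nd TS Plus perp)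
open Cfsg.Agent.Lib.MaxSub.IsoDecomp (step fixed moved mem_fixed moved_inv inf_inv sup_inv fixed_inv decompose)
open Cfsg.Agent.Lib.MaxSub.OrthDecomp (fixer fixer_mem)
open Cfsg.Agent.Lib.MaxSub.IsoTIElem (factors mem_factors coprime_of_ne)
open QuadraticMap (polarBilin)
open scoped _root_.Classical

attribute [-simp] QuadraticMap.polarBilin_apply_apply

variable {ι : Type} [Fintype ι] [DecidableEq ι] {F : Type*} [Field F] [Fintype F] (Q : QuadraticForm F (ι → F))
variable {p : ℕ} [Fact p.Prime] [CharP F p] {r : ℕ} [hr : Fact r.Prime]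
variable (hQ : (polarBilin Q).Nondegenerate) (h2 : (2 : F) ≠ 0)

include hQ h2 in
/-- One piece killed by a given factor. -/
theorem exists_piece (hrp : r ≠ p) (hr2 : r ≠ 2) {i : ℕ} (hi : orderOf ((Fintype.card F : ℕ) : ZMod r) = i)
    (hev : Even i) {U : Submodule F (ι → F)} (hU : Nd Q U) (hUd : finrank F U = i + 1) {g : F[X]} (hg : g ∈ factors r F) :
    ∃ Y : End F (ι → F), Y ^ r = 1 ∧ (∀ v, Q (Y v) = Q v) ∧ (∀ b ∈ perp Q U, Y b = b) ∧ (∀ u ∈ U, Y u ∈ U) ∧
      finrank F (U ⊓ fixed Y : Submodule F (ι → F)) = 1 ∧ finrank F (moved Y r) = i ∧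
      moved Y r ≤ LinearMap.ker (aeval Y g) := by
  obtain ⟨hgi, hgm, hgd⟩ := mem_factors.1 hg
  have hr0 : (r : F) ≠ 0 := PrimeElemFlags.cast_ne_zero hrp
  have hst : step i = i := by rw [step, if_pos hev]
  have hi0 : 0 < i := hi ▸ PrimeElemFlags.order_pos rfl hrp
  have hi2 : 2 ≤ i := by obtain ⟨e, rfl⟩ := hev; omega
  obtain ⟨y, hy⟩ := OrthDecomp.fixer_big Q hQ hrp hi h2 hU (by rw [hst, hUd])
  let Y : End F (ι → F) := (((y : quadIsometries Q) : (ι → F) ≃ₗ[F] (ι → F)) : (ι → F) →ₗ[F] (ι → F))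
  have hpow : ∀ j : ℕ, Y ^ j = ((((y ^ j : fixer Q U) : quadIsometries Q) : (ι → F) ≃ₗ[F] (ι → F)) : (ι → F) →ₗ[F] (ι → F)) := fun j => by
    induction j with
    | zero => rfl
    | succ j ih => rw [pow_succ, pow_succ, ih]; rfl
  have hY : Y ^ r = 1 := by rw [hpow, ← hy, pow_orderOf_eq_one]; rfl
  have hiso : ∀ v, Q (Y v) = Q v := (y : quadIsometries Q).2
  have hYp : ∀ b ∈ perp Q U, Y b = b := fun b hb => y.2 b hb
  obtain ⟨-, -, hdimU, hpp⟩ := QuadType.compl_perp Q hQ hU
  obtain ⟨-, -, e, he, hfe⟩ := OrthNdSub.moved_dim Q hQ h2 hrp hr2 hi hY hiso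
  rw [hst] at he hfe
  rw [Module.finrank_fintype_fun_eq_card, hUd] at hdimU
  have hle : perp Q U ≤ fixed Y := fun b hb => mem_fixed.2 (hYp b hb)
  have hle' := Submodule.finrank_mono hle
  have he1 : e = 1 := by
    rcases e with _ | _ | e
    · exfalso
      have htop : fixed Y = ⊤ := Submodule.eq_top_of_finrank_eq (by
        rw [Module.finrank_fintype_fun_eq_card]; omega)
      have h1 : y = 1 := Subtype.ext (Subtype.ext (LinearEquiv.ext fun v =>
        mem_fixed.1 (htop.symm ▸ Submodule.mem_top : v ∈ fixed Y)))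
      rw [h1, orderOf_one] at hy
      exact hr.out.one_lt.ne hy
    · rfl
    · exfalso
      rw [Nat.mul_succ, Nat.mul_succ] at hfe
      omega
  subst he1
  rw [mul_one] at he hfe
  have hMU : moved Y r ≤ U := fun v hv => by
    rw [← hpp]
    exact fun b hb => OrthDecomp.orth Q hr0 hiso (hle hb) hv
  have hM0 : moved Y r ≠ ⊥ := fun h => by rw [h, finrank_bot] at he; omega
  obtain ⟨w₀, hw₀, hw₀0⟩ := (Submodule.ne_bot_iff _).1 hM0
  obtain ⟨g₀, hg₀, hg₀m, hg₀d, w, hw, hw0, hgw⟩ := PrimeElem.exists_factor Y moved_inv _ (cyclotomic_ne_zero r F) w₀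
    hw₀ hw₀0 hw₀
  have hker : moved Y r ≤ LinearMap.ker (aeval Y g₀) := by
    obtain ⟨⟨b, hb⟩, -⟩ := LinDecomp.moved_sub hrp hi hY
      (inf_inv moved_inv (PrimeElem.map_ker_le Y g₀)) (inf_le_left : moved Y r ⊓ LinearMap.ker (aeval Y g₀) ≤ moved Y r)
    have hb0 : 0 < b := Nat.pos_of_ne_zero fun h0 => by
      rw [h0, mul_zero, Submodule.finrank_eq_zero] at hb
      exact hw0 ((Submodule.mem_bot F).1 (hb ▸ ⟨hw, hgw⟩))
    have h := Submodule.eq_of_le_of_finrank_le (inf_le_left : moved Y r ⊓ LinearMap.ker (aeval Y g₀) ≤ moved Y r)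
      (by rw [hb, he]; exact Nat.le_mul_of_pos_right _ hb0)
    exact h.symm.le.trans inf_le_right
  have : Fact (Irreducible g₀) := ⟨hg₀⟩
  have : FiniteDimensional F (AdjoinRoot g₀) := (AdjoinRoot.powerBasis hg₀.ne_zero).finite
  have : Finite (AdjoinRoot g₀) := Module.finite_of_finite F
  set α : AdjoinRoot g₀ := AdjoinRoot.root g₀
  have hcyc : aeval α (cyclotomic r F) = 0 := by
    obtain ⟨R, hR⟩ := hg₀d
    rw [hR, map_mul, AdjoinRoot.aeval_eq, AdjoinRoot.mk_self, zero_mul]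
  haveI : NeZero (r : AdjoinRoot g₀) :=
    ⟨fun h => hr0 ((map_eq_zero (algebraMap F (AdjoinRoot g₀))).1 (by rw [map_natCast]; exact h))⟩
  have hprim : IsPrimitiveRoot α r := by
    rw [← isRoot_cyclotomic_iff, IsRoot, ← map_cyclotomic r (algebraMap F (AdjoinRoot g₀)), eval_map_algebraMap]
    exact hcyc
  obtain ⟨β, hβ⟩ : ∃ β : AdjoinRoot g₀, aeval β g = 0 := by
    have hd : g.natDegree ∣ finrank F (AdjoinRoot g₀) := by
      rw [(AdjoinRoot.powerBasis hg₀.ne_zero).finrank, AdjoinRoot.powerBasis_dim,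
        (PrimeElemFlags.deg_eq rfl hrp g hgi hgd), (PrimeElemFlags.deg_eq rfl hrp g₀ hg₀ hg₀d)]
    have : Fact (Irreducible g) := ⟨hgi⟩
    have : FiniteDimensional F (AdjoinRoot g) := (AdjoinRoot.powerBasis hgi.ne_zero).finite
    have : Finite (AdjoinRoot g) := Module.finite_of_finite F
    obtain ⟨φ⟩ := (FiniteField.nonempty_algHom_iff_finrank_dvd (F := F) (K := AdjoinRoot g) (L := AdjoinRoot g₀)).2
      (by rwa [(AdjoinRoot.powerBasis hgi.ne_zero).finrank, AdjoinRoot.powerBasis_dim])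
    exact ⟨φ (AdjoinRoot.root g), by
      rw [Polynomial.aeval_algHom_apply, AdjoinRoot.aeval_eq, AdjoinRoot.mk_self, map_zero]⟩
  have hβr : β ^ r = 1 := by
    obtain ⟨R, hR⟩ := hgd
    have h := congrArg (aeval β) (cyclotomic_prime_mul_X_sub_one F r)
    rw [map_mul, hR, map_mul, hβ, zero_mul, zero_mul, map_sub, map_pow, aeval_X, map_one] at h
    exact sub_eq_zero.1 h.symm
  obtain ⟨k, hkr, hk⟩ := hprim.eq_pow_of_pow_eq_one hβr
  have hk0 : k ≠ 0 := by
    rintro rfl
    rw [pow_zero] at hk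
    obtain ⟨R, hR⟩ := hgd
    have h1 : aeval (1 : AdjoinRoot g₀) g = algebraMap F _ (eval 1 g) := by
      rw [← map_one (algebraMap F (AdjoinRoot g₀)), Polynomial.aeval_algebraMap_apply_eq_algebraMap_eval]
    rw [hk, hβ, eq_comm, map_eq_zero] at h1
    have h := congrArg (eval (1 : F)) hR
    rw [eval_one_cyclotomic_prime, eval_mul, h1, zero_mul] at h
    exact hr0 h
  obtain ⟨R, hR⟩ : g₀ ∣ g.comp (Polynomial.X ^ k) := by
    rw [← AdjoinRoot.mk_eq_zero, ← AdjoinRoot.aeval_eq, aeval_comp, map_pow, aeval_X]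
    show aeval (α ^ k) g = 0
    rw [hk, hβ]
  obtain ⟨l, hl⟩ := OrthDecomp.pow_mul_cancel (r := r) hk0 hY
    ((Nat.Prime.coprime_iff_not_dvd hr.out).2 fun hd => absurd (Nat.le_of_dvd (Nat.pos_of_ne_zero hk0) hd) (not_le.2 hkr)).symm
  have hY' : (Y ^ k) ^ r = 1 := by rw [← pow_mul, mul_comm, pow_mul, hY, one_pow]
  have hiso' : ∀ (j : ℕ) v, Q ((Y ^ j) v) = Q v := fun j => by
    induction j with
    | zero => exact fun v => rfl
    | succ j ih => intro v; rw [pow_succ', End.mul_apply, hiso, ih]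
  have hfix_pow : ∀ (Z : End F (ι → F)) (j : ℕ) v, Z v = v → (Z ^ j) v = v := fun Z j v hv => by
    induction j with
    | zero => rfl
    | succ j ih => rw [pow_succ, End.mul_apply, hv, ih]
  have hfix : fixed (Y ^ k) = fixed Y := by
    ext v
    rw [mem_fixed, mem_fixed]
    exact ⟨fun h => by rw [← hl]; exact hfix_pow _ l v h, hfix_pow Y k v⟩
  have hgk : moved Y r ≤ LinearMap.ker (aeval (Y ^ k) g) := fun v hv => by
    have h : aeval Y (g.comp (Polynomial.X ^ k)) = aeval (Y ^ k) g := by rw [aeval_comp, map_pow, aeval_X]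
    rw [LinearMap.mem_ker, ← h, hR, mul_comm, map_mul, End.mul_apply, LinearMap.mem_ker.1 (hker hv), map_zero]
  have hmv : moved Y r = moved (Y ^ k) r := by
    refine Submodule.eq_of_le_of_finrank_le (fun v hv => ?_) ?_
    · obtain ⟨R', hR'⟩ := hgd
      show aeval (Y ^ k) (cyclotomic r F) v = 0
      rw [hR', mul_comm, map_mul, End.mul_apply, LinearMap.mem_ker.1 (hgk hv), map_zero]
    · obtain ⟨-, -, e', he', hfe'⟩ := OrthNdSub.moved_dim Q hQ h2 hrp hr2 hi hY' (hiso' k)
      rw [hfix] at hfe'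
      omega
  refine ⟨Y ^ k, hY', hiso' k, fun b hb => hfix_pow Y k b (hYp b hb), fun u hu => ?_, ?_, hmv ▸ he, hmv ▸ hgk⟩
  · have hinv : U.map Y ≤ U := by
      rintro _ ⟨a, ha, rfl⟩
      exact fixer_mem Q hQ hU y.2 ha
    have h := PrimeElem.aeval_mem Y hinv (Polynomial.X ^ k) hu
    rwa [map_pow, aeval_X] at h
  · rw [hfix]
    have h := (decompose hr0 hY (U := U) (by rintro _ ⟨a, ha, rfl⟩; exact fixer_mem Q hQ hU y.2 ha)).2
    rw [inf_eq_right.2 hMU, hUd, he] at h
    omega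

include hQ h2 in
/-- An isometry whose factors have bounded multiplicities, in odd dimension. -/
theorem exists_multi (hrp : r ≠ p) (hr2 : r ≠ 2) {i d : ℕ} (hi : orderOf ((Fintype.card F : ℕ) : ZMod r) = i)
    (hev : Even i) (hn : Fintype.card ι = 2 * d + 1) : ∀ l : List F[X], (∀ g ∈ l, g ∈ factors r F) → i * l.length ≤ 2 * d →
    ∃ X : End F (ι → F), X ^ r = 1 ∧ (∀ v, Q (X v) = Q v) ∧ finrank F (fixed X) + i * l.length = 2 * d + 1 ∧
      ∀ g ∈ factors r F, finrank F (LinearMap.ker (aeval X g)) ≤ i * l.count g := by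
  intro l
  induction l with
  | nil =>
    intro _ _
    refine ⟨1, one_pow _, fun v => rfl, ?_, fun g hg => ?_⟩
    · have : fixed (1 : End F (ι → F)) = ⊤ := eq_top_iff.2 fun v _ => mem_fixed.2 rfl
      rw [this, finrank_top, Module.finrank_fintype_fun_eq_card, hn]
      simp
    · have hne : g.eval 1 ≠ 0 := fun h0 => by
        obtain ⟨R, hR⟩ := (mem_factors.1 hg).2.2
        have h := congrArg (eval (1 : F)) hR
        rw [eval_one_cyclotomic_prime, eval_mul, h0, zero_mul] at h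
        exact PrimeElemFlags.cast_ne_zero hrp h
      rw [LinearMap.ker_eq_bot'.2 fun v hv => ?_, finrank_bot]
      · exact Nat.zero_le _
      · rw [show (1 : End F (ι → F)) = algebraMap F _ 1 from (map_one _).symm,
          Polynomial.aeval_algebraMap_apply_eq_algebraMap_eval, Module.algebraMap_end_apply] at hv
        exact (smul_eq_zero.1 hv).resolve_left hne
  | cons a l ih =>
    intro hl hlen
    rw [List.length_cons, Nat.mul_succ] at hlen
    have ha : a ∈ factors r F := hl a (List.mem_cons_self ..)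
    obtain ⟨X, hX, hiso, hf, hXg⟩ := ih (fun g hg => hl g (List.mem_cons_of_mem a hg)) (by omega)
    have hr0 : (r : F) ≠ 0 := PrimeElemFlags.cast_ne_zero hrp
    obtain ⟨hF, -⟩ := OrthDecomp.nd_parts Q hr0 hX hiso (QuadType.nd_top Q hQ) (le_top : (⊤ : Submodule F (ι → F)).map X ≤ ⊤)
    rw [top_inf_eq] at hF
    obtain ⟨cc, hcc⟩ := hev
    obtain ⟨U, hUF, hU, hUd⟩ : ∃ U ≤ fixed X, Nd Q U ∧ finrank F U = i + 1 := by
      obtain ⟨P, hPF, hP, hPd, -⟩ := QuadType.exists_type Q hQ h2 cc hF (by omega) True (fun _ => trivial)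
      obtain ⟨-, hR, hdim⟩ := QuadType.split_off Q hF hP hPF
      obtain ⟨v, hv, hQv⟩ : ∃ v ∈ fixed X ⊓ perp Q P, Q v ≠ 0 := by
        by_contra hc
        push Not at hc
        have hle : (fixed X ⊓ perp Q P : Submodule F (ι → F)) ≠ ⊥ := fun e => by rw [e, finrank_bot] at hdim; omega
        obtain ⟨a, ha, ha0⟩ := (Submodule.ne_bot_iff _).1 hle
        obtain ⟨x, hx, hax⟩ := hR a ha ha0
        exact hax (QuadType.ts_polar Q (U := fixed X ⊓ perp Q P) hc ha hx)
      have hvn : Nd Q (F ∙ v) := fun a ha ha0 => by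
        obtain ⟨c, rfl⟩ := Submodule.mem_span_singleton.1 ha
        exact ⟨v, Submodule.mem_span_singleton_self v, by
          simp [quad_polar_self, hQv, h2, (smul_ne_zero_iff.1 ha0).1]⟩
      obtain ⟨g1, g2⟩ := QuadType.nd_sup Q hP hvn ((Submodule.span_singleton_le_iff_mem _ _).2 hv.2)
      refine ⟨_, sup_le hPF ((Submodule.span_singleton_le_iff_mem _ _).2 hv.1), g1, ?_⟩
      rw [g2, hPd, finrank_span_singleton (fun e => hQv (by rw [e, QuadraticMap.map_zero]))]
      omega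
    obtain ⟨Y, hY, hYiso, hYp, hYU, hYf, hYm, hYa⟩ := exists_piece Q hQ h2 hrp hr2 hi ⟨cc, hcc⟩ hU hUd ha
    have hXp : ∀ w ∈ perp Q U, X w ∈ perp Q U := fun w hw u hu => by
      rw [← mem_fixed.1 (hUF hu), quad_polar_map Q hiso]; exact hw u hu
    obtain ⟨htop, -, -, -⟩ := QuadType.compl_perp Q hQ hU
    have hZu : ∀ u ∈ U, (X * Y) u = Y u := fun u hu => mem_fixed.1 (hUF (hYU u hu))
    have hZw : ∀ w ∈ perp Q U, (X * Y) w = X w := fun w hw => congrArg X (hYp w hw)
    have hdis : ∀ v ∈ U, v ∈ perp Q U → v = 0 := fun v h1 h3 => by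
      have : v ∈ U ⊓ ((⊤ : Submodule F (ι → F)) ⊓ perp Q U) := ⟨h1, Submodule.mem_top, h3⟩
      rwa [QuadType.inf_perp Q hU, Submodule.mem_bot] at this
    have hsplit : ∀ u ∈ U, ∀ w ∈ perp Q U, u + w = 0 → u = 0 ∧ w = 0 := fun u hu w hw h => by
      have h0 := hdis u hu (by rw [eq_neg_of_add_eq_zero_left h]; exact (perp Q U).neg_mem hw)
      rw [h0, zero_add] at h
      exact ⟨h0, h⟩
    have hYinv : U.map Y ≤ U := by rintro _ ⟨u, hu, rfl⟩; exact hYU u hu
    have hXinv : (perp Q U).map X ≤ perp Q U := by rintro _ ⟨u, hu, rfl⟩; exact hXp u hu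
    have hact : ∀ (P : F[X]), (∀ u ∈ U, aeval (X * Y) P u = aeval Y P u) ∧
        (∀ w ∈ perp Q U, aeval (X * Y) P w = aeval X P w) := fun P => by
      induction P using Polynomial.induction_on with
      | C a => simp
      | add A B hA hB =>
        exact ⟨fun u hu => by simp [hA.1 u hu, hB.1 u hu], fun w hw => by simp [hA.2 w hw, hB.2 w hw]⟩
      | monomial j a ih =>
        rw [pow_succ, ← mul_assoc]
        constructor
        · intro u hu
          rw [map_mul (aeval (X * Y)) _ Polynomial.X, map_mul (aeval Y) _ Polynomial.X, aeval_X, aeval_X, End.mul_apply,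
            hZu u hu, ih.1 _ (hYU u hu)]
          rfl
        · intro w hw
          rw [map_mul (aeval (X * Y)) _ Polynomial.X, map_mul (aeval X) _ Polynomial.X, aeval_X, aeval_X, End.mul_apply,
            hZw w hw, ih.2 _ (hXp w hw)]
          rfl
    have hcomm : Commute X Y := by
      refine LinearMap.ext fun v => ?_
      obtain ⟨u, hu, w, hw, rfl⟩ := Submodule.mem_sup.1 (htop.symm ▸ Submodule.mem_top : v ∈ U ⊔ perp Q U)
      simp only [End.mul_apply, map_add, hYp w hw, hYp _ (hXp w hw), mem_fixed.1 (hUF hu), mem_fixed.1 (hUF (hYU u hu))]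
    refine ⟨X * Y, by rw [hcomm.mul_pow, hX, hY, one_mul], fun v => by rw [End.mul_apply, hiso, hYiso], ?_, fun g hg => ?_⟩
    · have hfixZ : fixed (X * Y) = (U ⊓ fixed Y) ⊔ (fixed X ⊓ perp Q U) := by
        refine le_antisymm (fun v hv => ?_) (sup_le (fun v hv => ?_) (fun v hv => ?_))
        · obtain ⟨u, hu, w, hw, rfl⟩ := Submodule.mem_sup.1 (htop.symm ▸ Submodule.mem_top : v ∈ U ⊔ perp Q U)
          have h := mem_fixed.1 hv
          rw [map_add, hZu u hu, hZw w hw, ← sub_eq_zero, add_sub_add_comm] at h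
          obtain ⟨h1, h3⟩ := hsplit _ (U.sub_mem (hYU u hu) hu) _ ((perp Q U).sub_mem (hXp w hw) hw) h
          exact Submodule.add_mem_sup ⟨hu, mem_fixed.2 (sub_eq_zero.1 h1)⟩ ⟨mem_fixed.2 (sub_eq_zero.1 h3), hw⟩
        · exact mem_fixed.2 ((hZu v hv.1).trans (mem_fixed.1 hv.2))
        · exact mem_fixed.2 ((hZw v hv.2).trans (mem_fixed.1 hv.1))
      have h4 := Submodule.finrank_sup_add_finrank_inf_eq (U ⊓ fixed Y) (fixed X ⊓ perp Q U)
      have hbot : (U ⊓ fixed Y) ⊓ (fixed X ⊓ perp Q U) = ⊥ :=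
        (Submodule.eq_bot_iff _).2 fun v hv => hdis v hv.1.1 hv.2.2
      rw [hbot, finrank_bot, add_zero, ← hfixZ, hYf] at h4
      have h5 := QuadType.dim_inf_perp Q hF hUF
      rw [List.length_cons, Nat.mul_succ]
      omega
    · have hker : LinearMap.ker (aeval (X * Y) g) ≤ (U ⊓ LinearMap.ker (aeval Y g)) ⊔ LinearMap.ker (aeval X g) := by
        intro v hv
        obtain ⟨u, hu, w, hw, rfl⟩ := Submodule.mem_sup.1 (htop.symm ▸ Submodule.mem_top : v ∈ U ⊔ perp Q U)
        rw [LinearMap.mem_ker, map_add, (hact g).1 u hu, (hact g).2 w hw] at hv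
        obtain ⟨h1, h3⟩ := hsplit _ (PrimeElem.aeval_mem Y hYinv g hu) _ (PrimeElem.aeval_mem X hXinv g hw) hv
        exact Submodule.add_mem_sup ⟨hu, h1⟩ h3
      refine (Submodule.finrank_mono hker).trans ?_
      refine (Submodule.finrank_add_le_finrank_add_finrank _ _).trans ?_
      have hmvd : LinearMap.ker (aeval Y g) ≤ moved Y r := fun v hv => by
        obtain ⟨R, hR⟩ := (mem_factors.1 hg).2.2
        show aeval Y (cyclotomic r F) v = 0
        rw [hR, mul_comm, map_mul, End.mul_apply, LinearMap.mem_ker.1 hv, map_zero]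
      have h6 := hXg g hg
      rw [List.count_cons]
      by_cases hga : a = g
      · have h7 := Submodule.finrank_mono (inf_le_right.trans hmvd : U ⊓ LinearMap.ker (aeval Y g) ≤ moved Y r)
        rw [hga, beq_self_eq_true, if_pos rfl, Nat.mul_succ]
        omega
      · have h7 : LinearMap.ker (aeval Y g) = ⊥ := by
          refine LinearMap.ker_eq_bot'.2 fun v hv => ?_
          obtain ⟨s, t, hst⟩ := coprime_of_ne hg ha (Ne.symm hga)
          have h8 : aeval Y a v = 0 := hYa (hmvd hv)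
          have e := congrArg (fun P => aeval Y P v) hst
          simp only [map_add, map_mul, LinearMap.add_apply, End.mul_apply, hv, h8, map_zero, zero_add, map_one,
            End.one_apply] at e
          exact e.symm
        rw [h7, inf_bot_eq, finrank_bot, beq_eq_false_iff_ne.2 hga, if_neg Bool.false_ne_true, zero_add]
        simpa using h6

end Cfsg.Agent.Lib.MaxSub.OrthTSElem
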