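import Cfsg.Agent.Lib.MaxSub.OrthTSAny
import Cfsg.Agent.Lib.MaxSub.OrthTSElem
import Mathlib

/-!
Invariant totally singular subspaces of elements of order two modulo scalars in even dimensional orthogonal groups.
-/

set_option autoImplicit false
set_option maxHeartbeats 1000000
set_option linter.unusedSectionVars false

namespace Cfsg.Agent.Lib.MaxSub.OrthTSTwo

open Module Polynomial Cfsg.Agent.Lib.MaxSub Cfsg.Agent.Lib.Geometry
open Cfsg.Agent.Lib.MaxSub.QuadType (Nd TS Plus perp)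
open Cfsg.Agent.Lib.MaxSub.IsoDecomp (inf_inv sup_inv)
open Cfsg.Agent.Lib.MaxSub.OrthTSAny (Good good_sup)
open QuadraticMap (polarBilin)
open scoped _root_.Classical

attribute [-simp] QuadraticMap.polarBilin_apply_apply

variable {ι : Type} [Fintype ι] [DecidableEq ι] {F : Type*} [Field F] [Fintype F] (Q : QuadraticForm F (ι → F))
variable (hQ : (polarBilin Q).Nondegenerate) (h2 : (2 : F) ≠ 0)

theorem refl_perp {v x : ι → F} (h : polarBilin Q v x = 0) : (refl Q v : (ι → F) ≃ₗ[F] (ι → F)) x = x := by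
  rw [refl_apply, h, mul_zero, zero_smul, sub_zero]

include hQ in
/-- Combining two reflections on a plane with an element on its perpendicular part. -/
theorem combine {U P : Submodule F (ι → F)} (hU : Nd Q U) (hP : Nd Q P) (hPU : P ≤ U) {a b : ι → F} (ha : a ∈ P) (hb : b ∈ P)
    (hQa : Q a ≠ 0) (hQb : Q b ≠ 0) (g : quadIsometries Q)
    (hgp : ∀ x ∈ perp Q (U ⊓ perp Q P), (g : (ι → F) ≃ₗ[F] (ι → F)) x = x) {X : End F (ι → F)}
    (hgR : ∀ x ∈ U ⊓ perp Q P, (g : (ι → F) ≃ₗ[F] (ι → F)) x = X x) (hXR : (U ⊓ perp Q P).map X ≤ U ⊓ perp Q P)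
    (hP' : ∀ x ∈ P, (refl Q a : (ι → F) ≃ₗ[F] (ι → F)) ((refl Q b : (ι → F) ≃ₗ[F] (ι → F)) x) = X x) :
    (∀ x ∈ U, ((refl Q a * (refl Q b * g) : quadIsometries Q) : (ι → F) ≃ₗ[F] (ι → F)) x = X x) ∧
      (∀ x ∈ perp Q U, ((refl Q a * (refl Q b * g) : quadIsometries Q) : (ι → F) ≃ₗ[F] (ι → F)) x = x) ∧
      spinor Q (refl Q a * (refl Q b * g)) = sqClass (Q a) * (sqClass (Q b) * spinor Q g) ∧
      dickson Q (refl Q a * (refl Q b * g)) = dickson Q g := by
  refine ⟨fun x hx => ?_, fun x hx => ?_, ?_, ?_⟩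
  · obtain ⟨hsup, -, -⟩ := QuadType.split_off Q hU hP hPU
    obtain ⟨y, hy, z, hz, rfl⟩ := Submodule.mem_sup.1 (hsup.symm ▸ hx : x ∈ P ⊔ (U ⊓ perp Q P))
    have hXz : X z ∈ U ⊓ perp Q P := hXR (Submodule.mem_map_of_mem hz)
    show (refl Q a : (ι → F) ≃ₗ[F] (ι → F)) ((refl Q b : (ι → F) ≃ₗ[F] (ι → F))
      ((g : (ι → F) ≃ₗ[F] (ι → F)) (y + z))) = _
    rw [map_add, hgp y fun w hw => QuadType.mem_perp' Q hw.2 hy, hgR z hz, map_add, map_add, hP' y hy,
      refl_perp Q (hXz.2 b hb), refl_perp Q (hXz.2 a ha), map_add]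
  · show (refl Q a : (ι → F) ≃ₗ[F] (ι → F)) ((refl Q b : (ι → F) ≃ₗ[F] (ι → F)) ((g : (ι → F) ≃ₗ[F] (ι → F)) x)) = x
    rw [hgp x (QuadType.perp_anti Q inf_le_left hx), refl_perp Q (hx b (hPU hb)), refl_perp Q (hx a (hPU ha))]
  · rw [spinor_refl_mul Q hQ _ hQa, spinor_refl_mul Q hQ _ hQb]
  · rw [dickson_refl_mul Q hQ _ hQa, dickson_refl_mul Q hQ _ hQb, neg_neg]

include hQ h2 in
theorem plane_neg {v w : ι → F} (hv : Q v ≠ 0) (hw : Q w ≠ 0) (hvw : polarBilin Q v w = 0) :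
    ∀ x ∈ (F ∙ v) ⊔ (F ∙ w), (refl Q v : (ι → F) ≃ₗ[F] (ι → F)) ((refl Q w : (ι → F) ≃ₗ[F] (ι → F)) x) =
      (-1 : End F (ι → F)) x := by
  intro x hx
  obtain ⟨q1, hq1, q2, hq2, rfl⟩ := Submodule.mem_sup.1 hx
  obtain ⟨s, rfl⟩ := Submodule.mem_span_singleton.1 hq1
  obtain ⟨t, rfl⟩ := Submodule.mem_span_singleton.1 hq2
  simp only [map_add, map_neg, map_smul, refl_apply_self Q hv, refl_apply_self Q hw, refl_perp Q hvw,
    refl_perp Q (show polarBilin Q w v = 0 by rw [quad_polar_comm]; exact hvw), LinearMap.neg_apply, End.one_apply]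

include hQ h2 in
/-- The negative of the identity on a non-degenerate space of even dimension. -/
theorem neg_space : ∀ (k : ℕ) {U : Submodule F (ι → F)}, finrank F U = 2 * k → Nd Q U →
    ∃ g : quadIsometries Q, spinor Q g = sqClass (-1 : F) ^ k * (if Plus Q U then 1 else -1) ∧ dickson Q g = 1 ∧
      (∀ u ∈ U, (g : (ι → F) ≃ₗ[F] (ι → F)) u = (-1 : End F (ι → F)) u) ∧
      (∀ w ∈ perp Q U, (g : (ι → F) ≃ₗ[F] (ι → F)) w = w) := by
  intro k
  induction k with
  | zero =>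
    intro U hUd _
    have hU0 : U = ⊥ := Submodule.finrank_eq_zero.1 (by omega)
    refine ⟨1, ?_, dickson_one Q, fun u hu => ?_, fun w _ => rfl⟩
    · rw [spinor_one Q hQ, pow_zero, one_mul, if_pos]
      exact ⟨⊥, bot_le, fun u hu => by rw [(Submodule.mem_bot F).1 hu, QuadraticMap.map_zero], by rw [finrank_bot, hUd]⟩
    · rw [hU0, Submodule.mem_bot] at hu
      subst hu
      simp
  | succ k ih =>
    intro U hUd hU
    have hneg : ∀ S : Submodule F (ι → F), S.map (-1 : End F (ι → F)) ≤ S := fun S => by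
      rintro _ ⟨x, hx, rfl⟩
      simpa using S.neg_mem hx
    by_cases hp : Plus Q U
    · obtain ⟨T, hTU, hT, hTd⟩ := id hp
      obtain ⟨u, hu, hu0⟩ := (Submodule.ne_bot_iff T).1 fun e => by rw [e, finrank_bot] at hTd; omega
      obtain ⟨z, hzU, hQz, huz, hle, hP, hPd, hPp⟩ := QuadAny.exists_hyp Q hQ hU (hTU hu) hu0 (hT u hu)
      obtain ⟨-, hR, hRd⟩ := QuadType.split_off Q hU hP hle
      obtain ⟨g, hgs, hgd, hgU, hgp⟩ := ih (U := U ⊓ perp Q ((F ∙ u) ⊔ (F ∙ z))) (by omega) hR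
      rw [if_pos (QuadType.plus_cancel Q hQ h2 hU hP hle hp hPp), mul_one] at hgs
      have huu : polarBilin Q u u = 0 := by rw [quad_polar_self, hT u hu, mul_zero]
      have hzz : polarBilin Q z z = 0 := by rw [quad_polar_self, hQz, mul_zero]
      have hzu : polarBilin Q z u = 1 := by rw [quad_polar_comm]; exact huz
      have ha : Q (u + z) = 1 := by rw [quad_add, hT u hu, hQz, huz, add_zero, zero_add]
      have hb : Q (u - z) = -1 := by rw [quad_sub, hT u hu, hQz, huz]; ring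
      have hab : polarBilin Q (u + z) (u - z) = 0 := by simp [huu, hzz, huz, hzu]
      have ha0 : Q (u + z) ≠ 0 := ha ▸ one_ne_zero
      have hb0 : Q (u - z) ≠ 0 := hb ▸ neg_ne_zero.2 one_ne_zero
      have mu : u ∈ (F ∙ u) ⊔ (F ∙ z) := Submodule.mem_sup_left (Submodule.mem_span_singleton_self u)
      have mz : z ∈ (F ∙ u) ⊔ (F ∙ z) := Submodule.mem_sup_right (Submodule.mem_span_singleton_self z)
      obtain ⟨c1, c2, c3, c4⟩ := combine Q hQ hU hP hle (Submodule.add_mem _ mu mz) (Submodule.sub_mem _ mu mz) ha0 hb0 g hgp hgU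
        (hneg _) (fun x hx => by
          obtain ⟨p', hp', q', hq', rfl⟩ := Submodule.mem_sup.1 hx
          obtain ⟨s, rfl⟩ := Submodule.mem_span_singleton.1 hp'
          obtain ⟨t, rfl⟩ := Submodule.mem_span_singleton.1 hq'
          refine plane_neg Q hQ h2 ha0 hb0 hab _ ?_
          rw [show s • u + t • z = ((s + t) / 2) • (u + z) + ((s - t) / 2) • (u - z) from by
            match_scalars <;> field_simp <;> ring]
          exact Submodule.add_mem_sup (Submodule.smul_mem _ _ (Submodule.mem_span_singleton_self _))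
            (Submodule.smul_mem _ _ (Submodule.mem_span_singleton_self _)))
      refine ⟨_, ?_, c4.trans hgd, c1, c2⟩
      rw [c3, hgs, ha, hb, sqClass_eq_one_iff.2 IsSquare.one, one_mul, if_pos hp, mul_one, pow_succ']
    · obtain ⟨v, hv, w, hw, hQv, hQw, hvw, hns, hRp⟩ := QuadType.exists_plane Q hQ h2 _ rfl hU (hUd ▸ even_two_mul _) hp
      have hv0 : Q v ≠ 0 := hQv ▸ one_ne_zero
      obtain ⟨hP, hPd, -⟩ := QuadType.plane_iff Q hQ h2 hv0 hQw hvw
      have hle : (F ∙ v) ⊔ (F ∙ w) ≤ U := sup_le ((Submodule.span_singleton_le_iff_mem _ _).2 hv)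
        ((Submodule.span_singleton_le_iff_mem _ _).2 hw)
      obtain ⟨-, hR, hRd⟩ := QuadType.split_off Q hU hP hle
      obtain ⟨g, hgs, hgd, hgU, hgp⟩ := ih (U := U ⊓ perp Q ((F ∙ v) ⊔ (F ∙ w))) (by omega) hR
      rw [if_pos hRp, mul_one] at hgs
      obtain ⟨c1, c2, c3, c4⟩ := combine Q hQ hU hP hle (Submodule.mem_sup_left (Submodule.mem_span_singleton_self v))
        (Submodule.mem_sup_right (Submodule.mem_span_singleton_self w)) hv0 hQw g hgp hgU (hneg _) (plane_neg Q hQ h2 hv0 hQw hvw)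
      refine ⟨_, ?_, c4.trans hgd, c1, c2⟩
      rw [c3, hgs, hQv, sqClass_eq_one_iff.2 IsSquare.one, one_mul, if_neg hp, pow_succ',
        show Q w = -1 * -Q w by ring, sqClass_mul (neg_ne_zero.2 one_ne_zero) (neg_ne_zero.2 hQw),
        sqClass_eq_neg_one_iff.2 hns]
      simp [mul_comm, mul_left_comm]

include hQ h2 in
/-- The quarter turn of a plane. -/
theorem plane_turn {v w : ι → F} (hv : Q v = 1) (hw : Q w = 1) (hvw : polarBilin Q v w = 0) :
    Q (v - w) = 2 ∧ (refl Q v : (ι → F) ≃ₗ[F] (ι → F)) ((refl Q (v - w) : (ι → F) ≃ₗ[F] (ι → F)) v) = w ∧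
      (refl Q v : (ι → F) ≃ₗ[F] (ι → F)) ((refl Q (v - w) : (ι → F) ≃ₗ[F] (ι → F)) w) = -v := by
  have hd : Q (v - w) = 2 := by rw [quad_sub, hv, hw, hvw]; norm_num
  have hd0 : Q (v - w) ≠ 0 := by rw [hd]; exact h2
  have hwv : polarBilin Q w v = 0 := by rw [quad_polar_comm]; exact hvw
  have e1 : (refl Q (v - w) : (ι → F) ≃ₗ[F] (ι → F)) v = w := by
    rw [refl_apply, hd, map_sub, LinearMap.sub_apply, quad_polar_self, hv, hwv, mul_one, sub_zero, inv_mul_cancel₀ h2,
      one_smul, sub_sub_cancel]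
  have e2 : (refl Q (v - w) : (ι → F) ≃ₗ[F] (ι → F)) w = v := by
    rw [refl_apply, hd, map_sub, LinearMap.sub_apply, quad_polar_self, hw, hvw, mul_one, zero_sub, mul_neg,
      inv_mul_cancel₀ h2, neg_smul, one_smul, sub_neg_eq_add, add_sub_cancel]
  refine ⟨hd, by rw [e1, refl_perp Q hvw], by rw [e2, refl_apply_self Q (hv ▸ one_ne_zero)]⟩

include hQ h2 in
/-- Square roots of `-1` without eigenvectors: planes, type and spinor norm. -/
theorem turn_space (hq : ¬ IsSquare (-1 : F)) {X : End F (ι → F)} (hXX : ∀ v, X (X v) = -v) (hiso : ∀ v, Q (X v) = Q v) :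
    ∀ (N : ℕ) {U : Submodule F (ι → F)}, finrank F U = N → Nd Q U → U.map X ≤ U →
      ∃ k, N = 2 * k ∧ (Plus Q U ↔ Even k) ∧ ∃ g : quadIsometries Q, spinor Q g = sqClass (2 : F) ^ k ∧
        (∀ u ∈ U, (g : (ι → F) ≃ₗ[F] (ι → F)) u = X u) ∧ (∀ w ∈ perp Q U, (g : (ι → F) ≃ₗ[F] (ι → F)) w = w) := by
  have hX4 : X ^ 4 = 1 := LinearMap.ext fun v => by
    rw [show X ^ 4 = X * X * (X * X) by simp [pow_succ, mul_assoc]]
    simp [hXX]
  intro N
  induction N using Nat.strong_induction_on with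
  | _ N ih =>
  intro U hN hU hUi
  by_cases hU0 : U = ⊥
  · subst hU0
    rw [finrank_bot] at hN
    refine ⟨0, by omega, iff_of_true ⟨⊥, le_rfl, fun u hu => by rw [(Submodule.mem_bot F).1 hu, QuadraticMap.map_zero],
      by simp⟩ Even.zero, 1, by rw [spinor_one Q hQ, pow_zero], fun u hu => ?_, fun w _ => rfl⟩
    rw [(Submodule.mem_bot F).1 hu]; simp
  have horth : ∀ v, polarBilin Q v (X v) = 0 := fun v => by
    have h := quad_polar_map Q hiso v (X v)
    rw [hXX, map_neg, quad_polar_comm Q (X v) v] at h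
    exact (mul_eq_zero.1 (show (2 : F) * polarBilin Q v (X v) = 0 by linear_combination -h)).resolve_left h2
  obtain ⟨a, ha, hQa⟩ : ∃ a ∈ U, Q a ≠ 0 := by
    by_contra hc
    push Not at hc
    obtain ⟨a, ha, ha0⟩ := (Submodule.ne_bot_iff U).1 hU0
    obtain ⟨x, hx, hax⟩ := hU a ha ha0
    exact hax (QuadType.ts_polar Q (U := U) hc ha hx)
  have hXm : ∀ u ∈ U, X u ∈ U := fun u hu => hUi (Submodule.mem_map_of_mem hu)
  obtain ⟨hE0, hE0d, -⟩ := QuadType.plane_iff Q hQ h2 hQa (by rw [hiso]; exact hQa) (horth a)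
  have h2le : 2 ≤ finrank F U := hE0d ▸ Submodule.finrank_mono
    (sup_le ((Submodule.span_singleton_le_iff_mem _ _).2 ha) ((Submodule.span_singleton_le_iff_mem _ _).2 (hXm a ha)))
  obtain ⟨v, hv, hQv⟩ := QuadType.exists_val Q hQ h2 hU h2le one_ne_zero
  have hQw : Q (X v) = 1 := by rw [hiso, hQv]
  obtain ⟨hP, hPd, hPp⟩ := QuadType.plane_iff Q hQ h2 (hQv ▸ one_ne_zero) (hQw ▸ one_ne_zero) (horth v)
  set P := (F ∙ v) ⊔ (F ∙ X v)
  have hnp : ¬ Plus Q P := by rw [hPp, hQv, hQw, mul_one]; exact hq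
  have hPU : P ≤ U := sup_le ((Submodule.span_singleton_le_iff_mem _ _).2 hv)
    ((Submodule.span_singleton_le_iff_mem _ _).2 (hXm v hv))
  have hPi : P.map X ≤ P := by
    rw [Submodule.map_sup, Submodule.map_span, Submodule.map_span, Set.image_singleton, Set.image_singleton, hXX]
    refine sup_le le_sup_right ((Submodule.span_singleton_le_iff_mem _ _).2 ?_)
    exact Submodule.neg_mem _ (Submodule.mem_sup_left (Submodule.mem_span_singleton_self v))
  obtain ⟨hsup, hR, hRd⟩ := QuadType.split_off Q hU hP hPU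
  have hRi := inf_inv hUi (OrthDecomp.perp_inv Q hX4 (by norm_num) hiso hPi)
  obtain ⟨k, hk, hkt, g, hgs, hgU, hgp⟩ := ih _ (by omega) rfl hR hRi
  obtain ⟨hd, e1, e2⟩ := plane_turn Q hQ h2 hQv hQw (horth v)
  have mv : v ∈ P := Submodule.mem_sup_left (Submodule.mem_span_singleton_self v)
  have mw : X v ∈ P := Submodule.mem_sup_right (Submodule.mem_span_singleton_self _)
  obtain ⟨c1, c2, c3, -⟩ := combine Q hQ hU hP hPU mv (P.sub_mem mv mw) (hQv ▸ one_ne_zero) (hd ▸ h2) g hgp hgU hRi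
    (fun x hx => by
      obtain ⟨q1, hq1, q2, hq2, rfl⟩ := Submodule.mem_sup.1 hx
      obtain ⟨s, rfl⟩ := Submodule.mem_span_singleton.1 hq1
      obtain ⟨t, rfl⟩ := Submodule.mem_span_singleton.1 hq2
      simp only [map_add, map_smul, e1, e2, hXX])
  refine ⟨k + 1, by omega, ?_, _, ?_, c1, c2⟩
  · have h := QuadType.sup_iff Q hQ h2 hP hR inf_le_right (hPd ▸ even_two) (hk ▸ even_two_mul k)
    rw [hsup, hkt] at h
    rw [Nat.even_add_one, h]
    simp [hnp]
  · rw [c3, hgs, hQv, hd, sqClass_eq_one_iff.2 IsSquare.one, one_mul, pow_succ']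

include hQ h2 in
/-- Quarter turns of spaces with the type of a sum of anisotropic planes. -/
theorem exists_turn (hq : ¬ IsSquare (-1 : F)) : ∀ (k : ℕ) {U : Submodule F (ι → F)}, finrank F U = 2 * k → Nd Q U →
    (Plus Q U ↔ Even k) → ∃ (g : quadIsometries Q) (X : End F (ι → F)), spinor Q g = sqClass (2 : F) ^ k ∧
      dickson Q g = 1 ∧ U.map X ≤ U ∧ (∀ u ∈ U, X (X u) = -u) ∧
      (∀ u ∈ U, (g : (ι → F) ≃ₗ[F] (ι → F)) u = X u) ∧ (∀ w ∈ perp Q U, (g : (ι → F) ≃ₗ[F] (ι → F)) w = w) := by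
  intro k
  induction k with
  | zero =>
    intro U hUd _ _
    have hU0 : U = ⊥ := Submodule.finrank_eq_zero.1 (by omega)
    subst hU0
    exact ⟨1, 1, by rw [spinor_one Q hQ, pow_zero], dickson_one Q, by simp,
      fun u hu => by rw [(Submodule.mem_bot F).1 hu]; simp, fun u _ => rfl, fun w _ => rfl⟩
  | succ k ih =>
    intro U hUd hU hUp
    obtain ⟨P, hPU, hP, hPd, hPp⟩ : ∃ P ≤ U, Nd Q P ∧ finrank F P = 2 ∧ ¬ Plus Q P := by
      rcases Nat.eq_zero_or_pos k with rfl | hk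
      · exact ⟨U, le_rfl, hU, hUd, fun h => by simpa using hUp.1 h⟩
      · exact QuadAny.exists_minus_plane Q hQ hU (by omega)
    obtain ⟨v, hv, hQv⟩ := QuadType.exists_val Q hQ h2 hP hPd.ge one_ne_zero
    have hv0 : v ≠ 0 := fun e => by simp [e] at hQv
    have hdim := QuadType.dim_inf_perp Q hP ((Submodule.span_singleton_le_iff_mem _ _).2 hv)
    rw [finrank_span_singleton hv0, hPd] at hdim
    obtain ⟨w₀, hw₀, hw₀0⟩ := (Submodule.ne_bot_iff _).1 (fun e => by rw [e, finrank_bot] at hdim; omega :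
      P ⊓ perp Q (F ∙ v) ≠ ⊥)
    have hvw₀ : polarBilin Q v w₀ = 0 := hw₀.2 v (Submodule.mem_span_singleton_self v)
    have hQw₀ : Q w₀ ≠ 0 := fun h0 => hPp ⟨F ∙ w₀, (Submodule.span_singleton_le_iff_mem _ _).2 hw₀.1, fun u hu => by
      obtain ⟨a, rfl⟩ := Submodule.mem_span_singleton.1 hu
      rw [quad_smul, h0, mul_zero], by rw [hPd, finrank_span_singleton hw₀0]⟩
    obtain ⟨hE, hEd, hEp⟩ := QuadType.plane_iff Q hQ h2 (hQv ▸ one_ne_zero) hQw₀ hvw₀
    have hEP : (F ∙ v) ⊔ (F ∙ w₀) = P := Submodule.eq_of_le_of_finrank_le (sup_le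
      ((Submodule.span_singleton_le_iff_mem _ _).2 hv) ((Submodule.span_singleton_le_iff_mem _ _).2 hw₀.1)) (by omega)
    rw [hEP, hQv, one_mul] at hEp
    obtain ⟨c, hc⟩ : IsSquare (Q w₀) := by
      have h := isSquare_mul_iff_of_not_isSquare hq (fun h => hPp (hEp.2 h))
      rwa [neg_mul_neg, one_mul] at h
    have hc0 : c ≠ 0 := fun e => hQw₀ (by rw [hc, e, mul_zero])
    set w := c⁻¹ • w₀ with hw
    have hQw : Q w = 1 := by rw [hw, quad_smul, hc]; field_simp
    have hvw : polarBilin Q v w = 0 := by rw [hw, map_smul, hvw₀, smul_zero]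
    have mw : w ∈ P := P.smul_mem _ hw₀.1
    obtain ⟨hsup, hR, hRd⟩ := QuadType.split_off Q hU hP hPU
    have hRp : Plus Q (U ⊓ perp Q P) ↔ Even k := by
      have h := QuadType.sup_iff Q hQ h2 hP hR inf_le_right (hPd ▸ even_two)
        (show Even (finrank F (U ⊓ perp Q P : Submodule F (ι → F))) from ⟨k, by omega⟩)
      rw [hsup, hUp, Nat.even_add_one] at h
      simp only [hPp, false_iff] at h
      exact not_iff_not.1 h.symm
    obtain ⟨g, Y, hgs, hgd, hYR, hYY, hgU, hgp⟩ := ih (by omega) hR hRp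
    obtain ⟨π, hπ1, hπ2, hπ3, -⟩ := QuadType.exists_proj Q hQ hP
    set J : End F (ι → F) := ((refl Q v : (ι → F) ≃ₗ[F] (ι → F)) : (ι → F) →ₗ[F] (ι → F)) ∘ₗ
      ((refl Q (v - w) : (ι → F) ≃ₗ[F] (ι → F)) : (ι → F) →ₗ[F] (ι → F)) with hJ
    set X : End F (ι → F) := J ∘ₗ π + Y ∘ₗ (LinearMap.id - π) with hX
    have hXP : ∀ x ∈ P, X x = J x := fun x hx => by simp [hX, hπ2 x hx]
    have hXR : ∀ x ∈ U ⊓ perp Q P, X x = Y x := fun x hx => by simp [hX, hπ3 x hx.2]
    obtain ⟨hd, e1, e2⟩ := plane_turn Q hQ h2 hQv hQw hvw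
    have eJv : J v = w := e1
    have eJw : J w = -v := e2
    have hspan : ∀ x ∈ P, ∃ s t : F, x = s • v + t • w := fun x hx => by
      obtain ⟨q1, hq1, q2, hq2, rfl⟩ := Submodule.mem_sup.1 (hEP.symm ▸ hx : x ∈ (F ∙ v) ⊔ (F ∙ w₀))
      obtain ⟨s, rfl⟩ := Submodule.mem_span_singleton.1 hq1
      obtain ⟨t, rfl⟩ := Submodule.mem_span_singleton.1 hq2
      exact ⟨s, t * c, by rw [hw, smul_smul, mul_assoc, mul_inv_cancel₀ hc0, mul_one]⟩
    have hJP : ∀ x ∈ P, J x ∈ P ∧ J (J x) = -x := fun x hx => by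
      obtain ⟨s, t, rfl⟩ := hspan x hx
      constructor
      · rw [map_add, map_smul, map_smul, eJv, eJw]
        exact P.add_mem (P.smul_mem _ mw) (P.smul_mem _ (P.neg_mem hv))
      · simp only [map_add, map_smul, map_neg, eJv, eJw]
        module
    have hXRi : (U ⊓ perp Q P).map X ≤ U ⊓ perp Q P := by
      rintro _ ⟨x, hx, rfl⟩
      rw [hXR x hx]; exact hYR (Submodule.mem_map_of_mem hx)
    obtain ⟨c1, c2, c3, c4⟩ := combine Q hQ hU hP hPU hv (P.sub_mem hv mw) (hQv ▸ one_ne_zero) (hd ▸ h2) g hgp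
      (fun x hx => (hgU x hx).trans (hXR x hx).symm) hXRi (fun x hx => (hXP x hx).symm)
    have hXU : U.map X ≤ U := by
      rw [← hsup, Submodule.map_sup]
      refine sup_le_sup ?_ hXRi
      rintro _ ⟨x, hx, rfl⟩
      rw [hXP x hx]; exact (hJP x hx).1
    refine ⟨_, X, ?_, c4.trans hgd, hXU, fun u hu => ?_, c1, c2⟩
    · rw [c3, hgs, hQv, hd, sqClass_eq_one_iff.2 IsSquare.one, one_mul, pow_succ']
    · obtain ⟨y, hy, z, hz, rfl⟩ := Submodule.mem_sup.1 (hsup.symm ▸ hu : u ∈ P ⊔ (U ⊓ perp Q P))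
      have hYz : Y z ∈ U ⊓ perp Q P := hYR (Submodule.mem_map_of_mem hz)
      rw [map_add, map_add, hXP y hy, hXR z hz, hXP _ (hJP y hy).1, hXR _ hYz, (hJP y hy).2, hYY z hz, neg_add]

/-- The conditions for the prime two. -/
def CondTwo (q d m : ℕ) (P : Prop) : Prop :=
  (P → q % 4 = 1 ∨ (m + 2 ≤ d ∧ (Even m ∨ Odd d))) ∧ (¬ P → Even d ∨ Even m ∨ q % 8 ≠ 7)

theorem sqClass_units (s : ℤˣ) : s = 1 ∨ s = -1 := Int.units_eq_one_or s

include hQ h2 in
/-- Involutions. -/
theorem good_inv {d m : ℕ} (hn : Fintype.card ι = 2 * d) (hmd : m < d)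
    (hC : CondTwo (Fintype.card F) d m (Plus Q ⊤)) (g : quadIsometries Q) (hd1 : dickson Q g = 1) (hs1 : spinor Q g = 1)
    {X : End F (ι → F)} (hXg : ∀ v, (g : (ι → F) ≃ₗ[F] (ι → F)) v = X v) (hXX : ∀ v, X (X v) = v) : Good Q m X := by
  have hiso : ∀ v, Q (X v) = Q v := fun v => by rw [← hXg]; exact g.2 v
  let A : Submodule F (ι → F) := LinearMap.ker (X - 1)
  let B : Submodule F (ι → F) := LinearMap.ker (X + 1)
  have hA : ∀ a ∈ A, X a = a := fun a ha => by simpa [A, sub_eq_zero] using ha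
  have hB : ∀ b ∈ B, X b = -b := fun b hb => by
    have : X b + b = 0 := by simpa [B] using hb
    exact eq_neg_of_add_eq_zero_left this
  have hAB : ∀ a ∈ A, ∀ b ∈ B, polarBilin Q a b = 0 := fun a ha b hb => by
    have h := quad_polar_map Q hiso a b
    rw [hA a ha, hB b hb, map_neg] at h
    have h' : (2 : F) * polarBilin Q a b = 0 := by linear_combination -h
    exact (mul_eq_zero.1 h').resolve_left h2
  have hsup : ∀ v, ∃ a ∈ A, ∃ b ∈ B, a + b = v := fun v => by
    refine ⟨(2 : F)⁻¹ • (v + X v), ?_, (2 : F)⁻¹ • (v - X v), ?_, ?_⟩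
    · simp [A, hXX]; abel_nf
    · simp [B, hXX]
    · rw [← smul_add, show v + X v + (v - X v) = (2 : F) • v by rw [two_smul]; abel, smul_smul,
        inv_mul_cancel₀ h2, one_smul]
  have hnd : Nd Q A ∧ Nd Q B := by
    constructor <;> intro v hv hv0 <;> obtain ⟨x, -, hvx⟩ := QuadType.nd_top Q hQ v Submodule.mem_top hv0 <;>
      obtain ⟨a, ha, b, hb, rfl⟩ := hsup x
    · exact ⟨a, ha, by rwa [map_add, hAB v hv b hb, add_zero] at hvx⟩
    · exact ⟨b, hb, by rwa [map_add, quad_polar_comm Q v a, hAB a ha v hv, zero_add] at hvx⟩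
  have hBA : B ≤ perp Q A := fun b hb a ha => hAB a ha b hb
  have htop : A ⊔ B = ⊤ := eq_top_iff.2 fun v _ => by
    obtain ⟨a, ha, b, hb, rfl⟩ := hsup v
    exact Submodule.add_mem_sup ha hb
  have hdimAB : finrank F A + finrank F B = 2 * d := by
    obtain ⟨g1, g2⟩ := QuadType.nd_sup Q hnd.1 hnd.2 hBA
    rw [← g2, htop, finrank_top, Module.finrank_fintype_fun_eq_card, hn]
  have hmoved : movedSpace Q g = B := by
    ext v
    constructor
    · rintro ⟨y, rfl⟩
      simp [B, oneSub_apply, hXg, hXX]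
    · intro hv
      refine ⟨(2 : F)⁻¹ • v, ?_⟩
      rw [oneSub_apply, hXg, map_smul, hB v hv, smul_neg, sub_neg_eq_add, ← two_smul F ((2 : F)⁻¹ • v), smul_smul,
        mul_inv_cancel₀ h2, one_smul]
  have hBe : Even (finrank F B) := by
    rw [Cfsg.Agent.Lib.Geometry.dickson, hmoved] at hd1
    by_contra hc
    rw [Odd.neg_one_pow (Nat.not_even_iff_odd.1 hc)] at hd1
    exact absurd hd1 (by decide)
  obtain ⟨b, hb⟩ := hBe
  have hinvA : ∀ W ≤ A, W.map X ≤ W := fun W hW => by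
    rintro _ ⟨w, hw, rfl⟩; rwa [hA w (hW hw)]
  have hinvB : ∀ W ≤ B, W.map X ≤ W := fun W hW => by
    rintro _ ⟨w, hw, rfl⟩; rw [hB w (hW hw)]; exact W.neg_mem hw
  have hAe : Even (finrank F A) := ⟨d - b, by omega⟩
  have htype := QuadType.sup_iff Q hQ h2 hnd.1 hnd.2 hBA hAe ⟨b, hb⟩
  rw [htop] at htype
  obtain ⟨g', hg's, -, hg'B, hg'p⟩ := neg_space Q hQ h2 b (show finrank F B = 2 * b by omega) hnd.2
  have heq : g = g' := Subtype.ext (LinearEquiv.ext fun x => by
    obtain ⟨a, ha, c, hc, rfl⟩ := hsup x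
    rw [hXg, map_add, map_add, hA a ha, hB c hc, hg'B c hc,
      hg'p a fun x hx => by rw [quad_polar_comm]; exact hAB a ha x hx]
    simp)
  rw [heq, hg's] at hs1
  have hBq : Fintype.card F % 4 = 1 → Plus Q B := fun hq => by
    have hsq : IsSquare (-1 : F) := FiniteField.isSquare_neg_one_iff.2 (by omega)
    rw [sqClass_eq_one_iff.2 hsq, one_pow, one_mul] at hs1
    by_contra hnp
    rw [if_neg hnp] at hs1
    exact absurd hs1 (by decide)
  have hplus0 : ∀ {S : Submodule F (ι → F)}, finrank F S = 0 → Plus Q S := fun {S} hS =>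
    ⟨⊥, bot_le, fun u hu => by rw [(Submodule.mem_bot F).1 hu, QuadraticMap.map_zero], by rw [finrank_bot, hS]⟩
  obtain ⟨a, ha⟩ := hAe
  obtain ⟨e, he⟩ : ∃ e, e = min m (if Plus Q A then a else a - 1) := ⟨_, rfl⟩
  have hkey : (2 * e < finrank F A ∨ (2 * e ≤ finrank F A ∧ Plus Q A)) ∧
      (2 * (m - e) < finrank F B ∨ (2 * (m - e) ≤ finrank F B ∧ Plus Q B)) := by
    obtain ⟨hC1, -⟩ := hC
    have ha0 := hplus0 (S := A)
    have hb0 := hplus0 (S := B)
    by_cases hP : Plus Q ⊤ <;> by_cases hPA : Plus Q A <;> by_cases hPB : Plus Q B <;>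
      simp [hP, hPA, hPB, -Submodule.finrank_eq_zero] at htype he hC1 hBq ha0 hb0 ⊢ <;> omega
  obtain ⟨W₁, hW₁, hW₁t, hW₁d⟩ := OrthTS.exists_ts Q hQ h2 hnd.1 hkey.1
  obtain ⟨W₂, hW₂, hW₂t, hW₂d⟩ := OrthTS.exists_ts Q hQ h2 hnd.2 hkey.2
  exact good_sup Q hnd.1 hBA hW₁ hW₂ hW₁t hW₂t (hinvA _ hW₁) (hinvB _ hW₂) (by
    rw [hW₁d, hW₂d]; omega)

include hQ h2 in
/-- Square roots of `-1`. -/
theorem good_turn {d m : ℕ} (hn : Fintype.card ι = 2 * d) (hmd : m < d)
    (hC : CondTwo (Fintype.card F) d m (Plus Q ⊤)) (g : quadIsometries Q) (hs1 : spinor Q g = 1)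
    {X : End F (ι → F)} (hXg : ∀ v, (g : (ι → F) ≃ₗ[F] (ι → F)) v = X v) (hXX : ∀ v, X (X v) = -v) : Good Q m X := by
  have hiso : ∀ v, Q (X v) = Q v := fun v => by rw [← hXg]; exact g.2 v
  have hfr : finrank F (⊤ : Submodule F (ι → F)) = 2 * d := by
    rw [finrank_top, Module.finrank_fintype_fun_eq_card, hn]
  by_cases hq : IsSquare (-1 : F)
  · obtain ⟨c, hc⟩ := hq
    have hts : ∀ e : F, e * e = -1 → TS Q (LinearMap.ker (X - e • (1 : End F (ι → F)))) := fun e he v hv => by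
      have h1 : X v = e • v := by simpa [sub_eq_zero] using hv
      have h := hiso v
      rw [h1, quad_smul, he] at h
      exact (mul_eq_zero.1 (show (2 : F) * Q v = 0 by linear_combination -h)).resolve_left h2
    have hc0 : c ≠ 0 := fun e => by rw [e, mul_zero] at hc; exact neg_ne_zero.2 one_ne_zero hc
    have hmem : ∀ e : F, e * e = -1 → ∀ v, X v + e • v ∈ LinearMap.ker (X - e • (1 : End F (ι → F))) := fun e he v => by
      have hev : e • e • v = -v := by rw [smul_smul, he, neg_one_smul]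
      rw [LinearMap.mem_ker]
      show X (X v + e • v) - e • (X v + e • v) = 0
      rw [map_add, map_smul, hXX, smul_add, hev]
      abel
    have hsup : LinearMap.ker (X - c • (1 : End F (ι → F))) ⊔ LinearMap.ker (X - (-c) • (1 : End F (ι → F))) = ⊤ :=
      eq_top_iff.2 fun v _ => by
        have h : v = (2 * c)⁻¹ • (X v + c • v) + (-(2 * c)⁻¹) • (X v + (-c) • v) := by
          match_scalars <;> field_simp <;> ring
        rw [h]
        exact Submodule.add_mem_sup (Submodule.smul_mem _ _ (hmem c hc.symm v))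
          (Submodule.smul_mem _ _ (hmem (-c) (by rw [neg_mul_neg, hc]) v))
    have hA := QuadType.ts_half Q hQ (QuadType.nd_top Q hQ) le_top (hts c hc.symm)
    have hB := QuadType.ts_half Q hQ (QuadType.nd_top Q hQ) le_top (hts (-c) (by rw [neg_mul_neg, hc]))
    have h := Submodule.finrank_add_le_finrank_add_finrank (LinearMap.ker (X - c • (1 : End F (ι → F))))
      (LinearMap.ker (X - (-c) • (1 : End F (ι → F))))
    rw [hsup, hfr] at h
    rw [hfr] at hA hB
    let b := Module.finBasis F (LinearMap.ker (X - c • (1 : End F (ι → F))))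
    have hle : m ≤ finrank F (LinearMap.ker (X - c • (1 : End F (ι → F)))) := by omega
    refine ⟨Submodule.span F (Set.range fun j : Fin m => (b (Fin.castLE hle j) : ι → F)), ?_, ?_, ?_⟩
    · rw [finrank_span_eq_card, Fintype.card_fin]
      exact (b.linearIndependent.comp _ (Fin.castLE_injective _)).map' _ (Submodule.ker_subtype _)
    · intro v hv
      refine hts c hc.symm v ((Submodule.span_le.2 ?_) hv)
      rintro _ ⟨j, rfl⟩; exact SetLike.coe_mem _
    · rintro _ ⟨v, hv, rfl⟩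
      have hv' : v ∈ LinearMap.ker (X - c • (1 : End F (ι → F))) := (Submodule.span_le.2 (by
        rintro _ ⟨j, rfl⟩; exact SetLike.coe_mem _)) hv
      rw [show X v = c • v by simpa [sub_eq_zero] using hv']
      exact Submodule.smul_mem _ _ hv
  obtain ⟨k, hk, hkt, g', hg's, hg'U, -⟩ := turn_space Q hQ h2 hq hXX hiso _ hfr (QuadType.nd_top Q hQ) le_top
  obtain rfl : k = d := by omega
  have heq : g = g' := Subtype.ext (LinearEquiv.ext fun x => (hXg x).trans (hg'U x Submodule.mem_top).symm)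
  rw [heq, hg's] at hs1
  have hev : Even m := by
    have hq3 : Fintype.card F % 4 = 3 := by
      by_contra h'
      exact hq (FiniteField.isSquare_neg_one_iff.2 h')
    obtain ⟨hC1, hC2⟩ := hC
    rcases Nat.even_or_odd k with hk2 | hk2
    · exact ((hC1 (hkt.2 hk2)).resolve_left (by omega)).2.resolve_right (Nat.not_odd_iff_even.2 hk2)
    · have hkn := Nat.not_even_iff_odd.2 hk2
      rcases hC2 (fun h' => hkn (hkt.1 h')) with h' | h' | h'
      · exact absurd h' hkn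
      · exact h'
      · exfalso
        obtain ⟨u, hu⟩ := hk2
        rw [hu, pow_succ, pow_mul] at hs1
        rcases sqClass_units (sqClass (2 : F)) with hs | hs
        · have := FiniteField.isSquare_two_iff.1 (sqClass_eq_one_iff.1 hs)
          omega
        · rw [hs] at hs1
          simp at hs1
  obtain ⟨j, hj⟩ := hev
  have hX4 : X ^ 4 = 1 := LinearMap.ext fun v => by
    rw [show X ^ 4 = X * X * (X * X) by simp [pow_succ, mul_assoc]]
    simp [hXX]
  have hy : aeval X (Polynomial.X ^ 2 - C (-1 : F)) = 0 := LinearMap.ext fun v => by simp [pow_two, hXX]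
  have hsf : Squarefree (Polynomial.X ^ 2 - C (-1 : F)) :=
    (Polynomial.separable_X_pow_sub_C (-1 : F) (by exact_mod_cast h2) (neg_ne_zero.2 one_ne_zero)).squarefree
  obtain ⟨W, -, hW, hWts, hWd⟩ := OrthTS.exists_ts_mul Q (by norm_num : (0 : ℕ) < 4) hX4 hiso hsf hy (i := 2) (D := 3)
    (M := ⊤) (fun U _ hU hUi h3 => by
      obtain ⟨v, hv, hv0, hQv⟩ := QuadFin.exists_singular_mem Q U h3
      refine ⟨(F ∙ v) ⊔ (F ∙ X v), sup_le ((Submodule.span_singleton_le_iff_mem _ _).2 hv)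
        ((Submodule.span_singleton_le_iff_mem _ _).2 (hUi (Submodule.mem_map_of_mem hv))), ?_, ?_, ?_⟩
      · rw [Submodule.map_sup, Submodule.map_span, Submodule.map_span, Set.image_singleton, Set.image_singleton, hXX]
        refine sup_le le_sup_right ((Submodule.span_singleton_le_iff_mem _ _).2 ?_)
        exact Submodule.neg_mem _ (Submodule.mem_sup_left (Submodule.mem_span_singleton_self v))
      · intro x hx
        obtain ⟨q1, hq1, q2, hq2, rfl⟩ := Submodule.mem_sup.1 hx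
        obtain ⟨s, rfl⟩ := Submodule.mem_span_singleton.1 hq1
        obtain ⟨t, rfl⟩ := Submodule.mem_span_singleton.1 hq2
        have h0 : polarBilin Q v (X v) = 0 := by
          have h := quad_polar_map Q hiso v (X v)
          rw [hXX, map_neg, quad_polar_comm Q (X v) v] at h
          exact (mul_eq_zero.1 (show (2 : F) * polarBilin Q v (X v) = 0 by linear_combination -h)).resolve_left h2
        simp [quad_add, quad_smul, hiso, hQv, h0]
      · have hi : (F ∙ v) ⊓ (F ∙ X v) = ⊥ := by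
          rw [Submodule.eq_bot_iff]
          rintro x ⟨h1, h3⟩
          obtain ⟨s, rfl⟩ := Submodule.mem_span_singleton.1 h1
          obtain ⟨t, ht⟩ := Submodule.mem_span_singleton.1 h3
          by_contra h0
          have ht0 : t ≠ 0 := fun e => h0 (by rw [← ht, e, zero_smul])
          have e1 : X v = (s / t) • v := by rw [div_eq_inv_mul, ← smul_smul, ← ht, smul_smul, inv_mul_cancel₀ ht0, one_smul]
          have e2 := hXX v
          rw [e1, map_smul, e1, smul_smul] at e2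
          refine hq ⟨s / t, ?_⟩
          have e3 : ((s / t) * (s / t) + 1) • v = 0 := by rw [add_smul, e2, one_smul, neg_add_cancel]
          linear_combination -(smul_eq_zero.1 e3).resolve_right hv0
        have h4 := Submodule.finrank_sup_add_finrank_inf_eq (F ∙ v) (F ∙ X v)
        have hXv : X v ≠ 0 := fun e => hv0 (by have := hXX v; rw [e, map_zero] at this; exact neg_eq_zero.1 this.symm)
        rw [hi, finrank_bot, add_zero, finrank_span_singleton hv0, finrank_span_singleton hXv] at h4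
        exact h4)
    j ⊤ le_rfl (QuadType.nd_top Q hQ) le_top (fun hj0 => by rw [hfr]; omega)
  exact ⟨W, by omega, hWts, hW⟩

include hQ h2 in
/-- An element without fixed subspace in the bad cases. -/
theorem bad_two {d m : ℕ} (hn : Fintype.card ι = 2 * d) (hd : 4 ≤ d) (hm : 1 ≤ m) (hmd : m < d)
    (hC : ¬ CondTwo (Fintype.card F) d m (Plus Q ⊤)) :
    ∃ (g : quadIsometries Q) (z : F), dickson Q g = 1 ∧ spinor Q g = 1 ∧
      (∀ v, (g : (ι → F) ≃ₗ[F] (ι → F)) ((g : (ι → F) ≃ₗ[F] (ι → F)) v) = z • v) ∧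
      (∀ c : F, ∃ v, (g : (ι → F) ≃ₗ[F] (ι → F)) v ≠ c • v) ∧
      ¬ ∃ W : Submodule F (ι → F), finrank F W = m ∧ TS Q W ∧ ∀ x ∈ W, (g : (ι → F) ≃ₗ[F] (ι → F)) x ∈ W := by
  have hodd : Fintype.card F % 2 = 1 := FiniteField.odd_card_of_char_ne_two fun h' => h2 (by
    haveI := ringChar.of_eq h'
    exact CharTwo.two_eq_zero)
  have hfr : finrank F (⊤ : Submodule F (ι → F)) = 2 * d := by
    rw [finrank_top, Module.finrank_fintype_fun_eq_card, hn]
  have hq : ¬ IsSquare (-1 : F) := fun hs => hC ⟨fun _ => Or.inl (by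
    have := FiniteField.isSquare_neg_one_iff.1 hs; omega), fun _ => Or.inr (Or.inr (by
    have := FiniteField.isSquare_neg_one_iff.1 hs; omega))⟩
  have hq3 : Fintype.card F % 4 = 3 := by
    by_contra h'
    exact hq (FiniteField.isSquare_neg_one_iff.2 h')
  by_cases hcase : Plus Q ⊤ ∧ ¬ m + 2 ≤ d
  · -- an involution
    obtain ⟨E, -, hE, hEd, hEp⟩ := QuadAny.exists_minus_plane Q hQ (QuadType.nd_top Q hQ) (by omega)
    obtain ⟨g, hgs, hgd, hgE, hgp⟩ := neg_space Q hQ h2 1 (hEd.trans (by norm_num)) hE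
    rw [pow_one, if_neg hEp, sqClass_eq_neg_one_iff.2 hq] at hgs
    obtain ⟨htop, hPn, hPd, -⟩ := QuadType.compl_perp Q hQ hE
    rw [Module.finrank_fintype_fun_eq_card, hn, hEd] at hPd
    have hPnp : ¬ Plus Q (perp Q E) := fun hp => by
      have h := QuadType.sup_iff Q hQ h2 hE hPn le_rfl (hEd ▸ even_two) ⟨d - 1, by omega⟩
      rw [htop] at h
      exact hEp ((h.1 hcase.1).2 hp)
    have hgE' : ∀ x ∈ E, (g : (ι → F) ≃ₗ[F] (ι → F)) x = -x := fun x hx => by simpa using hgE x hx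
    refine ⟨g, 1, hgd, by rw [hgs]; rfl, fun v => ?_, fun c => ?_, ?_⟩
    · obtain ⟨a, ha, b, hb, rfl⟩ := Submodule.mem_sup.1 (htop.symm ▸ Submodule.mem_top : v ∈ E ⊔ perp Q E)
      rw [map_add, hgE' a ha, hgp b hb, map_add, map_neg, hgE' a ha, hgp b hb, neg_neg, one_smul]
    · obtain ⟨a, ha, ha0⟩ := (Submodule.ne_bot_iff E).1 fun e => by rw [e, finrank_bot] at hEd; omega
      obtain ⟨b, hb, hb0⟩ := (Submodule.ne_bot_iff (perp Q E)).1 fun e => by rw [e, finrank_bot] at hPd; omega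
      by_cases hc : c = 1
      · refine ⟨a, fun h => ha0 ?_⟩
        rw [hgE' a ha, hc, one_smul, neg_eq_iff_add_eq_zero, ← two_smul F] at h
        exact (smul_eq_zero.1 h).resolve_left h2
      · refine ⟨b, fun h => hb0 ?_⟩
        rw [hgp b hb] at h
        have h' : (c - 1) • b = 0 := by rw [sub_smul, ← h, one_smul, sub_self]
        exact (smul_eq_zero.1 h').resolve_left (sub_ne_zero.2 hc)
    · rintro ⟨W, hWd, hW, hWg⟩
      have hle : W ≤ (W ⊓ E) ⊔ (W ⊓ perp Q E) := fun x hx => by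
        obtain ⟨a, ha, b, hb, rfl⟩ := Submodule.mem_sup.1 (htop.symm ▸ Submodule.mem_top : x ∈ E ⊔ perp Q E)
        have hx' := hWg _ hx
        rw [map_add, hgE' a ha, hgp b hb] at hx'
        have h2a : a ∈ W := by
          have := W.smul_mem (2 : F)⁻¹ (W.sub_mem hx hx')
          rwa [show a + b - (-a + b) = (2 : F) • a by module, smul_smul, inv_mul_cancel₀ h2, one_smul] at this
        exact Submodule.add_mem_sup ⟨h2a, ha⟩ ⟨(W.add_mem_iff_right h2a).1 hx, hb⟩
      have h1 := (Submodule.finrank_mono hle).trans (Submodule.finrank_add_le_finrank_add_finrank _ _)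
      have h3 := QuadType.ts_half Q hQ hE (inf_le_right : W ⊓ E ≤ E) fun x hx => hW x hx.1
      have h4 := QuadType.ts_half Q hQ hPn (inf_le_right : W ⊓ perp Q E ≤ perp Q E) fun x hx => hW x hx.1
      have h5 : 2 * finrank F (W ⊓ perp Q E : Submodule F (ι → F)) ≠ finrank F (perp Q E) := fun e =>
        hPnp ⟨_, inf_le_right, fun x hx => hW x hx.1, e⟩
      have h6 : 2 * finrank F (W ⊓ E : Submodule F (ι → F)) ≠ finrank F E := fun e =>
        hEp ⟨_, inf_le_right, fun x hx => hW x hx.1, e⟩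
      obtain ⟨-, hcm⟩ := hcase
      omega
  -- a square root of `-1`
  obtain ⟨hPd, h2d, hmo⟩ : (Plus Q ⊤ ↔ Even d) ∧ (Odd d → Fintype.card F % 8 = 7) ∧ Odd m := by
    unfold CondTwo at hC
    by_cases hP : Plus Q ⊤
    · have hm2 : m + 2 ≤ d := by
        by_contra h'
        exact hcase ⟨hP, h'⟩
      have h1 : ¬ (Even m ∨ Odd d) := fun h' => hC ⟨fun _ => Or.inr ⟨hm2, h'⟩, fun h'' => absurd hP h''⟩
      rw [not_or, Nat.not_odd_iff_even, Nat.not_even_iff_odd] at h1
      exact ⟨iff_of_true hP h1.2, fun h => absurd h1.2 (Nat.not_even_iff_odd.2 h), h1.1⟩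
    · have h1 : ¬ (Even d ∨ Even m ∨ Fintype.card F % 8 ≠ 7) := fun h' => hC ⟨fun h'' => absurd h'' hP, fun _ => h'⟩
      rw [not_or, not_or, not_not] at h1
      exact ⟨iff_of_false hP h1.1, fun _ => h1.2.2, Nat.not_even_iff_odd.1 h1.2.1⟩
  obtain ⟨g, X, hgs, hgd, -, hXX, hgU, -⟩ := exists_turn Q hQ h2 hq d hfr (QuadType.nd_top Q hQ) hPd
  have hgg : ∀ v, (g : (ι → F) ≃ₗ[F] (ι → F)) ((g : (ι → F) ≃ₗ[F] (ι → F)) v) = (-1 : F) • v := fun v => by
    rw [hgU _ Submodule.mem_top, hgU _ Submodule.mem_top, hXX _ Submodule.mem_top, neg_one_smul]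
  refine ⟨g, -1, hgd, ?_, hgg, fun c => ?_, ?_⟩
  · rcases Nat.even_or_odd d with ⟨u, hu⟩ | hodd'
    · rw [hgs, hu, pow_add, ← mul_pow, Int.units_mul_self, one_pow]
    · rw [hgs, sqClass_eq_one_iff.2 (FiniteField.isSquare_two_iff.2 (by have := h2d hodd'; omega)), one_pow]
  · obtain ⟨v, hv⟩ : ∃ v : ι → F, v ≠ 0 := by
      obtain ⟨v, -, hv⟩ := (Submodule.ne_bot_iff (⊤ : Submodule F (ι → F))).1 fun e => by
        rw [e, finrank_bot] at hfr; omega
      exact ⟨v, hv⟩
    refine ⟨v, fun h => hq ⟨c, ?_⟩⟩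
    have e := hgg v
    rw [h, map_smul, h, smul_smul] at e
    exact (smul_left_injective F hv e).symm
  · rintro ⟨W, hWd, -, hWg⟩
    let T : W →ₗ[F] W := LinearMap.restrict ((g : (ι → F) ≃ₗ[F] (ι → F)) : (ι → F) →ₗ[F] (ι → F)) hWg
    have hTT : T * T = (-1 : F) • (1 : End F W) := LinearMap.ext fun w => Subtype.ext (hgg w)
    have hdet := congrArg LinearMap.det hTT
    rw [map_mul, LinearMap.det_smul, map_one, mul_one, hWd, hmo.neg_one_pow] at hdet
    exact hq ⟨LinearMap.det T, hdet.symm⟩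

end Cfsg.Agent.Lib.MaxSub.OrthTSTwo
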