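import Cfsg.Agent.Lib.MaxSub.OrthNdAny
import Cfsg.Agent.Lib.MaxSub.OrthTSTwo
import Mathlib

/-!
Invariant non-degenerate subspaces of given type of elements of order two modulo scalars, odd characteristic.
-/

set_option autoImplicit false
set_option maxHeartbeats 1000000
set_option linter.unusedSectionVars false

namespace Cfsg.Agent.Lib.MaxSub.OrthNdTwo

open Module Cfsg.Agent.Lib.MaxSub Cfsg.Agent.Lib.Geometry
open Cfsg.Agent.Lib.MaxSub.QuadType (Nd TS Plus perp)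
open Cfsg.Agent.Lib.MaxSub.IsoDecomp (inf_inv sup_inv)
open Cfsg.Agent.Lib.MaxSub.OrthNdSub (Sub Good)
open Cfsg.Agent.Lib.MaxSub.OrthNdAny (plus_bot)
open Cfsg.Agent.Lib.MaxSub.OrthTSTwo (refl_perp combine)
open QuadraticMap (polarBilin)
open scoped _root_.Classical

attribute [-simp] QuadraticMap.polarBilin_apply_apply

variable {ι : Type} [Fintype ι] [DecidableEq ι] {F : Type*} [Field F] [Fintype F] (Q : QuadraticForm F (ι → F))
variable (hQ : (polarBilin Q).Nondegenerate) (h2 : (2 : F) ≠ 0)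

include hQ h2 in
/-- The quarter turn of a plane. -/
theorem plane_turn {v w : ι → F} (hv : Q v ≠ 0) (hw : Q w = Q v) (hvw : polarBilin Q v w = 0) :
    Q (v - w) = 2 * Q v ∧ (refl Q v : (ι → F) ≃ₗ[F] (ι → F)) ((refl Q (v - w) : (ι → F) ≃ₗ[F] (ι → F)) v) = w ∧
      (refl Q v : (ι → F) ≃ₗ[F] (ι → F)) ((refl Q (v - w) : (ι → F) ≃ₗ[F] (ι → F)) w) = -v := by
  have hd : Q (v - w) = 2 * Q v := by rw [quad_sub, hw, hvw]; ring
  have h0 : 2 * Q v ≠ 0 := mul_ne_zero h2 hv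
  have hwv : polarBilin Q w v = 0 := by rw [quad_polar_comm]; exact hvw
  have e1 : (refl Q (v - w) : (ι → F) ≃ₗ[F] (ι → F)) v = w := by
    rw [refl_apply, hd, map_sub, LinearMap.sub_apply, quad_polar_self, hwv, sub_zero, inv_mul_cancel₀ h0, one_smul,
      sub_sub_cancel]
  have e2 : (refl Q (v - w) : (ι → F) ≃ₗ[F] (ι → F)) w = v := by
    rw [refl_apply, hd, map_sub, LinearMap.sub_apply, quad_polar_self, hw, hvw, zero_sub, mul_neg, inv_mul_cancel₀ h0,
      neg_smul, one_smul, sub_neg_eq_add, add_sub_cancel]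
  exact ⟨hd, by rw [e1, refl_perp Q hvw], by rw [e2, refl_apply_self Q hv]⟩

include hQ h2 in
theorem sq_class_plane {a : F} (ha : a ≠ 0) (x : ℤˣ) : sqClass a * (sqClass (2 * a) * x) = sqClass (2 : F) * x := by
  rw [sqClass_mul h2 ha, ← mul_assoc, mul_left_comm, Int.units_mul_self, mul_one]

include hQ h2 in
/-- Square roots of `-1`: type, spinor norm, and invariant pieces. -/
theorem struct {X : End F (ι → F)} (hXX : ∀ v, X (X v) = -v) (hiso : ∀ v, Q (X v) = Q v) :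
    ∀ (N : ℕ) {U : Submodule F (ι → F)}, finrank F U = N → Nd Q U → U.map X ≤ U →
      ∃ k, N = 2 * k ∧ (Plus Q U ↔ (IsSquare (-1 : F) ∨ Even k)) ∧ (∃ g : quadIsometries Q,
        spinor Q g = sqClass (2 : F) ^ k ∧ (∀ u ∈ U, (g : (ι → F) ≃ₗ[F] (ι → F)) u = X u) ∧
        (∀ w ∈ perp Q U, (g : (ι → F) ≃ₗ[F] (ι → F)) w = w)) ∧
        ∀ j ≤ k, ∃ W ≤ U, Nd Q W ∧ W.map X ≤ W ∧ finrank F W = 2 * j := by
  have hX4 : X ^ 4 = 1 := LinearMap.ext fun v => by
    rw [show X ^ 4 = X * X * (X * X) by simp [pow_succ, mul_assoc]]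
    simp [hXX]
  have horth : ∀ v, polarBilin Q v (X v) = 0 := fun v => by
    have h := quad_polar_map Q hiso v (X v)
    rw [hXX, map_neg, quad_polar_comm Q (X v) v] at h
    exact (mul_eq_zero.1 (show (2 : F) * polarBilin Q v (X v) = 0 by linear_combination -h)).resolve_left h2
  intro N
  induction N using Nat.strong_induction_on with
  | _ N ih =>
  intro U hN hU hUi
  by_cases hU0 : U = ⊥
  · subst hU0
    rw [finrank_bot] at hN
    refine ⟨0, by omega, iff_of_true (plus_bot Q) (Or.inr Even.zero), ⟨1, by rw [spinor_one Q hQ, pow_zero],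
      fun u hu => ?_, fun w _ => rfl⟩, fun j hj => ⟨⊥, le_rfl, hU, hUi, by rw [finrank_bot]; omega⟩⟩
    rw [(Submodule.mem_bot F).1 hu]; simp
  obtain ⟨v, hv, hQv⟩ : ∃ a ∈ U, Q a ≠ 0 := by
    by_contra hc
    push Not at hc
    obtain ⟨a, ha, ha0⟩ := (Submodule.ne_bot_iff U).1 hU0
    obtain ⟨x, hx, hax⟩ := hU a ha ha0
    exact hax (QuadType.ts_polar Q (U := U) hc ha hx)
  have hXm : ∀ u ∈ U, X u ∈ U := fun u hu => hUi (Submodule.mem_map_of_mem hu)
  obtain ⟨hP, hPd, hPp⟩ := QuadType.plane_iff Q hQ h2 hQv (by rw [hiso]; exact hQv) (horth v)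
  set P := (F ∙ v) ⊔ (F ∙ X v)
  have hPsq : Plus Q P ↔ IsSquare (-1 : F) := by
    rw [hPp, hiso]
    constructor
    · rintro ⟨s, hs⟩
      exact ⟨s / Q v, by field_simp; linear_combination hs⟩
    · rintro ⟨s, hs⟩
      exact ⟨s * Q v, by linear_combination (Q v * Q v) * hs⟩
  have hPU : P ≤ U := sup_le ((Submodule.span_singleton_le_iff_mem _ _).2 hv)
    ((Submodule.span_singleton_le_iff_mem _ _).2 (hXm v hv))
  have hPi : P.map X ≤ P := by
    rw [Submodule.map_sup, Submodule.map_span, Submodule.map_span, Set.image_singleton, Set.image_singleton, hXX]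
    refine sup_le le_sup_right ((Submodule.span_singleton_le_iff_mem _ _).2 ?_)
    exact Submodule.neg_mem _ (Submodule.mem_sup_left (Submodule.mem_span_singleton_self v))
  obtain ⟨hsup, hR, hRd⟩ := QuadType.split_off Q hU hP hPU
  have hRi := inf_inv hUi (OrthDecomp.perp_inv Q hX4 (by norm_num) hiso hPi)
  obtain ⟨k, hk, hkt, ⟨g, hgs, hgU, hgp⟩, hsub⟩ := ih _ (by omega) rfl hR hRi
  obtain ⟨hd, e1, e2⟩ := plane_turn Q hQ h2 hQv (hiso v) (horth v)
  have mv : v ∈ P := Submodule.mem_sup_left (Submodule.mem_span_singleton_self v)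
  have mw : X v ∈ P := Submodule.mem_sup_right (Submodule.mem_span_singleton_self _)
  obtain ⟨c1, c2, c3, -⟩ := combine Q hQ hU hP hPU mv (P.sub_mem mv mw) hQv (hd ▸ mul_ne_zero h2 hQv) g hgp hgU hRi
    (fun x hx => by
      obtain ⟨q1, hq1, q2, hq2, rfl⟩ := Submodule.mem_sup.1 hx
      obtain ⟨s, rfl⟩ := Submodule.mem_span_singleton.1 hq1
      obtain ⟨t, rfl⟩ := Submodule.mem_span_singleton.1 hq2
      simp only [map_add, map_smul, e1, e2, hXX])
  refine ⟨k + 1, by omega, ?_, ⟨_, ?_, c1, c2⟩, fun j hj => ?_⟩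
  · have h := QuadType.sup_iff Q hQ h2 hP hR inf_le_right (hPd ▸ even_two) (hk ▸ even_two_mul k)
    rw [hsup, hkt, hPsq] at h
    rw [Nat.even_add_one, h]
    by_cases h1 : IsSquare (-1 : F) <;> simp [h1]
  · rw [c3, hgs, hd, sq_class_plane Q hQ h2 hQv, pow_succ']
  · rcases j with _ | j
    · exact ⟨⊥, bot_le, QuadType.nd_bot Q, by simp, by rw [finrank_bot]⟩
    obtain ⟨L, hLR, hL, hLi, hLd⟩ := hsub j (by omega)
    obtain ⟨g1, g2⟩ := QuadType.nd_sup Q hP hL (hLR.trans inf_le_right)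
    exact ⟨P ⊔ L, sup_le hPU (hLR.trans inf_le_left), g1, sup_inv hPi hLi, by omega⟩

include hQ h2 in
/-- Quarter turns of spaces with the type of a sum of planes. -/
theorem exists_turn : ∀ (k : ℕ) {U : Submodule F (ι → F)}, finrank F U = 2 * k → Nd Q U →
    (Plus Q U ↔ (IsSquare (-1 : F) ∨ Even k)) → ∃ (g : quadIsometries Q) (X : End F (ι → F)),
      spinor Q g = sqClass (2 : F) ^ k ∧ dickson Q g = 1 ∧ U.map X ≤ U ∧ (∀ u ∈ U, X (X u) = -u) ∧
      (∀ u ∈ U, (g : (ι → F) ≃ₗ[F] (ι → F)) u = X u) ∧ (∀ w ∈ perp Q U, (g : (ι → F) ≃ₗ[F] (ι → F)) w = w) := by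
  intro k
  induction k with
  | zero =>
    intro U hUd _ _
    have hU0 : U = ⊥ := Submodule.finrank_eq_zero.1 (by omega)
    subst hU0
    exact ⟨1, 1, by rw [spinor_one Q hQ, pow_zero], dickson_one Q, by simp,
      fun u hu => by rw [(Submodule.mem_bot F).1 hu]; simp, fun u _ => rfl, fun w _ => rfl⟩
  | succ k ih =>
    intro U hUd hU hUp
    obtain ⟨P, hPU, hP, hPd, hPp⟩ : ∃ P ≤ U, Nd Q P ∧ finrank F P = 2 ∧ (Plus Q P ↔ IsSquare (-1 : F)) := by
      rcases Nat.eq_zero_or_pos k with rfl | hk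
      · exact ⟨U, le_rfl, hU, hUd, hUp.trans (by simp)⟩
      · obtain ⟨P, h1, h3, h4, h5⟩ := QuadAny.exists_type Q hQ 1 hU (by omega) ⟨k + 1, by omega⟩
          (IsSquare (-1 : F)) (fun h => absurd h one_ne_zero)
        exact ⟨P, h1, h3, h4, h5⟩
    obtain ⟨v, hv, hQv⟩ := QuadType.exists_val Q hQ h2 hP hPd.ge one_ne_zero
    have hv0 : v ≠ 0 := fun e => by simp [e] at hQv
    have hdim := QuadType.dim_inf_perp Q hP ((Submodule.span_singleton_le_iff_mem _ _).2 hv)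
    rw [finrank_span_singleton hv0, hPd] at hdim
    obtain ⟨w₀, hw₀, hw₀0⟩ := (Submodule.ne_bot_iff _).1 (fun e => by rw [e, finrank_bot] at hdim; omega :
      P ⊓ perp Q (F ∙ v) ≠ ⊥)
    have hvw₀ : polarBilin Q v w₀ = 0 := hw₀.2 v (Submodule.mem_span_singleton_self v)
    have hQw₀ : Q w₀ ≠ 0 := fun h0 => by
      obtain ⟨x, hx, hwx⟩ := hP w₀ hw₀.1 hw₀0
      have hsp : (F ∙ v) ⊔ (F ∙ w₀) = P := by
        refine Submodule.eq_of_le_of_finrank_le (sup_le ((Submodule.span_singleton_le_iff_mem _ _).2 hv)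
          ((Submodule.span_singleton_le_iff_mem _ _).2 hw₀.1)) ?_
        have hlt : (F ∙ v) < (F ∙ v) ⊔ (F ∙ w₀) := left_lt_sup.2 fun hle => by
          obtain ⟨c, hc⟩ := Submodule.mem_span_singleton.1 (hle (Submodule.mem_span_singleton_self w₀))
          rw [← hc, map_smul, quad_polar_self, hQv, smul_eq_mul, mul_one] at hvw₀
          rw [(mul_eq_zero.1 hvw₀).resolve_right h2, zero_smul] at hc
          exact hw₀0 hc.symm
        have := Submodule.finrank_lt_finrank_of_lt hlt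
        rw [finrank_span_singleton hv0] at this
        omega
      obtain ⟨p', hp', q', hq', rfl⟩ := Submodule.mem_sup.1 (hsp.symm ▸ hx : x ∈ (F ∙ v) ⊔ (F ∙ w₀))
      obtain ⟨s, rfl⟩ := Submodule.mem_span_singleton.1 hp'
      obtain ⟨t, rfl⟩ := Submodule.mem_span_singleton.1 hq'
      refine hwx ?_
      rw [map_add, map_smul, map_smul, quad_polar_comm Q w₀ v, hvw₀, quad_polar_self, h0, mul_zero, smul_zero, smul_zero,
        add_zero]
    obtain ⟨hE, hEd, hEp⟩ := QuadType.plane_iff Q hQ h2 (hQv ▸ one_ne_zero) hQw₀ hvw₀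
    have hEP : (F ∙ v) ⊔ (F ∙ w₀) = P := Submodule.eq_of_le_of_finrank_le (sup_le
      ((Submodule.span_singleton_le_iff_mem _ _).2 hv) ((Submodule.span_singleton_le_iff_mem _ _).2 hw₀.1)) (by omega)
    rw [hEP, hQv, one_mul, hPp] at hEp
    obtain ⟨c, hc⟩ : IsSquare (Q w₀) := by
      by_cases hs : IsSquare (-1 : F)
      · have h := (hEp.1 hs).mul hs
        rwa [neg_mul_neg, mul_one] at h
      · have h := isSquare_mul_iff_of_not_isSquare hs (fun h => hs (hEp.2 h))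
        rwa [neg_mul_neg, one_mul] at h
    have hc0 : c ≠ 0 := fun e => hQw₀ (by rw [hc, e, mul_zero])
    set w := c⁻¹ • w₀ with hw
    have hQw : Q w = Q v := by rw [hw, quad_smul, hc, hQv]; field_simp
    have hvw : polarBilin Q v w = 0 := by rw [hw, map_smul, hvw₀, smul_zero]
    have mw : w ∈ P := P.smul_mem _ hw₀.1
    obtain ⟨hsup, hR, hRd⟩ := QuadType.split_off Q hU hP hPU
    have hRp : Plus Q (U ⊓ perp Q P) ↔ (IsSquare (-1 : F) ∨ Even k) := by
      have h := QuadType.sup_iff Q hQ h2 hP hR inf_le_right (hPd ▸ even_two)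
        (show Even (finrank F (U ⊓ perp Q P : Submodule F (ι → F))) from ⟨k, by omega⟩)
      rw [hsup, hUp, hPp, Nat.even_add_one] at h
      by_cases hs : IsSquare (-1 : F)
      · simp only [hs, true_or, iff_true, true_iff] at h ⊢
        exact h
      · simp only [hs, false_or, false_iff] at h ⊢
        exact not_iff_not.1 h.symm
    obtain ⟨g, Y, hgs, hgd, hYR, hYY, hgU, hgp⟩ := ih (by omega) hR hRp
    obtain ⟨π, hπ1, hπ2, hπ3, -⟩ := QuadType.exists_proj Q hQ hP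
    set J : End F (ι → F) := ((refl Q v : (ι → F) ≃ₗ[F] (ι → F)) : (ι → F) →ₗ[F] (ι → F)) ∘ₗ
      ((refl Q (v - w) : (ι → F) ≃ₗ[F] (ι → F)) : (ι → F) →ₗ[F] (ι → F)) with hJ
    set X : End F (ι → F) := J ∘ₗ π + Y ∘ₗ (LinearMap.id - π) with hX
    have hXP : ∀ x ∈ P, X x = J x := fun x hx => by simp [hX, hπ2 x hx]
    have hXR : ∀ x ∈ U ⊓ perp Q P, X x = Y x := fun x hx => by simp [hX, hπ3 x hx.2]
    obtain ⟨hd, e1, e2⟩ := plane_turn Q hQ h2 (hQv ▸ one_ne_zero) hQw hvw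
    have eJv : J v = w := e1
    have eJw : J w = -v := e2
    have hspan : ∀ x ∈ P, ∃ s t : F, x = s • v + t • w := fun x hx => by
      obtain ⟨q1, hq1, q2, hq2, rfl⟩ := Submodule.mem_sup.1 (hEP.symm ▸ hx : x ∈ (F ∙ v) ⊔ (F ∙ w₀))
      obtain ⟨s, rfl⟩ := Submodule.mem_span_singleton.1 hq1
      obtain ⟨t, rfl⟩ := Submodule.mem_span_singleton.1 hq2
      exact ⟨s, t * c, by rw [hw, smul_smul, mul_assoc, mul_inv_cancel₀ hc0, mul_one]⟩
    have hJP : ∀ x ∈ P, J x ∈ P ∧ J (J x) = -x := fun x hx => by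
      obtain ⟨s, t, rfl⟩ := hspan x hx
      constructor
      · rw [map_add, map_smul, map_smul, eJv, eJw]
        exact P.add_mem (P.smul_mem _ mw) (P.smul_mem _ (P.neg_mem hv))
      · simp only [map_add, map_smul, map_neg, eJv, eJw]
        module
    have hXRi : (U ⊓ perp Q P).map X ≤ U ⊓ perp Q P := by
      rintro _ ⟨x, hx, rfl⟩
      rw [hXR x hx]; exact hYR (Submodule.mem_map_of_mem hx)
    obtain ⟨c1, c2, c3, c4⟩ := combine Q hQ hU hP hPU hv (P.sub_mem hv mw) (hQv ▸ one_ne_zero)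
      (by rw [hd, hQv, mul_one]; exact h2) g hgp
      (fun x hx => (hgU x hx).trans (hXR x hx).symm) hXRi (fun x hx => (hXP x hx).symm)
    have hXU : U.map X ≤ U := by
      rw [← hsup, Submodule.map_sup]
      refine sup_le_sup ?_ hXRi
      rintro _ ⟨x, hx, rfl⟩
      rw [hXP x hx]; exact (hJP x hx).1
    refine ⟨_, X, ?_, c4.trans hgd, hXU, fun u hu => ?_, c1, c2⟩
    · rw [c3, hgs, hd, sq_class_plane Q hQ h2 (hQv ▸ one_ne_zero), pow_succ']
    · obtain ⟨y, hy, z, hz, rfl⟩ := Submodule.mem_sup.1 (hsup.symm ▸ hu : u ∈ P ⊔ (U ⊓ perp Q P))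
      have hYz : Y z ∈ U ⊓ perp Q P := hYR (Submodule.mem_map_of_mem hz)
      rw [map_add, map_add, hXP y hy, hXR z hz, hXP _ (hJP y hy).1, hXR _ hYz, (hJP y hy).2, hYY z hz, neg_add]

/-- The condition for the prime two. -/
def Cond (q d m : ℕ) (P pl : Prop) : Prop :=
  (P ↔ (q % 4 = 1 ∨ Even d)) → (Even d ∨ q % 8 = 1 ∨ q % 8 = 7) → (pl ↔ (q % 4 = 1 ∨ Even (m / 2)))

include h2 in
theorem sq_facts : (IsSquare (-1 : F) ↔ Fintype.card F % 4 = 1) ∧
    (∀ d : ℕ, sqClass (2 : F) ^ d = 1 ↔ (Even d ∨ Fintype.card F % 8 = 1 ∨ Fintype.card F % 8 = 7)) := by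
  have hodd : Fintype.card F % 2 = 1 := FiniteField.odd_card_of_char_ne_two fun h' => h2 (by
    haveI := ringChar.of_eq h'
    exact CharTwo.two_eq_zero)
  refine ⟨FiniteField.isSquare_neg_one_iff.trans (by omega), fun d => ?_⟩
  have h8 : sqClass (2 : F) = 1 ↔ (Fintype.card F % 8 = 1 ∨ Fintype.card F % 8 = 7) := by
    rw [sqClass_eq_one_iff, FiniteField.isSquare_two_iff]
    omega
  rw [← h8]
  rcases Nat.even_or_odd d with ⟨u, hu⟩ | ⟨u, hu⟩
  · exact iff_of_true (by rw [hu, pow_add, ← mul_pow, Int.units_mul_self, one_pow]) (Or.inl ⟨u, hu⟩)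
  · rw [hu, pow_succ, two_mul, pow_add, ← mul_pow, Int.units_mul_self, one_pow, one_mul]
    simp

include hQ h2 in
/-- Involutions. -/
theorem good_inv {d m : ℕ} {pl : Prop} (hn : Fintype.card ι = 2 * d) (hd : 4 ≤ d) (hme : Even m) (hm0 : m ≠ 0)
    (hmd : m + 2 ≤ 2 * d) (g : quadIsometries Q) (hd1 : dickson Q g = 1)
    {X : End F (ι → F)} (hXg : ∀ v, (g : (ι → F) ≃ₗ[F] (ι → F)) v = X v) (hXX : ∀ v, X (X v) = v) : Good Q m pl X := by
  have hiso : ∀ v, Q (X v) = Q v := fun v => by rw [← hXg]; exact g.2 v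
  let A : Submodule F (ι → F) := LinearMap.ker (X - 1)
  let B : Submodule F (ι → F) := LinearMap.ker (X + 1)
  have hA : ∀ a ∈ A, X a = a := fun a ha => by simpa [A, sub_eq_zero] using ha
  have hB : ∀ b ∈ B, X b = -b := fun b hb => by
    have : X b + b = 0 := by simpa [B] using hb
    exact eq_neg_of_add_eq_zero_left this
  have hAB : ∀ a ∈ A, ∀ b ∈ B, polarBilin Q a b = 0 := fun a ha b hb => by
    have h := quad_polar_map Q hiso a b
    rw [hA a ha, hB b hb, map_neg] at h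
    have h' : (2 : F) * polarBilin Q a b = 0 := by linear_combination -h
    exact (mul_eq_zero.1 h').resolve_left h2
  have hsup : ∀ v, ∃ a ∈ A, ∃ b ∈ B, a + b = v := fun v => by
    refine ⟨(2 : F)⁻¹ • (v + X v), ?_, (2 : F)⁻¹ • (v - X v), ?_, ?_⟩
    · simp [A, hXX]; abel_nf
    · simp [B, hXX]
    · rw [← smul_add, show v + X v + (v - X v) = (2 : F) • v by rw [two_smul]; abel, smul_smul,
        inv_mul_cancel₀ h2, one_smul]
  have hnd : Nd Q A ∧ Nd Q B := by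
    constructor <;> intro v hv hv0 <;> obtain ⟨x, -, hvx⟩ := QuadType.nd_top Q hQ v Submodule.mem_top hv0 <;>
      obtain ⟨a, ha, b, hb, rfl⟩ := hsup x
    · exact ⟨a, ha, by rwa [map_add, hAB v hv b hb, add_zero] at hvx⟩
    · exact ⟨b, hb, by rwa [map_add, quad_polar_comm Q v a, hAB a ha v hv, zero_add] at hvx⟩
  have hBA : B ≤ perp Q A := fun b hb a ha => hAB a ha b hb
  have htop : A ⊔ B = ⊤ := eq_top_iff.2 fun v _ => by
    obtain ⟨a, ha, b, hb, rfl⟩ := hsup v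
    exact Submodule.add_mem_sup ha hb
  have hdimAB : finrank F A + finrank F B = 2 * d := by
    obtain ⟨g1, g2⟩ := QuadType.nd_sup Q hnd.1 hnd.2 hBA
    rw [← g2, htop, finrank_top, Module.finrank_fintype_fun_eq_card, hn]
  have hmoved : movedSpace Q g = B := by
    ext v
    constructor
    · rintro ⟨y, rfl⟩
      simp [B, oneSub_apply, hXg, hXX]
    · intro hv
      refine ⟨(2 : F)⁻¹ • v, ?_⟩
      rw [oneSub_apply, hXg, map_smul, hB v hv, smul_neg, sub_neg_eq_add, ← two_smul F ((2 : F)⁻¹ • v), smul_smul,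
        mul_inv_cancel₀ h2, one_smul]
  have hBe : Even (finrank F B) := by
    rw [Cfsg.Agent.Lib.Geometry.dickson, hmoved] at hd1
    by_contra hc
    rw [Odd.neg_one_pow (Nat.not_even_iff_odd.1 hc)] at hd1
    exact absurd hd1 (by decide)
  obtain ⟨b, hb⟩ := hBe
  have hAe : Even (finrank F A) := ⟨d - b, by omega⟩
  have hinvA : ∀ W ≤ A, W.map X ≤ W := fun W hW => by
    rintro _ ⟨w, hw, rfl⟩; rwa [hA w (hW hw)]
  have hinvB : ∀ W ≤ B, W.map X ≤ W := fun W hW => by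
    rintro _ ⟨w, hw, rfl⟩; rw [hB w (hW hw)]; exact W.neg_mem hw
  obtain ⟨h, rfl⟩ := hme
  -- a part of each eigenspace, one of them of prescribed type
  have main : ∀ (S T : Submodule F (ι → F)), Nd Q S → Nd Q T → T ≤ perp Q S → (∀ W ≤ S, W.map X ≤ W) →
      (∀ W ≤ T, W.map X ≤ W) → Even (finrank F S) → Even (finrank F T) → finrank F S + finrank F T = 2 * d →
      (h + h < finrank F S ∨ (4 ≤ finrank F S ∧ finrank F S ≤ h + h)) → Good Q (h + h) pl X := by
    intro S T hS hT hTS hSi hTi hSe hTe hsum hcase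
    obtain ⟨s, hs⟩ := id hSe
    rcases hcase with hlt | ⟨hS4, hle⟩
    · obtain ⟨W, hWS, hW, hWd, hWp⟩ := QuadAny.exists_type Q hQ h hS (by omega) hSe pl (fun e => by omega)
      exact ⟨W, ⟨by omega, hW, hWp⟩, hSi W hWS⟩
    · obtain ⟨t, ht⟩ := id hTe
      obtain ⟨W₂, hW₂T, hW₂, hW₂d⟩ : ∃ W₂ ≤ T, Nd Q W₂ ∧ finrank F W₂ = 2 * (h + 1 - s) := by
        by_cases he : h + 1 - s = t
        · exact ⟨T, le_rfl, hT, by omega⟩
        · obtain ⟨W₂, a1, a2, a3, -⟩ := QuadAny.exists_type Q hQ (h + 1 - s) hT (by omega) hTe True (fun _ => trivial)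
          exact ⟨W₂, a1, a2, a3⟩
      obtain ⟨W₁, hW₁S, hW₁, hW₁d, hW₁p⟩ := QuadAny.exists_type Q hQ (s - 1) hS (by omega) hSe (pl ↔ Plus Q W₂)
        (fun e => absurd e (by omega))
      have hperp : W₂ ≤ perp Q W₁ := fun x hx w hw => hTS (hW₂T hx) w (hW₁S hw)
      obtain ⟨g1, g2⟩ := QuadType.nd_sup Q hW₁ hW₂ hperp
      refine ⟨W₁ ⊔ W₂, ⟨by omega, g1, ?_⟩, sup_inv (hSi _ hW₁S) (hTi _ hW₂T)⟩
      rw [QuadAny.sup_iff Q hQ hW₁ hW₂ hperp (hW₁d ▸ even_two_mul _) (hW₂d ▸ even_two_mul _), hW₁p]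
      by_cases h5 : pl <;> simp [h5]
  by_cases hcA : h + h < finrank F A ∨ (4 ≤ finrank F A ∧ finrank F A ≤ h + h)
  · exact main A B hnd.1 hnd.2 hBA hinvA hinvB hAe ⟨b, hb⟩ hdimAB hcA
  · refine main B A hnd.2 hnd.1 (fun a ha c hc => by rw [quad_polar_comm]; exact hAB a ha c hc) hinvB hinvA ⟨b, hb⟩ hAe
      (by omega) ?_
    omega

include hQ h2 in
/-- Square roots of `-1`. -/
theorem good_turn {d m : ℕ} {pl : Prop} (hn : Fintype.card ι = 2 * d) (hme : Even m) (hmd : m ≤ 2 * d)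
    (hC : Cond (Fintype.card F) d m (Plus Q ⊤) pl) (g : quadIsometries Q) (hs1 : spinor Q g = 1)
    {X : End F (ι → F)} (hXg : ∀ v, (g : (ι → F) ≃ₗ[F] (ι → F)) v = X v) (hXX : ∀ v, X (X v) = -v) : Good Q m pl X := by
  have hiso : ∀ v, Q (X v) = Q v := fun v => by rw [← hXg]; exact g.2 v
  obtain ⟨k, hk, hkt, ⟨g', hg's, hg'U, -⟩, hsub⟩ := struct Q hQ h2 hXX hiso _
    (show finrank F (⊤ : Submodule F (ι → F)) = 2 * d by rw [finrank_top, Module.finrank_fintype_fun_eq_card, hn])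
    (QuadType.nd_top Q hQ) le_top
  obtain rfl : k = d := by omega
  have heq : g = g' := Subtype.ext (LinearEquiv.ext fun x => (hXg x).trans (hg'U x Submodule.mem_top).symm)
  rw [heq, hg's, (sq_facts h2).2] at hs1
  rw [(sq_facts h2).1] at hkt
  obtain ⟨j, rfl⟩ := hme
  obtain ⟨W, -, hW, hWi, hWd⟩ := hsub j (by omega)
  obtain ⟨k', hk', hWt, -, -⟩ := struct Q hQ h2 hXX hiso _ hWd hW hWi
  refine ⟨W, ⟨by omega, hW, ?_⟩, hWi⟩
  rw [hWt, (sq_facts h2).1, show k' = (j + j) / 2 by omega]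
  exact (hC hkt hs1).symm

include hQ h2 in
/-- An element without invariant subspace in the bad cases. -/
theorem bad_two {d m : ℕ} {pl : Prop} (hn : Fintype.card ι = 2 * d) (hd : 4 ≤ d)
    (hC : ¬ Cond (Fintype.card F) d m (Plus Q ⊤) pl) :
    ∃ (g : quadIsometries Q) (z : F), dickson Q g = 1 ∧ spinor Q g = 1 ∧
      (∀ v, (g : (ι → F) ≃ₗ[F] (ι → F)) ((g : (ι → F) ≃ₗ[F] (ι → F)) v) = z • v) ∧
      (∀ c : F, ∃ v, (g : (ι → F) ≃ₗ[F] (ι → F)) v ≠ c • v) ∧
      ¬ ∃ W : Submodule F (ι → F), Sub Q m pl W ∧ ∀ x ∈ W, (g : (ι → F) ≃ₗ[F] (ι → F)) x ∈ W := by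
  unfold Cond at hC
  simp only [Classical.not_imp] at hC
  obtain ⟨hP, hs, hpl⟩ := hC
  have hfr : finrank F (⊤ : Submodule F (ι → F)) = 2 * d := by
    rw [finrank_top, Module.finrank_fintype_fun_eq_card, hn]
  obtain ⟨g, X, hgs, hgd, -, hXX, hgU, -⟩ := exists_turn Q hQ h2 d hfr (QuadType.nd_top Q hQ)
    (by rw [(sq_facts h2).1]; exact hP)
  have hgg : ∀ v, (g : (ι → F) ≃ₗ[F] (ι → F)) ((g : (ι → F) ≃ₗ[F] (ι → F)) v) = (-1 : F) • v := fun v => by
    rw [hgU _ Submodule.mem_top, hgU _ Submodule.mem_top, hXX _ Submodule.mem_top, neg_one_smul]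
  refine ⟨g, -1, hgd, by rw [hgs, (sq_facts h2).2]; exact hs, hgg, fun c => ?_, ?_⟩
  · obtain ⟨v, hv⟩ := exists_quad_ne_zero_of_nondeg Q hQ (by rw [Module.finrank_fintype_fun_eq_card]; omega)
    refine ⟨v, fun h => ?_⟩
    have e := hgg v
    rw [h, map_smul, h, smul_smul] at e
    have hv0 : v ≠ 0 := fun e' => hv (by rw [e', QuadraticMap.map_zero])
    have e1 : c * c = -1 := smul_left_injective F hv0 e
    have e2 : Q ((g : (ι → F) ≃ₗ[F] (ι → F)) v) = Q v := g.2 v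
    rw [h, quad_smul, e1] at e2
    exact hv ((mul_eq_zero.1 (show (2 : F) * Q v = 0 by linear_combination -e2)).resolve_left h2)
  · rintro ⟨W, ⟨hWd, hW, hWp⟩, hWi⟩
    obtain ⟨k', hk', hWt, -, -⟩ := struct Q hQ h2 (X := ((g : (ι → F) ≃ₗ[F] (ι → F)) : (ι → F) →ₗ[F] (ι → F)))
      (fun v => (hgg v).trans (neg_one_smul F v)) g.2 _ hWd hW (by rintro _ ⟨x, hx, rfl⟩; exact hWi x hx)
    apply hpl
    rw [← hWp, hWt, (sq_facts h2).1, show k' = m / 2 by omega]

end Cfsg.Agent.Lib.MaxSub.OrthNdTwo
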