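import Cfsg.Agent.Lib.MaxSub.OrthTS
import Cfsg.Agent.Lib.MaxSub.PrimeElemFlags
import Mathlib

/-!
Counting totally singular subspaces of a non-degenerate quadratic space of odd dimension.
-/

set_option autoImplicit false
set_option maxHeartbeats 1000000
set_option linter.unusedSectionVars false

namespace Cfsg.Agent.Lib.MaxSub.OrthTSCount

open Module Cfsg.Agent.Lib.MaxSub Cfsg.Agent.Lib.Geometry
open Cfsg.Agent.Lib.MaxSub.QuadType (Nd TS Plus perp)
open QuadraticMap (polarBilin)
open scoped _root_.Classical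

attribute [-simp] QuadraticMap.polarBilin_apply_apply

variable {ι : Type} [Fintype ι] [DecidableEq ι] {F : Type*} [Field F] [Fintype F] (Q : QuadraticForm F (ι → F))
variable (hQ : (polarBilin Q).Nondegenerate) (h2 : (2 : F) ≠ 0)

/-- Independent tuples spanning a totally singular subspace. -/
def STuple (j : ℕ) (t : Fin j → ι → F) : Prop :=
  LinearIndependent F t ∧ TS Q (Submodule.span F (Set.range t))

theorem sTuple_snoc_iff {j : ℕ} (t : Fin j → ι → F) (x : ι → F) :
    STuple Q (j + 1) (Fin.snoc t x) ↔ STuple Q j t ∧ (x ∈ perp Q (Submodule.span F (Set.range t)) ∧ Q x = 0) ∧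
      x ∉ Submodule.span F (Set.range t) := by
  have hr : Submodule.span F (Set.range (Fin.snoc t x)) = Submodule.span F (Set.range t) ⊔ (F ∙ x) := by
    rw [Fin.range_snoc, Submodule.span_insert, sup_comm]
  rw [STuple, linearIndependent_finSnoc, hr]
  constructor
  · rintro ⟨⟨ht, hx⟩, h⟩
    refine ⟨⟨ht, fun v hv => h v (Submodule.mem_sup_left hv)⟩, ⟨fun w hw => ?_, ?_⟩, hx⟩
    · exact QuadType.ts_polar Q h (Submodule.mem_sup_left hw) (Submodule.mem_sup_right (Submodule.mem_span_singleton_self x))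
    · exact h x (Submodule.mem_sup_right (Submodule.mem_span_singleton_self x))
  · rintro ⟨⟨ht, h⟩, ⟨hp, hx0⟩, hx⟩
    refine ⟨⟨ht, hx⟩, OrthTS.ts_sup Q h (fun v hv => ?_) ((Submodule.span_singleton_le_iff_mem _ _).2 hp)⟩
    obtain ⟨c, rfl⟩ := Submodule.mem_span_singleton.1 hv
    rw [quad_smul, hx0, mul_zero]

include hQ h2 in
/-- Singular vectors orthogonal to a totally singular subspace and outside it. -/
theorem card_ext {d j : ℕ} (hn : Fintype.card ι = 2 * d + 1) {P : Submodule F (ι → F)} (hP : TS Q P)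
    (hPd : finrank F P = j) (hj : j ≤ d) :
    Nat.card {x : ι → F // (x ∈ perp Q P ∧ Q x = 0) ∧ x ∉ P} =
      Fintype.card F ^ j * (Fintype.card F ^ (2 * (d - j)) - 1) := by
  have hPP : P ≤ perp Q P := fun v hv w hw => QuadType.ts_polar Q hP hw hv
  have hdim := QuadType.dim_inf_perp Q (QuadType.nd_top Q hQ) (le_top : P ≤ ⊤)
  rw [top_inf_eq, finrank_top, Module.finrank_fintype_fun_eq_card, hn, hPd] at hdim
  obtain ⟨C₀, hC₀⟩ := Submodule.exists_isCompl (P.comap (perp Q P).subtype)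
  set C := C₀.map (perp Q P).subtype with hC
  have hCle : C ≤ perp Q P := Submodule.map_subtype_le _ C₀
  have hCd : finrank F C = 2 * (d - j) + 1 := by
    have h1 := Submodule.finrank_add_eq_of_isCompl hC₀
    rw [(Submodule.comapSubtypeEquivOfLe hPP).finrank_eq, hPd] at h1
    rw [hC, ← (Submodule.equivMapOfInjective _ (perp Q P).subtype_injective C₀).finrank_eq]
    omega
  have hsum : ∀ v ∈ perp Q P, ∃ a ∈ P, ∃ c ∈ C, a + c = v := fun v hv => by
    obtain ⟨a, ha, c, hc, e⟩ := Submodule.mem_sup.1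
      (hC₀.sup_eq_top.symm ▸ Submodule.mem_top : (⟨v, hv⟩ : perp Q P) ∈ P.comap (perp Q P).subtype ⊔ C₀)
    exact ⟨a, ha, c, Submodule.mem_map_of_mem hc, congrArg Subtype.val e⟩
  have hdis : ∀ v ∈ P, v ∈ C → v = 0 := fun v hv hv' => by
    obtain ⟨c, hc, rfl⟩ := hv'
    have : c ∈ P.comap (perp Q P).subtype ⊓ C₀ := ⟨hv, hc⟩
    rw [hC₀.inf_eq_bot, Submodule.mem_bot] at this
    rw [this, map_zero]
  have hPperp : perp Q (perp Q P) = P := by
    refine (Submodule.eq_of_le_of_finrank_le (show P ≤ perp Q (perp Q P) from fun w hw x hx => QuadType.mem_perp' Q hx hw) ?_).symm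
    have h := QuadType.dim_inf_perp Q (QuadType.nd_top Q hQ) (le_top : perp Q P ≤ ⊤)
    rw [top_inf_eq, finrank_top, Module.finrank_fintype_fun_eq_card, hn] at h
    omega
  have hCn : Nd Q C := fun c hc hc0 => by
    by_contra hne
    push Not at hne
    refine hc0 (hdis c ?_ hc)
    rw [← hPperp]
    intro v hv
    obtain ⟨a, ha, c', hc', rfl⟩ := hsum v hv
    rw [map_add, LinearMap.add_apply, hCle hc a ha, zero_add, quad_polar_comm]
    exact hne c' hc'
  have hQadd : ∀ a ∈ P, ∀ c ∈ C, Q (a + c) = Q c := fun a ha c hc => by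
    rw [quad_add, hP a ha, hCle hc a ha, zero_add, add_zero]
  let g : P × {c : C // Q (c : ι → F) = 0 ∧ c ≠ 0} → {x : ι → F // (x ∈ perp Q P ∧ Q x = 0) ∧ x ∉ P} := fun z =>
    ⟨(z.1 : ι → F) + (z.2.1 : ι → F), ⟨(perp Q P).add_mem (hPP z.1.2) (hCle z.2.1.2),
      (hQadd _ z.1.2 _ z.2.1.2).trans z.2.2.1⟩, fun h =>
      z.2.2.2 (Subtype.ext (hdis _ ((P.add_mem_iff_right z.1.2).1 h) z.2.1.2))⟩
  have hg : Function.Bijective g := by
    constructor
    · rintro ⟨⟨a, ha⟩, ⟨⟨c, hc⟩, _⟩⟩ ⟨⟨a', ha'⟩, ⟨⟨c', hc'⟩, _⟩⟩ h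
      have h' : a + c = a' + c' := congrArg Subtype.val h
      have e : a - a' = c' - c := by rw [sub_eq_sub_iff_add_eq_add, h', add_comm]
      have h0 := hdis (a - a') (P.sub_mem ha ha') (e ▸ C.sub_mem hc' hc)
      obtain rfl := sub_eq_zero.1 h0
      obtain rfl := add_left_cancel h'
      rfl
    · rintro ⟨x, ⟨hx, hx0⟩, hxP⟩
      obtain ⟨a, ha, c, hc, rfl⟩ := hsum x hx
      refine ⟨(⟨a, ha⟩, ⟨⟨c, hc⟩, (hQadd a ha c hc).symm.trans hx0, fun e => hxP ?_⟩), rfl⟩
      rw [show c = 0 from congrArg Subtype.val e, add_zero]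
      exact ha
  rw [← Nat.card_congr (Equiv.ofBijective g hg), Nat.card_prod, Module.natCard_eq_pow_finrank (K := F) (V := P), hPd,
    Nat.card_eq_fintype_card (α := F)]
  congr 1
  have h0 := QuadCount.card_odd Q hQ h2 hCn hCd
  haveI := Fintype.ofFinite {c : C // Q (c : ι → F) = 0}
  rw [← h0]
  let z : {c : C // Q (c : ι → F) = 0} := ⟨0, QuadraticMap.map_zero _⟩
  rw [Nat.card_congr ((Equiv.subtypeSubtypeEquivSubtypeInter _ (fun c : C => c ≠ 0)).symm),
    Nat.card_congr (Equiv.subtypeEquivRight (q := fun v => v ≠ z) fun v =>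
      not_congr ⟨fun h => Subtype.ext h, fun h => congrArg Subtype.val h⟩)]
  rw [Nat.card_eq_fintype_card, Fintype.card_subtype_compl, Fintype.card_subtype_eq, ← Nat.card_eq_fintype_card]

include hQ h2 in
theorem card_tuples {d : ℕ} (hn : Fintype.card ι = 2 * d + 1) : ∀ j, j ≤ d → Nat.card {t : Fin j → ι → F // STuple Q j t} =
    ∏ i ∈ Finset.range j, Fintype.card F ^ i * (Fintype.card F ^ (2 * (d - i)) - 1)
  | 0, _ => by
    rw [Finset.prod_range_zero, Nat.card_eq_one_iff_exists]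
    refine ⟨⟨Fin.elim0, linearIndependent_empty_type, fun v hv => ?_⟩, fun t => Subtype.ext (Subsingleton.elim _ _)⟩
    rw [Set.range_eq_empty, Submodule.span_empty] at hv
    rw [(Submodule.mem_bot F).1 hv, QuadraticMap.map_zero]
  | j + 1, hj => by
    rw [Finset.prod_range_succ, ← card_tuples hn j (by omega)]
    let e : {t : Fin (j + 1) → ι → F // STuple Q (j + 1) t} ≃
        Σ t : {t : Fin j → ι → F // STuple Q j t},
          {x : ι → F // (x ∈ perp Q (Submodule.span F (Set.range t.1)) ∧ Q x = 0) ∧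
            x ∉ Submodule.span F (Set.range t.1)} :=
      { toFun := fun t =>
          have h := (sTuple_snoc_iff Q (Fin.init t.1) (t.1 (Fin.last j))).mp (by rw [Fin.snoc_init_self]; exact t.2)
          ⟨⟨Fin.init t.1, h.1⟩, t.1 (Fin.last j), h.2⟩
        invFun := fun s => ⟨Fin.snoc s.1.1 s.2.1, (sTuple_snoc_iff Q _ _).mpr ⟨s.1.2, s.2.2⟩⟩
        left_inv := fun t => Subtype.ext (Fin.snoc_init_self t.1)
        right_inv := fun ⟨⟨t, ht⟩, x, hx⟩ =>
          Sigma.subtype_ext (Subtype.ext (by simp)) (by simp) }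
    haveI := Fintype.ofFinite {t : Fin j → ι → F // STuple Q j t}
    rw [Nat.card_congr e, Nat.card_sigma, Nat.card_eq_fintype_card (α := {t : Fin j → ι → F // STuple Q j t})]
    rw [Finset.sum_congr rfl fun t _ => card_ext Q hQ h2 hn t.2.2
      ((finrank_span_eq_card t.2.1).trans (Fintype.card_fin j)) (by omega), Finset.sum_const, Finset.card_univ, smul_eq_mul]

include hQ h2 in
/-- Divisors of the number of totally singular subspaces. -/
theorem dvd_prod {d m r : ℕ} (hn : Fintype.card ι = 2 * d + 1) (hmd : m ≤ d)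
    (h : r ∣ Nat.card {W : Submodule F (ι → F) // finrank F W = m ∧ TS Q W}) :
    r ∣ ∏ i ∈ Finset.range m, (Fintype.card F ^ (2 * (d - i)) - 1) := by
  let Ω := {W : Submodule F (ι → F) // finrank F W = m ∧ TS Q W}
  haveI := Fintype.ofFinite Ω
  let e : {t : Fin m → ι → F // STuple Q m t} ≃
      Σ W : Ω, {s : Fin m → (W.1 : Submodule F (ι → F)) // LinearIndependent F s} :=
    { toFun := fun t => ⟨⟨Submodule.span F (Set.range t.1),
        by rw [finrank_span_eq_card t.2.1, Fintype.card_fin], t.2.2⟩,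
        fun a => ⟨t.1 a, Submodule.subset_span ⟨a, rfl⟩⟩,
        LinearIndependent.of_comp (Submodule.subtype _) t.2.1⟩
      invFun := fun s => ⟨fun a => (s.2.1 a : ι → F), s.2.2.map' (Submodule.subtype _) (Submodule.ker_subtype _),
        fun v hv => s.1.2.2 v ((Submodule.span_le.2 (by rintro _ ⟨a, rfl⟩; exact (s.2.1 a).2)) hv)⟩
      left_inv := fun t => rfl
      right_inv := fun ⟨⟨W, hW⟩, s, hs⟩ => by
        have hspan : Submodule.span F (Set.range fun a => (s a : ι → F)) = W :=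
          Submodule.eq_of_le_of_finrank_le (Submodule.span_le.2 (by rintro _ ⟨a, rfl⟩; exact (s a).2))
            (by
              have hli : LinearIndependent F fun a => (s a : ι → F) := hs.map' (Submodule.subtype _) (Submodule.ker_subtype _)
              rw [hW.1, finrank_span_eq_card hli, Fintype.card_fin])
        have hext : ∀ (W W' : Ω) (s : {s : Fin m → (W.1 : Submodule F (ι → F)) // LinearIndependent F s})
            (s' : {s : Fin m → (W'.1 : Submodule F (ι → F)) // LinearIndependent F s}), W.1 = W'.1 →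
            (∀ a, (s.1 a : ι → F) = (s'.1 a : ι → F)) →
            (⟨W, s⟩ : Σ W : Ω, {s : Fin m → (W.1 : Submodule F (ι → F)) // LinearIndependent F s}) = ⟨W', s'⟩ := by
          rintro ⟨W, hW⟩ ⟨W', hW'⟩ s s' (h : W = W') ha
          subst h
          exact congrArg _ (Subtype.ext (funext fun a => Subtype.ext (ha a)))
        exact hext _ _ _ _ hspan fun a => rfl }
  have h1 := (Nat.card_congr e).symm.trans (card_tuples Q hQ h2 hn m hmd)
  rw [Nat.card_sigma, Finset.sum_const_nat (m := ∏ i ∈ Finset.range m, (Fintype.card F ^ m - Fintype.card F ^ i)) ?_,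
    Finset.card_univ, ← Nat.card_eq_fintype_card] at h1
  swap
  · intro W _
    rw [card_linearIndependent (le_of_eq W.2.1.symm), W.2.1,
      Fin.prod_univ_eq_prod_range (fun i => Fintype.card F ^ m - Fintype.card F ^ i)]
  have e1 : ∀ i ∈ Finset.range m, Fintype.card F ^ m - Fintype.card F ^ i =
      Fintype.card F ^ i * (Fintype.card F ^ (m - i) - 1) := fun i hi => by
    rw [Nat.mul_sub_one, ← pow_add, show i + (m - i) = m by have := Finset.mem_range.1 hi; omega]
  rw [Finset.prod_congr rfl e1, Finset.prod_mul_distrib, Finset.prod_mul_distrib, mul_left_comm] at h1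
  rw [← Nat.eq_of_mul_eq_mul_left (Finset.prod_pos fun i _ => pow_pos Fintype.card_pos i) h1]
  exact dvd_mul_of_dvd_left h _

include hQ h2 in
theorem ne_char {d m r p : ℕ} [Fact p.Prime] [CharP F p] [hr : Fact r.Prime] (hn : Fintype.card ι = 2 * d + 1) (hmd : m ≤ d)
    (h : r ∣ Nat.card {W : Submodule F (ι → F) // finrank F W = m ∧ TS Q W}) : r ≠ p := by
  rintro rfl
  obtain ⟨i, hi, hd'⟩ := (Prime.dvd_finsetProd_iff (Nat.prime_iff.1 hr.out) _).1 (dvd_prod Q hQ h2 hn hmd h)
  have hi' := Finset.mem_range.1 hi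
  obtain ⟨f, -, hcard⟩ := FiniteField.card F r
  have h1 : r ∣ Fintype.card F ^ (2 * (d - i)) :=
    (hcard ▸ dvd_pow_self r f.ne_zero).trans (dvd_pow_self _ (by omega))
  have h3 := Nat.dvd_sub h1 hd'
  rw [Nat.sub_sub_self (Nat.one_le_pow _ _ Fintype.card_pos)] at h3
  exact hr.out.one_lt.ne' (Nat.dvd_one.1 h3)

include hQ h2 in
theorem count_bound {d m r p i : ℕ} [Fact p.Prime] [CharP F p] [hr : Fact r.Prime] (hn : Fintype.card ι = 2 * d + 1)
    (hrp : r ≠ p) (hi : orderOf ((Fintype.card F : ℕ) : ZMod r) = i) (hmd : m ≤ d)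
    (h2m : 2 * m ≤ 2 * d % IsoDecomp.step i)
    (h : r ∣ Nat.card {W : Submodule F (ι → F) // finrank F W = m ∧ TS Q W}) : False := by
  obtain ⟨j, hj, hd'⟩ := (Prime.dvd_finsetProd_iff (Nat.prime_iff.1 hr.out) _).1 (dvd_prod Q hQ h2 hn hmd h)
  have hj' := Finset.mem_range.1 hj
  have hdvd : i ∣ 2 * (d - j) := by
    rw [← hi, orderOf_dvd_iff_pow_eq_one, ← sub_eq_zero, ← Nat.cast_pow,
      ← Nat.cast_one (R := ZMod r), ← Nat.cast_sub (Nat.one_le_pow _ _ Fintype.card_pos), ZMod.natCast_eq_zero_iff]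
    exact hd'
  have hc : IsoDecomp.step i ∣ 2 * (d - j) := by
    rw [IsoDecomp.step]
    split_ifs with hev
    · exact hdvd
    · exact Nat.mul_dvd_mul_left 2 ((Nat.Coprime.dvd_mul_left (Nat.coprime_two_right.2 (Nat.not_even_iff_odd.1 hev))).1 hdvd)
  obtain ⟨b, hb⟩ := hc
  have hc0 := (OrthNdSub.step_pos (F := F) hi hrp).1
  have h1 : b ≤ 2 * d / IsoDecomp.step i := (Nat.le_div_iff_mul_le hc0).2 (by rw [mul_comm, ← hb]; omega)
  have h3 := Nat.mul_le_mul_left (IsoDecomp.step i) h1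
  have h4 := Nat.div_add_mod (2 * d) (IsoDecomp.step i)
  omega

end Cfsg.Agent.Lib.MaxSub.OrthTSCount
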