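import Cfsg.Agent.Lib.MaxSub.OrthAny
import Cfsg.Agent.Lib.MaxSub.OrthTSCount
import Mathlib

/-!
Invariant totally singular subspaces of isometries of odd prime order in even dimension, in any characteristic.
-/

set_option autoImplicit false
set_option maxHeartbeats 1000000
set_option linter.unusedSectionVars false

namespace Cfsg.Agent.Lib.MaxSub.OrthTSAny

open Module Polynomial Cfsg.Agent.Lib.MaxSub Cfsg.Agent.Lib.Geometry
open Cfsg.Agent.Lib.MaxSub.QuadType (Nd TS Plus perp)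
open Cfsg.Agent.Lib.MaxSub.IsoDecomp (step fixed moved mem_fixed moved_inv inf_inv sup_inv fixed_inv decompose)
open Cfsg.Agent.Lib.MaxSub.OrthDecomp (typ)
open QuadraticMap (polarBilin)
open scoped _root_.Classical

attribute [-simp] QuadraticMap.polarBilin_apply_apply

variable {ι : Type} [Fintype ι] [DecidableEq ι] {F : Type*} [Field F] (Q : QuadraticForm F (ι → F))

/-- An invariant totally singular subspace of dimension `m`. -/
def Good (m : ℕ) (X : End F (ι → F)) : Prop :=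
  ∃ W : Submodule F (ι → F), finrank F W = m ∧ TS Q W ∧ W.map X ≤ W

theorem good_sup {m : ℕ} {X : End F (ι → F)} {A B W W' : Submodule F (ι → F)} (hA : Nd Q A) (hAB : B ≤ perp Q A)
    (hWA : W ≤ A) (hW'B : W' ≤ B) (hW : TS Q W) (hW' : TS Q W') (hWi : W.map X ≤ W) (hW'i : W'.map X ≤ W')
    (hdim : finrank F W + finrank F W' = m) : Good Q m X := by
  refine ⟨W ⊔ W', ?_, OrthTS.ts_sup Q hW hW' ((hW'B.trans hAB).trans (QuadType.perp_anti Q hWA)), sup_inv hWi hW'i⟩
  have hd : W ⊓ W' = ⊥ := le_bot_iff.1 (le_trans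
    (le_inf (inf_le_left.trans hWA) (le_inf le_top (inf_le_right.trans (hW'B.trans hAB)))) (QuadType.inf_perp Q hA ⊤).le)
  have h := Submodule.finrank_sup_add_finrank_inf_eq W W'
  rw [hd, finrank_bot, add_zero] at h
  omega

variable [Fintype F] {p : ℕ} [Fact p.Prime] [CharP F p] {r : ℕ} [hr : Fact r.Prime]
variable (hQ : (polarBilin Q).Nondegenerate)

omit [Fact p.Prime] [CharP F p] hr in
theorem exists_ts (hQ : (polarBilin Q).Nondegenerate) {U : Submodule F (ι → F)} (hU : Nd Q U) (hev : Even (finrank F U))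
    {e : ℕ} (he : 2 * e < finrank F U ∨ (2 * e ≤ finrank F U ∧ Plus Q U)) :
    ∃ W ≤ U, TS Q W ∧ finrank F W = e := by
  obtain ⟨T, hTU, hT, hTd⟩ : ∃ T ≤ U, TS Q T ∧ e ≤ finrank F T := by
    rcases he with hlt | ⟨hle, ⟨T, hTU, hT, hTd⟩⟩
    · obtain ⟨a, ha⟩ := hev
      obtain ⟨P, hPU, -, hPd, hP⟩ := QuadAny.exists_type Q hQ e hU (by omega) ⟨a, ha⟩ True fun _ => trivial
      obtain ⟨T, hTP, hT, hTd⟩ := hP.2 trivial
      exact ⟨T, hTP.trans hPU, hT, by omega⟩
    · exact ⟨T, hTU, hT, by omega⟩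
  obtain ⟨S, hSd⟩ : ∃ S : Submodule F T, finrank F S = e := by
    let b := Module.finBasis F T
    refine ⟨Submodule.span F (Set.range fun j : Fin e => b (Fin.castLE hTd j)), ?_⟩
    rw [finrank_span_eq_card, Fintype.card_fin]
    exact b.linearIndependent.comp _ (Fin.castLE_injective _)
  refine ⟨S.map T.subtype, (Submodule.map_subtype_le T S).trans hTU,
    fun v hv => hT v (Submodule.map_subtype_le T S hv), ?_⟩
  rw [← (Submodule.equivMapOfInjective _ T.subtype_injective S).finrank_eq, hSd]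

/-- An irreducible totally singular invariant subspace of a moved space. -/
theorem exists_ts_moved (hQ : (polarBilin Q).Nondegenerate) (hrp : r ≠ p) (hr2 : r ≠ 2) {i : ℕ}
    (hi : orderOf ((Fintype.card F : ℕ) : ZMod r) = i) {X : End F (ι → F)}
    (hX : X ^ r = 1) (hiso : ∀ v, Q (X v) = Q v) {U : Submodule F (ι → F)} (hU : Nd Q U) (hUi : U.map X ≤ U)
    (hUm : U ≤ moved X r) (hbig : (Odd i ∧ U ≠ ⊥) ∨ r - 1 < finrank F U) :
    ∃ S ≤ U, S.map X ≤ S ∧ TS Q S ∧ finrank F S = i := by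
  have hi0 : 0 < i := hi ▸ PrimeElemFlags.order_pos rfl hrp
  rcases hbig with ⟨hodd, hne⟩ | hlt
  · obtain ⟨L, hLU, hL, hLi, hLd, hLp⟩ := OrthAny.exists_atom Q hQ hrp hr2 hi hX hiso hU hUi hUm hne
    rw [step, if_neg (Nat.not_even_iff_odd.2 hodd)] at hLd
    obtain ⟨-, hsub⟩ := LinDecomp.moved_sub hrp hi hX hLi (hLU.trans hUm)
    obtain ⟨S, hS, hSL, hSd⟩ := hsub 1 (by rw [hLd]; omega)
    rw [mul_one] at hSd
    refine ⟨S, hSL.trans hLU, hS, ?_, hSd⟩
    have hperpS := OrthDecomp.perp_inv Q hX hr.out.pos hiso hS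
    obtain ⟨⟨b, hb⟩, -⟩ := LinDecomp.moved_sub hrp hi hX (inf_inv hS hperpS) (inf_le_left.trans (hSL.trans (hLU.trans hUm)))
    rcases Nat.eq_zero_or_pos b with rfl | hb0
    · exfalso
      rw [mul_zero, Submodule.finrank_eq_zero] at hb
      have hnd : Nd Q S := fun v hv hv0 => by
        by_contra hne
        push Not at hne
        exact hv0 ((Submodule.mem_bot F).1 (hb ▸ ⟨hv, fun w hw => by rw [quad_polar_comm, hne w hw]⟩))
      obtain ⟨A, hAS, -, -, hAd, -⟩ := OrthAny.exists_atom Q hQ hrp hr2 hi hX hiso hnd hS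
        (hSL.trans (hLU.trans hUm)) (fun e => by rw [e, finrank_bot] at hSd; omega)
      rw [step, if_neg (Nat.not_even_iff_odd.2 hodd)] at hAd
      have := Submodule.finrank_mono hAS
      omega
    · have e : S ⊓ perp Q S = S := Submodule.eq_of_le_of_finrank_le inf_le_left
        (by rw [hb, hSd]; exact Nat.le_mul_of_pos_right _ hb0)
      exact OrthAny.ts_moved Q (PrimeElemFlags.cast_ne_zero hrp) hX hiso hS (hSL.trans (hLU.trans hUm)) (e.symm.le.trans inf_le_right)
  · obtain ⟨h, hh⟩ := hr.out.odd_of_ne_two hr2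
    obtain ⟨v, hv, hv0, hvq⟩ := OrthTS.exists_zero Q (p := p) (fun j : Fin h => X ^ ((j : ℕ) + 1)) (U := U) (by omega)
    have hpiso : ∀ (k : ℕ) u w, polarBilin Q ((X ^ k) u) ((X ^ k) w) = polarBilin Q u w := fun k => by
      induction k with
      | zero => simp
      | succ k ih => intro u w; rw [pow_succ', End.mul_apply, End.mul_apply, quad_polar_map Q hiso, ih]
    have hnz : ∀ k : ℕ, 0 < k % r → polarBilin Q ((X ^ k) v) v = 0 := fun k h0 => by
      rw [pow_eq_pow_mod k hX]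
      have hk := Nat.mod_lt k hr.out.pos
      by_cases hkh : k % r ≤ h
      · have := hvq ⟨k % r - 1, by omega⟩
        simpa [show k % r - 1 + 1 = k % r by omega] using this
      · have := hvq ⟨r - k % r - 1, by omega⟩
        simp only [show r - k % r - 1 + 1 = r - k % r by omega] at this
        rw [← hpiso (r - k % r), ← End.mul_apply, ← pow_add, show r - k % r + k % r = r by omega, hX, End.one_apply,
          quad_polar_comm, this]
    have hzero : ∀ k : ℕ, polarBilin Q ((X ^ k) v) v = 0 := by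
      have h0 : polarBilin Q v v = 0 := by
        have hc : aeval X (cyclotomic r F) v = 0 := hUm hv
        rw [cyclotomic_prime, map_sum, LinearMap.sum_apply] at hc
        have e := congrArg (fun z => polarBilin Q z v) hc
        simp only [map_pow, aeval_X, map_sum, LinearMap.sum_apply, map_zero, LinearMap.zero_apply] at e
        rw [Finset.sum_eq_single 0 (fun j hj hj0 => hnz j (by
          rw [Nat.mod_eq_of_lt (Finset.mem_range.1 hj)]; exact Nat.pos_of_ne_zero hj0))
          (fun hh => absurd (Finset.mem_range.2 hr.out.pos) hh), pow_zero, End.one_apply] at e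
        exact e
      intro k
      rcases Nat.eq_zero_or_pos (k % r) with hk | hk
      · rw [pow_eq_pow_mod k hX, hk]; simpa using h0
      · exact hnz k hk
    set Z := Submodule.span F (Set.range fun j : Fin r => (X ^ (j : ℕ)) v) with hZ
    have hvZ : v ∈ Z := Submodule.subset_span ⟨⟨0, hr.out.pos⟩, rfl⟩
    have hZU : Z ≤ U := by
      rw [hZ, Submodule.span_le]
      rintro _ ⟨j, rfl⟩
      have h := PrimeElem.aeval_mem X hUi (Polynomial.X ^ (j : ℕ)) hv
      rwa [map_pow, aeval_X] at h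
    have hZi : Z.map X ≤ Z := by
      rw [hZ, Submodule.map_span, Submodule.span_le]
      rintro _ ⟨_, ⟨j, rfl⟩, rfl⟩
      rw [SetLike.mem_coe, ← End.mul_apply, ← pow_succ', pow_eq_pow_mod _ hX]
      exact Submodule.subset_span ⟨⟨_, Nat.mod_lt _ hr.out.pos⟩, rfl⟩
    have hZti : Z ≤ perp Q Z := by
      have key : ∀ a b : ℕ, a < r → polarBilin Q ((X ^ a) v) ((X ^ b) v) = 0 := fun a b ha => by
        rw [← hpiso (r - a), ← End.mul_apply, ← End.mul_apply, ← pow_add, ← pow_add, show r - a + a = r by omega, hX,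
          End.one_apply, quad_polar_comm, hzero]
      intro x hx w hw
      rw [hZ] at hx hw
      induction hx using Submodule.span_induction with
      | mem x hx =>
        obtain ⟨b, rfl⟩ := hx
        induction hw using Submodule.span_induction with
        | mem w hw => obtain ⟨a, rfl⟩ := hw; exact key _ _ a.2
        | zero => simp
        | add y z _ _ h1 h2 => rw [map_add, LinearMap.add_apply, h1, h2, add_zero]
        | smul c y _ h1 => rw [map_smul, LinearMap.smul_apply, h1, smul_zero]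
      | zero => simp
      | add y z _ _ h1 h2 => rw [map_add, h1, h2, add_zero]
      | smul c y _ h1 => rw [map_smul, h1, smul_zero]
    obtain ⟨⟨b, hb⟩, hZsub⟩ := LinDecomp.moved_sub hrp hi hX hZi (hZU.trans hUm)
    have hb0 : 0 < b := Nat.pos_of_ne_zero fun e => by
      rw [e, mul_zero, Submodule.finrank_eq_zero] at hb
      exact hv0 ((Submodule.mem_bot F).1 (hb ▸ hvZ))
    obtain ⟨S, hS, hSZ, hSd⟩ := hZsub 1 (by rw [hb]; exact Nat.mul_le_mul_left _ hb0)
    exact ⟨S, hSZ.trans hZU, hS, fun x hx => OrthAny.ts_moved Q (PrimeElemFlags.cast_ne_zero hrp) hX hiso hZi (hZU.trans hUm) hZti x (hSZ hx),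
      by rwa [mul_one] at hSd⟩

include hQ in
theorem good_of_data {X : End F (ι → F)} (hrp : r ≠ p) (hX : X ^ r = 1) (hiso : ∀ v, Q (X v) = Q v) {D i j m : ℕ}
    (H : ∀ U ≤ moved X r, Nd Q U → U.map X ≤ U → D ≤ finrank F U → ∃ S ≤ U, S.map X ≤ S ∧ TS Q S ∧ finrank F S = i)
    (hj : 0 < j → D + 2 * i * (j - 1) ≤ finrank F (moved X r)) (hjm : i * j ≤ m)
    (hf : 2 * (m - i * j) < finrank F (fixed X) ∨ (2 * (m - i * j) ≤ finrank F (fixed X) ∧ Plus Q (fixed X)))
    (hev : Even (finrank F (fixed X))) : Good Q m X := by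
  have hr0 : (r : F) ≠ 0 := PrimeElemFlags.cast_ne_zero hrp
  obtain ⟨hF, hM⟩ := OrthDecomp.nd_parts Q hr0 hX hiso (QuadType.nd_top Q hQ) (le_top : (⊤ : Submodule F (ι → F)).map X ≤ ⊤)
  rw [top_inf_eq] at hF hM
  have hy : aeval X (Polynomial.X ^ r - C (1 : F)) = 0 := PrimeElemFlags.aeval_eq_zero (by rw [hX, one_smul])
  obtain ⟨A, hA1, hA2, hA3, hA4⟩ := OrthTS.exists_ts_mul Q hr.out.pos hX hiso (PrimeElemFlags.sq hr0 one_ne_zero) hy H j _
    le_rfl hM moved_inv hj
  obtain ⟨B, hB1, hB2, hB3⟩ := exists_ts Q hQ hF hev hf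
  exact good_sup Q hF (fun v hv u hu => OrthDecomp.orth Q hr0 hiso hu hv) hB1 hA1 hB2 hA3 (fixed_inv hB1) hA2
    (by omega)

/-- The conditions for odd primes. -/
def Cond (r i d m : ℕ) (P : Prop) : Prop :=
  i ≤ m ∧ (Odd i → ((P → 2 * (m % i) ≤ 2 * d % step i) ∧ (¬ P → 2 * d % step i = 0 ∨ 2 * (m % i) < 2 * d % step i))) ∧
    (Even i → (r - 1) / i + 2 * (m / i) ≤ 2 * d / i ∧
      ((2 * (m % i) ≤ i ∧ 2 * d % step i = 0 ∧ ¬ (Even (2 * d / i) ↔ P) ∧ (r - 1) / i + 2 * (m / i) < 2 * d / i) ∨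
        (2 * (m % i) ≤ 2 * d % step i ∧ (Even (2 * d / i) ↔ P)) ∨
        (2 * (m % i) < 2 * d % step i ∧ ¬ (Even (2 * d / i) ↔ P))))

include hQ in
/-- Elements of odd order in the good cases. -/
theorem good_odd {d : ℕ} (hn : Fintype.card ι = 2 * d) {X : End F (ι → F)} (hrp : r ≠ p) (hr2 : r ≠ 2) {i : ℕ}
    (hi : orderOf ((Fintype.card F : ℕ) : ZMod r) = i) (hX : X ^ r = 1) (hiso : ∀ v, Q (X v) = Q v) {m : ℕ} (hmd : m < d)
    (hC : Cond r i d m (Plus Q ⊤)) : Good Q m X := by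
  have hi0 : 0 < i := hi ▸ PrimeElemFlags.order_pos rfl hrp
  obtain ⟨hF, hM, e, he, hsum, hev', htype⟩ := OrthAny.parts Q hQ hrp hr2 hi hX hiso hn
  have hzero : finrank F (fixed X) = 0 → Plus Q (fixed X) := fun h => ⟨⊥, bot_le,
    fun u hu => by rw [(Submodule.mem_bot F).1 hu, QuadraticMap.map_zero], by rw [finrank_bot, h]⟩
  obtain ⟨-, hCo, hCe⟩ := hC
  have hm := Nat.div_add_mod m i
  have hmlt : m % i < i := Nat.mod_lt _ hi0
  rcases Nat.even_or_odd i with hev | hodd
  · obtain ⟨ht', hc⟩ := hCe hev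
    rw [step, if_pos hev] at he hsum hc
    have hn' := Nat.div_add_mod (2 * d) i
    obtain ⟨t, htdef⟩ : ∃ t, t = (r - 1) / i := ⟨_, rfl⟩
    rw [← htdef] at ht' hc
    have hti : i * t = r - 1 := by
      rw [htdef]
      refine Nat.mul_div_cancel' ?_
      have h0 := IsoTIElem.card_factors (F := F) hrp hi
      exact ⟨_, by rw [← h0, mul_comm]⟩
    have hN' : e ≤ 2 * d / i := (Nat.le_div_iff_mul_le hi0).2 (by rw [mul_comm]; omega)
    obtain ⟨a, ha⟩ : ∃ a, 2 * d / i = e + a := ⟨2 * d / i - e, by omega⟩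
    obtain ⟨j, hj⟩ : ∃ j, j = min (m / i) ((e + 1 - t) / 2) := ⟨_, rfl⟩
    obtain ⟨b, hb⟩ : ∃ b, m / i = j + b := ⟨m / i - j, by omega⟩
    refine good_of_data Q hQ hrp hX hiso (D := r) (i := i) (j := j) (fun U hU hUn hUi hd =>
      exists_ts_moved Q hQ hrp hr2 hi hX hiso hUn hUi hU (Or.inr (by have := hr.out.pos; omega)))
      (fun hj0 => ?_) ?_ ?_ hev'
    · rw [he]
      have e1 : i * (t + 2 * j - 1) ≤ i * e := Nat.mul_le_mul_left i (by omega)
      have e2 : i * (t + 2 * j - 1) = i * t + 2 * i * (j - 1) + i := by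
        rw [show t + 2 * j - 1 = t + 2 * (j - 1) + 1 by omega]; ring
      have := hr.out.pos
      omega
    · rw [← hm, hb, Nat.mul_add]; omega
    · rw [hb, Nat.mul_add] at hm
      rw [ha, Nat.mul_add] at hn'
      have hno := Nat.not_odd_iff_even.2 hev
      simp only [typ, hno, false_or] at htype
      have hle2 : 2 * b + 2 ≤ a → 2 * (i * b) + 2 * i ≤ i * a := fun h => by
        have e1 := Nat.mul_le_mul_left i h
        rw [Nat.mul_add, mul_left_comm, mul_comm i 2] at e1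
        exact e1
      have heq1 : 2 * b + 1 = a → i * a = 2 * (i * b) + i := fun h => by rw [← h]; ring
      have heq0 : 2 * b = a → i * a = 2 * (i * b) := fun h => by rw [← h]; ring
      have hle : 2 * b ≤ a := by omega
      have hib : b = 0 → i * b = 0 := fun h => by rw [h, Nat.mul_zero]
      have hee : ∀ x : ℕ, e + a = x → (Even x ↔ (Even e ↔ Even a)) := fun x hx => hx ▸ Nat.even_add
      rw [hee _ ha.symm] at hc
      by_cases hP : Plus Q ⊤ <;> by_cases hPF : Plus Q (fixed X) <;> by_cases hEe : Even e <;>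
        simp [hP, hPF, hEe, -Submodule.finrank_eq_zero] at htype hc hzero ⊢ <;>
        simp only [Nat.even_iff, Nat.odd_iff] at hc <;>
        (rcases (show 2 * b + 2 ≤ a ∨ 2 * b + 1 = a ∨ 2 * b = a by omega) with h | h | h <;>
          [have := hle2 h; have := heq1 h; have := heq0 h] <;> omega)
  · rw [step, if_neg (Nat.not_even_iff_odd.2 hodd)] at he hsum
    obtain ⟨hc1, hc2⟩ := hCo hodd
    rw [step, if_neg (Nat.not_even_iff_odd.2 hodd)] at hc1 hc2
    have hn' := Nat.div_add_mod (2 * d) (2 * i)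
    have hs' : e ≤ 2 * d / (2 * i) := (Nat.le_div_iff_mul_le (by omega)).2 (by rw [mul_comm]; omega)
    obtain ⟨a, ha⟩ : ∃ a, 2 * d / (2 * i) = e + a := ⟨2 * d / (2 * i) - e, by omega⟩
    obtain ⟨j, hj⟩ : ∃ j, j = min (m / i) e := ⟨_, rfl⟩
    obtain ⟨b, hb⟩ : ∃ b, m / i = j + b := ⟨m / i - j, by omega⟩
    refine good_of_data Q hQ hrp hX hiso (D := 1) (i := i) (j := j) (fun U hU hUn hUi hd =>
      exists_ts_moved Q hQ hrp hr2 hi hX hiso hUn hUi hU
        (Or.inl ⟨hodd, fun e' => by rw [e', finrank_bot] at hd; omega⟩)) (fun hj0 => ?_) ?_ ?_ hev'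
    · rw [he]
      have e1 : 2 * i * j ≤ 2 * i * e := Nat.mul_le_mul_left _ (by omega)
      have e2 : 2 * i * j = 2 * i * (j - 1) + 2 * i := by conv_lhs => rw [show j = j - 1 + 1 by omega, Nat.mul_succ]
      omega
    · rw [← hm, hb, Nat.mul_add]; omega
    · rw [hb, Nat.mul_add] at hm
      rw [ha, Nat.mul_add] at hn'
      simp only [typ, hodd, true_or, iff_true] at htype
      rcases Nat.eq_zero_or_pos b with rfl | hb0
      · rcases Nat.eq_zero_or_pos a with rfl | ha0
        · by_cases hP : Plus Q ⊤ <;> simp [hP] at htype hc1 hc2 <;> simp [htype, -Submodule.finrank_eq_zero] at hzero ⊢ <;> omega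
        · have := Nat.le_mul_of_pos_right (2 * i) ha0
          omega
      · obtain rfl : j = e := by omega
        rw [mul_assoc] at hsum
        omega

/-- What an invariant totally singular subspace says about the element. -/
theorem necessary {X : End F (ι → F)} (hrp : r ≠ p) {i : ℕ} (hi : orderOf ((Fintype.card F : ℕ) : ZMod r) = i)
    (hX : X ^ r = 1) (hiso : ∀ v, Q (X v) = Q v) (hQ : (polarBilin Q).Nondegenerate) {m : ℕ} (h : Good Q m X) :
    ∃ (j : ℕ) (W : Submodule F (ι → F)), W.map X ≤ W ∧ W ≤ moved X r ∧ TS Q W ∧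
      finrank F W = i * j ∧ i * j ≤ m ∧ 2 * (m - i * j) ≤ finrank F (fixed X) ∧
      (2 * (m - i * j) = finrank F (fixed X) → Plus Q (fixed X)) := by
  obtain ⟨W, hWd, hts, hW⟩ := h
  have hr0 : (r : F) ≠ 0 := PrimeElemFlags.cast_ne_zero hrp
  obtain ⟨hF, -⟩ := OrthDecomp.nd_parts Q hr0 hX hiso (QuadType.nd_top Q hQ) (le_top : (⊤ : Submodule F (ι → F)).map X ≤ ⊤)
  rw [top_inf_eq] at hF
  obtain ⟨⟨j, hj⟩, -⟩ := LinDecomp.moved_sub hrp hi hX (inf_inv hW (moved_inv (r := r))) inf_le_right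
  have hsum := (decompose hr0 hX hW).2
  have h1 := QuadType.ts_half Q hQ hF (inf_le_right : W ⊓ fixed X ≤ fixed X) fun v hv => hts v hv.1
  exact ⟨j, _, inf_inv hW moved_inv, inf_le_right, fun v hv => hts v hv.1, hj, by omega, by omega,
    fun h' => ⟨W ⊓ fixed X, inf_le_right, fun v hv => hts v hv.1, by omega⟩⟩

section Count

/-- Independent tuples spanning a totally singular subspace. -/
def STuple (j : ℕ) (t : Fin j → ι → F) : Prop :=
  LinearIndependent F t ∧ TS Q (Submodule.span F (Set.range t))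

theorem sTuple_snoc_iff {j : ℕ} (t : Fin j → ι → F) (x : ι → F) :
    STuple Q (j + 1) (Fin.snoc t x) ↔ STuple Q j t ∧ (x ∈ perp Q (Submodule.span F (Set.range t)) ∧ Q x = 0) ∧
      x ∉ Submodule.span F (Set.range t) := by
  have hr : Submodule.span F (Set.range (Fin.snoc t x)) = Submodule.span F (Set.range t) ⊔ (F ∙ x) := by
    rw [Fin.range_snoc, Submodule.span_insert, sup_comm]
  rw [STuple, linearIndependent_finSnoc, hr]
  constructor
  · rintro ⟨⟨ht, hx⟩, h⟩
    refine ⟨⟨ht, fun v hv => h v (Submodule.mem_sup_left hv)⟩, ⟨fun w hw => ?_, ?_⟩, hx⟩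
    · exact QuadType.ts_polar Q h (Submodule.mem_sup_left hw) (Submodule.mem_sup_right (Submodule.mem_span_singleton_self x))
    · exact h x (Submodule.mem_sup_right (Submodule.mem_span_singleton_self x))
  · rintro ⟨⟨ht, h⟩, ⟨hp, hx0⟩, hx⟩
    refine ⟨⟨ht, hx⟩, OrthTS.ts_sup Q h (fun v hv => ?_) ((Submodule.span_singleton_le_iff_mem _ _).2 hp)⟩
    obtain ⟨c, rfl⟩ := Submodule.mem_span_singleton.1 hv
    rw [quad_smul, hx0, mul_zero]

include hQ in
/-- Singular vectors orthogonal to a totally singular subspace and outside it. -/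
theorem card_ext {d j : ℕ} (hn : Fintype.card ι = 2 * d) {P : Submodule F (ι → F)} (hP : TS Q P)
    (hPd : finrank F P = j) (hj : j < d) :
    (Nat.card {x : ι → F // (x ∈ perp Q P ∧ Q x = 0) ∧ x ∉ P} : ℤ) =
      (Fintype.card F : ℤ) ^ j * (((Fintype.card F : ℤ) ^ (d - j) - QuadAny.eps Q ⊤) *
        ((Fintype.card F : ℤ) ^ (d - j - 1) + QuadAny.eps Q ⊤)) := by
  have hPP : P ≤ perp Q P := fun v hv w hw => QuadType.ts_polar Q hP hw hv
  have hdim := QuadType.dim_inf_perp Q (QuadType.nd_top Q hQ) (le_top : P ≤ ⊤)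
  rw [top_inf_eq, finrank_top, Module.finrank_fintype_fun_eq_card, hn, hPd] at hdim
  obtain ⟨C₀, hC₀⟩ := Submodule.exists_isCompl (P.comap (perp Q P).subtype)
  set C := C₀.map (perp Q P).subtype with hC
  have hCle : C ≤ perp Q P := Submodule.map_subtype_le _ C₀
  have hCd : finrank F C = 2 * (d - j) := by
    have h1 := Submodule.finrank_add_eq_of_isCompl hC₀
    rw [(Submodule.comapSubtypeEquivOfLe hPP).finrank_eq, hPd] at h1
    rw [hC, ← (Submodule.equivMapOfInjective _ (perp Q P).subtype_injective C₀).finrank_eq]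
    omega
  have hsum : ∀ v ∈ perp Q P, ∃ a ∈ P, ∃ c ∈ C, a + c = v := fun v hv => by
    obtain ⟨a, ha, c, hc, e⟩ := Submodule.mem_sup.1
      (hC₀.sup_eq_top.symm ▸ Submodule.mem_top : (⟨v, hv⟩ : perp Q P) ∈ P.comap (perp Q P).subtype ⊔ C₀)
    exact ⟨a, ha, c, Submodule.mem_map_of_mem hc, congrArg Subtype.val e⟩
  have hdis : ∀ v ∈ P, v ∈ C → v = 0 := fun v hv hv' => by
    obtain ⟨c, hc, rfl⟩ := hv'
    have : c ∈ P.comap (perp Q P).subtype ⊓ C₀ := ⟨hv, hc⟩
    rw [hC₀.inf_eq_bot, Submodule.mem_bot] at this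
    rw [this, map_zero]
  have hPperp : perp Q (perp Q P) = P := by
    refine (Submodule.eq_of_le_of_finrank_le (show P ≤ perp Q (perp Q P) from fun w hw x hx => QuadType.mem_perp' Q hx hw) ?_).symm
    have h := QuadType.dim_inf_perp Q (QuadType.nd_top Q hQ) (le_top : perp Q P ≤ ⊤)
    rw [top_inf_eq, finrank_top, Module.finrank_fintype_fun_eq_card, hn] at h
    omega
  have hCn : Nd Q C := fun c hc hc0 => by
    by_contra hne
    push Not at hne
    refine hc0 (hdis c ?_ hc)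
    rw [← hPperp]
    intro v hv
    obtain ⟨a, ha, c', hc', rfl⟩ := hsum v hv
    rw [map_add, LinearMap.add_apply, hCle hc a ha, zero_add, quad_polar_comm]
    exact hne c' hc'
  have hQadd : ∀ a ∈ P, ∀ c ∈ C, Q (a + c) = Q c := fun a ha c hc => by
    rw [quad_add, hP a ha, hCle hc a ha, zero_add, add_zero]
  let g : P × {c : C // Q (c : ι → F) = 0 ∧ c ≠ 0} → {x : ι → F // (x ∈ perp Q P ∧ Q x = 0) ∧ x ∉ P} := fun z =>
    ⟨(z.1 : ι → F) + (z.2.1 : ι → F), ⟨(perp Q P).add_mem (hPP z.1.2) (hCle z.2.1.2),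
      (hQadd _ z.1.2 _ z.2.1.2).trans z.2.2.1⟩, fun h =>
      z.2.2.2 (Subtype.ext (hdis _ ((P.add_mem_iff_right z.1.2).1 h) z.2.1.2))⟩
  have hg : Function.Bijective g := by
    constructor
    · rintro ⟨⟨a, ha⟩, ⟨⟨c, hc⟩, _⟩⟩ ⟨⟨a', ha'⟩, ⟨⟨c', hc'⟩, _⟩⟩ h
      have h' : a + c = a' + c' := congrArg Subtype.val h
      have e : a - a' = c' - c := by rw [sub_eq_sub_iff_add_eq_add, h', add_comm]
      have h0 := hdis (a - a') (P.sub_mem ha ha') (e ▸ C.sub_mem hc' hc)
      obtain rfl := sub_eq_zero.1 h0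
      obtain rfl := add_left_cancel h'
      rfl
    · rintro ⟨x, ⟨hx, hx0⟩, hxP⟩
      obtain ⟨a, ha, c, hc, rfl⟩ := hsum x hx
      refine ⟨(⟨a, ha⟩, ⟨⟨c, hc⟩, (hQadd a ha c hc).symm.trans hx0, fun e => hxP ?_⟩), rfl⟩
      rw [show c = 0 from congrArg Subtype.val e, add_zero]
      exact ha
  rw [← Nat.card_congr (Equiv.ofBijective g hg), Nat.card_prod, Module.natCard_eq_pow_finrank (K := F) (V := P), hPd,
    Nat.card_eq_fintype_card (α := F)]
  push_cast
  congr 1
  obtain ⟨htop, hpn, hpd, hpp⟩ := QuadType.compl_perp Q hQ hCn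
  rw [Module.finrank_fintype_fun_eq_card, hn, hCd] at hpd
  have hpl : Plus Q (perp Q C) := ⟨P, fun a ha c hc => by rw [quad_polar_comm]; exact hCle hc a ha, hP, by omega⟩
  have heps : QuadAny.eps Q C = QuadAny.eps Q ⊤ := by
    have h := QuadAny.sup_iff Q hQ hCn hpn le_rfl (hCd ▸ even_two_mul _) ⟨j, by omega⟩
    rw [htop] at h
    simp only [QuadAny.eps]
    by_cases hc : Plus Q C <;> simp_all
  have h0 := QuadAny.count_nd Q hQ hCn hCd 0
  rw [heps] at h0
  have hsq : QuadAny.eps Q ⊤ * QuadAny.eps Q ⊤ = 1 := by unfold QuadAny.eps; split_ifs <;> rfl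
  haveI := Fintype.ofFinite {c : C // Q (c : ι → F) = 0}
  let z : {c : C // Q (c : ι → F) = 0} := ⟨0, QuadraticMap.map_zero _⟩
  rw [Nat.card_congr ((Equiv.subtypeSubtypeEquivSubtypeInter _ (fun c : C => c ≠ 0)).symm),
    Nat.card_congr (Equiv.subtypeEquivRight (q := fun v => v ≠ z) fun v =>
      not_congr ⟨fun h => Subtype.ext h, fun h => congrArg Subtype.val h⟩)]
  rw [Nat.card_eq_fintype_card, Fintype.card_subtype_compl, Fintype.card_subtype_eq, ← Nat.card_eq_fintype_card,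
    Nat.cast_sub (Nat.one_le_iff_ne_zero.2 (Nat.card_ne_zero.2 ⟨⟨z⟩, inferInstance⟩))]
  refine mul_left_cancel₀ (show (Fintype.card F : ℤ) ≠ 0 by simp) ?_
  obtain ⟨u, hu⟩ : ∃ u, d - j = u + 1 := ⟨d - j - 1, by omega⟩
  rw [hu] at h0 ⊢
  rw [QuadAny.osc, if_pos rfl] at h0
  rw [Nat.add_sub_cancel, Nat.cast_one]
  ring_nf at h0 hsq ⊢
  linear_combination h0 + (Fintype.card F : ℤ) * hsq

include hQ in
theorem card_tuples {d : ℕ} (hn : Fintype.card ι = 2 * d) : ∀ j, j ≤ d → (Nat.card {t : Fin j → ι → F // STuple Q j t} : ℤ) =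
    ∏ i ∈ Finset.range j, (Fintype.card F : ℤ) ^ i * (((Fintype.card F : ℤ) ^ (d - i) - QuadAny.eps Q ⊤) *
      ((Fintype.card F : ℤ) ^ (d - i - 1) + QuadAny.eps Q ⊤))
  | 0, _ => by
    rw [Finset.prod_range_zero, Nat.cast_eq_one, Nat.card_eq_one_iff_exists]
    refine ⟨⟨Fin.elim0, linearIndependent_empty_type, fun v hv => ?_⟩, fun t => Subtype.ext (Subsingleton.elim _ _)⟩
    rw [Set.range_eq_empty, Submodule.span_empty] at hv
    rw [(Submodule.mem_bot F).1 hv, QuadraticMap.map_zero]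
  | j + 1, hj => by
    rw [Finset.prod_range_succ, ← card_tuples hn j (by omega)]
    let e : {t : Fin (j + 1) → ι → F // STuple Q (j + 1) t} ≃
        Σ t : {t : Fin j → ι → F // STuple Q j t},
          {x : ι → F // (x ∈ perp Q (Submodule.span F (Set.range t.1)) ∧ Q x = 0) ∧
            x ∉ Submodule.span F (Set.range t.1)} :=
      { toFun := fun t =>
          have h := (sTuple_snoc_iff Q (Fin.init t.1) (t.1 (Fin.last j))).mp (by rw [Fin.snoc_init_self]; exact t.2)
          ⟨⟨Fin.init t.1, h.1⟩, t.1 (Fin.last j), h.2⟩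
        invFun := fun s => ⟨Fin.snoc s.1.1 s.2.1, (sTuple_snoc_iff Q _ _).mpr ⟨s.1.2, s.2.2⟩⟩
        left_inv := fun t => Subtype.ext (Fin.snoc_init_self t.1)
        right_inv := fun ⟨⟨t, ht⟩, x, hx⟩ =>
          Sigma.subtype_ext (Subtype.ext (by simp)) (by simp) }
    haveI := Fintype.ofFinite {t : Fin j → ι → F // STuple Q j t}
    rw [Nat.card_congr e, Nat.card_sigma, Nat.card_eq_fintype_card (α := {t : Fin j → ι → F // STuple Q j t})]
    rw [Nat.cast_sum, Finset.sum_congr rfl fun t _ => card_ext Q hQ hn t.2.2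
      ((finrank_span_eq_card t.2.1).trans (Fintype.card_fin j)) (by omega), Finset.sum_const, Finset.card_univ, nsmul_eq_mul]

include hQ in
/-- Divisors of the number of totally singular subspaces. -/
theorem dvd_prod {d m r : ℕ} (hn : Fintype.card ι = 2 * d) (hmd : m < d)
    (h : r ∣ Nat.card {W : Submodule F (ι → F) // finrank F W = m ∧ TS Q W}) :
    (r : ℤ) ∣ ∏ i ∈ Finset.range m, ((Fintype.card F : ℤ) ^ (d - i) - QuadAny.eps Q ⊤) *
      ((Fintype.card F : ℤ) ^ (d - i - 1) + QuadAny.eps Q ⊤) := by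
  let Ω := {W : Submodule F (ι → F) // finrank F W = m ∧ TS Q W}
  haveI := Fintype.ofFinite Ω
  let e : {t : Fin m → ι → F // STuple Q m t} ≃
      Σ W : Ω, {s : Fin m → (W.1 : Submodule F (ι → F)) // LinearIndependent F s} :=
    { toFun := fun t => ⟨⟨Submodule.span F (Set.range t.1),
        by rw [finrank_span_eq_card t.2.1, Fintype.card_fin], t.2.2⟩,
        fun a => ⟨t.1 a, Submodule.subset_span ⟨a, rfl⟩⟩,
        LinearIndependent.of_comp (Submodule.subtype _) t.2.1⟩
      invFun := fun s => ⟨fun a => (s.2.1 a : ι → F), s.2.2.map' (Submodule.subtype _) (Submodule.ker_subtype _),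
        fun v hv => s.1.2.2 v ((Submodule.span_le.2 (by rintro _ ⟨a, rfl⟩; exact (s.2.1 a).2)) hv)⟩
      left_inv := fun t => rfl
      right_inv := fun ⟨⟨W, hW⟩, s, hs⟩ => by
        have hspan : Submodule.span F (Set.range fun a => (s a : ι → F)) = W :=
          Submodule.eq_of_le_of_finrank_le (Submodule.span_le.2 (by rintro _ ⟨a, rfl⟩; exact (s a).2))
            (by
              have hli : LinearIndependent F fun a => (s a : ι → F) := hs.map' (Submodule.subtype _) (Submodule.ker_subtype _)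
              rw [hW.1, finrank_span_eq_card hli, Fintype.card_fin])
        have hext : ∀ (W W' : Ω) (s : {s : Fin m → (W.1 : Submodule F (ι → F)) // LinearIndependent F s})
            (s' : {s : Fin m → (W'.1 : Submodule F (ι → F)) // LinearIndependent F s}), W.1 = W'.1 →
            (∀ a, (s.1 a : ι → F) = (s'.1 a : ι → F)) →
            (⟨W, s⟩ : Σ W : Ω, {s : Fin m → (W.1 : Submodule F (ι → F)) // LinearIndependent F s}) = ⟨W', s'⟩ := by
          rintro ⟨W, hW⟩ ⟨W', hW'⟩ s s' (h : W = W') ha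
          subst h
          exact congrArg _ (Subtype.ext (funext fun a => Subtype.ext (ha a)))
        exact hext _ _ _ _ hspan fun a => rfl }
  have h1 := card_tuples Q hQ hn m (le_of_lt hmd)
  rw [Nat.card_congr e, Nat.card_sigma, Finset.sum_const_nat (m := ∏ i ∈ Finset.range m, (Fintype.card F ^ m - Fintype.card F ^ i)) ?_,
    Finset.card_univ, ← Nat.card_eq_fintype_card] at h1
  swap
  · intro W _
    rw [card_linearIndependent (le_of_eq W.2.1.symm), W.2.1,
      Fin.prod_univ_eq_prod_range (fun i => Fintype.card F ^ m - Fintype.card F ^ i)]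
  have e1 : ∀ i ∈ Finset.range m, Fintype.card F ^ m - Fintype.card F ^ i =
      Fintype.card F ^ i * (Fintype.card F ^ (m - i) - 1) := fun i hi => by
    rw [Nat.mul_sub_one, ← pow_add, show i + (m - i) = m by have := Finset.mem_range.1 hi; omega]
  rw [Finset.prod_congr rfl e1, Finset.prod_mul_distrib, Finset.prod_mul_distrib] at h1
  simp only [Nat.cast_mul, Nat.cast_prod, Nat.cast_pow] at h1
  rw [mul_left_comm] at h1
  rw [← mul_left_cancel₀ (Finset.prod_ne_zero_iff.2 fun i _ => pow_ne_zero _ (by simp)) h1]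
  exact dvd_mul_of_dvd_left (Int.natCast_dvd_natCast.2 h) _

end Count

include hQ in
theorem ne_char {d m : ℕ} (hn : Fintype.card ι = 2 * d) (hmd : m < d)
    (h : r ∣ Nat.card {W : Submodule F (ι → F) // finrank F W = m ∧ TS Q W}) : r ≠ p := by
  rintro rfl
  obtain ⟨j, hj, hd'⟩ := (Prime.dvd_finsetProd_iff (Nat.prime_iff_prime_int.1 hr.out) _).1 (dvd_prod Q hQ hn hmd h)
  have hj' := Finset.mem_range.1 hj
  obtain ⟨f, -, hcard⟩ := FiniteField.card F r
  rw [← ZMod.intCast_zmod_eq_zero_iff_dvd] at hd'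
  push_cast at hd'
  rw [hcard, Nat.cast_pow, ZMod.natCast_self, zero_pow f.ne_zero, zero_pow (by omega), zero_pow (by omega)] at hd'
  unfold QuadAny.eps at hd'
  split_ifs at hd' <;> simp at hd'

include hQ in
/-- Small subspaces in the fixed space of a maximal element are never elusive. -/
theorem count_bound {d m i : ℕ} (hn : Fintype.card ι = 2 * d) (hrp : r ≠ p) (hr2 : r ≠ 2)
    (hi : orderOf ((Fintype.card F : ℕ) : ZMod r) = i) (hmd : m < d) {f e : ℕ} {PF : Prop} (hfe : f + step i * e = 2 * d)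
    (htype : PF ↔ (Plus Q ⊤ ↔ typ i e)) (hmax : f < step i ∨ (f = step i ∧ ¬ (PF ↔ Odd i)))
    (hm : 2 * m ≤ f) (hmp : 2 * m = f → PF)
    (h : r ∣ Nat.card {W : Submodule F (ι → F) // finrank F W = m ∧ TS Q W}) : False := by
  obtain ⟨j, hj, hd'⟩ := (Prime.dvd_finsetProd_iff (Nat.prime_iff_prime_int.1 hr.out) _).1 (dvd_prod Q hQ hn hmd h)
  have hj' := Finset.mem_range.1 hj
  have hi0 : 0 < i := hi ▸ PrimeElemFlags.order_pos rfl hrp
  rw [← ZMod.intCast_zmod_eq_zero_iff_dvd] at hd'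
  push_cast at hd'
  set z := ((Fintype.card F : ℕ) : ZMod r)
  have h1 : ∀ a : ℕ, z ^ a = 1 → a % i = 0 := fun a ha => Nat.mod_eq_zero_of_dvd (hi ▸ orderOf_dvd_of_pow_eq_one ha)
  have h2 : ∀ a : ℕ, z ^ a = -1 → Even i ∧ a % i = i / 2 := fun a ha => by
    have h2a : i ∣ 2 * a := hi ▸ orderOf_dvd_of_pow_eq_one (by rw [mul_comm, pow_mul, ha]; ring)
    have hna : ¬ i ∣ a := fun hd => by
      rw [← hi] at hd
      rw [orderOf_dvd_iff_pow_eq_one.1 hd] at ha
      have h2' : ((2 : ℕ) : ZMod r) = 0 := by push_cast; linear_combination ha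
      exact hr2 ((Nat.prime_dvd_prime_iff_eq hr.out Nat.prime_two).1 ((ZMod.natCast_eq_zero_iff _ _).1 h2'))
    rcases Nat.even_or_odd i with hev | hodd
    · refine ⟨hev, ?_⟩
      obtain ⟨c, hc⟩ := h2a
      obtain ⟨h, hh⟩ := id hev
      have hlt := Nat.mod_lt a hi0
      have hda := Nat.div_add_mod a i
      have hne : a % i ≠ 0 := fun h0 => hna (Nat.dvd_of_mod_eq_zero h0)
      have h3 : i ∣ 2 * (a % i) := by
        have : i ∣ 2 * (i * (a / i)) := dvd_mul_of_dvd_right (Dvd.intro _ rfl) _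
        exact (Nat.dvd_add_right this).1 (by rw [← Nat.mul_add, hda]; exact ⟨c, hc⟩)
      obtain ⟨v, hv⟩ := h3
      rcases v with _ | _ | v
      · omega
      · omega
      · rw [Nat.mul_succ, Nat.mul_succ] at hv; omega
    · exact absurd ((Nat.Coprime.dvd_mul_left (Nat.coprime_two_right.2 hodd)).1 h2a) hna
  have hres : ∀ u x : ℕ, x < i → (i * u + x) % i = x := fun u x hx => by
    rw [Nat.mul_add_mod, Nat.mod_eq_of_lt hx]
  have heps : z ^ (d - j) = (QuadAny.eps Q ⊤ : ℤ) ∨ z ^ (d - j - 1) = -((QuadAny.eps Q ⊤ : ℤ) : ZMod r) :=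
    (mul_eq_zero.1 hd').imp sub_eq_zero.1 eq_neg_of_add_eq_zero_left
  have hcase : ∃ a, (a = d - j ∨ a = d - j - 1) ∧
      ((a = d - j ↔ Plus Q ⊤) ∧ a % i = 0 ∨ Even i ∧ a % i = i / 2 ∧ (a = d - j ↔ ¬ Plus Q ⊤)) := by
    have hne : d - j ≠ d - j - 1 := by omega
    unfold QuadAny.eps at heps
    split_ifs at heps with hP <;> simp only [Int.cast_neg, Int.cast_one, neg_neg] at heps <;> rcases heps with h' | h'
    · exact ⟨_, Or.inl rfl, Or.inl ⟨iff_of_true rfl hP, h1 _ h'⟩⟩
    · exact ⟨_, Or.inr rfl, Or.inr ⟨(h2 _ h').1, (h2 _ h').2, iff_of_false hne.symm (not_not.2 hP)⟩⟩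
    · exact ⟨_, Or.inl rfl, Or.inr ⟨(h2 _ h').1, (h2 _ h').2, iff_of_true rfl hP⟩⟩
    · exact ⟨_, Or.inr rfl, Or.inl ⟨iff_of_false hne.symm hP, h1 _ h'⟩⟩
  obtain ⟨a, ha, hcase⟩ := hcase
  rcases Nat.even_or_odd i with hev | hodd
  · have hno := Nat.not_odd_iff_even.2 hev
    rw [step, if_pos hev] at hfe hmax
    simp only [typ, hno, false_or, iff_false, not_not] at htype hmax
    obtain ⟨g, hg⟩ := id hev
    obtain ⟨u, hu⟩ | ⟨u, hu⟩ := Nat.even_or_odd e
    · have hEe : Even e := ⟨u, hu⟩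
      have e1 : i * e = 2 * (i * u) := by rw [hu]; ring
      simp only [hEe, iff_true] at htype
      by_cases hlt : a - i * u < i
      · have := hres u _ hlt
        rw [show i * u + (a - i * u) = a by omega] at this
        by_cases hP : Plus Q ⊤ <;> simp [hP] at htype hcase <;> simp [htype] at hmax hmp <;>
          rcases ha with rfl | rfl <;> omega
      · omega
    · have hEe : ¬ Even e := Nat.not_even_iff_odd.2 ⟨u, hu⟩
      have e1 : i * e = 2 * (i * u) + i := by rw [hu]; ring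
      simp only [hEe, iff_false] at htype
      by_cases hlt : a - i * u < i
      · have := hres u _ hlt
        rw [show i * u + (a - i * u) = a by omega] at this
        by_cases hP : Plus Q ⊤ <;> simp [hP] at htype hcase <;> simp [htype] at hmax hmp <;>
          rcases ha with rfl | rfl <;> omega
      · have := hres (u + 1) 0 hi0
        rw [Nat.mul_succ, show i * u + i + 0 = a by omega] at this
        by_cases hP : Plus Q ⊤ <;> simp [hP] at htype hcase <;> simp [htype] at hmax hmp <;>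
          rcases ha with rfl | rfl <;> omega
  · rw [step, if_neg (Nat.not_even_iff_odd.2 hodd)] at hfe hmax
    simp only [typ, hodd, true_or, iff_true] at htype hmax
    have e1 : 2 * i * e = 2 * (i * e) := mul_assoc _ _ _
    obtain ⟨hP', ha0⟩ : (a = d - j ↔ Plus Q ⊤) ∧ a % i = 0 :=
      hcase.resolve_right fun h' => Nat.not_even_iff_odd.2 hodd h'.1
    by_cases hlt : a - i * e < i
    · have := hres e _ hlt
      rw [show i * e + (a - i * e) = a by omega] at this
      by_cases hP : Plus Q ⊤ <;> simp [hP] at htype hP' <;> simp [htype] at hmax hmp <;>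
        rcases ha with rfl | rfl <;> omega
    · by_cases hP : Plus Q ⊤ <;> simp [hP] at htype hP' <;> simp [htype] at hmax hmp <;>
        rcases ha with rfl | rfl <;> omega

include hQ in
/-- The conditions are necessary. -/
theorem cond_of_all {d : ℕ} (hn : Fintype.card ι = 2 * d) (hrp : r ≠ p) (hr2 : r ≠ 2) {i m : ℕ}
    (hi : orderOf ((Fintype.card F : ℕ) : ZMod r) = i) (hmd : m < d)
    (hΩ : r ∣ Nat.card {W : Submodule F (ι → F) // finrank F W = m ∧ TS Q W})
    (h : ∀ X : End F (ι → F), X ^ r = 1 → (∀ v, Q (X v) = Q v) → Good Q m X) : Cond r i d m (Plus Q ⊤) := by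
  have hi0 : 0 < i := hi ▸ PrimeElemFlags.order_pos rfl hrp
  have hm := Nat.div_add_mod m i
  have hmlt : m % i < i := Nat.mod_lt _ hi0
  obtain ⟨X, hX, hiso, hmax⟩ := OrthAny.exists_max Q hQ hrp hr2 hi hn
  obtain ⟨hF, -, e, he, hfe, -, htype⟩ := OrthAny.parts Q hQ hrp hr2 hi hX hiso hn
  have hzero : finrank F (fixed X) = 0 → Plus Q (fixed X) := fun h => ⟨⊥, bot_le,
    fun u hu => by rw [(Submodule.mem_bot F).1 hu, QuadraticMap.map_zero], by rw [finrank_bot, h]⟩
  obtain ⟨j, W, -, -, -, -, hjm, hjf, hjp⟩ := necessary Q hrp hi hX hiso hQ (h X hX hiso)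
  have him : i ≤ m := by
    by_contra hlt
    have hj0 : j = 0 := by
      rcases Nat.eq_zero_or_pos j with h0 | h0
      · exact h0
      · have := Nat.le_mul_of_pos_right i h0; omega
    subst hj0
    exact count_bound Q hQ hn hrp hr2 hi hmd hfe htype hmax (by omega) (fun h' => hjp (by omega)) hΩ
  have hjle : j ≤ m / i := (Nat.le_div_iff_mul_le hi0).2 (by rw [mul_comm]; omega)
  obtain ⟨b, hb⟩ : ∃ b, m / i = j + b := ⟨m / i - j, by omega⟩
  have hb0 : b = 0 ∨ i ≤ i * b := by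
    rcases Nat.eq_zero_or_pos b with h0 | h0
    · exact Or.inl h0
    · exact Or.inr (Nat.le_mul_of_pos_right i h0)
  have hm2 := hm
  rw [hb, Nat.mul_add] at hm2
  refine ⟨him, fun hodd => ?_, fun hev => ?_⟩
  · rw [step, if_neg (Nat.not_even_iff_odd.2 hodd)] at hmax hfe ⊢
    simp only [typ, hodd, true_or, iff_true] at htype hmax
    have hk : 2 * d % (2 * i) = if finrank F (fixed X) < 2 * i then finrank F (fixed X) else 0 := by
      rw [← hfe, Nat.add_mul_mod_self_left]
      split_ifs with hlt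
      · exact Nat.mod_eq_of_lt hlt
      · rw [show finrank F (fixed X) = 2 * i by omega, Nat.mod_self]
    rw [hk]
    by_cases hP : Plus Q ⊤ <;> simp [hP] at htype ⊢ <;> simp [htype, -Submodule.finrank_eq_zero] at hmax hjp hzero <;>
      rcases hb0 with rfl | hb0 <;> split_ifs <;> omega
  have hno := Nat.not_odd_iff_even.2 hev
  rw [step, if_pos hev] at hmax hfe ⊢
  simp only [typ, hno, false_or, iff_false, not_not] at htype hmax
  -- the maximal element
  have hN : (finrank F (fixed X) < i ∧ e = 2 * d / i ∧ finrank F (fixed X) = 2 * d % i) ∨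
      (finrank F (fixed X) = i ∧ Plus Q (fixed X) ∧ e + 1 = 2 * d / i ∧ 2 * d % i = 0) := by
    rcases hmax with hlt | ⟨heq, hp⟩
    · refine Or.inl ⟨hlt, ?_, ?_⟩
      · rw [← hfe, Nat.add_mul_div_left _ _ hi0, Nat.div_eq_of_lt hlt, zero_add]
      · rw [← hfe, Nat.add_mul_mod_self_left, Nat.mod_eq_of_lt hlt]
    · refine Or.inr ⟨heq, hp, ?_, ?_⟩
      · rw [← hfe, heq, Nat.add_mul_div_left _ _ hi0, Nat.div_self hi0, add_comm]
      · rw [← hfe, heq, Nat.add_mul_mod_self_left, Nat.mod_self]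
  have hA : (2 * (m % i) ≤ i ∧ 2 * d % i = 0 ∧ ¬ (Even (2 * d / i) ↔ Plus Q ⊤)) ∨
      (2 * (m % i) ≤ 2 * d % i ∧ (Even (2 * d / i) ↔ Plus Q ⊤)) ∨
      (2 * (m % i) < 2 * d % i ∧ ¬ (Even (2 * d / i) ↔ Plus Q ⊤)) := by
    rcases hN with ⟨hlt, rfl, hfk⟩ | ⟨heq, hp, hee, hk0⟩
    · rw [← hfk]
      by_cases hP : Plus Q ⊤ <;> by_cases hE : Even (2 * d / i) <;> simp [hP, hE] at htype ⊢ <;>
        simp [htype, -Submodule.finrank_eq_zero] at hjp hzero <;> rcases hb0 with rfl | hb0 <;> omega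
    · rw [← hee, hk0, Nat.even_add_one]
      by_cases hP : Plus Q ⊤ <;> by_cases hE : Even e <;> simp [hP, hE] at htype ⊢ <;>
        simp [htype] at hjp hp <;> rcases hb0 with rfl | hb0 <;> omega
  set 𝒢 := IsoTIElem.factors r F
  have ht : (r - 1) / i = 𝒢.card := by
    rw [← IsoTIElem.card_factors (F := F) hrp hi, Nat.mul_div_cancel _ hi0]
  rw [ht]
  suffices key : ¬ (2 * d / i < 𝒢.card + 2 * (m / i) ∨
      (2 * d % i = 0 ∧ ¬ (Even (2 * d / i) ↔ Plus Q ⊤) ∧ 2 * d / i = 𝒢.card + 2 * (m / i))) by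
    simp only [not_or, not_lt, not_and] at key
    obtain ⟨k1, k2⟩ := key
    refine ⟨k1, ?_⟩
    rcases hA with ⟨a1, a2, a3⟩ | hA
    · exact Or.inl ⟨a1, a2, a3, lt_of_le_of_ne k1 (Ne.symm (k2 a2 a3))⟩
    · exact Or.inr hA
  intro hbad
  have hn' := Nat.div_add_mod (2 * d) i
  have hkn : 2 * d % i < i := Nat.mod_lt _ hi0
  have hm1 : 1 ≤ m / i := (Nat.le_div_iff_mul_le hi0).2 (by omega)
  have hne : 𝒢.Nonempty := by
    rw [← Finset.card_pos]
    rcases Nat.eq_zero_or_pos 𝒢.card with h0 | h0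
    · have h1 := IsoTIElem.card_factors (F := F) hrp hi
      rw [h0] at h1
      have := hr.out.two_le
      omega
    · exact h0
  obtain ⟨g₁, hg₁⟩ := hne
  obtain ⟨B, hB⟩ : ∃ B, B = if 2 * d / i < 𝒢.card + 2 * (m / i) then (2 * d / i - 𝒢.card) / 2 else m / i - 1 := ⟨_, rfl⟩
  obtain ⟨M, hMdef⟩ : ∃ M, M = if 2 * d % i = 0 ∧ ¬ (Even (2 * d / i) ↔ Plus Q ⊤) then 2 * d / i - 1 else 2 * d / i :=
    ⟨_, rfl⟩
  have hBm : B < m / i := by rw [hB]; split_ifs <;> omega
  obtain ⟨l, hldef⟩ : ∃ l, l = (List.replicate (2 * B) g₁ ++ 𝒢.toList).take M := ⟨_, rfl⟩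
  have hlen : l.length = min M (2 * B + 𝒢.card) := by
    rw [hldef, List.length_take, List.length_append, List.length_replicate, Finset.length_toList]
  have hl : ∀ g ∈ l, g ∈ 𝒢 := fun g hg => by
    rcases List.mem_append.1 (List.mem_of_mem_take (hldef ▸ hg)) with h1 | h1
    · rw [(List.mem_replicate.1 h1).2]; exact hg₁
    · exact Finset.mem_toList.1 h1
  have hBsum : ∑ g ∈ 𝒢, l.count g / 2 ≤ B := by
    refine (Finset.sum_le_sum fun g hg => ?_).trans (le_of_eq ((Finset.sum_ite_eq' 𝒢 g₁ fun _ => B).trans (if_pos hg₁)))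
    rw [hldef]
    have h1 := (List.take_sublist M (List.replicate (2 * B) g₁ ++ 𝒢.toList)).count_le g
    rw [List.count_append, List.count_replicate, List.count_eq_one_of_mem (Finset.nodup_toList _) (Finset.mem_toList.2 hg)] at h1
    by_cases hgg : g = g₁
    · subst hgg
      rw [if_pos rfl]
      simp only [beq_self_eq_true, if_true] at h1
      omega
    · rw [if_neg hgg]
      rw [beq_eq_false_iff_ne.2 (Ne.symm hgg), if_neg Bool.false_ne_true, zero_add] at h1
      omega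
  have hMle : M ≤ 2 * d / i := by rw [hMdef]; split_ifs <;> omega
  have hL : i * l.length ≤ 2 * d := by
    have e1 : i * l.length ≤ i * (2 * d / i) := Nat.mul_le_mul_left _ (by omega)
    omega
  have hshape : l.length = 2 * d / i ∧ ¬ (2 * d % i = 0 ∧ ¬ (Even (2 * d / i) ↔ Plus Q ⊤)) ∨
      l.length + 1 = 2 * d / i ∨
      l.length + 2 = 2 * d / i ∧ 2 * d % i = 0 ∧ ¬ (Even (2 * d / i) ↔ Plus Q ⊤) := by
    rcases hbad with hb1 | ⟨b1, b2, b3⟩
    · rw [hB, if_pos hb1] at hlen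
      by_cases hc : 2 * d % i = 0 ∧ ¬ (Even (2 * d / i) ↔ Plus Q ⊤)
      · rw [hMdef, if_pos hc] at hlen
        rcases Nat.eq_zero_or_pos (2 * d / i) with h0 | h0
        · exfalso
          rw [h0, hc.1] at hn'
          omega
        · omega
      · rw [hMdef, if_neg hc] at hlen
        rcases (show l.length = 2 * d / i ∨ l.length + 1 = 2 * d / i by omega) with h1 | h1
        · exact Or.inl ⟨h1, hc⟩
        · exact Or.inr (Or.inl h1)
    · rw [hB, if_neg (by omega), hMdef, if_pos ⟨b1, b2⟩] at hlen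
      exact Or.inr (Or.inr ⟨by omega, b1, b2⟩)
  have hpar : i * l.length = 2 * d → (Plus Q ⊤ ↔ Even l.length) := fun h' => by
    rcases hshape with ⟨h1, h3⟩ | h1 | ⟨h1, -, -⟩
    · rw [h1] at h' ⊢
      by_contra h4
      exact h3 ⟨by omega, fun h5 => h4 h5.symm⟩
    · rw [← h1, Nat.mul_succ] at hn'; omega
    · rw [← h1, Nat.mul_add] at hn'; omega
  obtain ⟨Y, hY, hYiso, hYf, hYg⟩ := OrthAny.exists_multi Q hQ hrp hr2 hi hev hn l hl hL hpar
  obtain ⟨-, -, eY, heY, hfY, -, htY⟩ := OrthAny.parts Q hQ hrp hr2 hi hY hYiso hn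
  rw [step, if_pos hev] at heY hfY
  obtain rfl : eY = l.length := Nat.eq_of_mul_eq_mul_left hi0 (by omega)
  simp only [typ, hno, false_or] at htY
  obtain ⟨j, W, hW, hWm, hWts, hWd, hjm, hjf, hjp⟩ := necessary Q hrp hi hY hYiso hQ (h Y hY hYiso)
  have hjB : j ≤ B := by
    refine le_trans (Nat.le_of_mul_le_mul_left ?_ hi0) hBsum
    rw [← hWd, Finset.mul_sum]
    refine (IsoTI.le_sum_ker hrp hY 𝒢 (fun g h1 h2 h3 => IsoTIElem.mem_factors.2 ⟨h1, h2, h3⟩) hW hWm).trans
      (Finset.sum_le_sum fun g hg => ?_)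
    obtain ⟨hgi, -, hgd⟩ := IsoTIElem.mem_factors.1 hg
    have hK := OrthTS.ker_nd Q hQ hrp hr2 hi hev hY hYiso hgi hgd
    have h2' := QuadType.ts_half Q hQ hK (inf_le_right : W ⊓ LinearMap.ker (aeval Y g) ≤ LinearMap.ker (aeval Y g))
      fun v hv => hWts v hv.1
    obtain ⟨⟨b, hb⟩, -⟩ := LinDecomp.moved_sub hrp hi hY (inf_inv hW (PrimeElem.map_ker_le Y g))
      (inf_le_left.trans hWm)
    rw [hb] at h2' ⊢
    refine Nat.mul_le_mul_left _ ((Nat.le_div_iff_mul_le two_pos).2 (Nat.le_of_mul_le_mul_left ?_ hi0))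
    exact (le_of_eq (by ring)).trans (h2'.trans (hYg g hg))
  obtain ⟨a, ha⟩ : ∃ a, m / i = j + a + 1 := ⟨m / i - j - 1, by omega⟩
  rw [ha, Nat.mul_succ, Nat.mul_add] at hm
  rcases hshape with ⟨h1, -⟩ | h1 | ⟨h1, h3, h4⟩
  · rw [← h1] at hn'; omega
  · rw [← h1, Nat.mul_succ] at hn'; omega
  · rw [← h1, Nat.mul_add] at hn'
    by_cases hlast : 2 * (m - i * j) = finrank F (fixed Y)
    · refine h4 ?_
      rw [← h1, Nat.even_add]
      simp only [show Even 2 from even_two, iff_true]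
      exact ((htY.1 (hjp hlast))).symm
    · omega

end Cfsg.Agent.Lib.MaxSub.OrthTSAny
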