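import Cfsg.Agent.Lib.MaxSub.OrthNdAny
import Cfsg.Agent.Lib.MaxSub.OrthTSAny
import Cfsg.Agent.Lib.QuadFin.SpinorApps
import Mathlib

/-!
Unipotent elements `1 + n` with totally singular image and their invariant non-degenerate subspaces.
-/

set_option autoImplicit false
set_option maxHeartbeats 1000000
set_option linter.unusedSectionVars false

namespace Cfsg.Agent.Lib.MaxSub.OrthNdUnip

open Module Cfsg.Agent.Lib.MaxSub Cfsg.Agent.Lib.Geometry
open Cfsg.Agent.Lib.MaxSub.QuadType (Nd TS Plus perp)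
open Cfsg.Agent.Lib.MaxSub.OrthNdSub (Sub Good)
open Cfsg.Agent.Lib.MaxSub.OrthNdAny (plus_zero)
open QuadraticMap (polarBilin)
open scoped _root_.Classical

attribute [-simp] QuadraticMap.polarBilin_apply_apply

variable {ι : Type} [Fintype ι] [DecidableEq ι] {F : Type*} [Field F] (Q : QuadraticForm F (ι → F))

theorem perp_sum (hQ : (polarBilin Q).Nondegenerate) {U : Submodule F (ι → F)} :
    finrank F U + finrank F (perp Q U) = Fintype.card ι := by
  have h := QuadType.dim_inf_perp Q (QuadType.nd_top Q hQ) (le_top : U ≤ ⊤)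
  rwa [top_inf_eq, finrank_top, Module.finrank_fintype_fun_eq_card] at h

/-- A square-zero map onto a totally singular subspace of even dimension. -/
theorem exists_nil {t : ℕ} {U : Submodule F (ι → F)} (hU : TS Q U) (hUd : finrank F U = 2 * t) :
    ∃ n : End F (ι → F), (∀ v, n v ∈ U) ∧ (∀ v, n v = 0 ↔ v ∈ perp Q U) ∧ (∀ v, Q (v + n v) = Q v) := by
  let b : Basis (Fin t ⊕ Fin t) F U := (Module.finBasisOfFinrankEq F U hUd).reindex
    ((finCongr (two_mul t)).trans finSumFinEquiv.symm)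
  let n : End F (ι → F) := ∑ j : Fin t, ((polarBilin Q (b (Sum.inl j) : ι → F)).smulRight (b (Sum.inr j) : ι → F) -
    (polarBilin Q (b (Sum.inr j) : ι → F)).smulRight (b (Sum.inl j) : ι → F))
  have hn : ∀ v, n v = ∑ j : Fin t, (polarBilin Q (b (Sum.inl j) : ι → F) v • (b (Sum.inr j) : ι → F) -
      polarBilin Q (b (Sum.inr j) : ι → F) v • (b (Sum.inl j) : ι → F)) := fun v => by
    simp [n]
  have hnU : ∀ v, n v ∈ U := fun v => by
    rw [hn]
    exact Submodule.sum_mem _ fun j _ => U.sub_mem (U.smul_mem _ (SetLike.coe_mem _)) (U.smul_mem _ (SetLike.coe_mem _))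
  refine ⟨n, hnU, fun v => ⟨fun h => ?_, fun h => ?_⟩, fun v => ?_⟩
  · have hc : ∑ k, (Sum.elim (fun j => -polarBilin Q (b (Sum.inr j) : ι → F) v)
        (fun j => polarBilin Q (b (Sum.inl j) : ι → F) v)) k • b k = 0 := by
      refine Subtype.ext ?_
      simp only [Submodule.coe_sum, Submodule.coe_smul, Fintype.sum_sum_type, Sum.elim_inl, Sum.elim_inr, neg_smul,
        Finset.sum_neg_distrib, ZeroMemClass.coe_zero, Submodule.coe_add, Submodule.coe_neg]
      rw [← h, hn, Finset.sum_sub_distrib]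
      abel
    have h0 := Fintype.linearIndependent_iff.1 b.linearIndependent _ hc
    have hb : ∀ k, polarBilin Q (b k : ι → F) v = 0 := by
      rintro (j | j)
      · exact h0 (Sum.inr j)
      · exact neg_eq_zero.1 (h0 (Sum.inl j))
    intro u hu
    have e := congrArg (fun x : U => polarBilin Q (x : ι → F) v) (b.sum_repr ⟨u, hu⟩)
    simp only [Submodule.coe_sum, Submodule.coe_smul, map_sum, LinearMap.sum_apply, map_smul, LinearMap.smul_apply, hb,
      smul_zero, Finset.sum_const_zero] at e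
    exact e.symm
  · rw [hn]
    exact Finset.sum_eq_zero fun j _ => by rw [h _ (SetLike.coe_mem _), h _ (SetLike.coe_mem _), zero_smul, zero_smul, sub_zero]
  · rw [quad_add, hU _ (hnU v), hn, map_sum, add_zero, Finset.sum_eq_zero, add_zero]
    intro j _
    rw [map_sub, map_smul, map_smul, quad_polar_comm Q v, quad_polar_comm Q v, smul_eq_mul, smul_eq_mul, mul_comm, sub_self]

/-- Dimensions in an invariant non-degenerate subspace. -/
theorem inv_dims (hQ : (polarBilin Q).Nondegenerate) {n : End F (ι → F)} {U W : Submodule F (ι → F)} (hU : TS Q U)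
    (hnU : ∀ v, n v ∈ U) (hker : ∀ v, n v = 0 ↔ v ∈ perp Q U) (hW : Nd Q W) (hWn : ∀ w ∈ W, n w ∈ W) :
    ∃ k, finrank F (W.map n) = k ∧ W ⊓ U = W.map n ∧ finrank F (W ⊓ perp Q U : Submodule F (ι → F)) + k = finrank F W ∧
      2 * k ≤ finrank F W ∧ finrank F W + finrank F U ≤ Fintype.card ι + 2 * k - finrank F U ∧
      (2 * k = finrank F W → Plus Q W) ∧
      (2 * k + 2 = finrank F W → finrank F W + 2 * finrank F U = Fintype.card ι + 2 * k →
        ∀ T, TS Q T → U ≤ T → ¬ T ≤ U → Plus Q W) := by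
  set S := W.map n with hS
  have hSU : S ≤ W ⊓ U := by
    rintro _ ⟨w, hw, rfl⟩
    exact ⟨hWn w hw, hnU w⟩
  have hUperp : U ≤ perp Q U := fun u hu v hv => QuadType.ts_polar Q hU hv hu
  have hrn := (n.domRestrict W).finrank_range_add_finrank_ker
  have e1 : LinearMap.range (n.domRestrict W) = S := by rw [LinearMap.range_domRestrict]
  have e2 : finrank F (LinearMap.ker (n.domRestrict W)) = finrank F (W ⊓ perp Q U : Submodule F (ι → F)) := by
    have e : (LinearMap.ker (n.domRestrict W)).map W.subtype = W ⊓ perp Q U := by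
      ext v
      constructor
      · rintro ⟨w, hw, rfl⟩
        exact ⟨w.2, (hker _).1 hw⟩
      · rintro ⟨hv, hv'⟩
        exact ⟨⟨v, hv⟩, (hker v).2 hv', rfl⟩
    rw [← e, Submodule.finrank_map_subtype_eq]
  rw [e1, e2] at hrn
  have hKperp : (W ⊓ perp Q U) ≤ W ⊓ perp Q S := le_inf inf_le_left (inf_le_right.trans (QuadType.perp_anti Q (hSU.trans inf_le_right)))
  have hdS := QuadType.dim_inf_perp Q hW (hSU.trans inf_le_left)
  have hKeq : (W ⊓ perp Q U) = W ⊓ perp Q S := Submodule.eq_of_le_of_finrank_le hKperp (by omega)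
  have hWU : W ⊓ U = S := by
    refine le_antisymm (le_of_eq ?_) hSU
    refine (Submodule.eq_of_le_of_finrank_le hSU ?_).symm
    have hdK := QuadType.dim_inf_perp Q hW (inf_le_left : (W ⊓ perp Q U) ≤ W)
    have hle : W ⊓ U ≤ W ⊓ perp Q (W ⊓ perp Q U) := le_inf inf_le_left fun u hu x hx => by
      rw [quad_polar_comm]; exact hx.2 u hu.2
    have := Submodule.finrank_mono hle
    omega
  have hSts : TS Q S := fun x hx => hU x (hSU hx).2
  have hhalf := QuadType.ts_half Q hQ hW (hSU.trans inf_le_left) hSts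
  have hKU : (W ⊓ perp Q U) ⊓ U = S := by
    refine le_antisymm (le_of_le_of_eq (inf_le_inf_right U inf_le_left) hWU) ?_
    exact fun x hx => ⟨⟨(hSU hx).1, hUperp (hSU hx).2⟩, (hSU hx).2⟩
  have hsum := Submodule.finrank_sup_add_finrank_inf_eq (W ⊓ perp Q U) U
  rw [hKU] at hsum
  have hle : (W ⊓ perp Q U) ⊔ U ≤ perp Q U := sup_le inf_le_right hUperp
  have hmono := Submodule.finrank_mono hle
  have hperp := perp_sum Q hQ (U := U)
  refine ⟨_, rfl, hWU, by omega, hhalf, by omega, fun h => ⟨S, hSU.trans inf_le_left, hSts, h⟩,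
    fun h h' T hT hUT hTU => ?_⟩
  have htop : (W ⊓ perp Q U) ⊔ U = perp Q U := Submodule.eq_of_le_of_finrank_le hle (by omega)
  obtain ⟨x, hx, hxU⟩ := SetLike.not_le_iff_exists.1 hTU
  have hxp : x ∈ perp Q U := fun u hu => QuadType.ts_polar Q hT (hUT hu) hx
  obtain ⟨a, ha, u, hu, rfl⟩ := Submodule.mem_sup.1 (htop.symm ▸ hxp : x ∈ (W ⊓ perp Q U) ⊔ U)
  have haT : a ∈ T := by
    have := T.sub_mem hx (hUT hu)
    rwa [add_sub_cancel_right] at this
  have haS : a ∉ S := fun h1 => hxU (U.add_mem (hSU h1).2 hu)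
  refine ⟨S ⊔ (F ∙ a), sup_le (hSU.trans inf_le_left) ((Submodule.span_singleton_le_iff_mem _ _).2 ha.1),
    fun y hy => hT y ((sup_le (hSU.trans (inf_le_right.trans hUT)) ((Submodule.span_singleton_le_iff_mem _ _).2 haT)) hy), ?_⟩
  have hlt : S < S ⊔ (F ∙ a) := left_lt_sup.2 fun h1 => haS (h1 (Submodule.mem_span_singleton_self a))
  have h1 := Submodule.finrank_lt_finrank_of_lt hlt
  have h2 := Submodule.finrank_add_le_finrank_add_finrank S (F ∙ a)
  have h3 : finrank F (F ∙ a) ≤ 1 := by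
    by_cases h0 : a = 0
    · rw [h0, Submodule.span_zero_singleton, finrank_bot]
      exact Nat.zero_le _
    · rw [finrank_span_singleton h0]
  omega

variable [Fintype F] {p : ℕ} [hp : Fact p.Prime] [CharP F p]

/-- The element `1 + n` of the commutator subgroup. -/
theorem exists_elem (hQ : (polarBilin Q).Nondegenerate) {d t : ℕ} (hn : Fintype.card ι = 2 * d) (hd : 4 ≤ d) (ht : 0 < t)
    {U : Submodule F (ι → F)} (hU : TS Q U) (hUd : finrank F U = 2 * t) :
    ∃ x : GL ι F, x ∈ Cfsg.Geo.omegaGL (⇑Q) ∧ (∃ z : F, ((x ^ p : GL ι F) : Matrix ι ι F) = z • (1 : Matrix ι ι F)) ∧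
      (∀ z : F, (x : Matrix ι ι F) ≠ z • (1 : Matrix ι ι F)) ∧
      ∃ n : End F (ι → F), (∀ v, Matrix.toLin' (x : Matrix ι ι F) v = v + n v) ∧ (∀ v, n v ∈ U) ∧
        (∀ v, n v = 0 ↔ v ∈ perp Q U) ∧ (∀ v, n (n v) = 0) := by
  obtain ⟨n, hnU, hker, hiso⟩ := exists_nil Q hU hUd
  have hnn : ∀ v, n (n v) = 0 := fun v => (hker _).2 fun u hu => QuadType.ts_polar Q hU hu (hnU v)
  set X : End F (ι → F) := 1 + n with hX
  have hXv : ∀ v, X v = v + n v := fun v => rfl
  have hXj : ∀ (j : ℕ) v, (X ^ j) v = v + (j : F) • n v := fun j => by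
    induction j with
    | zero => intro v; simp
    | succ j ih =>
      intro v
      rw [pow_succ', End.mul_apply, ih, hXv, map_add, map_smul, hnn, smul_zero, add_zero, Nat.cast_succ, add_smul,
        one_smul, add_assoc]
  have hXp : X ^ p = 1 := LinearMap.ext fun v => by rw [hXj, CharP.cast_eq_zero, zero_smul, add_zero, End.one_apply]
  haveI : Fact p.Prime := hp
  obtain ⟨x, hxi, hxp, hxX⟩ := OrthNdSub.exists_matrix (r := p) Q hXp (fun v => by rw [hXv]; exact hiso v)
  refine ⟨x, ?_, ⟨1, by rw [hxp, Units.val_one, one_smul]⟩, fun z hz => ?_, n,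
    fun v => by rw [hxX]; exact hXv v, hnU, hker, hnn⟩
  · by_cases hp2 : p = 2
    swap
    · exact OrthAny.mem_omega (r := p) Q hQ hp2 (by omega) hn hxi hxp
    subst hp2
    refine ⟨⟨x, hxi⟩, (Cfsg.Agent.Lib.QuadFin.mem_Omega_iff_even Q hQ (by omega) (Or.inr (by omega)) _).2 ?_, rfl⟩
    rw [Cfsg.Agent.Lib.Geometry.dickson]
    have hmv : movedSpace Q (isometryEquiv Q ⟨x, hxi⟩) = LinearMap.range n := by
      rw [movedSpace, ← LinearMap.range_neg n]
      congr 1
      refine LinearMap.ext fun v => ?_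
      rw [oneSub_apply, isometryEquiv_apply, LinearMap.neg_apply, ← Matrix.toLin'_apply]
      show v - Matrix.toLin' (x : Matrix ι ι F) v = -(n v)
      rw [hxX, hXv]
      abel
    have h1 := n.finrank_range_add_finrank_ker
    rw [show LinearMap.ker n = perp Q U from Submodule.ext fun v => hker v, Module.finrank_fintype_fun_eq_card] at h1
    have h2 := perp_sum Q hQ (U := U)
    rw [hmv, show finrank F (LinearMap.range n) = 2 * t by omega, pow_mul, neg_one_sq, one_pow]
  · have hne : perp Q U ≠ ⊤ := fun e => by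
      have h2 := perp_sum Q hQ (U := U)
      rw [e, finrank_top, Module.finrank_fintype_fun_eq_card] at h2
      omega
    obtain ⟨v, -, hv⟩ := SetLike.exists_of_lt (lt_top_iff_ne_top.2 hne)
    refine hv ((hker v).1 ?_)
    have e1 : z • v = v + n v := by
      have := hXv v
      rw [← hxX, hz, map_smul, Matrix.toLin'_one] at this
      exact this
    have e2 := congrArg n e1
    rw [map_smul, map_add, hnn, add_zero] at e2
    by_contra h0
    have hz1 : z = 1 := smul_left_injective F h0 (e2.trans (one_smul F (n v)).symm)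
    rw [hz1, one_smul] at e1
    exact h0 (left_eq_add.1 e1)

/-- In a hyperbolic space some element of order `p` leaves only hyperbolic subspaces invariant. -/
theorem bad_plus (hQ : (polarBilin Q).Nondegenerate) {d m : ℕ} (hn : Fintype.card ι = 2 * d) (hd : 4 ≤ d) (hme : Even m)
    (hP : Plus Q ⊤) :
    ∃ x : GL ι F, x ∈ Cfsg.Geo.omegaGL (⇑Q) ∧ (∃ z : F, ((x ^ p : GL ι F) : Matrix ι ι F) = z • (1 : Matrix ι ι F)) ∧
      (∀ z : F, (x : Matrix ι ι F) ≠ z • (1 : Matrix ι ι F)) ∧ ¬ Good Q m False (Matrix.toLin' (x : Matrix ι ι F)) := by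
  obtain ⟨T, -, hT, hTd⟩ := hP
  rw [finrank_top, Module.finrank_fintype_fun_eq_card, hn] at hTd
  let b := Module.finBasisOfFinrankEq F T (show finrank F T = d by omega)
  have hle : 2 * (d / 2) ≤ d := by omega
  set U := Submodule.span F (Set.range fun j : Fin (2 * (d / 2)) => (b (Fin.castLE hle j) : ι → F))
  have hUT : U ≤ T := Submodule.span_le.2 (by rintro _ ⟨j, rfl⟩; exact SetLike.coe_mem _)
  have hUd : finrank F U = 2 * (d / 2) := by
    rw [finrank_span_eq_card, Fintype.card_fin]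
    exact (b.linearIndependent.comp _ (Fin.castLE_injective _)).map' _ (Submodule.ker_subtype _)
  obtain ⟨x, hx, hxp, hns, n, hxn, hnU, hker, -⟩ := exists_elem (p := p) Q hQ hn hd (by omega) (fun u hu => hT u (hUT hu)) hUd
  refine ⟨x, hx, hxp, hns, ?_⟩
  rintro ⟨W, ⟨hWd, hW, hWp⟩, hWi⟩
  obtain ⟨k, -, -, -, h2, h3, hplus, hplus'⟩ := inv_dims Q hQ (fun u hu => hT u (hUT hu)) hnU hker hW fun w hw => by
    have := W.sub_mem (hWi (Submodule.mem_map_of_mem hw)) hw
    rwa [hxn, add_sub_cancel_left] at this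
  rw [hn, hUd] at h3 hplus'
  rw [hWd] at h2 h3 hplus hplus'
  obtain ⟨c, rfl⟩ := hme
  refine hWp.1 ?_
  by_cases h4 : 2 * k = c + c
  · exact hplus h4
  · refine hplus' (by omega) (by omega) T hT hUT fun hTU => ?_
    have := Submodule.finrank_mono hTU
    omega

end Cfsg.Agent.Lib.MaxSub.OrthNdUnip
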