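import Cfsg.Agent.Lib.MaxSub.OrthNdSub
import Mathlib

/-!
Invariant non-degenerate subspaces of odd dimension and given isometry class in even dimensional orthogonal spaces.
-/

set_option autoImplicit false
set_option maxHeartbeats 1000000
set_option linter.unusedSectionVars false

namespace Cfsg.Agent.Lib.MaxSub.OrthOddSub

open Module Polynomial Cfsg.Agent.Lib.MaxSub Cfsg.Agent.Lib.Geometry
open Cfsg.Agent.Lib.MaxSub.QuadType (Nd TS Plus perp Carries)
open Cfsg.Agent.Lib.MaxSub.IsoDecomp (step fixed moved mem_fixed moved_inv map_eq inf_inv sup_inv fixed_inv decompose)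
open Cfsg.Agent.Lib.MaxSub.OrthDecomp (typ fixer fixer_mem)
open QuadraticMap (polarBilin)
open scoped _root_.Classical

attribute [-simp] QuadraticMap.polarBilin_apply_apply

variable {ι : Type} [Fintype ι] [DecidableEq ι] {F : Type*} [Field F] (Q : QuadraticForm F (ι → F))

/-- Non-degenerate subspaces isometric to a given one. -/
def Sub (m : ℕ) (W₀ W : Submodule F (ι → F)) : Prop :=
  finrank F W = m ∧ Nd Q W ∧ Cfsg.Geo.AreIsometricFor (⇑Q) W W₀

/-- An invariant non-degenerate subspace isometric to a given one. -/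
def Good (m : ℕ) (W₀ : Submodule F (ι → F)) (X : End F (ι → F)) : Prop := ∃ W, Sub Q m W₀ W ∧ W.map X ≤ W

theorem nd_iff {W : Submodule F (ι → F)} : Cfsg.Geo.IsNondegenerateOn (QuadraticMap.polar ⇑Q) W ↔ Nd Q W := by
  refine ⟨fun h w hw hw0 => ?_, fun h w hw hw0 => ?_⟩
  · obtain ⟨x, hx, hwx⟩ := (h w hw hw0).2
    exact ⟨x, hx, by simpa [QuadraticMap.polarBilin_apply_apply] using hwx⟩
  · obtain ⟨x, hx, hwx⟩ := h w hw hw0
    refine ⟨⟨x, hx, ?_⟩, x, hx, ?_⟩
    · rw [QuadraticMap.polar_comm]; simpa [QuadraticMap.polarBilin_apply_apply] using hwx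
    · simpa [QuadraticMap.polarBilin_apply_apply] using hwx

theorem carries_of_iso {W W' : Submodule F (ι → F)} (h : Cfsg.Geo.AreIsometricFor (⇑Q) W W') :
    ∃ φ, Carries Q φ W W' := by
  obtain ⟨e, he⟩ := h
  obtain ⟨φ, hφ⟩ := LinearMap.exists_extend (W'.subtype ∘ₗ e.toLinearMap)
  have hv : ∀ w : W, φ (w : ι → F) = (e w : ι → F) := fun w => LinearMap.congr_fun hφ w
  refine ⟨φ, le_antisymm ?_ ?_, fun x hx => ?_⟩
  · rintro _ ⟨x, hx, rfl⟩
    rw [hv ⟨x, hx⟩]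
    exact SetLike.coe_mem _
  · intro y hy
    obtain ⟨x, hx⟩ := e.surjective ⟨y, hy⟩
    exact ⟨(x : ι → F), x.2, by rw [hv x, hx]⟩
  · rw [hv ⟨x, hx⟩, he]

theorem iso_of_carries {W W' : Submodule F (ι → F)} (hW : Nd Q W) {φ : End F (ι → F)} (h : Carries Q φ W W') :
    Cfsg.Geo.AreIsometricFor (⇑Q) W W' := by
  let f : W →ₗ[F] W' := LinearMap.codRestrict W' (φ ∘ₗ W.subtype) fun w => h.1 ▸ Submodule.mem_map_of_mem w.2
  refine ⟨LinearEquiv.ofBijective f ⟨(injective_iff_map_eq_zero f).2 fun w hw =>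
      Subtype.ext (QuadType.carries_inj Q hW h w w.2 (congrArg Subtype.val hw)), fun y => ?_⟩, fun w => h.2 w w.2⟩
  obtain ⟨x, hx, e⟩ : (y : ι → F) ∈ W.map φ := h.1.symm ▸ y.2
  exact ⟨⟨x, hx⟩, Subtype.ext e⟩

theorem iso_symm {W W' : Submodule F (ι → F)} (h : Cfsg.Geo.AreIsometricFor (⇑Q) W W') :
    Cfsg.Geo.AreIsometricFor (⇑Q) W' W := by
  obtain ⟨e, he⟩ := h
  exact ⟨e.symm, fun w => by rw [← he, LinearEquiv.apply_symm_apply]⟩

theorem iso_trans {W W' W'' : Submodule F (ι → F)} (h : Cfsg.Geo.AreIsometricFor (⇑Q) W W')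
    (h' : Cfsg.Geo.AreIsometricFor (⇑Q) W' W'') : Cfsg.Geo.AreIsometricFor (⇑Q) W W'' := by
  obtain ⟨e, he⟩ := h
  obtain ⟨e', he'⟩ := h'
  exact ⟨e.trans e', fun w => by rw [LinearEquiv.trans_apply, he', he]⟩

theorem nd_line (h2 : (2 : F) ≠ 0) {v : ι → F} (hv : Q v ≠ 0) : Nd Q (F ∙ v) := fun a ha ha0 => by
  obtain ⟨c, rfl⟩ := Submodule.mem_span_singleton.1 ha
  exact ⟨v, Submodule.mem_span_singleton_self v, by simp [quad_polar_self, hv, h2, (smul_ne_zero_iff.1 ha0).1]⟩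

theorem map_sub' {m : ℕ} {W₀ W : Submodule F (ι → F)} {g : End F (ι → F)} (hinj : Function.Injective g)
    (hiso : ∀ v, Q (g v) = Q v) (h : Sub Q m W₀ W) : Sub Q m W₀ (W.map g) := by
  refine ⟨(Submodule.equivMapOfInjective g hinj W).finrank_eq.symm.trans h.1, ?_, ?_⟩
  · rintro _ ⟨a, ha, rfl⟩ hne
    obtain ⟨x, hx, hax⟩ := h.2.1 a ha (fun e => hne (by rw [e, map_zero]))
    exact ⟨g x, Submodule.mem_map_of_mem hx, by rwa [quad_polar_map Q hiso]⟩
  · exact iso_trans Q (iso_symm Q (iso_of_carries Q h.2.1 ⟨rfl, fun x _ => hiso x⟩)) h.2.2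

variable [Fintype F] {p : ℕ} [Fact p.Prime] [CharP F p] {r : ℕ} [hr : Fact r.Prime]
variable (hQ : (polarBilin Q).Nondegenerate) (h2 : (2 : F) ≠ 0)

include hQ h2 in
/-- A subspace of the given class completing an even dimensional one inside a space orthogonal to it. -/
theorem exists_fill {m a : ℕ} {U L W₀ : Submodule F (ι → F)} (hm : Odd m) (hW₀ : Nd Q W₀) (hW₀d : finrank F W₀ = m)
    (hU : Nd Q U) (hL : Nd Q L) (hLU : L ≤ perp Q U) (hLe : Even (finrank F L)) (ha : a + finrank F L = m)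
    (haU : a < finrank F U) : ∃ A ≤ U, finrank F A = a ∧ Sub Q m W₀ (A ⊔ L) := by
  obtain ⟨b, rfl⟩ := hm
  obtain ⟨l, hl⟩ := hLe
  obtain ⟨P₀, hP₀W, hP₀, hP₀d, hP₀p⟩ := QuadType.exists_type Q hQ h2 b hW₀ (by omega) (Plus Q L) (fun hb => by
    have hL0 : L = ⊥ := Submodule.finrank_eq_zero.1 (by omega)
    rw [hL0]
    exact ⟨⊥, le_rfl, fun u hu => by rw [(Submodule.mem_bot F).1 hu, QuadraticMap.map_zero], by rw [finrank_bot]⟩)
  obtain ⟨hsup₀, hR₀, hR₀d⟩ := QuadType.split_off Q hW₀ hP₀ hP₀W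
  obtain ⟨v₀, hv₀, hv₀0⟩ := (Submodule.ne_bot_iff _).1 (fun e => by rw [e, finrank_bot] at hR₀d; omega :
    W₀ ⊓ perp Q P₀ ≠ ⊥)
  have hspan : (F ∙ v₀) = W₀ ⊓ perp Q P₀ := Submodule.eq_of_le_of_finrank_le
    ((Submodule.span_singleton_le_iff_mem _ _).2 hv₀) (by rw [finrank_span_singleton hv₀0]; omega)
  have hQv₀ : Q v₀ ≠ 0 := fun h0 => by
    obtain ⟨x, hx, hvx⟩ := hR₀ v₀ hv₀ hv₀0
    rw [← hspan, Submodule.mem_span_singleton] at hx
    obtain ⟨c, rfl⟩ := hx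
    exact hvx (by rw [map_smul, quad_polar_self, h0, mul_zero, smul_zero])
  obtain ⟨P, hPU, hP, hPd, hPp⟩ := QuadType.exists_type Q hQ h2 (b - l) hU (by omega) True (fun _ => trivial)
  obtain ⟨-, hR, hRd⟩ := QuadType.split_off Q hU hP hPU
  obtain ⟨v, hv, hQv⟩ := QuadType.exists_val Q hQ h2 hR (by omega) hQv₀
  have hQv' : Q v ≠ 0 := hQv ▸ hQv₀
  have hPL : L ≤ perp Q P := fun x hx w hw => hLU hx w (hPU hw)
  obtain ⟨hPLn, hPLd⟩ := QuadType.nd_sup Q hP hL hPL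
  have hvPL : (F ∙ v) ≤ perp Q (P ⊔ L) := by
    rw [Submodule.span_singleton_le_iff_mem]
    intro w hw
    obtain ⟨p', hp', x, hx, rfl⟩ := Submodule.mem_sup.1 hw
    rw [map_add, LinearMap.add_apply, hv.2 p' hp', QuadType.mem_perp' Q (hLU hx) hv.1, add_zero]
  obtain ⟨φ, hφ⟩ := QuadType.exists_carries Q hQ h2 b hPLn hP₀ (by omega) hP₀d (by
    rw [QuadType.sup_iff Q hQ h2 hP hL hPL ⟨b - l, by omega⟩ ⟨l, hl⟩, hP₀p]
    simp [hPp])
  let ψ : End F (ι → F) := ((2 * Q v)⁻¹ • polarBilin Q v).smulRight v₀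
  have hψv : ψ v = v₀ := by
    simp only [ψ, LinearMap.smulRight_apply, LinearMap.smul_apply, quad_polar_self, smul_eq_mul,
      inv_mul_cancel₀ (mul_ne_zero h2 hQv'), one_smul]
  have hψ : Carries Q ψ (F ∙ v) (F ∙ v₀) := by
    refine ⟨by rw [Submodule.map_span, Set.image_singleton, hψv], fun x hx => ?_⟩
    obtain ⟨c, rfl⟩ := Submodule.mem_span_singleton.1 hx
    rw [map_smul, hψv, quad_smul, quad_smul, hQv]
  obtain ⟨χ, hχ⟩ := QuadType.carries_sup Q hQ hPLn hvPL (hspan.le.trans inf_le_right) hφ hψ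
  rw [hspan, hsup₀] at hχ
  obtain ⟨g1, g2⟩ := QuadType.nd_sup Q hPLn (nd_line Q h2 hQv') hvPL
  have hv0 : v ≠ 0 := fun e => hQv' (by rw [e, QuadraticMap.map_zero])
  rw [finrank_span_singleton hv0] at g2
  have heq : (P ⊔ (F ∙ v)) ⊔ L = (P ⊔ L) ⊔ (F ∙ v) := sup_right_comm _ _ _
  refine ⟨P ⊔ (F ∙ v), sup_le hPU ((Submodule.span_singleton_le_iff_mem _ _).2 hv.1), ?_, ?_⟩
  · rw [(QuadType.nd_sup Q hP (nd_line Q h2 hQv') ((Submodule.span_singleton_le_iff_mem _ _).2 hv.2)).2,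
      finrank_span_singleton hv0, hPd]
    omega
  · rw [heq]
    exact ⟨by omega, g1, iso_of_carries Q g1 hχ⟩

include hQ h2 in
/-- A subspace of the given class in a larger space. -/
theorem exists_in {m : ℕ} {U W₀ : Submodule F (ι → F)} (hm : Odd m) (hW₀ : Nd Q W₀) (hW₀d : finrank F W₀ = m)
    (hU : Nd Q U) (hmU : m < finrank F U) : ∃ A ≤ U, Sub Q m W₀ A := by
  obtain ⟨A, hA, -, h⟩ := exists_fill Q hQ h2 hm hW₀ hW₀d hU (QuadType.nd_bot Q) bot_le
    (by rw [finrank_bot]; exact Even.zero) (by rw [finrank_bot, add_zero]) hmU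
  exact ⟨A, hA, by rwa [sup_bot_eq] at h⟩

include hQ h2 in
/-- Existence of an invariant subspace in terms of the number of moved pieces. -/
theorem good_iff {i d m : ℕ} (hrp : r ≠ p) (hr2 : r ≠ 2)
    (hi : orderOf ((Fintype.card F : ℕ) : ZMod r) = i) (hn : Fintype.card ι = 2 * d) (hm : Odd m)
    {W₀ : Submodule F (ι → F)} (hW₀ : Nd Q W₀) (hW₀d : finrank F W₀ = m)
    {X : End F (ι → F)} (hX : X ^ r = 1) (hiso : ∀ v, Q (X v) = Q v) :
    Good Q m W₀ X ↔ ∃ j, step i * j ≤ m ∧ m < finrank F (fixed X) + step i * j ∧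
      step i * j + finrank F (fixed X) ≤ 2 * d := by
  have hr0 : (r : F) ≠ 0 := PrimeElemFlags.cast_ne_zero hrp
  obtain ⟨hF, hM, e, he, hfe⟩ := OrthNdSub.moved_dim Q hQ h2 hrp hr2 hi hX hiso
  rw [hn] at hfe
  obtain ⟨hc0, hce⟩ := OrthNdSub.step_pos (F := F) hi hrp
  have hce' : ∀ j, (step i * j) % 2 = 0 := fun j => Nat.even_iff.1 (hce.mul_right j)
  have hf2 : finrank F (fixed X) % 2 = 0 := by have := hce' e; omega
  have hm2 := Nat.odd_iff.1 hm
  constructor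
  · rintro ⟨W, ⟨hWd, hW, -⟩, hWi⟩
    obtain ⟨-, hdim⟩ := decompose hr0 hX hWi
    obtain ⟨-, hB⟩ := OrthDecomp.nd_parts Q hr0 hX hiso hW hWi
    obtain ⟨s, hs, -, -⟩ := OrthDecomp.exists_sub Q hQ h2 hrp hr2 hi hX hiso _ rfl hB
      (inf_inv hWi moved_inv) inf_le_right
    have h1 := Submodule.finrank_mono (inf_le_right : W ⊓ fixed X ≤ fixed X)
    have h3 := Submodule.finrank_mono (inf_le_right : W ⊓ moved X r ≤ moved X r)
    have := hce' s
    exact ⟨s, by omega, by omega, by omega⟩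
  · rintro ⟨j, hj1, hj2, hj3⟩
    obtain ⟨s, hs, -, hsub⟩ := OrthDecomp.exists_sub Q hQ h2 hrp hr2 hi hX hiso _ rfl hM moved_inv le_rfl
    obtain ⟨L, hLM, hL, hLi, hLd⟩ := hsub j (Nat.le_of_mul_le_mul_left (by omega) hc0)
    have hperp : L ≤ perp Q (fixed X) := fun v hv a ha => OrthDecomp.orth Q hr0 hiso ha (hLM hv)
    obtain ⟨A, hAF, -, hsubA⟩ := exists_fill Q hQ h2 hm hW₀ hW₀d hF hL hperp (hLd ▸ hce.mul_right j)
      (a := m - step i * j) (by omega) (by omega)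
    exact ⟨A ⊔ L, hsubA, sup_inv (fixed_inv hAF) hLi⟩

include hQ h2 in
/-- An element of the fixer of a subspace of the fixed space shrinks the fixed space. -/
theorem reduce {X : End F (ι → F)} (hX : X ^ r = 1) (hiso : ∀ v, Q (X v) = Q v) {U : Submodule F (ι → F)}
    (hUF : U ≤ fixed X) (hU : Nd Q U) {y : fixer Q U} (hy : orderOf y = r) :
    ∃ X' : End F (ι → F), X' ^ r = 1 ∧ (∀ v, Q (X' v) = Q v) ∧ finrank F (fixed X') < finrank F (fixed X) := by
  let Y : End F (ι → F) := (((y : quadIsometries Q) : (ι → F) ≃ₗ[F] (ι → F)) : (ι → F) →ₗ[F] (ι → F))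
  have hY : Y ^ r = 1 := by
    have hpow : ∀ j : ℕ, Y ^ j = ((((y ^ j : fixer Q U) : quadIsometries Q) : (ι → F) ≃ₗ[F] (ι → F)) : (ι → F) →ₗ[F] (ι → F)) := fun j => by
      induction j with
      | zero => rfl
      | succ j ih => rw [pow_succ, pow_succ, ih]; rfl
    rw [hpow, ← hy, pow_orderOf_eq_one]; rfl
  have hYU : ∀ u ∈ U, Y u ∈ U := fun u hu => fixer_mem Q hQ hU y.2 hu
  have hXp : ∀ w ∈ perp Q U, X w ∈ perp Q U := fun w hw u hu => by
    rw [← mem_fixed.1 (hUF hu), quad_polar_map Q hiso]; exact hw u hu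
  obtain ⟨htop, -, -, -⟩ := QuadType.compl_perp Q hQ hU
  have hcomm : Commute X Y := by
    refine LinearMap.ext fun v => ?_
    obtain ⟨u, hu, w, hw, rfl⟩ := Submodule.mem_sup.1 (htop.symm ▸ Submodule.mem_top : v ∈ U ⊔ perp Q U)
    have e1 : Y w = w := y.2 w hw
    have e2 : Y (X w) = X w := y.2 _ (hXp w hw)
    simp only [End.mul_apply, map_add, e1, e2, mem_fixed.1 (hUF hu), mem_fixed.1 (hUF (hYU u hu))]
  have hiso' : ∀ v, Q ((X * Y) v) = Q v := fun v => by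
    rw [End.mul_apply, hiso]; exact (y : quadIsometries Q).2 v
  refine ⟨X * Y, by rw [hcomm.mul_pow, hX, hY, one_mul], hiso', ?_⟩
  have hmem : ∀ v ∈ fixed (X * Y), v ∈ fixed X ∧ Y v = v := fun v hv => by
    obtain ⟨u, hu, w, hw, rfl⟩ := Submodule.mem_sup.1 (htop.symm ▸ Submodule.mem_top : v ∈ U ⊔ perp Q U)
    have h := mem_fixed.1 hv
    have e1 : Y w = w := y.2 w hw
    rw [End.mul_apply, map_add, map_add, e1, mem_fixed.1 (hUF (hYU u hu))] at h
    have h0 : Y u - u ∈ U ⊓ ((⊤ : Submodule F (ι → F)) ⊓ perp Q U) := by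
      refine ⟨U.sub_mem (hYU u hu) hu, Submodule.mem_top, ?_⟩
      rw [sub_eq_sub_iff_add_eq_add.2 (h.trans (add_comm u w))]
      exact Submodule.sub_mem _ hw (hXp w hw)
    rw [QuadType.inf_perp Q hU, Submodule.mem_bot, sub_eq_zero] at h0
    rw [h0, add_right_inj] at h
    exact ⟨mem_fixed.2 (by rw [map_add, mem_fixed.1 (hUF hu), h]), by rw [map_add, h0, e1]⟩
  refine Submodule.finrank_lt_finrank_of_lt (lt_of_le_of_ne (fun v hv => (hmem v hv).1) fun e => ?_)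
  refine hr.out.one_lt.ne ?_
  rw [← hy, show y = 1 from Subtype.ext (Subtype.ext (LinearEquiv.ext fun v => ?_)), orderOf_one]
  obtain ⟨u, hu, w, hw, rfl⟩ := Submodule.mem_sup.1 (htop.symm ▸ Submodule.mem_top : v ∈ U ⊔ perp Q U)
  show Y (u + w) = u + w
  rw [map_add, (hmem u (e.symm ▸ hUF hu)).2, show Y w = w from y.2 w hw]

include hQ h2 in
/-- An element of order `r` on a proper subspace of the dimension and type of a piece. -/
theorem exists_piece_fixer (hrp : r ≠ p) (hr2 : r ≠ 2) {i : ℕ} (hi : orderOf ((Fintype.card F : ℕ) : ZMod r) = i)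
    {U : Submodule F (ι → F)} (hU : Nd Q U) (hUd : finrank F U = step i) (hUp : Plus Q U ↔ typ i 1)
    (hne : perp Q U ≠ ⊥) : ∃ y : fixer Q U, orderOf y = r := by
  have hr0 : (r : F) ≠ 0 := PrimeElemFlags.cast_ne_zero hrp
  obtain ⟨hc0, hce⟩ := OrthNdSub.step_pos (F := F) hi hrp
  obtain ⟨-, hP, -, -⟩ := QuadType.compl_perp Q hQ hU
  obtain ⟨v, hv, hQv⟩ : ∃ v ∈ perp Q U, Q v ≠ 0 := by
    by_contra hc
    push Not at hc
    obtain ⟨a, ha, ha0⟩ := (Submodule.ne_bot_iff _).1 hne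
    obtain ⟨x, hx, hax⟩ := hP a ha ha0
    exact hax (QuadType.ts_polar Q (U := perp Q U) hc ha hx)
  obtain ⟨g1, g2⟩ := QuadType.nd_sup Q hU (nd_line Q h2 hQv) ((Submodule.span_singleton_le_iff_mem _ _).2 hv)
  rw [finrank_span_singleton (fun e => hQv (by rw [e, QuadraticMap.map_zero])), hUd] at g2
  set U' := U ⊔ (F ∙ v)
  obtain ⟨y', hy'⟩ := OrthDecomp.fixer_big Q hQ hrp hi h2 g1 g2
  let Y : End F (ι → F) := (((y' : quadIsometries Q) : (ι → F) ≃ₗ[F] (ι → F)) : (ι → F) →ₗ[F] (ι → F))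
  have hY : Y ^ r = 1 := by
    have hpow : ∀ j : ℕ, Y ^ j = ((((y' ^ j : fixer Q U') : quadIsometries Q) : (ι → F) ≃ₗ[F] (ι → F)) : (ι → F) →ₗ[F] (ι → F)) := fun j => by
      induction j with
      | zero => rfl
      | succ j ih => rw [pow_succ, pow_succ, ih]; rfl
    rw [hpow, ← hy', pow_orderOf_eq_one]; rfl
  have hiso : ∀ v, Q (Y v) = Q v := (y' : quadIsometries Q).2
  obtain ⟨hF, hM, -, -, -⟩ := OrthNdSub.moved_dim Q hQ h2 hrp hr2 hi hY hiso
  obtain ⟨s, hs, hst, -⟩ := OrthDecomp.exists_sub Q hQ h2 hrp hr2 hi hY hiso _ rfl hM moved_inv le_rfl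
  obtain ⟨-, -, hdimU, hpp⟩ := QuadType.compl_perp Q hQ g1
  have hle : perp Q U' ≤ fixed Y := fun b hb => mem_fixed.2 (y'.2 b hb)
  have hle' := Submodule.finrank_mono hle
  have hMU : moved Y r ≤ U' := fun v hv => by
    rw [← hpp]
    exact fun b hb => OrthDecomp.orth Q hr0 hiso (hle hb) hv
  have hMd := Submodule.finrank_mono hMU
  have hsum := (decompose hr0 hY (U := (⊤ : Submodule F (ι → F))) le_top).2
  rw [top_inf_eq, top_inf_eq, finrank_top] at hsum
  obtain rfl : s = 1 := by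
    rcases s with _ | _ | s
    · exfalso
      rw [mul_zero] at hs
      have htop : fixed Y = ⊤ := Submodule.eq_top_of_finrank_eq (by omega)
      have h1 : y' = 1 := Subtype.ext (Subtype.ext (LinearEquiv.ext fun v =>
        mem_fixed.1 (htop.symm ▸ Submodule.mem_top : v ∈ fixed Y)))
      rw [h1, orderOf_one] at hy'
      exact hr.out.one_lt.ne hy'
    · rfl
    · exfalso
      rw [Nat.mul_succ, Nat.mul_succ] at hs
      obtain ⟨e, he⟩ := hce
      omega
  obtain ⟨cc, hcc⟩ := id hce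
  rw [mul_one] at hs
  obtain ⟨φ, hφ⟩ := QuadType.exists_carries Q hQ h2 cc hU hM (by omega) (by omega) (hUp.trans hst.symm)
  obtain ⟨g, hg, -⟩ := QuadType.witt_on Q hQ (QuadType.nd_top Q hQ) (A := U) le_top φ (fun a _ => Submodule.mem_top)
    (QuadType.carries_inj Q hU hφ) hφ.2
  have hperpY : ∀ b ∈ perp Q U, Y ((g : (ι → F) ≃ₗ[F] (ι → F)) b) = (g : (ι → F) ≃ₗ[F] (ι → F)) b := fun b hb => by
    have h1 : (g : (ι → F) ≃ₗ[F] (ι → F)) b ∈ perp Q (moved Y r) := fun w hw => by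
      obtain ⟨a, ha, rfl⟩ : w ∈ U.map φ := hφ.1.symm ▸ hw
      rw [← hg a ha]
      have e := quad_polar_map Q (T := ((g : (ι → F) ≃ₗ[F] (ι → F)) : (ι → F) →ₗ[F] (ι → F))) g.2 a b
      simp only [LinearEquiv.coe_coe] at e
      rw [e]
      exact hb a ha
    have h3 : perp Q (moved Y r) = fixed Y := by
      obtain ⟨-, -, hd3, -⟩ := QuadType.compl_perp Q hQ hM
      refine (Submodule.eq_of_le_of_finrank_le (show fixed Y ≤ perp Q (moved Y r) from fun a ha w hw => by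
        rw [quad_polar_comm]; exact OrthDecomp.orth Q hr0 hiso ha hw) (by omega)).symm
    exact mem_fixed.1 (h3 ▸ h1)
  refine ⟨⟨g⁻¹ * (y' : quadIsometries Q) * g, fun b hb => ?_⟩, ?_⟩
  · show ((g⁻¹ : quadIsometries Q) : (ι → F) ≃ₗ[F] (ι → F)) (Y ((g : (ι → F) ≃ₗ[F] (ι → F)) b)) = b
    rw [hperpY b hb]
    exact (g : (ι → F) ≃ₗ[F] (ι → F)).symm_apply_apply b
  · rw [← Subgroup.orderOf_coe]
    show orderOf (g⁻¹ * (y' : quadIsometries Q) * g) = r
    have h := orderOf_injective (MulAut.conj g⁻¹).toMonoidHom (MulAut.conj g⁻¹).injective (y' : quadIsometries Q)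
    rw [MulEquiv.coe_toMonoidHom, MulAut.conj_apply, inv_inv, Subgroup.orderOf_coe, hy'] at h
    exact h

include hQ h2 in
/-- An isometry of order dividing `r` with the least possible fixed space, even dimension. -/
theorem exists_max (hrp : r ≠ p) (hr2 : r ≠ 2) {i d : ℕ} (hi : orderOf ((Fintype.card F : ℕ) : ZMod r) = i)
    (hn : Fintype.card ι = 2 * d)
    (htop : step i = 2 * d → (typ i 1 ↔ Plus Q ⊤) → ∃ X : End F (ι → F), X ^ r = 1 ∧ (∀ v, Q (X v) = Q v) ∧ X ≠ 1)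
    (hk : 2 * d % step i = 0 → (typ i (2 * d / step i) ↔ Plus Q ⊤)) :
    ∃ X : End F (ι → F), X ^ r = 1 ∧ (∀ v, Q (X v) = Q v) ∧ finrank F (fixed X) = 2 * d % step i := by
  have hr0 : (r : F) ≠ 0 := PrimeElemFlags.cast_ne_zero hrp
  obtain ⟨hc0, hce⟩ := OrthNdSub.step_pos (F := F) hi hrp
  suffices h : ∀ f : ℕ, (∃ X : End F (ι → F), X ^ r = 1 ∧ (∀ v, Q (X v) = Q v) ∧ finrank F (fixed X) = f) →
      ∃ X : End F (ι → F), X ^ r = 1 ∧ (∀ v, Q (X v) = Q v) ∧ finrank F (fixed X) = 2 * d % step i from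
    h _ ⟨1, one_pow r, fun v => rfl, rfl⟩
  intro f
  induction f using Nat.strong_induction_on with
  | _ f ih =>
  rintro ⟨X, hX, hiso, hf⟩
  obtain ⟨hF, hM, -⟩ := OrthNdSub.moved_dim Q hQ h2 hrp hr2 hi hX hiso
  obtain ⟨s, hs, hst, -⟩ := OrthDecomp.exists_sub Q hQ h2 hrp hr2 hi hX hiso _ rfl hM moved_inv le_rfl
  obtain ⟨hsup, hsum⟩ := decompose hr0 hX (U := (⊤ : Submodule F (ι → F))) le_top
  rw [top_inf_eq, top_inf_eq] at hsup hsum
  rw [finrank_top, Module.finrank_fintype_fun_eq_card, hn, hf, hs] at hsum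
  rcases lt_or_ge f (step i) with hlt | hge
  · refine ⟨X, hX, hiso, ?_⟩
    rw [hf, ← hsum, Nat.add_mul_mod_self_left, Nat.mod_eq_of_lt hlt]
  suffices hX' : ∃ X' : End F (ι → F), X' ^ r = 1 ∧ (∀ v, Q (X' v) = Q v) ∧ finrank F (fixed X') < f by
    obtain ⟨X', h1, h3, h4⟩ := hX'
    exact ih _ h4 ⟨X', h1, h3, rfl⟩
  obtain ⟨cc, hcc⟩ := id hce
  rcases eq_or_lt_of_le hge with heq | hgt
  · subst heq
    have hk0 : 2 * d % step i = 0 := by rw [← hsum, Nat.add_mul_mod_self_left, Nat.mod_self]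
    have hdiv : 2 * d / step i = s + 1 := Nat.div_eq_of_eq_mul_left hc0 (by rw [← hsum, add_mul, one_mul, mul_comm]; ring)
    have hperp : moved X r ≤ perp Q (fixed X) := fun v hv a ha => OrthDecomp.orth Q hr0 hiso ha hv
    have htype := hk hk0
    rw [hdiv, ← hsup, QuadType.sup_iff Q hQ h2 hF hM hperp ⟨cc, by omega⟩ (hs ▸ hce.mul_right s), hst] at htype
    have hFp : Plus Q (fixed X) ↔ typ i 1 := by
      unfold typ at htype ⊢
      by_cases h1 : Odd i <;> by_cases h3 : Even s <;> simp_all [Nat.even_add_one]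
    by_cases hne : perp Q (fixed X) = ⊥
    · have hFtop : fixed X = ⊤ := by
        obtain ⟨h1, -⟩ := QuadType.compl_perp Q hQ hF
        rwa [hne, sup_bot_eq] at h1
      have hcd : step i = 2 * d := by
        rw [hFtop, finrank_top, Module.finrank_fintype_fun_eq_card, hn] at hf
        exact hf.symm
      obtain ⟨Z, hZ, hZiso, hZ1⟩ := htop hcd (hFtop ▸ hFp.symm)
      refine ⟨Z, hZ, hZiso, ?_⟩
      rw [← hf, hFtop]
      refine Submodule.finrank_lt_finrank_of_lt (lt_top_iff_ne_top.2 fun e => hZ1 (LinearMap.ext fun v => ?_))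
      exact mem_fixed.1 (e.symm ▸ Submodule.mem_top)
    · obtain ⟨y, hy⟩ := exists_piece_fixer Q hQ h2 hrp hr2 hi hF hf hFp hne
      exact hf ▸ reduce Q hQ h2 hX hiso le_rfl hF hy
  -- a space of dimension one more than the step inside the fixed space
  obtain ⟨U, hUF, hU, hUd⟩ : ∃ U ≤ fixed X, Nd Q U ∧ finrank F U = step i + 1 := by
    obtain ⟨P, hPF, hP, hPd, -⟩ := QuadType.exists_type Q hQ h2 cc hF (by omega) True (fun _ => trivial)
    obtain ⟨-, hR, hdim⟩ := QuadType.split_off Q hF hP hPF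
    obtain ⟨v, hv, hQv⟩ : ∃ v ∈ fixed X ⊓ perp Q P, Q v ≠ 0 := by
      by_contra hc
      push Not at hc
      have hle : (fixed X ⊓ perp Q P : Submodule F (ι → F)) ≠ ⊥ := fun e => by rw [e, finrank_bot] at hdim; omega
      obtain ⟨a, ha, ha0⟩ := (Submodule.ne_bot_iff _).1 hle
      obtain ⟨x, hx, hax⟩ := hR a ha ha0
      exact hax (QuadType.ts_polar Q (U := fixed X ⊓ perp Q P) hc ha hx)
    obtain ⟨g1, g2⟩ := QuadType.nd_sup Q hP (nd_line Q h2 hQv) ((Submodule.span_singleton_le_iff_mem _ _).2 hv.2)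
    refine ⟨_, sup_le hPF ((Submodule.span_singleton_le_iff_mem _ _).2 hv.1), g1, ?_⟩
    rw [g2, hPd, finrank_span_singleton (fun e => hQv (by rw [e, QuadraticMap.map_zero]))]
    omega
  obtain ⟨y, hy⟩ := OrthDecomp.fixer_big Q hQ hrp hi h2 hU hUd
  exact hf ▸ reduce Q hQ h2 hX hiso hUF hU hy

include hQ h2 in
/-- The number of subspaces is prime to `r` if they fit into the fixed space of a maximal element. -/
theorem not_dvd {i d m : ℕ} (hrp : r ≠ p) (hr2 : r ≠ 2)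
    (hi : orderOf ((Fintype.card F : ℕ) : ZMod r) = i) (hn : Fintype.card ι = 2 * d) (hm : Odd m)
    {W₀ : Submodule F (ι → F)} (hW₀ : Nd Q W₀) (hW₀d : finrank F W₀ = m)
    {X : End F (ι → F)} (hX : X ^ r = 1) (hiso : ∀ v, Q (X v) = Q v) (hfc : finrank F (fixed X) < step i)
    (hmf : m < finrank F (fixed X)) : ¬ r ∣ Nat.card {W // Sub Q m W₀ W} := by
  intro hdiv
  have hr0 : (r : F) ≠ 0 := PrimeElemFlags.cast_ne_zero hrp
  obtain ⟨hF, -, -⟩ := OrthNdSub.moved_dim Q hQ h2 hrp hr2 hi hX hiso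
  haveI : Finite (Submodule F (ι → F)) := Finite.of_injective (fun W => (W : Set (ι → F))) SetLike.coe_injective
  haveI := Fintype.ofFinite {W // Sub Q m W₀ W}
  have hXi : Function.Injective X := IsoDecomp.inj hX hr.out.pos
  let φ : Function.End {W // Sub Q m W₀ W} := fun W => ⟨W.1.map X, map_sub' Q hXi hiso W.2⟩
  have hφ : ∀ (j : ℕ) (W : {W // Sub Q m W₀ W}), ((φ ^ j) W).1 = W.1.map (X ^ j) := fun j => by
    induction j with
    | zero => intro W; exact (Submodule.map_id _).symm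
    | succ j ih =>
      intro W
      rw [pow_succ' X, End.mul_eq_comp, Submodule.map_comp, ← ih W, pow_succ' φ]
      rfl
  have hφr : φ ^ r ^ 1 = 1 := by
    funext W
    apply Subtype.ext
    rw [hφ, pow_one, hX]
    exact Submodule.map_id _
  have h := Equiv.Perm.card_fixedPoints_modEq hφr
  have hle : ∀ W, Sub Q m W₀ W → W.map X ≤ W → W ≤ fixed X := fun W hW hWi => by
    obtain ⟨hsup, hdim⟩ := decompose hr0 hX hWi
    obtain ⟨-, hB⟩ := OrthDecomp.nd_parts Q hr0 hX hiso hW.2.1 hWi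
    obtain ⟨s, hs, -, -⟩ := OrthDecomp.exists_sub Q hQ h2 hrp hr2 hi hX hiso _ rfl hB (inf_inv hWi moved_inv) inf_le_right
    have hs0 : s = 0 := by
      rcases s with _ | s
      · rfl
      · rw [Nat.mul_succ] at hs; have := hW.1; omega
    rw [hs0, mul_zero] at hs
    rw [Submodule.finrank_eq_zero.1 hs, sup_bot_eq] at hsup
    rw [← hsup]; exact inf_le_right
  let α := {W // Sub Q m W₀ W ∧ W ≤ fixed X}
  let e : Function.fixedPoints φ ≃ α :=
    { toFun := fun W => ⟨W.1.1, W.1.2, hle _ W.1.2 (congrArg Subtype.val W.2).le⟩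
      invFun := fun W => ⟨⟨W.1, W.2.1⟩, Subtype.ext (map_eq hX hr.out.pos (fixed_inv W.2.2))⟩
      left_inv := fun _ => rfl
      right_inv := fun _ => rfl }
  have hd' : r ∣ Fintype.card {W // Sub Q m W₀ W} := by rw [← Nat.card_eq_fintype_card]; exact hdiv
  have hα : r ∣ Nat.card α := by
    rw [← Nat.card_congr e, Nat.card_eq_fintype_card]
    exact Nat.modEq_zero_iff_dvd.1 (h.symm.trans (Nat.modEq_zero_iff_dvd.2 hd'))
  obtain ⟨A, hAF, hA⟩ := exists_in Q hQ h2 hm hW₀ hW₀d hF hmf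
  haveI : Nonempty α := ⟨⟨A, hA, hAF⟩⟩
  haveI : Finite ((ι → F) ≃ₗ[F] (ι → F)) := Finite.of_injective (fun g => (g : (ι → F) → (ι → F))) DFunLike.coe_injective
  let lin : fixer Q (fixed X) → End F (ι → F) := fun g => (((g : quadIsometries Q) : (ι → F) ≃ₗ[F] (ι → F)) : (ι → F) →ₗ[F] (ι → F))
  let act : fixer Q (fixed X) → α → α := fun g W => ⟨W.1.map (lin g),
    map_sub' Q ((g : quadIsometries Q) : (ι → F) ≃ₗ[F] (ι → F)).injective (g : quadIsometries Q).2 W.2.1, by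
      rintro _ ⟨w, hw, rfl⟩
      exact fixer_mem Q hQ hF g.2 (W.2.2 hw)⟩
  obtain ⟨y, hy⟩ := QuadCount.exists_prime_order act (fun W => Subtype.ext (Submodule.map_id _))
    (fun g k W => Subtype.ext (Submodule.map_comp (lin k) (lin g) W.1)) (fun W W' => by
      obtain ⟨χ, hχ⟩ := carries_of_iso Q (iso_trans Q W.2.1.2.2 (iso_symm Q W'.2.1.2.2))
      obtain ⟨g, hg1, hg2⟩ := QuadType.witt_on Q hQ hF W.2.2 χ
        (fun a ha => W'.2.2 (hχ.1 ▸ Submodule.mem_map_of_mem ha)) (QuadType.carries_inj Q W.2.1.2.1 hχ) hχ.2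
      refine ⟨⟨g, hg2⟩, Subtype.ext ?_⟩
      show W.1.map (lin ⟨g, hg2⟩) = W'.1
      rw [← hχ.1]
      exact SetLike.coe_injective (Set.image_congr fun a ha => hg1 a ha)) hα
  exact OrthDecomp.fixer_small Q hQ hrp hi hr2 h2 hF hfc y hy

include hQ h2 in
/-- The criterion for odd primes other than the characteristic. -/
theorem main_odd {i d m : ℕ} (hrp : r ≠ p) (hr2 : r ≠ 2) (hi : orderOf ((Fintype.card F : ℕ) : ZMod r) = i)
    (hn : Fintype.card ι = 2 * d) (hm : Odd m) (hmd : m < d)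
    {W₀ : Submodule F (ι → F)} (hW₀ : Nd Q W₀) (hW₀d : finrank F W₀ = m)
    (htop : step i = 2 * d → (typ i 1 ↔ Plus Q ⊤) → ∃ X : End F (ι → F), X ^ r = 1 ∧ (∀ v, Q (X v) = Q v) ∧ X ≠ 1)
    (hdiv : r ∣ Nat.card {W // Sub Q m W₀ W}) :
    (∀ X : End F (ι → F), X ^ r = 1 → (∀ v, Q (X v) = Q v) → Good Q m W₀ X) ↔
      (2 * d % step i = 0 ∧ ¬ (typ i (2 * d / step i) ↔ Plus Q ⊤)) ∨
        (step i ≤ m ∧ m % step i < 2 * d % step i) := by
  obtain ⟨hc0, hce⟩ := OrthNdSub.step_pos (F := F) hi hrp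
  have hk := Nat.mod_lt (2 * d) hc0
  constructor
  · intro h
    by_contra hcon
    push Not at hcon
    obtain ⟨hA, hB⟩ := hcon
    obtain ⟨X, hX, hiso, hf⟩ := exists_max Q hQ h2 hrp hr2 hi hn htop hA
    have hg := h X hX hiso
    rw [good_iff Q hQ h2 hrp hr2 hi hn hm hW₀ hW₀d hX hiso, hf] at hg
    obtain ⟨j, hj1, hj2, -⟩ := hg
    rcases Nat.eq_zero_or_pos j with rfl | hj0
    · rw [mul_zero] at hj2
      exact not_dvd Q hQ h2 hrp hr2 hi hn hm hW₀ hW₀d hX hiso (by omega) (by omega) hdiv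
    have hle : step i ≤ step i * j := Nat.le_mul_of_pos_right _ hj0
    have hj : m / step i = j := Nat.div_eq_of_lt_le (by rw [mul_comm]; exact hj1) (by rw [mul_comm, Nat.mul_succ]; omega)
    have := Nat.div_add_mod m (step i)
    rw [hj] at this
    have := hB (by omega)
    omega
  · intro hcond X hX hiso
    rw [good_iff Q hQ h2 hrp hr2 hi hn hm hW₀ hW₀d hX hiso]
    have hr0 : (r : F) ≠ 0 := PrimeElemFlags.cast_ne_zero hrp
    obtain ⟨hF, hM, -⟩ := OrthNdSub.moved_dim Q hQ h2 hrp hr2 hi hX hiso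
    obtain ⟨e, he, hst, -⟩ := OrthDecomp.exists_sub Q hQ h2 hrp hr2 hi hX hiso _ rfl hM moved_inv le_rfl
    obtain ⟨hsup, hfe⟩ := decompose hr0 hX (U := (⊤ : Submodule F (ι → F))) le_top
    rw [top_inf_eq, top_inf_eq] at hsup hfe
    rw [finrank_top, Module.finrank_fintype_fun_eq_card, hn, he] at hfe
    have hdm := Nat.div_add_mod m (step i)
    rcases le_or_gt e (m / step i) with hem | hem
    · have := Nat.mul_le_mul_left (step i) hem
      exact ⟨e, by omega, by omega, by omega⟩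
    have := Nat.mul_le_mul_left (step i) hem.le
    have hkf : 2 * d % step i ≤ finrank F (fixed X) := by
      rw [← hfe, Nat.add_mul_mod_self_left]; exact Nat.mod_le _ _
    refine ⟨m / step i, by omega, ?_, by omega⟩
    rcases hcond with ⟨hk0, hnt⟩ | ⟨-, hlt⟩
    swap
    · omega
    have hml := Nat.mod_lt m hc0
    by_contra hf
    have hf0 : finrank F (fixed X) = 0 := by
      have h1 : finrank F (fixed X) % step i = 0 := by rw [← hk0, ← hfe, Nat.add_mul_mod_self_left]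
      have h3 : finrank F (fixed X) < step i := by omega
      rwa [Nat.mod_eq_of_lt h3] at h1
    refine hnt ?_
    rw [Submodule.finrank_eq_zero.1 hf0, bot_sup_eq] at hsup
    rw [show 2 * d / step i = e from Nat.div_eq_of_eq_mul_left hc0 (by rw [← hfe, hf0, mul_comm, zero_add]), ← hst, hsup]

include hQ h2 in
/-- Elements with scalar `r`th power reduce to isometries of order dividing `r`. -/
theorem all_iff {m : ℕ} (hr2 : r ≠ 2) (hn : 2 ≤ Fintype.card ι) {W₀ : Submodule F (ι → F)} (hm : Odd m)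
    (hW₀ : Nd Q W₀) (hW₀d : finrank F W₀ = m) (hmn : m < Fintype.card ι) :
    (∀ x : GL ι F, x ∈ Cfsg.Geo.omegaGL (⇑Q) → (∃ z : F, ((x ^ r : GL ι F) : Matrix ι ι F) = z • (1 : Matrix ι ι F)) →
      (∀ z : F, (x : Matrix ι ι F) ≠ z • (1 : Matrix ι ι F)) → Good Q m W₀ (Matrix.toLin' (x : Matrix ι ι F))) ↔
    ∀ X : End F (ι → F), X ^ r = 1 → (∀ v, Q (X v) = Q v) → Good Q m W₀ X := by
  have hodd := hr.out.odd_of_ne_two hr2
  obtain ⟨v₁, -, hv₁⟩ := QuadType.exists_val Q hQ h2 (QuadType.nd_top Q hQ)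
    (by rw [finrank_top, Module.finrank_fintype_fun_eq_card]; exact hn) one_ne_zero
  have hv₁0 : v₁ ≠ 0 := fun e => by simp [e] at hv₁
  have hz1 : ∀ z : F, (Q (z • v₁) = Q v₁) → z * z = 1 := fun z h => by rwa [quad_smul, hv₁, mul_one] at h
  constructor
  · intro h X hX hiso
    obtain ⟨x, hxi, hxr, hxX⟩ := OrthNdSub.exists_matrix Q hX hiso
    by_cases hX1 : X = 1
    · obtain ⟨A, -, hA⟩ := exists_in Q hQ h2 hm hW₀ hW₀d (QuadType.nd_top Q hQ)
        (by rw [finrank_top, Module.finrank_fintype_fun_eq_card]; exact hmn)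
      exact ⟨A, hA, by rw [hX1]; exact (Submodule.map_id A).le⟩
    refine hxX ▸ h x (OrthDecomp.mem_omega Q hQ h2 hr2 hn hxi hxr) ⟨1, by rw [hxr, Units.val_one, one_smul]⟩
      (fun z hz => hX1 ?_)
    have hXz : X = z • (1 : End F (ι → F)) := by rw [← hxX, hz, map_smul, Matrix.toLin'_one]; rfl
    have hpow : ∀ j : ℕ, (X ^ j) v₁ = z ^ j • v₁ := fun j => by
      induction j with
      | zero => simp
      | succ j ih => rw [pow_succ', End.mul_apply, ih, map_smul, hXz, LinearMap.smul_apply, End.one_apply, smul_smul, pow_succ]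
    have hr1 : z ^ r = 1 := smul_left_injective F hv₁0 (by show z ^ r • v₁ = (1 : F) • v₁; rw [← hpow, hX, one_smul]; rfl)
    have hsq := hz1 z (by have := hiso v₁; rwa [hXz] at this)
    obtain ⟨t, ht⟩ := hodd
    rw [ht, pow_succ, pow_mul, pow_two, hsq, one_pow, one_mul] at hr1
    rw [hXz, hr1, one_smul]
  · rintro h x hx ⟨z, hz⟩ -
    obtain ⟨g, -, rfl⟩ := hx
    set X := Matrix.toLin' (((Cfsg.isometryGroup F ⇑Q).subtype g : GL ι F) : Matrix ι ι F)
    have hiso : ∀ v, Q (X v) = Q v := fun v => by rw [Matrix.toLin'_apply]; exact mem_isometryGroup_iff.1 g.2 v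
    have hXr : X ^ r = z • (1 : End F (ι → F)) := by
      have h' := congrArg Matrix.toLinAlgEquiv' hz
      rw [Units.val_pow_eq_pow_val, map_pow, map_smul, map_one] at h'
      exact h'
    have hisor : ∀ (j : ℕ) v, Q ((X ^ j) v) = Q v := fun j => by
      induction j with
      | zero => exact fun v => rfl
      | succ j ih => intro v; rw [pow_succ', End.mul_apply, hiso, ih]
    have hsq := hz1 z (by have := hisor r v₁; rwa [hXr] at this)
    obtain ⟨W, hW, hWi⟩ := h (z • X) (by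
      rw [_root_.smul_pow, hXr, smul_smul]
      obtain ⟨t, ht⟩ := hodd
      rw [show z ^ r * z = (z * z) ^ (t + 1) by rw [ht]; ring, hsq, one_pow, one_smul])
      (fun v => by rw [LinearMap.smul_apply, quad_smul, hsq, one_mul, hiso])
    refine ⟨W, hW, ?_⟩
    rintro _ ⟨w, hw, rfl⟩
    have h1 := W.smul_mem z (hWi (Submodule.mem_map_of_mem hw))
    rwa [LinearMap.smul_apply, smul_smul, hsq, one_smul] at h1

end Cfsg.Agent.Lib.MaxSub.OrthOddSub
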