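import Cfsg.Agent.Lib.MaxSub.OrthNdSub
import Cfsg.Agent.Lib.Classical.AutPOmega.Odd
import Mathlib

/-!
A unipotent isometry all of whose invariant non-degenerate subspaces of even dimension have plus type.
-/

set_option autoImplicit false
set_option maxHeartbeats 1000000
set_option linter.unusedSectionVars false

namespace Cfsg.Agent.Lib.MaxSub.OrthPlusWitness

open Module Cfsg.Agent.Lib.MaxSub Cfsg.Agent.Lib.Geometry
open Cfsg.Agent.Lib.MaxSub.QuadType (Nd TS Plus perp)
open Cfsg.Agent.Lib.Classical.AutPOmega (oddR coe_oddR)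
open QuadraticMap (polarBilin)
open scoped _root_.Classical

attribute [-simp] QuadraticMap.polarBilin_apply_apply

/-- The criterion: kernel and image of `X - 1` share a space of maximal dimension. -/
theorem plus_of_big {ι : Type} [Fintype ι] [DecidableEq ι] {F : Type*} [Field F] (Q : QuadraticForm F (ι → F))
    (hQ : (polarBilin Q).Nondegenerate) (h2 : (2 : F) ≠ 0) {d : ℕ} (hn : Fintype.card ι = 2 * d + 1) {r : ℕ} (hr : 0 < r)
    {X : End F (ι → F)} (hX : X ^ r = 1) (hiso : ∀ v, Q (X v) = Q v)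
    (hK : d ≤ finrank F (LinearMap.ker (X - 1) ⊓ LinearMap.range (X - 1) : Submodule F (ι → F)))
    {W : Submodule F (ι → F)} (hW : Nd Q W) (hWi : W.map X ≤ W) (hWe : Even (finrank F W)) : Plus Q W := by
  set K := LinearMap.ker (X - 1) ⊓ LinearMap.range (X - 1)
  have hts : TS Q K := by
    rintro v ⟨hv, u, rfl⟩
    set w := (X - 1 : End F (ι → F)) u
    have hw : X w = w := by simpa [sub_eq_zero] using hv
    have hu : X u = w + u := by simp [w]
    have h := quad_polar_map Q hiso u w
    rw [hw, hu, map_add, LinearMap.add_apply, quad_polar_self] at h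
    exact (mul_eq_zero.1 (show (2 : F) * Q w = 0 by linear_combination h)).resolve_left h2
  obtain ⟨htop, hP, hdim, -⟩ := QuadType.compl_perp Q hQ hW
  rw [Module.finrank_fintype_fun_eq_card, hn] at hdim
  have hPi := OrthDecomp.perp_inv Q hX hr hiso hWi
  have hmem : ∀ {U : Submodule F (ι → F)}, U.map X ≤ U → ∀ u ∈ U, (X - 1 : End F (ι → F)) u ∈ U := fun {U} hU u hu =>
    U.sub_mem (hU (Submodule.mem_map_of_mem hu)) hu
  have hle : K ≤ (K ⊓ W) ⊔ (K ⊓ perp Q W) := by
    rintro v ⟨hv, u, rfl⟩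
    obtain ⟨u₁, h₁, u₂, h₂, rfl⟩ := Submodule.mem_sup.1 (htop.symm ▸ Submodule.mem_top : u ∈ W ⊔ perp Q W)
    rw [map_add]
    rw [SetLike.mem_coe, map_add, LinearMap.mem_ker, map_add] at hv
    set w₁ := (X - 1 : End F (ι → F)) u₁
    set w₂ := (X - 1 : End F (ι → F)) u₂
    have m1 : w₁ ∈ W := hmem hWi u₁ h₁
    have m2 : w₂ ∈ perp Q W := hmem hPi u₂ h₂
    have hz : (X - 1 : End F (ι → F)) w₁ = 0 := by
      have : (X - 1 : End F (ι → F)) w₁ ∈ W ⊓ ((⊤ : Submodule F (ι → F)) ⊓ perp Q W) :=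
        ⟨hmem hWi w₁ m1, Submodule.mem_top, by
          rw [eq_neg_of_add_eq_zero_left hv]; exact Submodule.neg_mem _ (hmem hPi w₂ m2)⟩
      rw [QuadType.inf_perp Q hW] at this
      exact (Submodule.mem_bot F).1 this
    rw [hz, zero_add] at hv
    exact Submodule.add_mem_sup ⟨⟨hz, u₁, rfl⟩, m1⟩ ⟨⟨hv, u₂, rfl⟩, m2⟩
  have h1 := (Submodule.finrank_mono hle).trans (Submodule.finrank_add_le_finrank_add_finrank _ _)
  have h3 := QuadType.ts_half Q hQ hW (inf_le_right : K ⊓ W ≤ W) (fun u hu => hts u hu.1)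
  have h4 := QuadType.ts_half Q hQ hP (inf_le_right : K ⊓ perp Q W ≤ perp Q W) (fun u hu => hts u hu.1)
  obtain ⟨t, ht⟩ := hWe
  exact ⟨K ⊓ W, inf_le_right, fun u hu => hts u hu.1, by omega⟩

section Model

variable {F : Type*} [Field F] {d : ℕ}

local notation "𝕍" => Unit ⊕ (Fin d ⊕ Fin d) → F

/-- The pairing of consecutive indices. -/
def sig (l m : Fin d) : F :=
  if Even (l : ℕ) ∧ (m : ℕ) = l + 1 then 1 else if Even (m : ℕ) ∧ (l : ℕ) = m + 1 then -1 else 0

/-- The indicator of the unpaired index. -/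
def last (l : Fin d) : F := if Odd d ∧ (l : ℕ) + 1 = d then 1 else 0

theorem sig_skew (l m : Fin d) : sig (F := F) m l = -sig l m := by
  unfold sig
  split_ifs <;> grind

/-- The witness. -/
noncomputable def wit : End F 𝕍 where
  toFun v := Sum.elim (fun _ => v (.inl ()) + ∑ m, last m * v (.inr (.inr m))) (Sum.elim
    (fun l => v (.inr (.inl l)) + ∑ m, sig l m * v (.inr (.inr m)) -
      last l * (2 * v (.inl ()) + ∑ m, last m * v (.inr (.inr m))))
    (fun l => v (.inr (.inr l))))
  map_add' v w := by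
    funext z
    rcases z with _ | l | l <;> simp [mul_add, Finset.sum_add_distrib] <;> ring
  map_smul' c v := by
    funext z
    rcases z with _ | l | l <;> simp [Finset.mul_sum, mul_add, mul_left_comm] <;> ring_nf
    simp [Finset.mul_sum, mul_left_comm, mul_comm, mul_assoc]

theorem wit_iso (h2 : (2 : F) ≠ 0) (v : 𝕍) : oddR d F (wit v) = oddR d F v := by
  rw [← coe_oddR]
  unfold Cfsg.quadFormOdd
  set β := ∑ m, last m * v (.inr (.inr m))
  have hs : ∑ l, ∑ m, sig l m * v (.inr (.inr m)) * v (.inr (.inr l)) = 0 := by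
    set S := ∑ l, ∑ m, sig l m * v (.inr (.inr m)) * v (.inr (.inr l))
    have : S = -S := by
      conv_lhs => rw [show S = ∑ l, ∑ m, sig l m * v (.inr (.inr m)) * v (.inr (.inr l)) from rfl, Finset.sum_comm]
      rw [← Finset.sum_neg_distrib]
      refine Finset.sum_congr rfl fun m _ => ?_
      rw [← Finset.sum_neg_distrib]
      refine Finset.sum_congr rfl fun l _ => ?_
      rw [sig_skew m l]; ring
    exact (mul_eq_zero.1 (show (2 : F) * S = 0 by linear_combination this)).resolve_left h2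
  have e : ∑ l, wit v (.inr (.inl l)) * wit v (.inr (.inr l)) =
      ∑ l, v (.inr (.inl l)) * v (.inr (.inr l)) - β * (2 * v (.inl ()) + β) := by
    have : ∀ l, wit v (.inr (.inl l)) * wit v (.inr (.inr l)) = v (.inr (.inl l)) * v (.inr (.inr l)) +
        ∑ m, sig l m * v (.inr (.inr m)) * v (.inr (.inr l)) -
        last l * v (.inr (.inr l)) * (2 * v (.inl ()) + β) := fun l => by
      simp only [wit, β, LinearMap.coe_mk, AddHom.coe_mk, Sum.elim_inr, Sum.elim_inl, ← Finset.sum_mul]
      ring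
    rw [Finset.sum_congr rfl fun l _ => this l, Finset.sum_sub_distrib, Finset.sum_add_distrib, hs, add_zero,
      ← Finset.sum_mul]
  rw [e]
  simp only [wit, LinearMap.coe_mk, AddHom.coe_mk, Sum.elim_inl]
  ring

theorem wit_sub (v : 𝕍) : (wit - 1 : End F 𝕍) v = wit v - v := rfl

theorem wit_cube (v : 𝕍) : (wit - 1 : End F 𝕍) ((wit - 1 : End F 𝕍) ((wit - 1 : End F 𝕍) v)) = 0 := by
  funext z
  rcases z with _ | l | l <;> simp [wit]

/-- The embedding of the singular coordinates. -/
def emb : (Fin d → F) →ₗ[F] 𝕍 where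
  toFun a := Sum.elim (fun _ => 0) (Sum.elim a (fun _ => 0))
  map_add' a b := by funext z; rcases z with _ | l | l <;> simp
  map_smul' c a := by funext z; rcases z with _ | l | l <;> simp

theorem wit_big (h2 : (2 : F) ≠ 0) :
    d ≤ finrank F (LinearMap.ker (wit - 1 : End F 𝕍) ⊓ LinearMap.range (wit - 1 : End F 𝕍) : Submodule F 𝕍) := by
  have hinj : Function.Injective (emb (F := F) (d := d)) := fun a b h => funext fun l => congrFun h (.inr (.inl l))
  have hle : LinearMap.range (emb (F := F) (d := d)) ≤ LinearMap.ker (wit - 1 : End F 𝕍) ⊓ LinearMap.range (wit - 1 : End F 𝕍) := by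
    rintro _ ⟨a, rfl⟩
    refine ⟨?_, ?_⟩
    · rw [SetLike.mem_coe, LinearMap.mem_ker]
      funext z
      rcases z with _ | l | l <;> simp [wit, emb]
    let b : Fin d → F := fun m => if Odd (m : ℕ) then a ⟨(m : ℕ) - 1, by omega⟩ else
      if hm : (m : ℕ) + 1 < d then -a ⟨(m : ℕ) + 1, hm⟩ else 0
    have hb : ∀ m, last (F := F) m * b m = 0 := fun m => by
      unfold last
      split_ifs with h
      · have hm : ¬ Odd (m : ℕ) := fun ho => by
          obtain ⟨⟨s, hs⟩, ht⟩ := h
          obtain ⟨u, hu⟩ := ho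
          omega
        have hm2 : ¬ (m : ℕ) + 1 < d := by omega
        simp [b, hm, hm2]
      · rw [zero_mul]
    refine ⟨Sum.elim (fun _ => -(∑ m, last m * a m) / 2) (Sum.elim (fun _ => 0) b), ?_⟩
    funext z
    rcases z with _ | l | l
    · simp [wit, emb, hb]
    swap
    · simp [wit, emb]
    simp only [wit, emb, LinearMap.sub_apply, End.one_apply, LinearMap.coe_mk, AddHom.coe_mk, Pi.sub_apply,
      Sum.elim_inr, Sum.elim_inl, hb, Finset.sum_const_zero, add_zero, zero_add, sub_zero]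
    rcases Nat.even_or_odd (l : ℕ) with he | ho
    · have hl0 : ¬ Odd (l : ℕ) := Nat.not_odd_iff_even.2 he
      by_cases hl : (l : ℕ) + 1 < d
      · rw [Finset.sum_eq_single ⟨(l : ℕ) + 1, hl⟩]
        · have h1 : Odd ((l : ℕ) + 1) := he.add_one
          simp [sig, b, he, h1, last, hl.ne]
        · intro m _ hm
          have hm' : (m : ℕ) ≠ l + 1 := fun e => hm (Fin.ext e)
          have : ¬ (Even (m : ℕ) ∧ (l : ℕ) = m + 1) := fun h => hl0 (h.2 ▸ h.1.add_one)
          simp [sig, hm', this]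
        · exact fun h => absurd (Finset.mem_univ _) h
      · have hd : Odd d ∧ (l : ℕ) + 1 = d := ⟨(show (l : ℕ) + 1 = d by omega) ▸ he.add_one, by omega⟩
        rw [Finset.sum_eq_zero, Finset.sum_eq_single l]
        · simp [last, hd]
          field_simp
        · intro m _ hm
          have : ¬ (Odd d ∧ (m : ℕ) + 1 = d) := fun h => hm (Fin.ext (by omega))
          simp [last, this]
        · exact fun h => absurd (Finset.mem_univ _) h
        · intro m _
          have h1 : (m : ℕ) ≠ l + 1 := by omega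
          have : ¬ (Even (m : ℕ) ∧ (l : ℕ) = m + 1) := fun h => hl0 (h.2 ▸ h.1.add_one)
          simp [sig, h1, this]
    · obtain ⟨t, ht⟩ := id ho
      have hd : ¬ (Odd d ∧ (l : ℕ) + 1 = d) := fun ⟨⟨s, hs⟩, e⟩ => by omega
      rw [Finset.sum_eq_single ⟨2 * t, by omega⟩]
      · have h1 : ¬ Odd (2 * t) := by simp
        have h3 : 2 * t + 1 < d := by omega
        have h4 : (⟨2 * t + 1, h3⟩ : Fin d) = l := Fin.ext ht.symm
        have hz : last (F := F) l = 0 := by rw [last, if_neg hd]
        simp [sig, b, Nat.not_even_iff_odd.2 ho, ht, h1, h3, hz, h4]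
      · intro m _ hm
        have hm' : (l : ℕ) ≠ m + 1 := fun e => hm (Fin.ext (show (m : ℕ) = 2 * t by omega))
        simp [sig, Nat.not_even_iff_odd.2 ho, hm']
      · exact fun h => absurd (Finset.mem_univ _) h
  have h := Submodule.finrank_mono hle
  rw [LinearMap.finrank_range_of_inj hinj, Module.finrank_fintype_fun_eq_card, Fintype.card_fin] at h
  exact h

theorem wit_pow {p : ℕ} [Fact p.Prime] [CharP F p] (hp : 3 ≤ p) : (wit : End F 𝕍) ^ p = 1 := by
  haveI : CharP (End F 𝕍) p := charP_of_injective_algebraMap (FaithfulSMul.algebraMap_injective F (End F 𝕍)) p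
  have h3 : (wit - 1 : End F 𝕍) ^ 3 = 0 := LinearMap.ext fun v => by
    rw [pow_succ, pow_succ, pow_one]; exact wit_cube v
  have h := sub_pow_char_of_commute (p := p) (Commute.one_right (wit : End F 𝕍))
  rw [one_pow, pow_eq_zero_of_le hp h3] at h
  exact sub_eq_zero.1 h.symm

end Model

end Cfsg.Agent.Lib.MaxSub.OrthPlusWitness
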