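import Cfsg.Agent.Lib.MaxSub.Orth
import Cfsg.Agent.Lib.Geometry.WittQuadratic

/-!
Stabilisers in `omegaGL` of an orthogonal splitting of the space.
-/

set_option autoImplicit false

namespace Cfsg.Agent.Lib.MaxSub.OrthSplit

open Matrix QuadraticMap
open Cfsg.Agent.Lib.Geometry (quadIsometries isometryEquiv quad_add quad_sub quad_smul quad_polar_self quad_polar_comm)
open scoped MatrixGroups Matrix commutatorElement

attribute [-simp] QuadraticMap.polarBilin_apply_apply

set_option maxHeartbeats 800000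

variable {ι : Type} [Fintype ι] [DecidableEq ι] {F : Type*} [Field F]

/-- An orthogonal splitting into two subspaces. -/
structure Split (Q : QuadraticForm F (ι → F)) (W Y : Submodule F (ι → F)) : Prop where
  nondeg : (polarBilin Q).Nondegenerate
  orth : ∀ w ∈ W, ∀ y ∈ Y, polarBilin Q w y = 0
  compl : IsCompl W Y

variable {Q : QuadraticForm F (ι → F)} {W Y : Submodule F (ι → F)}

theorem Split.symm (S : Split Q W Y) : Split Q Y W :=
  ⟨S.nondeg, fun y hy w hw => by rw [quad_polar_comm]; exact S.orth w hw y hy, S.compl.symm⟩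

theorem Split.decomp (S : Split Q W Y) (x : ι → F) : ∃ w ∈ W, ∃ y ∈ Y, w + y = x := by
  have h : x ∈ W ⊔ Y := by rw [S.compl.sup_eq_top]; trivial
  exact Submodule.mem_sup.mp h

theorem Split.nd (S : Split Q W Y) {w : ι → F} (hw : w ∈ W) (hw0 : w ≠ 0) :
    ∃ z ∈ W, polarBilin Q w z ≠ 0 := by
  by_contra hc
  push Not at hc
  refine hw0 (S.nondeg.1 w fun x => ?_)
  obtain ⟨a, ha, b, hb, rfl⟩ := S.decomp x
  rw [map_add, hc a ha, S.orth w hw b hb, add_zero]

theorem Split.mem_of_perp (S : Split Q W Y) {x : ι → F} (h : ∀ w ∈ W, polarBilin Q w x = 0) : x ∈ Y := by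
  obtain ⟨a, ha, b, hb, rfl⟩ := S.decomp x
  by_cases ha0 : a = 0
  · rw [ha0, zero_add]; exact hb
  obtain ⟨z, hz, hne⟩ := S.nd ha ha0
  have := h z hz
  rw [map_add, S.orth z hz b hb, add_zero, quad_polar_comm] at this
  exact absurd this hne

theorem Split.finrank_add (S : Split Q W Y) :
    Module.finrank F W + Module.finrank F Y = Fintype.card ι := by
  rw [Submodule.finrank_add_eq_of_isCompl S.compl, Module.finrank_fintype_fun_eq_card]

/-- An isometry carrying `W` into itself carries `Y` into itself. -/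
theorem Split.map_right (S : Split Q W Y) {g : GL ι F} (hg : g ∈ Cfsg.isometryGroup F ⇑Q)
    (h : g ∈ Cfsg.Geo.subspaceStabilizer W) {y : ι → F} (hy : y ∈ Y) : (g : Matrix ι ι F) *ᵥ y ∈ Y := by
  refine S.mem_of_perp fun w hw => ?_
  obtain ⟨z, rfl⟩ : ∃ z, (g : Matrix ι ι F) *ᵥ z = w :=
    ⟨((g⁻¹ : GL ι F) : Matrix ι ι F) *ᵥ w, by
      rw [Matrix.mulVec_mulVec, ← Units.val_mul, mul_inv_cancel, Units.val_one, Matrix.one_mulVec]⟩
  rw [Orth.iso_polar hg]
  exact S.orth z ((h z).mpr hw) y hy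

theorem finrank_inf_ker (W : Submodule F (ι → F)) (φ : (ι → F) →ₗ[F] F) :
    Module.finrank F W ≤ Module.finrank F (W ⊓ LinearMap.ker φ : Submodule F (ι → F)) + 1 := by
  let ψ := φ.domRestrict W
  have h1 := ψ.finrank_range_add_finrank_ker
  have h2 : Module.finrank F (LinearMap.range ψ) ≤ 1 := (Submodule.finrank_le _).trans (by simp)
  have h3 : Module.finrank F (LinearMap.ker ψ) ≤ Module.finrank F (W ⊓ LinearMap.ker φ : Submodule F (ι → F)) := by
    rw [← Submodule.finrank_map_subtype_eq]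
    refine Submodule.finrank_mono ?_
    rintro _ ⟨z, hz, rfl⟩
    exact ⟨z.2, hz⟩
  omega

theorem exists_outside (W : Submodule F (ι → F)) {X : Submodule F (ι → F)}
    (h : Module.finrank F W < Module.finrank F X) : ∃ r ∈ X, r ∉ W := by
  by_contra hc
  push Not at hc
  exact absurd (Submodule.finrank_mono hc) (not_le.mpr h)

/-- A big subspace of one member contains a non-singular vector. -/
theorem Split.exists_nonsing (S : Split Q W Y) {T : Submodule F (ι → F)} (hT : T ≤ Y)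
    (hdim : Fintype.card ι < 2 * Module.finrank F T + Module.finrank F W) : ∃ t ∈ T, Q t ≠ 0 := by
  by_contra hc
  push Not at hc
  have hle : T ⊔ W ≤ LinearMap.BilinForm.orthogonal (polarBilin Q) T := by
    refine sup_le (fun x hx y hy => ?_) (fun x hx y hy => ?_)
    · show polarBilin Q y x = 0
      have := hc (y + x) (T.add_mem hy hx)
      rwa [quad_add, hc y hy, hc x hx, zero_add, zero_add] at this
    · show polarBilin Q y x = 0
      rw [quad_polar_comm]
      exact S.orth x hx y (hT hy)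
  have h1 := Submodule.finrank_mono hle
  rw [LinearMap.BilinForm.finrank_orthogonal S.nondeg, Module.finrank_fintype_fun_eq_card] at h1
  have h2 := Submodule.finrank_sup_add_finrank_inf_eq T W
  have h3 : T ⊓ W = ⊥ := le_bot_iff.mp ((inf_le_inf_right W hT).trans S.compl.symm.disjoint.le_bot)
  rw [h3, finrank_bot] at h2
  omega

variable {K : Subgroup (GL ι F)}

/-- The Eichler element lies in the group. -/
def InE (Q : QuadraticForm F (ι → F)) (K : Subgroup (GL ι F)) (u x : ι → F) : Prop :=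
  ∃ (hu : Q u = 0) (hx : polarBilin Q u x = 0), Orth.eichGL Q u x hu hx ∈ K

theorem InE.sub {u x x' : ι → F} (h : InE Q K u x) (h' : InE Q K u x') : InE Q K u (x - x') := by
  obtain ⟨hu, hx, hm⟩ := h
  obtain ⟨_, hx', hm'⟩ := h'
  refine ⟨hu, by rw [map_sub, hx, hx', sub_zero], ?_⟩
  have h1 : Orth.eichGL Q u (x - x') hu (by rw [map_sub, hx, hx', sub_zero]) * Orth.eichGL Q u x' hu hx' =
      Orth.eichGL Q u x hu hx := by
    rw [Orth.eichGL, Orth.eichGL, Orth.eichGL, ← map_mul, Cfsg.Agent.Lib.Classical.eich_mul]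
    simp only [sub_add_cancel]
  rw [eq_mul_inv_of_mul_eq h1]
  exact K.mul_mem hm (K.inv_mem hm')

theorem InE.conj {u x : ι → F} (h : InE Q K u x) {g : GL ι F} (hgK : g ∈ K)
    (hg : g ∈ Cfsg.isometryGroup F ⇑Q) : InE Q K ((g : Matrix ι ι F) *ᵥ u) ((g : Matrix ι ι F) *ᵥ x) := by
  obtain ⟨hu, hx, hm⟩ := h
  refine ⟨by rw [Orth.iso_quad hg, hu], by rw [Orth.iso_polar hg, hx], ?_⟩
  rw [← Orth.conj_eichGL hg hu hx]
  exact K.mul_mem (K.mul_mem hgK hm) (K.inv_mem hgK)

theorem InE.scale {u x : ι → F} {c : F} (hc : c ≠ 0) (h : InE Q K (c • u) x) : InE Q K u (c • x) := by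
  obtain ⟨hu, hx, hm⟩ := h
  have hu' : Q u = 0 := by
    rw [quad_smul] at hu; exact (mul_eq_zero.mp hu).resolve_left (mul_ne_zero hc hc)
  have hx' : polarBilin Q u (c • x) = 0 := by
    rw [map_smul, LinearMap.smul_apply] at hx; rw [map_smul]; exact hx
  refine ⟨hu', hx', ?_⟩
  convert hm using 1
  refine Units.ext (Matrix.ext_of_mulVec_single fun j => ?_)
  rw [Orth.eichGL_mulVec, Orth.eichGL_mulVec, quad_smul, map_smul (polarBilin Q (Pi.single j 1)),
    map_smul (polarBilin Q (Pi.single j 1)), smul_eq_mul, smul_eq_mul]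
  module

/-- The vectors `w` of `W` all of whose mixed Eichler elements lie in the group. -/
def Good (Q : QuadraticForm F (ι → F)) (K : Subgroup (GL ι F)) (Y : Submodule F (ι → F)) (w : ι → F) : Prop :=
  ∀ u ∈ Y, Q u = 0 → InE Q K u w

/-- The subspace of good vectors. -/
def Split.good (S : Split Q W Y) (K : Subgroup (GL ι F)) : Submodule F (ι → F) where
  carrier := {w | w ∈ W ∧ Good Q K Y w}
  zero_mem' := ⟨W.zero_mem, fun u hu hq => ⟨hq, map_zero _, by
    rw [show Orth.eichGL Q u 0 hq (map_zero _) = 1 from Units.ext (Matrix.ext_of_mulVec_single fun j => by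
      rw [Orth.eichGL_mulVec, Units.val_one, Matrix.one_mulVec]; simp)]
    exact K.one_mem⟩⟩
  add_mem' := by
    rintro a b ⟨haW, ha⟩ ⟨hbW, hb⟩
    refine ⟨W.add_mem haW hbW, fun u hu hq => ?_⟩
    have h0 : InE Q K u 0 := by simpa using (ha u hu hq).sub (ha u hu hq)
    simpa using (ha u hu hq).sub (h0.sub (hb u hu hq))
  smul_mem' := by
    rintro c a ⟨haW, ha⟩
    refine ⟨W.smul_mem c haW, fun u hu hq => ?_⟩
    rcases eq_or_ne c 0 with rfl | hc
    · rw [zero_smul]; simpa using (ha u hu hq).sub (ha u hu hq)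
    · exact (ha (c • u) (Y.smul_mem c hu) (by rw [quad_smul, hq, mul_zero])).scale hc

/-- The data of a group containing the Eichler elements of both members. -/
structure Big (Q : QuadraticForm F (ι → F)) (K : Subgroup (GL ι F)) (W Y : Submodule F (ι → F)) : Prop where
  left : ∀ u ∈ W, ∀ x ∈ W, Q u = 0 → polarBilin Q u x = 0 → InE Q K u x
  right : ∀ u ∈ Y, ∀ x ∈ Y, Q u = 0 → polarBilin Q u x = 0 → InE Q K u x

/-- The Eichler elements of the second member are transitive on its singular points. -/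
theorem Split.exists_move [Finite F] (S : Split Q W Y) (hY : 7 ≤ Module.finrank F Y) (hWY : Module.finrank F W ≤ Module.finrank F Y)
    (B : Big Q K W Y) {u v : ι → F} (hu : u ∈ Y) (hqu : Q u = 0) (hu0 : u ≠ 0) (hv : v ∈ Y) (hqv : Q v = 0) (hv0 : v ≠ 0) :
    ∃ g ∈ K, g ∈ Cfsg.isometryGroup F ⇑Q ∧ (g : Matrix ι ι F) *ᵥ u = v ∧
      ∀ w ∈ W, (g : Matrix ι ι F) *ᵥ w = w := by
  -- one step
  have step : ∀ u v, u ∈ Y → v ∈ Y → Q u = 0 → Q v = 0 →
      (∃ c ∈ Y, Q c = 0 ∧ polarBilin Q c u = 1 ∧ polarBilin Q c v = 1) →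
      ∃ g ∈ K, g ∈ Cfsg.isometryGroup F ⇑Q ∧ (g : Matrix ι ι F) *ᵥ u = v ∧ ∀ w ∈ W, (g : Matrix ι ι F) *ᵥ w = w := by
    intro u v hu hv hqu hqv ⟨c, hc, hqc, hcu, hcv⟩
    obtain ⟨_, hcx, hm⟩ := B.right c hc (v - u) (Y.sub_mem hv hu) hqc (by rw [map_sub, hcu, hcv, sub_self])
    refine ⟨_, hm, Orth.toGL_mem_isometry Q _, ?_, fun w hw => ?_⟩
    · rw [Orth.eichGL_mulVec, quad_polar_comm Q u c, hcu, one_smul, mul_one, map_sub, Orth.polar_self_of_sing Q hqu,
        sub_zero, quad_sub, hqv, hqu, zero_add, zero_sub, quad_polar_comm Q v u, add_neg_cancel, zero_smul, sub_zero,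
        add_sub_cancel]
    · rw [Orth.eichGL_mulVec, S.orth w hw c hc, S.orth w hw _ (Y.sub_mem hv hu)]
      simp
  have hYdual : ∀ (W' : Submodule F (ι → F)), W' ≤ Y → ∀ x ∈ Y, x ∉ W' →
      ∃ z ∈ Y, (∀ w ∈ W', polarBilin Q z w = 0) ∧ polarBilin Q z x = 1 := by
    intro W' hW' x hx hxW
    obtain ⟨z, hz, hzx⟩ := Orth.exists_dual S.nondeg W' hxW
    obtain ⟨a, ha, b, hb, rfl⟩ := S.decomp z
    refine ⟨b, hb, fun w hw => ?_, ?_⟩
    · have := hz w hw
      rwa [map_add, LinearMap.add_apply, S.orth a ha w (hW' hw), zero_add] at this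
    · rwa [map_add, LinearMap.add_apply, S.orth a ha x hx, zero_add] at hzx
  have indep : ∀ u v, u ∈ Y → v ∈ Y → Q u = 0 → Q v = 0 → u ∉ F ∙ v → v ∉ F ∙ u → polarBilin Q u v = 0 →
      ∃ c ∈ Y, Q c = 0 ∧ polarBilin Q c u = 1 ∧ polarBilin Q c v = 1 := by
    intro u v hu hv hqu hqv huv hvu hb
    obtain ⟨z₁, hz₁, h1, h1'⟩ := hYdual (F ∙ v) ((Submodule.span_singleton_le_iff_mem _ _).mpr hv) u hu huv
    obtain ⟨z₂, hz₂, h2, h2'⟩ := hYdual (F ∙ u) ((Submodule.span_singleton_le_iff_mem _ _).mpr hu) v hv hvu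
    have h1v := h1 v (Submodule.mem_span_singleton_self v)
    have h2u := h2 u (Submodule.mem_span_singleton_self u)
    refine ⟨z₁ + z₂ - Q (z₁ + z₂) • u, Y.sub_mem (Y.add_mem hz₁ hz₂) (Y.smul_mem _ hu), ?_, ?_, ?_⟩
    · rw [quad_sub, quad_smul, hqu, map_smul, map_add (polarBilin Q), LinearMap.add_apply, h1', h2u, smul_eq_mul]
      ring
    · rw [map_sub, LinearMap.sub_apply, map_smul, LinearMap.smul_apply, map_add, LinearMap.add_apply, h1', h2u,
        Orth.polar_self_of_sing Q hqu, smul_zero, add_zero, sub_zero]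
    · rw [map_sub, LinearMap.sub_apply, map_smul, LinearMap.smul_apply, map_add, LinearMap.add_apply, h1v, h2', hb,
        smul_zero, zero_add, sub_zero]
  obtain ⟨zu, hzu, -, hzu'⟩ := hYdual ⊥ bot_le u hu (by simpa using hu0)
  obtain ⟨zv, hzv, -, hzv'⟩ := hYdual ⊥ bot_le v hv (by simpa using hv0)
  obtain ⟨w, hw, hw0, hqw⟩ := Orth.exists_singular (Q := Q)
    (Y ⊓ LinearMap.ker (polarBilin Q u) ⊓ LinearMap.ker (polarBilin Q v) ⊓ LinearMap.ker (polarBilin Q zu) ⊓
      LinearMap.ker (polarBilin Q zv)) (by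
      have := finrank_inf_ker Y (polarBilin Q u)
      have := finrank_inf_ker (Y ⊓ LinearMap.ker (polarBilin Q u)) (polarBilin Q v)
      have := finrank_inf_ker (Y ⊓ LinearMap.ker (polarBilin Q u) ⊓ LinearMap.ker (polarBilin Q v)) (polarBilin Q zu)
      have := finrank_inf_ker (Y ⊓ LinearMap.ker (polarBilin Q u) ⊓ LinearMap.ker (polarBilin Q v) ⊓
        LinearMap.ker (polarBilin Q zu)) (polarBilin Q zv)
      omega)
  obtain ⟨⟨⟨⟨hwY, huw⟩, hvw⟩, hzuw⟩, hzvw⟩ := hw
  rw [SetLike.mem_coe, LinearMap.mem_ker] at huw hvw hzuw hzvw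
  have hnot : ∀ x z, polarBilin Q z x = 1 → polarBilin Q z w = 0 → w ∉ F ∙ x ∧ x ∉ F ∙ w := by
    intro x z hzx hzw
    constructor <;> intro hm <;> obtain ⟨c, hc⟩ := Submodule.mem_span_singleton.mp hm
    · rw [← hc, map_smul, hzx, smul_eq_mul, mul_one] at hzw
      exact hw0 (by rw [← hc, hzw, zero_smul])
    · rw [← hc, map_smul, hzw, smul_zero] at hzx
      exact zero_ne_one hzx
  obtain ⟨h1, h1'⟩ := hnot u zu hzu' hzuw
  obtain ⟨h2, h2'⟩ := hnot v zv hzv' hzvw
  obtain ⟨g₁, hg₁K, hg₁i, hg₁u, hg₁W⟩ := step u w hu hwY hqu hqw (indep u w hu hwY hqu hqw h1' h1 huw)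
  obtain ⟨g₂, hg₂K, hg₂i, hg₂u, hg₂W⟩ := step w v hwY hv hqw hqv (indep w v hwY hv hqw hqv h2 h2'
    (by rw [quad_polar_comm]; exact hvw))
  refine ⟨g₂ * g₁, K.mul_mem hg₂K hg₁K, mul_mem hg₂i hg₁i, ?_, fun x hx => ?_⟩
  · rw [Units.val_mul, ← Matrix.mulVec_mulVec, hg₁u, hg₂u]
  · rw [Units.val_mul, ← Matrix.mulVec_mulVec, hg₁W x hx, hg₂W x hx]

/-- Translating by an Eichler element inside a member, read in an invariant subspace. -/
theorem absorb (S : Split Q W Y) (L : Submodule F (ι → F)) {p : ι → F} (hp : p ∈ Y) (hqp : Q p = 0) {z : ι → F}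
    (hzL : z ∈ L) (hzp : polarBilin Q z p = 1)
    (hinv : ∀ x ∈ Y, (hx : polarBilin Q p x = 0) → (Orth.eichGL Q p x hqp hx : Matrix ι ι F) *ᵥ z ∈ L)
    (hnd : ∃ x ∈ Y, ∃ x' ∈ Y, polarBilin Q p x = 0 ∧ polarBilin Q p x' = 0 ∧ polarBilin Q x x' ≠ 0) :
    ∀ x ∈ Y, polarBilin Q p x = 0 → x ∈ L := by
  have δ : ∀ x ∈ Y, polarBilin Q p x = 0 → x - (polarBilin Q z x + Q x) • p ∈ L := by
    intro x hx hpx
    have := hinv x hx hpx
    rw [Orth.eichGL_mulVec, hzp, one_smul, mul_one, add_sub_assoc] at this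
    exact (Submodule.add_mem_iff_right _ hzL).mp this
  obtain ⟨x₁, hx₁, x₂, hx₂, h1, h2, h12⟩ := hnd
  have hpL : p ∈ L := by
    have h3 := L.sub_mem (L.add_mem (δ x₁ hx₁ h1) (δ x₂ hx₂ h2))
      (δ (x₁ + x₂) (Y.add_mem hx₁ hx₂) (by rw [map_add, h1, h2, add_zero]))
    rw [map_add, quad_add] at h3
    refine (Submodule.smul_mem_iff _ h12).mp ?_
    convert h3 using 1
    module
  intro x hx hpx
  have := L.add_mem (δ x hx hpx) (L.smul_mem (polarBilin Q z x + Q x) hpL)
  rwa [sub_add_cancel] at this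

/-- A line orthogonal to a singular vector has a non-orthogonal pair, in a big member. -/
theorem Split.exists_pair (S : Split Q W Y) {p : ι → F} (h3 : 3 ≤ Module.finrank F Y)
    (h : Fintype.card ι + 3 ≤ 2 * Module.finrank F Y + Module.finrank F W) :
    ∃ x ∈ Y, ∃ x' ∈ Y, polarBilin Q p x = 0 ∧ polarBilin Q p x' = 0 ∧ polarBilin Q x x' ≠ 0 := by
  obtain ⟨x, hx, hQx⟩ := S.exists_nonsing (T := Y ⊓ LinearMap.ker (polarBilin Q p)) inf_le_left
    (by have := finrank_inf_ker Y (polarBilin Q p); omega)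
  by_cases h2 : (2 : F) = 0
  swap
  · exact ⟨x, hx.1, x, hx.1, hx.2, hx.2, by rw [quad_polar_self]; exact mul_ne_zero h2 hQx⟩
  by_contra hc
  push Not at hc
  have hle : Y ⊓ LinearMap.ker (polarBilin Q p) ⊔ W ≤
      LinearMap.BilinForm.orthogonal (polarBilin Q) (Y ⊓ LinearMap.ker (polarBilin Q p)) := by
    refine sup_le (fun a ha b hb => ?_) (fun a ha b hb => ?_)
    · exact hc b hb.1 a ha.1 hb.2 ha.2
    · show polarBilin Q b a = 0
      rw [quad_polar_comm]; exact S.orth a ha b hb.1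
  have h1 := Submodule.finrank_mono hle
  rw [LinearMap.BilinForm.finrank_orthogonal S.nondeg, Module.finrank_fintype_fun_eq_card] at h1
  have h4 := Submodule.finrank_sup_add_finrank_inf_eq (Y ⊓ LinearMap.ker (polarBilin Q p)) W
  have h5 : Y ⊓ LinearMap.ker (polarBilin Q p) ⊓ W = ⊥ :=
    le_bot_iff.mp ((inf_le_inf_right W inf_le_left).trans S.compl.symm.disjoint.le_bot)
  rw [h5, finrank_bot] at h4
  have := finrank_inf_ker Y (polarBilin Q p)
  omega

/-- A subspace invariant under the Eichler elements of a member contains it or avoids it. -/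
theorem Split.invariant [Finite F] (S : Split Q W Y) (hY : 7 ≤ Module.finrank F Y) (hWY : Module.finrank F W ≤ Module.finrank F Y)
    (L : Submodule F (ι → F))
    (hinv : ∀ u ∈ Y, ∀ x ∈ Y, (hu : Q u = 0) → (hx : polarBilin Q u x = 0) → ∀ z ∈ L,
      (Orth.eichGL Q u x hu hx : Matrix ι ι F) *ᵥ z ∈ L) : L ≤ W ∨ Y ≤ L := by
  by_cases h : L ≤ W
  · exact Or.inl h
  right
  obtain ⟨z, hz, hzW⟩ := SetLike.not_le_iff_exists.mp h
  obtain ⟨a, ha, b, hb, rfl⟩ := S.decomp z
  have hb0 : b ≠ 0 := fun h => hzW (by rw [h, add_zero]; exact ha)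
  obtain ⟨q₀, hq₀, hbq₀⟩ := S.symm.nd hb hb0
  -- a singular vector of the member paired with `b`
  obtain ⟨p₀, hp₀, hqp₀, hbp₀⟩ : ∃ p ∈ Y, Q p = 0 ∧ polarBilin Q b p ≠ 0 := by
    by_contra hc
    push Not at hc
    obtain ⟨e, he, he0, hqe⟩ := Orth.exists_singular (Q := Q) Y (by omega)
    obtain ⟨f, hf, hef⟩ := S.symm.nd he he0
    obtain ⟨f', hf', hqf', hef'⟩ := Orth.exists_partner S.nondeg hqe he hf hef
    have hbe := hc e he hqe
    have hbf := hc f' hf' hqf'
    refine hbq₀ ?_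
    set r := q₀ - polarBilin Q f' q₀ • e - polarBilin Q e q₀ • f' with hr
    have hre : polarBilin Q e r = 0 := by
      rw [hr, map_sub, map_sub, map_smul, map_smul, Orth.polar_self_of_sing Q hqe, hef', smul_zero, sub_zero,
        smul_eq_mul, mul_one, sub_self]
    have hrf : polarBilin Q f' r = 0 := by
      rw [hr, map_sub, map_sub, map_smul, map_smul, Orth.polar_self_of_sing Q hqf', quad_polar_comm Q f' e, hef',
        smul_zero, sub_zero, smul_eq_mul, mul_one, sub_self]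
    have hrY : r ∈ Y := Y.sub_mem (Y.sub_mem hq₀ (Y.smul_mem _ he)) (Y.smul_mem _ hf')
    have h1 := hc (r + e - Q r • f') (Y.sub_mem (Y.add_mem hrY he) (Y.smul_mem _ hf')) (by
      rw [quad_sub, quad_add, quad_smul, hqe, hqf', map_smul, map_add, LinearMap.add_apply, quad_polar_comm Q r e, hre,
        quad_polar_comm Q r f', hrf, hef']
      simp)
    rw [map_sub, map_add, map_smul, hbe, hbf, smul_zero, sub_zero, add_zero, hr, map_sub, map_sub, map_smul, map_smul,
      hbe, hbf, smul_zero, smul_zero, sub_zero, sub_zero] at h1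
    exact h1
  set p := (polarBilin Q b p₀)⁻¹ • p₀ with hp
  have hqp : Q p = 0 := by rw [hp, quad_smul, hqp₀, mul_zero]
  have hpY : p ∈ Y := Y.smul_mem _ hp₀
  have hzp : polarBilin Q (a + b) p = 1 := by
    rw [map_add, LinearMap.add_apply, S.orth a ha p hpY, zero_add, hp, map_smul, smul_eq_mul, inv_mul_cancel₀ hbp₀]
  have hfd := S.finrank_add
  have h1 := absorb S L hpY hqp hz hzp (fun x hx hpx => hinv p hpY x hx hqp hpx _ hz)
    (S.exists_pair (by omega) (by omega))
  -- a partner of `p`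
  obtain ⟨f, hf, hpf⟩ := S.symm.nd hpY (fun h => by rw [h, map_zero] at hzp; exact zero_ne_one hzp)
  obtain ⟨p', hp', hqp', hpp'⟩ := Orth.exists_partner S.nondeg hqp hpY hf hpf
  have hpL : p ∈ L := h1 p hpY (Orth.polar_self_of_sing Q hqp)
  have h2 := absorb S L hp' hqp' hpL hpp' (fun x hx hpx => hinv p' hp' x hx hqp' hpx _ hpL)
    (S.exists_pair (by omega) (by omega))
  intro y hy
  have h3 := h2 (y - polarBilin Q p' y • p) (Y.sub_mem hy (Y.smul_mem _ hpY))
    (by rw [map_sub, map_smul, quad_polar_comm Q p' p, hpp', smul_eq_mul, mul_one, sub_self])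
  have := L.add_mem h3 (L.smul_mem (polarBilin Q p' y) hpL)
  rwa [sub_add_cancel] at this

/-- An isometry carries a subspace inside the first member of equal dimension onto it. -/
theorem mem_stab_of_map {g : GL ι F} (h : ∀ w ∈ W, (g : Matrix ι ι F) *ᵥ w ∈ W) : g ∈ Cfsg.Geo.subspaceStabilizer W := by
  have hinj : Function.Injective fun w : W => (⟨(g : Matrix ι ι F) *ᵥ w.1, h w.1 w.2⟩ : W) := by
    intro x y hxy
    have := congrArg (fun z : W => ((g⁻¹ : GL ι F) : Matrix ι ι F) *ᵥ z.1) hxy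
    simpa [Matrix.mulVec_mulVec, ← Units.val_mul] using this
  let L : W →ₗ[F] W :=
    { toFun := fun w => ⟨(g : Matrix ι ι F) *ᵥ w.1, h w.1 w.2⟩
      map_add' := fun x y => Subtype.ext (Matrix.mulVec_add _ _ _)
      map_smul' := fun c x => Subtype.ext (Matrix.mulVec_smul _ _ _) }
  have hs : Function.Surjective L := LinearMap.injective_iff_surjective.mp hinj
  intro v
  refine ⟨fun hv => h v hv, fun hv => ?_⟩
  obtain ⟨w, hw⟩ := hs ⟨_, hv⟩
  have h2 : (g : Matrix ι ι F) *ᵥ w.1 = (g : Matrix ι ι F) *ᵥ v := congrArg Subtype.val hw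
  have h3 := congrArg (fun z => ((g⁻¹ : GL ι F) : Matrix ι ι F) *ᵥ z) h2
  simp [Matrix.mulVec_mulVec, ← Units.val_mul] at h3
  exact h3 ▸ w.2

/-- Reflections of the first member stabilise the good vectors. -/
theorem Split.refl_good [Finite F] (S : Split Q W Y) (hY : 7 ≤ Module.finrank F Y)
    (hK : Cfsg.Geo.subspaceStabilizer W ⊓ Cfsg.Geo.omegaGL ⇑Q ≤ K) {a w : ι → F} (ha : a ∈ W) (hQa : Q a ≠ 0)
    (hw : w ∈ S.good K) : w - ((Q a)⁻¹ * polarBilin Q a w) • a ∈ S.good K := by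
  obtain ⟨e, he, he0, hqe⟩ := Orth.exists_singular (Q := Q) Y (by omega)
  obtain ⟨f, hf, hef⟩ := S.symm.nd he he0
  obtain ⟨f', hf', hqf', hef'⟩ := Orth.exists_partner S.nondeg hqe he hf hef
  set b := e + Q a • f' with hb
  have hbY : b ∈ Y := Y.add_mem he (Y.smul_mem _ hf')
  have hQb : Q b = Q a := by
    rw [hb, quad_add, quad_smul, hqe, hqf', map_smul, hef', smul_eq_mul]; ring
  have ha0 : a ≠ 0 := fun h => hQa (by rw [h, map_zero])
  obtain ⟨T, hTQ, hTa⟩ := Cfsg.Agent.Lib.Geometry.witt_quadratic Q S.nondeg (F ∙ a)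
    ((LinearEquiv.toSpanNonzeroSingleton F (ι → F) a ha0).symm.toLinearMap |>.smulRight b)
    (fun x y hxy => (LinearEquiv.toSpanNonzeroSingleton F (ι → F) a ha0).symm.injective
      (smul_left_injective F (show b ≠ 0 from fun h => hQa (by rw [← hQb, h, map_zero])) hxy))
    (fun x => by
      obtain ⟨x, hx⟩ := x
      obtain ⟨c, rfl⟩ := Submodule.mem_span_singleton.mp hx
      rw [show ((LinearEquiv.toSpanNonzeroSingleton F (ι → F) a ha0).symm.toLinearMap.smulRight b) ⟨c • a, hx⟩ = c • b by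
        rw [LinearMap.smulRight_apply, LinearEquiv.coe_coe,
          show (⟨c • a, hx⟩ : F ∙ a) = LinearEquiv.toSpanNonzeroSingleton F (ι → F) a ha0 c from rfl,
          LinearEquiv.symm_apply_apply],
        quad_smul, quad_smul, hQb])
  have hTab : T a = b := by
    have := hTa ⟨a, Submodule.mem_span_singleton_self a⟩
    rw [this, LinearMap.smulRight_apply, LinearEquiv.coe_coe,
      show (⟨a, Submodule.mem_span_singleton_self a⟩ : F ∙ a) = LinearEquiv.toSpanNonzeroSingleton F (ι → F) a ha0 1 from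
        Subtype.ext (one_smul F a).symm, LinearEquiv.symm_apply_apply, one_smul]
  let t : quadIsometries Q := ⟨T, hTQ⟩
  open Cfsg.Agent.Lib.Geometry in
  have hG : ∀ x, (Orth.toGL Q ⁅refl Q a, t⁆ : Matrix ι ι F) *ᵥ x =
      x - ((Q b)⁻¹ * polarBilin Q b x) • b - ((Q a)⁻¹ * polarBilin Q a (x - ((Q b)⁻¹ * polarBilin Q b x) • b)) • a := by
    intro x
    rw [Orth.toGL_mulVec, commutatorElement_def, inv_eq_of_mul_eq_one_right (refl_mul_self Q a),
      mul_assoc (refl Q a), mul_assoc (refl Q a), refl_conj]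
    show (refl Q a : (ι → F) ≃ₗ[F] (ι → F)) ((refl Q (T a) : (ι → F) ≃ₗ[F] (ι → F)) x) = _
    rw [hTab, refl_apply, refl_apply]
  set G := Orth.toGL Q ⁅Cfsg.Agent.Lib.Geometry.refl Q a, t⁆
  have hGO : G ∈ Cfsg.Geo.omegaGL ⇑Q := by
    refine ⟨(isometryEquiv Q).symm ⁅Cfsg.Agent.Lib.Geometry.refl Q a, t⁆, ?_, rfl⟩
    rw [map_commutatorElement]
    exact Subgroup.commutator_mem_commutator (Subgroup.mem_top _) (Subgroup.mem_top _)
  have hGW : ∀ x ∈ W, (G : Matrix ι ι F) *ᵥ x = x - ((Q a)⁻¹ * polarBilin Q a x) • a := by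
    intro x hx
    rw [hG, quad_polar_comm Q b x, S.orth x hx b hbY, mul_zero, zero_smul, sub_zero]
  have hGs : G ∈ Cfsg.Geo.subspaceStabilizer W := mem_stab_of_map fun x hx => by
    rw [hGW x hx]; exact W.sub_mem hx (W.smul_mem _ ha)
  have hGi := Orth.omegaGL_le_isometry hGO
  rw [← hGW w hw.1]
  refine ⟨(hGs w).mp hw.1, fun u hu hqu => ?_⟩
  obtain ⟨u', rfl⟩ : ∃ u', (G : Matrix ι ι F) *ᵥ u' = u :=
    ⟨((G⁻¹ : GL ι F) : Matrix ι ι F) *ᵥ u, by
      rw [Matrix.mulVec_mulVec, ← Units.val_mul, mul_inv_cancel, Units.val_one, Matrix.one_mulVec]⟩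
  have hu' : u' ∈ Y := by
    have h1 := S.map_right (inv_mem hGi) (inv_mem hGs) hu
    rwa [Matrix.mulVec_mulVec, ← Units.val_mul, inv_mul_cancel, Units.val_one, Matrix.one_mulVec] at h1
  exact (hw.2 u' hu' (by rw [← Orth.iso_quad hGi]; exact hqu)).conj (hK ⟨hGs, hGO⟩) hGi

/-- The stabiliser of an orthogonal splitting is maximal. -/
theorem split_maximal [Finite F] (S : Split Q W Y) (hn : 13 ≤ Fintype.card ι) (hW0 : W ≠ ⊥)
    (hWY : Module.finrank F W ≤ Module.finrank F Y)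
    (hsmall : Module.finrank F W = 2 → 4 ≤ Nat.card F ∨ ∀ w ∈ W, Q w = 0 → w = 0)
    (hswap : Module.finrank F W = Module.finrank F Y →
      ∀ g ∈ Cfsg.isometryGroup F ⇑Q, (∀ w ∈ W, (g : Matrix ι ι F) *ᵥ w ∈ Y) → False) :
    Cfsg.Geo.IsMaximalIn (Cfsg.Geo.omegaGL ⇑Q) (Cfsg.Geo.subspaceStabilizer W ⊓ Cfsg.Geo.omegaGL ⇑Q) := by
  have hN := S.nondeg
  have hfd := S.finrank_add
  have hY : 7 ≤ Module.finrank F Y := by omega
  have h7 : 7 ≤ Fintype.card ι := by omega
  have hsub : Big Q (Cfsg.Geo.subspaceStabilizer W ⊓ Cfsg.Geo.omegaGL ⇑Q) W Y := by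
    refine ⟨fun u hu x hx hqu hux => ?_, fun u hu x hx hqu hux => ?_⟩ <;>
      refine ⟨hqu, hux, mem_stab_of_map fun z hz => ?_, Orth.eichGL_mem_omega hN h7 hqu hux⟩
    · rw [Orth.eichGL_mulVec]
      exact W.sub_mem (W.add_mem hz (W.smul_mem _ hx)) (W.smul_mem _ hu)
    · rw [Orth.eichGL_mulVec, S.orth z hz u hu, S.orth z hz x hx]
      simpa using hz
  refine ⟨lt_of_le_of_ne inf_le_right ?_, ?_⟩
  · intro h
    obtain ⟨w, hw, hw0⟩ := (Submodule.ne_bot_iff W).mp hW0
    obtain ⟨z, hz, hwz⟩ := S.nd hw hw0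
    obtain ⟨u, hu, hu0, hqu⟩ := Orth.exists_singular (Q := Q) Y (by omega)
    have huw : polarBilin Q u w = 0 := by rw [quad_polar_comm]; exact S.orth w hw u hu
    have hm : Orth.eichGL Q u w hqu huw ∈ Cfsg.Geo.subspaceStabilizer W ⊓ Cfsg.Geo.omegaGL ⇑Q := by
      rw [h]; exact Orth.eichGL_mem_omega hN h7 hqu huw
    have h1 := (hm.1 z).mp hz
    change (Orth.eichGL Q u w hqu huw : Matrix ι ι F) *ᵥ z ∈ W at h1
    rw [ Orth.eichGL_mulVec, S.orth z hz u hu, zero_smul, add_zero, mul_zero, add_zero,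
      Submodule.sub_mem_iff_right _ hz, Submodule.smul_mem_iff _ (by rw [quad_polar_comm]; exact hwz)] at h1
    exact hu0 (Submodule.disjoint_def.mp S.compl.disjoint u h1 hu)
  intro M hle hMS
  by_cases hN' : M ≤ Cfsg.Geo.subspaceStabilizer W
  · exact Or.inl (le_antisymm (le_inf hN' hMS) hle)
  right
  have hiso : M ≤ Cfsg.isometryGroup F ⇑Q := fun x hx => Orth.omegaGL_le_isometry (hMS hx)
  have B : Big Q M W Y := by
    refine ⟨fun u hu x hx hqu hux => ?_, fun u hu x hx hqu hux => ?_⟩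
    · obtain ⟨a, b, c⟩ := hsub.left u hu x hx hqu hux; exact ⟨a, b, hle c⟩
    · obtain ⟨a, b, c⟩ := hsub.right u hu x hx hqu hux; exact ⟨a, b, hle c⟩
  obtain ⟨g, hgM, hg⟩ := SetLike.not_le_iff_exists.mp hN'
  have hgg : ∀ x, (g : Matrix ι ι F) *ᵥ (((g⁻¹ : GL ι F) : Matrix ι ι F) *ᵥ x) = x := fun x => by
    rw [Matrix.mulVec_mulVec, ← Units.val_mul, mul_inv_cancel, Units.val_one, Matrix.one_mulVec]
  have hgg' : ∀ x, ((g⁻¹ : GL ι F) : Matrix ι ι F) *ᵥ ((g : Matrix ι ι F) *ᵥ x) = x := fun x => by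
    rw [Matrix.mulVec_mulVec, ← Units.val_mul, inv_mul_cancel, Units.val_one, Matrix.one_mulVec]
  -- a root element moving the splitting
  obtain ⟨p, z, hpz, hqp, hm, hmove⟩ : ∃ (p z : ι → F) (hpz : polarBilin Q p z = 0) (hqp : Q p = 0),
      Orth.eichGL Q p z hqp hpz ∈ M ∧ Orth.eichGL Q p z hqp hpz ∉ Cfsg.Geo.subspaceStabilizer W := by
    by_contra hc
    push Not at hc
    let L : Submodule F (ι → F) := W.map (Matrix.toLin' ((g⁻¹ : GL ι F) : Matrix ι ι F))
    have hinjL : Function.Injective (Matrix.toLin' ((g⁻¹ : GL ι F) : Matrix ι ι F)) := fun x y h => by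
      rw [Matrix.toLin'_apply, Matrix.toLin'_apply] at h
      rw [← hgg x, h, hgg]
    have hLd : Module.finrank F L = Module.finrank F W :=
      (Submodule.equivMapOfInjective _ hinjL W).finrank_eq.symm
    have hmemL : ∀ v, v ∈ L ↔ (g : Matrix ι ι F) *ᵥ v ∈ W := by
      intro v
      constructor
      · rintro ⟨w, hw, rfl⟩; rw [Matrix.toLin'_apply, hgg]; exact hw
      · intro hv; exact ⟨_, hv, by rw [Matrix.toLin'_apply, hgg']⟩
    have hinv : ∀ u ∈ Y, ∀ x ∈ Y, (hu : Q u = 0) → (hx : polarBilin Q u x = 0) → ∀ v ∈ L,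
        (Orth.eichGL Q u x hu hx : Matrix ι ι F) *ᵥ v ∈ L := by
      intro u hu x hx hqu hux v hv
      obtain ⟨_, _, hk⟩ := (B.right u hu x hx hqu hux).conj hgM (hiso hgM)
      have h1 := ((hc _ _ _ _ hk) _).mp ((hmemL v).mp hv)
      rw [← Orth.conj_eichGL (hiso hgM) hqu hux] at h1
      change ((g * Orth.eichGL Q u x hqu hux * g⁻¹ : GL ι F) : Matrix ι ι F) *ᵥ _ ∈ W at h1
      rw [ Units.val_mul, Units.val_mul, ← Matrix.mulVec_mulVec,
        hgg', ← Matrix.mulVec_mulVec] at h1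
      exact (hmemL _).mpr h1
    rcases S.invariant hY hWY L hinv with h | h
    · refine hg (mem_stab_of_map fun w hw => ?_)
      have h2 : L = W := Submodule.eq_of_le_of_finrank_eq h hLd
      exact (hmemL w).mp (h2.symm ▸ hw)
    · have h2 := Submodule.finrank_mono h
      have h3 : Y = L := Submodule.eq_of_le_of_finrank_eq h (by omega)
      exact hswap (by omega) g⁻¹ (inv_mem (hiso hgM)) fun w hw => h3.symm ▸ ⟨w, hw, Matrix.toLin'_apply _ _⟩
  set h := Orth.eichGL Q p z hqp hpz with hh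
  have hhi : h ∈ Cfsg.isometryGroup F ⇑Q := hiso hm
  set Y₀ := Y ⊓ LinearMap.ker (polarBilin Q p) ⊓ LinearMap.ker (polarBilin Q z) with hY₀
  have hY₀d : Module.finrank F Y ≤ Module.finrank F Y₀ + 2 := by
    have := finrank_inf_ker (Y ⊓ LinearMap.ker (polarBilin Q p)) (polarBilin Q z)
    have := finrank_inf_ker Y (polarBilin Q p)
    rw [hY₀]; omega
  have hfix : ∀ u ∈ Y₀, (h : Matrix ι ι F) *ᵥ u = u := by
    rintro u ⟨⟨-, hup⟩, huz⟩
    rw [SetLike.mem_coe, LinearMap.mem_ker] at hup huz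
    rw [hh, Orth.eichGL_mulVec, quad_polar_comm Q u p, hup, quad_polar_comm Q u z, huz]
    simp
  -- one mixed element
  obtain ⟨u₀, hu₀, hu₀0, hqu₀, w₀, hw₀, hw₀0, hmix⟩ : ∃ u ∈ Y, u ≠ 0 ∧ Q u = 0 ∧ ∃ w ∈ W, w ≠ 0 ∧ InE Q M u w := by
    obtain ⟨u₁, hu₁, hu₁0, hqu₁⟩ := Orth.exists_singular (Q := Q) Y₀ (by omega)
    obtain ⟨z₁, hz₁, hz₁'⟩ := S.symm.nd hu₁.1.1 hu₁0
    obtain ⟨u₂, hu₂, hu₂0, hqu₂⟩ := Orth.exists_singular (Q := Q) (Y₀ ⊓ LinearMap.ker (polarBilin Q z₁))
      (by have := finrank_inf_ker Y₀ (polarBilin Q z₁); omega)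
    by_contra hc
    push Not at hc
    have key : ∀ u ∈ Y₀, u ≠ 0 → Q u = 0 → ∀ y ∈ Y, polarBilin Q u y = 0 → (h : Matrix ι ι F) *ᵥ y ∈ Y := by
      intro u hu hu0 hqu y hy huy
      have h1 := (B.right u hu.1.1 y hy hqu huy).conj hm hhi
      rw [hfix u hu] at h1
      obtain ⟨a, ha, b, hb, hab⟩ := S.decomp ((h : Matrix ι ι F) *ᵥ y)
      obtain ⟨_, h1', -⟩ := h1
      have hub : polarBilin Q u b = 0 := by
        rw [← hab, map_add, quad_polar_comm Q u a, S.orth a ha u hu.1.1, zero_add] at h1'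
        exact h1'
      have h1 := (B.right u hu.1.1 y hy hqu huy).conj hm hhi
      rw [hfix u hu, ← hab] at h1
      have h2 := h1.sub (B.right u hu.1.1 b hb hqu hub)
      rw [add_sub_cancel_right] at h2
      rw [← hab]
      by_cases ha0 : a = 0
      · rw [ha0, zero_add]; exact hb
      · exact absurd h2 (hc u hu.1.1 hu0 hqu a ha ha0)
    refine hmove (mem_stab_of_map fun w hw => S.symm.mem_of_perp fun y hy => ?_)
    have hYY : ∀ y ∈ Y, (h : Matrix ι ι F) *ᵥ y ∈ Y := by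
      intro y hy
      have hu₁Y : u₁ ∈ Y := hu₁.1.1
      have hu₂Y : u₂ ∈ Y := hu₂.1.1.1
      have hu₂z : polarBilin Q z₁ u₂ = 0 := hu₂.2
      have hnot : u₁ ∉ F ∙ u₂ := fun hm => by
        obtain ⟨c, rfl⟩ := Submodule.mem_span_singleton.mp hm
        rw [map_smul, LinearMap.smul_apply, quad_polar_comm Q u₂ z₁, hu₂z, smul_zero] at hz₁'
        exact hz₁' rfl
      obtain ⟨r, hr2, hr1⟩ := Orth.exists_dual hN (F ∙ u₂) hnot
      obtain ⟨a, ha, b, hb, rfl⟩ := S.decomp r
      have hb1 : polarBilin Q u₁ b = 1 := by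
        rw [map_add, LinearMap.add_apply, S.orth a ha u₁ hu₁Y, zero_add, quad_polar_comm] at hr1; exact hr1
      have hb2 : polarBilin Q u₂ b = 0 := by
        have := hr2 u₂ (Submodule.mem_span_singleton_self u₂)
        rw [map_add, LinearMap.add_apply, S.orth a ha u₂ hu₂Y, zero_add, quad_polar_comm] at this; exact this
      have e1 := key u₁ hu₁ hu₁0 hqu₁ (y - polarBilin Q u₁ y • b) (Y.sub_mem hy (Y.smul_mem _ hb))
        (by rw [map_sub, map_smul, hb1, smul_eq_mul, mul_one, sub_self])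
      have e2 := key u₂ hu₂.1 hu₂0 hqu₂ b hb hb2
      have := Y.add_mem e1 (Y.smul_mem (polarBilin Q u₁ y) e2)
      rwa [← Matrix.mulVec_smul, ← Matrix.mulVec_add, sub_add_cancel] at this
    obtain ⟨y', rfl⟩ : ∃ y', (h : Matrix ι ι F) *ᵥ y' = y :=
      ⟨((h⁻¹ : GL ι F) : Matrix ι ι F) *ᵥ y, by
        rw [Matrix.mulVec_mulVec, ← Units.val_mul, mul_inv_cancel, Units.val_one, Matrix.one_mulVec]⟩
    rw [Orth.iso_polar hhi, quad_polar_comm]
    exact S.orth w hw y' (((mem_stab_of_map hYY) y').mpr hy)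
  set L := S.good M with hL
  have hw₀L : w₀ ∈ L := by
    refine ⟨hw₀, fun u hu hqu => ?_⟩
    rcases eq_or_ne u 0 with rfl | hu0
    · refine ⟨hqu, by rw [map_zero, LinearMap.zero_apply], ?_⟩
      rw [show Orth.eichGL Q 0 w₀ hqu (by rw [map_zero, LinearMap.zero_apply]) = 1 from
        Units.ext (Matrix.ext_of_mulVec_single fun j => by
          rw [Orth.eichGL_mulVec, Units.val_one, Matrix.one_mulVec]; simp)]
      exact M.one_mem
    · obtain ⟨t, htM, hti, htu, htW⟩ := S.exists_move hY hWY B hu₀ hqu₀ hu₀0 hu hqu hu0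
      have := hmix.conj htM hti
      rwa [htu, htW w₀ hw₀] at this
  have hLW : ∀ x ∈ W, x ∈ L := by
    by_contra hc
    push Not at hc
    obtain ⟨x, hxW, hxL⟩ := hc
    -- every non-singular vector outside is orthogonal
    have hperp : ∀ a ∈ W, Q a ≠ 0 → a ∉ L → ∀ l ∈ L, polarBilin Q a l = 0 := by
      intro a ha hQa haL l hl
      by_contra hne
      have h1 := L.sub_mem hl (S.refl_good hY hle ha hQa hl)
      rw [sub_sub_cancel, Submodule.smul_mem_iff _ (mul_ne_zero (inv_ne_zero hQa) hne)] at h1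
      exact haL h1
    have mk : ∀ l ∈ L, l ≠ 0 → ∃ z ∈ W, z ∉ L ∧ polarBilin Q z l ≠ 0 := by
      intro l hl hl0
      obtain ⟨z, hz, hlz⟩ := S.nd hl.1 hl0
      rw [quad_polar_comm] at hlz
      by_cases hzL : z ∈ L
      · by_cases hxl : polarBilin Q x l = 0
        · exact ⟨x + z, W.add_mem hxW hz, fun h => hxL ((Submodule.add_mem_iff_left _ hzL).mp h), by
            rw [map_add, LinearMap.add_apply, hxl, zero_add]; exact hlz⟩
        · exact ⟨x, hxW, hxL, hxl⟩
      · exact ⟨z, hz, hzL, hlz⟩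
    have hsing : ∀ l ∈ L, l ≠ 0 → Q l ≠ 0 := by
      intro l hl hl0 hql
      obtain ⟨z, hz, hzL, hzl⟩ := mk l hl hl0
      obtain ⟨t, ht⟩ : ∃ t : F, Q (z + t • l) ≠ 0 := by
        by_cases hQz : Q z = 0
        · exact ⟨1, by rw [one_smul, quad_add, hQz, hql, zero_add, zero_add]; exact hzl⟩
        · exact ⟨0, by rw [zero_smul, add_zero]; exact hQz⟩
      refine hzl ?_
      have := hperp _ (W.add_mem hz (W.smul_mem t hl.1)) ht
        (fun h => hzL ((Submodule.add_mem_iff_left _ (L.smul_mem t hl)).mp h)) l hl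
      rwa [map_add, map_smul, LinearMap.add_apply, LinearMap.smul_apply, Orth.polar_self_of_sing Q hql, smul_zero,
        add_zero] at this
    obtain ⟨z, hz, hzL, hzw⟩ := mk w₀ hw₀L hw₀0
    have hdim2 : 2 ≤ Module.finrank F W := by
      by_contra hlt
      have h1 : F ∙ w₀ = W := Submodule.eq_of_le_of_finrank_le ((Submodule.span_singleton_le_iff_mem _ _).mpr hw₀)
        (by rw [finrank_span_singleton hw₀0]; omega)
      exact hxL ((Submodule.span_singleton_le_iff_mem _ _).mpr hw₀L (h1.symm ▸ hxW))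
    by_cases hk2 : Module.finrank F W = 2
    · rcases hsmall hk2 with hq | hq
      · haveI : Fintype F := Fintype.ofFinite F
        classical
        set B₀ := polarBilin Q z w₀ with hB₀
        have hQw := hsing w₀ hw₀L hw₀0
        obtain ⟨t, ht1, ht2⟩ : ∃ t : F, Q (z + t • w₀) ≠ 0 ∧ B₀ + t * (2 * Q w₀) ≠ 0 := by
          by_contra hno
          push Not at hno
          let P : Polynomial F := Polynomial.C (Q w₀) * Polynomial.X ^ 2 + Polynomial.C B₀ * Polynomial.X + Polynomial.C (Q z)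
          let R : Polynomial F := Polynomial.C B₀ + Polynomial.X * Polynomial.C (2 * Q w₀)
          have hsub : (Finset.univ : Finset F) ⊆ (P * R).roots.toFinset := by
            intro t _
            have hP0 : P * R ≠ 0 := by
              refine mul_ne_zero (fun h => hQw ?_) (fun h => hzw ?_)
              · have := congrArg (fun p => Polynomial.coeff p 2) h
                simpa [P, Polynomial.coeff_C, Polynomial.coeff_X] using this
              · have := congrArg (fun p => Polynomial.coeff p 0) h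
                simpa [R] using this
            rw [Multiset.mem_toFinset, Polynomial.mem_roots hP0, Polynomial.IsRoot, Polynomial.eval_mul]
            by_cases hPt : Q (z + t • w₀) = 0
            · refine mul_eq_zero_of_left ?_ _
              rw [quad_add, quad_smul, map_smul, smul_eq_mul] at hPt
              simp only [P, Polynomial.eval_add, Polynomial.eval_mul, Polynomial.eval_C, Polynomial.eval_pow, Polynomial.eval_X]
              linear_combination hPt
            · refine mul_eq_zero_of_right _ ?_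
              simp only [R, Polynomial.eval_add, Polynomial.eval_mul, Polynomial.eval_C, Polynomial.eval_X]
              exact hno t hPt
          have hcard := (Finset.card_le_card hsub).trans ((Multiset.toFinset_card_le _).trans (Polynomial.card_roots' _))
          have hdP : P.natDegree ≤ 2 := by simp only [P]; compute_degree
          have hdR : R.natDegree ≤ 1 := by simp only [R]; compute_degree
          have := Polynomial.natDegree_mul_le (p := P) (q := R)
          rw [Finset.card_univ, ← Nat.card_eq_fintype_card] at hcard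
          omega
        refine ht2 ?_
        have := hperp _ (W.add_mem hz (W.smul_mem t hw₀)) ht1
          (fun h => hzL ((Submodule.add_mem_iff_left _ (L.smul_mem t hw₀L)).mp h)) w₀ hw₀L
        rwa [map_add, map_smul, LinearMap.add_apply, LinearMap.smul_apply, quad_polar_self, smul_eq_mul] at this
      · refine hzw (hperp z hz (fun h => hzL ?_) hzL w₀ hw₀L)
        rw [hq z hz h]; exact L.zero_mem
    -- at least three dimensions: the roots of `W`
    have hk3 : 3 ≤ Module.finrank F W := by omega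
    have hLinv : ∀ p ∈ W, ∀ y ∈ W, (hp : Q p = 0) → (hy : polarBilin Q p y = 0) → ∀ l ∈ L,
        (Orth.eichGL Q p y hp hy : Matrix ι ι F) *ᵥ l ∈ L := by
      intro p hp y hy hqp hpy l hl
      obtain ⟨_, _, hk⟩ := B.left p hp y hy hqp hpy
      refine ⟨?_, fun u hu hqu => ?_⟩
      · rw [Orth.eichGL_mulVec]
        exact W.sub_mem (W.add_mem hl.1 (W.smul_mem _ hy)) (W.smul_mem _ hp)
      · have h1 := (hl.2 u hu hqu).conj hk (Orth.toGL_mem_isometry Q _)
        rwa [show (Orth.eichGL Q p y hqp hpy : Matrix ι ι F) *ᵥ u = u by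
          rw [Orth.eichGL_mulVec, quad_polar_comm Q u p, S.orth p hp u hu, quad_polar_comm Q u y, S.orth y hy u hu]
          simp] at h1
    obtain ⟨e, he, he0, hqe⟩ := Orth.exists_singular (Q := Q) W hk3
    obtain ⟨f, hf, hef⟩ := S.nd he he0
    obtain ⟨f', hf', hqf', hef'⟩ := Orth.exists_partner hN hqe he hf hef
    -- a singular vector of `W` paired with `w₀`
    obtain ⟨p₀, hp₀, hqp₀, hwp₀⟩ : ∃ p ∈ W, Q p = 0 ∧ polarBilin Q w₀ p ≠ 0 := by
      by_contra hcp
      push Not at hcp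
      obtain ⟨q₁, hq₁, hwq₁⟩ := S.nd hw₀ hw₀0
      set r := q₁ - polarBilin Q f' q₁ • e - polarBilin Q e q₁ • f' with hr
      have hre : polarBilin Q e r = 0 := by
        rw [hr, map_sub, map_sub, map_smul, map_smul, Orth.polar_self_of_sing Q hqe, hef', smul_zero, sub_zero,
          smul_eq_mul, mul_one, sub_self]
      have hrf : polarBilin Q f' r = 0 := by
        rw [hr, map_sub, map_sub, map_smul, map_smul, Orth.polar_self_of_sing Q hqf', quad_polar_comm Q f' e, hef',
          smul_zero, sub_zero, smul_eq_mul, mul_one, sub_self]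
      have hrW : r ∈ W := W.sub_mem (W.sub_mem hq₁ (W.smul_mem _ he)) (W.smul_mem _ hf')
      have h1 := hcp (r + e - Q r • f') (W.sub_mem (W.add_mem hrW he) (W.smul_mem _ hf')) (by
        rw [quad_sub, quad_add, quad_smul, hqe, hqf', map_smul, map_add, LinearMap.add_apply, quad_polar_comm Q r e, hre,
          quad_polar_comm Q r f', hrf, hef']
        simp)
      rw [map_sub, map_add, map_smul, hcp e he hqe, hcp f' hf' hqf', smul_zero, sub_zero, add_zero, hr, map_sub, map_sub,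
        map_smul, map_smul, hcp e he hqe, hcp f' hf' hqf', smul_zero, smul_zero, sub_zero, sub_zero] at h1
      exact hwq₁ h1
    set p' := (polarBilin Q w₀ p₀)⁻¹ • p₀ with hp'
    have hqp' : Q p' = 0 := by rw [hp', quad_smul, hqp₀, mul_zero]
    have hp'W : p' ∈ W := W.smul_mem _ hp₀
    have hwp' : polarBilin Q w₀ p' = 1 := by rw [hp', map_smul, smul_eq_mul, inv_mul_cancel₀ hwp₀]
    have h1 := absorb S.symm L hp'W hqp' hw₀L hwp' (fun y hy hpy => hLinv p' hp'W y hy hqp' hpy _ hw₀L)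
      (S.symm.exists_pair hk3 (by omega))
    exact hsing p' (h1 p' hp'W (Orth.polar_self_of_sing Q hqp'))
      (fun h => by rw [h, map_zero] at hwp'; exact zero_ne_one hwp') hqp'
  -- all roots on the second member
  have hroot : ∀ u ∈ Y, Q u = 0 → Orth.Root Q M u := by
    intro u hu hqu
    refine ⟨hqu, fun x hx => ?_⟩
    obtain ⟨a, ha, b, hb, rfl⟩ := S.decomp x
    have hub : polarBilin Q u b = 0 := by
      rwa [map_add, quad_polar_comm Q u a, S.orth a ha u hu, zero_add] at hx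
    have h0 : InE Q M u 0 := by simpa using (B.right u hu b hb hqu hub).sub (B.right u hu b hb hqu hub)
    obtain ⟨_, _, hk⟩ := ((hLW a ha).2 u hu hqu).sub (h0.sub (B.right u hu b hb hqu hub))
    simpa using hk
  obtain ⟨e, he, he0, hqe⟩ := Orth.exists_singular (Q := Q) Y (by omega)
  obtain ⟨f, hf, hef⟩ := S.symm.nd he he0
  obtain ⟨f', hf', hqf', hef'⟩ := Orth.exists_partner hN hqe he hf hef
  exact le_antisymm hMS (Orth.omega_le hN h7
    ((hroot e he hqe).all hN (hroot f' hf' hqf') (by rw [hef']; exact one_ne_zero)))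

end Cfsg.Agent.Lib.MaxSub.OrthSplit
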