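import Cfsg.Agent.Lib.MaxSub.OrthSplit

/-!
Maximality of the stabilisers of non-degenerate subspaces in `omegaGL`.
-/

set_option autoImplicit false

namespace Cfsg.Agent.Lib.MaxSub.OrthSplit

open Matrix QuadraticMap
open Cfsg.Agent.Lib.Geometry (quad_add quad_sub quad_smul quad_polar_self quad_polar_comm)
open scoped MatrixGroups Matrix

attribute [-simp] QuadraticMap.polarBilin_apply_apply

set_option maxHeartbeats 800000

variable {ι : Type} [Fintype ι] [DecidableEq ι] {F : Type*} [Field F]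
variable {Q : QuadraticForm F (ι → F)} {W Y : Submodule F (ι → F)}

/-- A non-degenerate subspace and its orthogonal complement split the space. -/
theorem exists_split (hN : (polarBilin Q).Nondegenerate) (hW : Cfsg.Geo.IsNondegenerateOn (polar ⇑Q) W) :
    ∃ Y : Submodule F (ι → F), Split Q W Y := by
  refine ⟨LinearMap.BilinForm.orthogonal (polarBilin Q) W, hN, fun w hw y hy => hy w hw, ?_⟩
  have hd : W ⊓ LinearMap.BilinForm.orthogonal (polarBilin Q) W = ⊥ := by
    rw [Submodule.eq_bot_iff]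
    rintro x ⟨hxW, hx⟩
    by_contra hx0
    obtain ⟨y, hy, hne⟩ := (hW x hxW hx0).1
    exact hne (hx y hy)
  refine Submodule.isCompl_iff_disjoint _ _ ?_ |>.mpr (disjoint_iff.mpr hd)
  rw [LinearMap.BilinForm.finrank_orthogonal hN]
  have := Submodule.finrank_le W
  omega

/-- Inside the isometries the stabilisers of the two members coincide. -/
theorem Split.stab_eq (S : Split Q W Y) :
    Cfsg.Geo.subspaceStabilizer W ⊓ Cfsg.Geo.omegaGL ⇑Q = Cfsg.Geo.subspaceStabilizer Y ⊓ Cfsg.Geo.omegaGL ⇑Q := by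
  ext g
  constructor
  · rintro ⟨h, ho⟩
    exact ⟨mem_stab_of_map fun y hy => S.map_right (Orth.omegaGL_le_isometry ho) h hy, ho⟩
  · rintro ⟨h, ho⟩
    exact ⟨mem_stab_of_map fun w hw => S.symm.map_right (Orth.omegaGL_le_isometry ho) h hw, ho⟩

/-- A plane with a non-zero singular vector is of plus type. -/
theorem isPlusTypeOn_of_singular (h : Module.finrank F W = 2) {w : ι → F} (hw : w ∈ W) (hq : Q w = 0) (hw0 : w ≠ 0) :
    Cfsg.Geo.IsPlusTypeOn ⇑Q W := by
  refine ⟨F ∙ w, (Submodule.span_singleton_le_iff_mem _ _).mpr hw, ?_, by rw [finrank_span_singleton hw0, h]⟩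
  intro x hx
  obtain ⟨c, rfl⟩ := Submodule.mem_span_singleton.mp hx
  rw [quad_smul, hq, mul_zero]

/-- The stabiliser of a non-degenerate subspace is maximal. -/
theorem maximal_of_nondegenerate [Finite F] (hn : 13 ≤ Fintype.card ι) (S : Split Q W Y) (hW0 : W ≠ ⊥) (hW1 : W ≠ ⊤)
    (hsW : Module.finrank F W = 2 → 4 ≤ Nat.card F ∨ ∀ w ∈ W, Q w = 0 → w = 0)
    (hsY : Module.finrank F Y = 2 → 4 ≤ Nat.card F ∨ ∀ y ∈ Y, Q y = 0 → y = 0)
    (hswap : Module.finrank F W = Module.finrank F Y →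
      ∀ g ∈ Cfsg.isometryGroup F ⇑Q, (∀ w ∈ W, (g : Matrix ι ι F) *ᵥ w ∈ Y) → False) :
    Cfsg.Geo.IsMaximalIn (Cfsg.Geo.omegaGL ⇑Q) (Cfsg.Geo.subspaceStabilizer W ⊓ Cfsg.Geo.omegaGL ⇑Q) := by
  rcases le_or_gt (Module.finrank F W) (Module.finrank F Y) with h | h
  · exact split_maximal S hn hW0 h hsW hswap
  · rw [S.stab_eq]
    refine split_maximal S.symm hn ?_ h.le hsY (fun he => absurd he h.ne)
    rintro rfl
    exact hW1 (eq_top_of_isCompl_bot S.compl)

/-- In odd characteristic, and trivially in even, an even-dimensional form is similar to its negative. -/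
theorem exists_anti [Finite F] : ∀ W : Submodule F (ι → F), (∀ w ∈ W, w ≠ 0 → ∃ z ∈ W, polarBilin Q w z ≠ 0) →
    Even (Module.finrank F W) → ∃ T : (ι → F) →ₗ[F] (ι → F), ∀ w ∈ W, T w ∈ W ∧ Q (T w) = - Q w := by
  by_cases h2 : (2 : F) = 0
  · intro W _ _
    refine ⟨LinearMap.id, fun w hw => ⟨hw, ?_⟩⟩
    have : (-1 : F) = 1 := by linear_combination (-1 : F) * h2
    rw [LinearMap.id_apply, ← neg_one_mul, this, one_mul]
  haveI := Fintype.ofFinite F
  have hodd : Fintype.card F % 2 = 1 := FiniteField.odd_card_of_char_ne_two (fun h => h2 (by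
    have : CharP F 2 := by rw [← h]; exact ringChar.charP F
    exact CharTwo.two_eq_zero))
  intro W
  induction hk : Module.finrank F W using Nat.strong_induction_on generalizing W with
  | _ k ih =>
  intro hnd hev
  by_cases hW : W = ⊥
  · exact ⟨0, fun w hw => by
      rw [hW, Submodule.mem_bot] at hw
      subst hw
      simp⟩
  -- an anisotropic vector and the complement inside
  have step : ∀ U : Submodule F (ι → F), (∀ w ∈ U, w ≠ 0 → ∃ z ∈ U, polarBilin Q w z ≠ 0) → U ≠ ⊥ →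
      ∃ e ∈ U, Q e ≠ 0 ∧ (∀ w ∈ U ⊓ LinearMap.ker (polarBilin Q e), w ≠ 0 →
        ∃ z ∈ U ⊓ LinearMap.ker (polarBilin Q e), polarBilin Q w z ≠ 0) ∧
        Module.finrank F (U ⊓ LinearMap.ker (polarBilin Q e) : Submodule F (ι → F)) + 1 = Module.finrank F U := by
    intro U hU hU0
    obtain ⟨a, ha, ha0⟩ := (Submodule.ne_bot_iff U).mp hU0
    obtain ⟨b, hb, hab⟩ := hU a ha ha0
    obtain ⟨e, he, hQe⟩ : ∃ e ∈ U, Q e ≠ 0 := by
      by_contra hc
      push Not at hc
      have := quad_add (Q := Q) a b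
      rw [hc a ha, hc b hb, hc _ (U.add_mem ha hb), zero_add, zero_add] at this
      exact hab this.symm
    have hee : polarBilin Q e e ≠ 0 := by rw [quad_polar_self]; exact mul_ne_zero h2 hQe
    refine ⟨e, he, hQe, fun w hw hw0 => ?_, ?_⟩
    · obtain ⟨z, hz, hwz⟩ := hU w hw.1 hw0
      have hew : polarBilin Q w e = 0 := by rw [quad_polar_comm]; exact hw.2
      refine ⟨z - (polarBilin Q e z / polarBilin Q e e) • e, ⟨U.sub_mem hz (U.smul_mem _ he), ?_⟩, ?_⟩
      · show polarBilin Q e _ = 0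
        rw [map_sub, map_smul, smul_eq_mul, div_mul_cancel₀ _ hee, sub_self]
      · rwa [map_sub, map_smul, hew, smul_zero, sub_zero]
    · have h1 := finrank_inf_ker U (polarBilin Q e)
      have h3 : U ⊓ LinearMap.ker (polarBilin Q e) < U := lt_of_le_of_ne inf_le_left fun h => hee (by
        have := h.symm ▸ he
        exact this.2)
      have := Submodule.finrank_lt_finrank_of_lt h3
      omega
  obtain ⟨e₁, he₁, hq₁, hnd₁, hd₁⟩ := step W hnd hW
  have hW₁ : W ⊓ LinearMap.ker (polarBilin Q e₁) ≠ ⊥ := fun h => by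
    rw [h, finrank_bot] at hd₁
    obtain ⟨r, hr⟩ := hev
    omega
  obtain ⟨e₂, he₂, hq₂, hnd₂, hd₂⟩ := step _ hnd₁ hW₁
  have h12 : polarBilin Q e₁ e₂ = 0 := he₂.2
  obtain ⟨T, hT⟩ := ih _ (by omega) _ rfl hnd₂ (by
    obtain ⟨r, hr⟩ := hev
    exact ⟨r - 1, by omega⟩)
  obtain ⟨a, b, hab⟩ := FiniteField.exists_root_sum_quadratic
    (f := Polynomial.X ^ 2 + Polynomial.C 1) (g := Polynomial.C (Q e₁ * Q e₂) * Polynomial.X ^ 2)
    (Polynomial.degree_X_pow_add_C (by omega) _) (Polynomial.degree_C_mul_X_pow 2 (mul_ne_zero hq₁ hq₂)) hodd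
  simp only [Polynomial.eval_add, Polynomial.eval_mul, Polynomial.eval_C, Polynomial.eval_pow,
    Polynomial.eval_X] at hab
  let φ : (ι → F) → ((ι → F) →ₗ[F] F) := fun e => (2 * Q e)⁻¹ • polarBilin Q e
  let R : (ι → F) →ₗ[F] (ι → F) := LinearMap.id - (φ e₁).smulRight e₁ - (φ e₂).smulRight e₂
  let J₁ : ι → F := a • e₁ + (b * Q e₁) • e₂
  let J₂ : ι → F := (-(b * Q e₂)) • e₁ + a • e₂
  refine ⟨(φ e₁).smulRight J₁ + (φ e₂).smulRight J₂ + T ∘ₗ R, fun w hw => ?_⟩
  have hR : R w ∈ W ⊓ LinearMap.ker (polarBilin Q e₁) ⊓ LinearMap.ker (polarBilin Q e₂) := by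
    refine ⟨⟨W.sub_mem (W.sub_mem hw (W.smul_mem _ he₁)) (W.smul_mem _ he₂.1), ?_⟩, ?_⟩
    · show polarBilin Q e₁ (R w) = 0
      simp only [R, φ, LinearMap.sub_apply, LinearMap.id_apply, LinearMap.smulRight_apply, LinearMap.smul_apply,
        map_sub, map_smul, smul_eq_mul, h12, mul_zero, sub_zero, quad_polar_self]
      field_simp
      ring
    · show polarBilin Q e₂ (R w) = 0
      simp only [R, φ, LinearMap.sub_apply, LinearMap.id_apply, LinearMap.smulRight_apply, LinearMap.smul_apply,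
        map_sub, map_smul, smul_eq_mul, quad_polar_comm Q e₂ e₁, h12, mul_zero, sub_zero, quad_polar_self]
      field_simp
      ring
  obtain ⟨hTm, hTq⟩ := hT _ hR
  set c₁ := φ e₁ w with hc₁
  set c₂ := φ e₂ w with hc₂
  set r := R w with hr
  have hw' : w = c₁ • e₁ + c₂ • e₂ + r := by
    simp only [hr, hc₁, hc₂, R, LinearMap.sub_apply, LinearMap.id_apply, LinearMap.smulRight_apply]
    abel
  have hgen : ∀ (x y : F) (z : ι → F), z ∈ W ⊓ LinearMap.ker (polarBilin Q e₁) ⊓ LinearMap.ker (polarBilin Q e₂) →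
      Q (x • e₁ + y • e₂ + z) = x * x * Q e₁ + y * y * Q e₂ + Q z := by
    intro x y z hz
    rw [quad_add, quad_add, quad_smul, quad_smul, map_smul, map_add (polarBilin Q), LinearMap.add_apply, map_smul,
      map_smul, LinearMap.smul_apply, LinearMap.smul_apply, LinearMap.smul_apply, h12,
      show polarBilin Q e₁ z = 0 from hz.1.2, show polarBilin Q e₂ z = 0 from hz.2]
    simp
  have hTw : ((φ e₁).smulRight J₁ + (φ e₂).smulRight J₂ + T ∘ₗ R) w =
      (c₁ * a - c₂ * (b * Q e₂)) • e₁ + (c₁ * (b * Q e₁) + c₂ * a) • e₂ + T r := by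
    simp only [LinearMap.add_apply, LinearMap.smulRight_apply, LinearMap.comp_apply, J₁, J₂]
    module
  rw [hTw]
  refine ⟨W.add_mem (W.add_mem (W.smul_mem _ he₁) (W.smul_mem _ he₂.1)) hTm.1.1, ?_⟩
  rw [hgen _ _ _ hTm, hTq, hw', hgen _ _ _ hR]
  linear_combination (c₁ * c₁ * Q e₁ + c₂ * c₂ * Q e₂) * hab

/-- Two isometric even-dimensional orthogonal members make a space of plus type. -/
theorem Split.plus_of_swap [Finite F] (S : Split Q W Y) (hev : Even (Module.finrank F W))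
    (hd : Module.finrank F W = Module.finrank F Y) {g : GL ι F} (hg : g ∈ Cfsg.isometryGroup F ⇑Q)
    (hgW : ∀ w ∈ W, (g : Matrix ι ι F) *ᵥ w ∈ Y) : Cfsg.Geo.IsPlusTypeOn ⇑Q ⊤ := by
  obtain ⟨T, hT⟩ := exists_anti (Q := Q) W (fun w hw hw0 => S.nd hw hw0) hev
  let L : (ι → F) →ₗ[F] (ι → F) := LinearMap.id + (Matrix.toLin' (g : Matrix ι ι F)) ∘ₗ T
  have hL : ∀ w ∈ W, L w = w + (g : Matrix ι ι F) *ᵥ (T w) := fun w _ => by
    simp [L]
  refine ⟨W.map L, le_top, ?_, ?_⟩
  · rintro _ ⟨w, hw, rfl⟩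
    rw [hL w hw, quad_add, Orth.iso_quad hg, (hT w hw).2, add_neg_cancel, zero_add]
    exact S.orth w hw _ (hgW _ (hT w hw).1)
  · have hinj : Function.Injective (L.domRestrict W) := by
      rw [injective_iff_map_eq_zero]
      rintro ⟨w, hw⟩ h
      rw [LinearMap.domRestrict_apply, hL w hw] at h
      have hwY : w ∈ Y := by
        rw [eq_neg_of_add_eq_zero_left h]
        exact Y.neg_mem (hgW _ (hT w hw).1)
      exact Subtype.ext (Submodule.disjoint_def.mp S.compl.disjoint w hw hwY)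
    have h1 := LinearMap.finrank_range_of_inj hinj
    rw [LinearMap.range_domRestrict] at h1
    rw [finrank_top, h1, Module.finrank_fintype_fun_eq_card, ← S.finrank_add, ← hd]
    omega

end Cfsg.Agent.Lib.MaxSub.OrthSplit
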