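import Cfsg.Agent.Lib.MaxSub.OrthTSTwo
import Cfsg.Agent.Lib.MaxSub.OrthNdSub
import Mathlib

/-!
Elements of prime order modulo scalars without invariant totally singular subspace, even dimension.
-/

set_option autoImplicit false
set_option maxHeartbeats 1000000
set_option linter.unusedSectionVars false

namespace Cfsg.Agent.Lib.MaxSub.OrthTSAnyMain

open Module Polynomial Cfsg.Agent.Lib.MaxSub Cfsg.Agent.Lib.Geometry
open Cfsg.Agent.Lib.MaxSub.QuadType (Nd TS Plus perp)
open Cfsg.Agent.Lib.MaxSub.OrthTSAny (Good Cond)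
open Cfsg.Agent.Lib.MaxSub.OrthTSTwo (CondTwo)
open QuadraticMap (polarBilin)
open scoped _root_.Classical

attribute [-simp] QuadraticMap.polarBilin_apply_apply

variable {ι : Type} [Fintype ι] [DecidableEq ι] {F : Type*} [Field F] [Fintype F] (Q : QuadraticForm F (ι → F))

/-- The elements of prime order modulo scalars all fix a totally singular subspace. -/
theorem main {p : ℕ} [Fact p.Prime] [CharP F p] {r : ℕ} [hr : Fact r.Prime] (hQ : (polarBilin Q).Nondegenerate)
    {d m i : ℕ} (hn : Fintype.card ι = 2 * d) (hd : 4 ≤ d) (hm : 1 ≤ m) (hmd : m < d)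
    (hi : orderOf ((Fintype.card F : ℕ) : ZMod r) = i)
    (hΩ : r ∣ Nat.card {W : Submodule F (ι → F) // finrank F W = m ∧ TS Q W}) :
    (∀ x : GL ι F, x ∈ Cfsg.Geo.omegaGL (⇑Q) →
      (∃ z : F, ((x ^ r : GL ι F) : Matrix ι ι F) = z • (1 : Matrix ι ι F)) →
      (∀ z : F, (x : Matrix ι ι F) ≠ z • (1 : Matrix ι ι F)) →
      ∃ W : Submodule F (ι → F), finrank F W = m ∧ TS Q W ∧ W.map (Matrix.toLin' (x : Matrix ι ι F)) ≤ W) ↔
    ((r = 2 ∧ p ≠ 2 ∧ CondTwo (Fintype.card F) d m (Plus Q ⊤)) ∨ (r ≠ p ∧ 2 < r ∧ Cond r i d m (Plus Q ⊤))) := by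
  have hrp : r ≠ p := OrthTSAny.ne_char Q hQ hn hmd hΩ
  have hn2 : 2 ≤ Fintype.card ι := by omega
  obtain ⟨v₀, hv₀⟩ := exists_quad_ne_zero_of_nondeg Q hQ (by rw [Module.finrank_fintype_fun_eq_card]; omega)
  have hlin : ∀ (x : GL ι F), x ∈ Cfsg.Geo.omegaGL (⇑Q) → (∀ v, Q (Matrix.toLin' (x : Matrix ι ι F) v) = Q v) := by
    rintro x ⟨g, -, rfl⟩ v
    rw [Matrix.toLin'_apply]; exact mem_isometryGroup_iff.1 g.2 v
  have hpow : ∀ (x : GL ι F) (z : F), ((x ^ r : GL ι F) : Matrix ι ι F) = z • (1 : Matrix ι ι F) →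
      (Matrix.toLin' (x : Matrix ι ι F)) ^ r = z • (1 : End F (ι → F)) := fun x z h => by
    have h' := congrArg Matrix.toLinAlgEquiv' h
    rw [Units.val_pow_eq_pow_val, map_pow, map_smul, map_one] at h'
    exact h'
  have hzz : ∀ (X : End F (ι → F)) (z : F), (∀ v, Q (X v) = Q v) → X ^ r = z • (1 : End F (ι → F)) → z * z = 1 := by
    intro X z hiso h
    have e : Q ((X ^ r) v₀) = Q v₀ := by
      have : ∀ k : ℕ, Q ((X ^ k) v₀) = Q v₀ := fun k => by
        induction k with
        | zero => rfl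
        | succ k ih => rw [pow_succ', End.mul_apply, hiso, ih]
      exact this r
    rw [h, LinearMap.smul_apply, End.one_apply, quad_smul] at e
    exact mul_right_cancel₀ hv₀ (e.trans (one_mul _).symm)
  rcases eq_or_ne r 2 with hr2 | hr2
  · subst hr2
    have h2 : (2 : F) ≠ 0 := Ring.two_ne_zero (ringChar.eq F p ▸ fun e => hrp e.symm)
    simp only [lt_irrefl, false_and, and_false, or_false, true_and, ne_eq, (Ne.symm hrp : p ≠ 2), not_false_iff]
    constructor
    · intro h
      by_contra hC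
      obtain ⟨g, z, hgd, hgs, hgg, hns, hgW⟩ := OrthTSTwo.bad_two Q hQ h2 hn hd hm hmd hC
      have happ : ∀ v, Matrix.toLin' (((isometryEquiv Q).symm g).1 : Matrix ι ι F) v = (g : (ι → F) ≃ₗ[F] (ι → F)) v := fun v => by
        rw [Matrix.toLin'_apply, ← isometryEquiv_apply, MulEquiv.apply_symm_apply]
      have hx : ((isometryEquiv Q).symm g).1 ∈ Cfsg.Geo.omegaGL (⇑Q) :=
        ⟨_, (mem_Omega_iff Q hQ h2 hn2 _).2
          ⟨by rw [MulEquiv.apply_symm_apply]; exact hgd, by rw [MulEquiv.apply_symm_apply]; exact hgs⟩, rfl⟩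
      obtain ⟨W, hWd, hW, hWi⟩ := h _ hx ⟨z, Matrix.toLin'.injective (LinearMap.ext fun v => by
          rw [Units.val_pow_eq_pow_val, pow_two, Matrix.toLin'_mul, LinearMap.comp_apply, happ, happ, hgg, map_smul,
            Matrix.toLin'_one, LinearMap.smul_apply, LinearMap.id_apply])⟩
        fun c hc => by
          obtain ⟨v, hv⟩ := hns c
          exact hv (by rw [← happ, hc, map_smul, Matrix.toLin'_one, LinearMap.smul_apply, LinearMap.id_apply])
      refine hgW ⟨W, hWd, hW, fun v hv => ?_⟩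
      rw [← happ]; exact hWi (Submodule.mem_map_of_mem hv)
    · intro hC x hx hz _
      obtain ⟨z, hz⟩ := hz
      have hiso := hlin x hx
      have hX := hpow x z hz
      obtain ⟨g, hg, rfl⟩ := hx
      obtain ⟨hd1, hs1⟩ := (mem_Omega_iff Q hQ h2 hn2 g).1 hg
      have hXg : ∀ v, ((isometryEquiv Q g : quadIsometries Q) : (ι → F) ≃ₗ[F] (ι → F)) v =
          Matrix.toLin' (((Cfsg.isometryGroup F ⇑Q).subtype g : GL ι F) : Matrix ι ι F) v := fun v => by
        rw [isometryEquiv_apply, Matrix.toLin'_apply]; rfl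
      set X := Matrix.toLin' (((Cfsg.isometryGroup F ⇑Q).subtype g : GL ι F) : Matrix ι ι F)
      have hXX : ∀ v, X (X v) = z • v := fun v => by
        rw [← End.mul_apply, ← pow_two, hX]; rfl
      rcases mul_self_eq_one_iff.1 (hzz X z hiso hX) with rfl | rfl
      · exact OrthTSTwo.good_inv Q hQ h2 hn hmd hC _ hd1 hs1 hXg (fun v => by rw [hXX, one_smul])
      · exact OrthTSTwo.good_turn Q hQ h2 hn hmd hC _ hs1 hXg (fun v => by rw [hXX, neg_one_smul])
  · have hr3 : 2 < r := lt_of_le_of_ne (Fact.out : r.Prime).two_le (Ne.symm hr2)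
    simp only [hr2, false_and, false_or, ne_eq, hrp, not_false_iff, hr3, true_and]
    constructor
    · intro h
      refine OrthTSAny.cond_of_all Q hQ hn hrp hr2 hi hmd hΩ fun X hX hiso => ?_
      by_cases hX1 : X = 1
      · obtain ⟨W, -, hW, hWd⟩ := OrthTSAny.exists_ts Q hQ (QuadType.nd_top Q hQ)
          (by rw [finrank_top, Module.finrank_fintype_fun_eq_card, hn]; exact even_two_mul d) (e := m)
          (Or.inl (by rw [finrank_top, Module.finrank_fintype_fun_eq_card, hn]; omega))
        exact ⟨W, hWd, hW, by rw [hX1]; exact (Submodule.map_id W).le⟩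
      · obtain ⟨x, hxi, hxr, hxX⟩ := OrthNdSub.exists_matrix Q hX hiso
        obtain ⟨W, h1, h3, h4⟩ := h x (OrthAny.mem_omega Q hQ hr2 (by omega) hn hxi hxr)
          ⟨1, by rw [hxr, Units.val_one, one_smul]⟩ fun z hz => by
            have hXz : X = z • (1 : End F (ι → F)) := by
              rw [← hxX, hz, map_smul, Matrix.toLin'_one]; rfl
            have hzr : z ^ r = 1 := by
              have e := congrArg (fun Y : End F (ι → F) => Y v₀) hX
              simp only [hXz, _root_.smul_pow, one_pow, LinearMap.smul_apply, End.one_apply] at e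
              have hv : v₀ ≠ 0 := fun e => hv₀ (by rw [e, QuadraticMap.map_zero])
              exact smul_left_injective F hv (e.trans (one_smul F v₀).symm)
            have hz2 : z * z = 1 := by
              have e := hiso v₀
              rw [hXz, LinearMap.smul_apply, End.one_apply, quad_smul] at e
              exact mul_right_cancel₀ hv₀ (e.trans (one_mul _).symm)
            obtain ⟨t, ht⟩ := hr.out.odd_of_ne_two hr2
            rw [ht, pow_succ, pow_mul, pow_two, hz2, one_pow, one_mul] at hzr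
            exact hX1 (by rw [hXz, hzr, one_smul])
        exact ⟨W, h1, h3, hxX ▸ h4⟩
    · rintro hC x hx ⟨z, hz⟩ -
      have hiso := hlin x hx
      have hX := hpow x z hz
      set X := Matrix.toLin' (x : Matrix ι ι F)
      have hz2 := hzz X z hiso hX
      obtain ⟨t, ht⟩ := hr.out.odd_of_ne_two hr2
      have hXr : (z • X) ^ r = 1 := by
        rw [_root_.smul_pow, hX, smul_smul, ← pow_succ, show r + 1 = 2 * (t + 1) by omega, pow_mul, pow_two, hz2, one_pow, one_smul]
      obtain ⟨W, hWd, hW, hWi⟩ := OrthTSAny.good_odd Q hQ hn hrp hr2 hi hXr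
        (fun v => by rw [LinearMap.smul_apply, quad_smul, hz2, one_mul, hiso]) hmd hC
      refine ⟨W, hWd, hW, ?_⟩
      rintro _ ⟨v, hv, rfl⟩
      have h1 := W.smul_mem z (hWi (Submodule.mem_map_of_mem hv))
      rwa [LinearMap.smul_apply, smul_smul, hz2, one_smul] at h1

end Cfsg.Agent.Lib.MaxSub.OrthTSAnyMain
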