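import Mathlib

/-!
Invariant subspaces of linear maps whose prime-th power is a scalar, in coprime characteristic.
-/

set_option autoImplicit false
set_option maxHeartbeats 1000000

namespace Cfsg.Agent.Lib.MaxSub.PrimeElem

open Module Polynomial

variable {F : Type*} [Field F] {V : Type*} [AddCommGroup V] [Module F V]

/-- An invariant pair of nested subspaces with the given dimensions. -/
def HasFlag (y : End F V) (a b : ℕ) : Prop :=
  ∃ U W : Submodule F V, U ≤ W ∧ finrank F U = a ∧ finrank F W = b ∧ U.map y ≤ U ∧ W.map y ≤ W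

theorem aeval_mem (y : End F V) {U : Submodule F V} (hU : U.map y ≤ U) (g : F[X]) {v : V} (hv : v ∈ U) :
    aeval y g v ∈ U := by
  induction g using Polynomial.induction_on generalizing v with
  | C a => rw [aeval_C]; exact U.smul_mem a hv
  | add f g hf hg => rw [map_add, LinearMap.add_apply]; exact U.add_mem (hf hv) (hg hv)
  | monomial n a ih =>
    rw [pow_succ, ← mul_assoc, map_mul, aeval_X, End.mul_apply]
    exact ih (hU (Submodule.mem_map_of_mem hv))

theorem map_ker_le (y : End F V) (g : F[X]) : (LinearMap.ker (aeval y g)).map y ≤ LinearMap.ker (aeval y g) := by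
  rintro _ ⟨v, hv, rfl⟩
  rw [LinearMap.mem_ker]
  have h : aeval y g * y = y * aeval y g := by
    have h1 := congrArg (aeval y) (mul_comm g X)
    rw [map_mul, map_mul, aeval_X] at h1
    exact h1
  have := LinearMap.congr_fun h v
  rw [End.mul_apply, End.mul_apply, LinearMap.mem_ker.1 hv, map_zero] at this
  exact this

theorem smul_map_le {y : End F V} {U : Submodule F V} (hU : U.map y ≤ U) (a : F) : U.map (a • y) ≤ U := by
  rintro _ ⟨v, hv, rfl⟩
  exact U.smul_mem a (hU (Submodule.mem_map_of_mem hv))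

theorem hasFlag_smul {y : End F V} {a : F} (ha : a ≠ 0) {m b : ℕ} : HasFlag (a • y) m b ↔ HasFlag y m b := by
  constructor
  · rintro ⟨U, W, h1, h2, h3, h4, h5⟩
    refine ⟨U, W, h1, h2, h3, ?_, ?_⟩
    · have := smul_map_le h4 a⁻¹; rwa [inv_smul_smul₀ ha] at this
    · have := smul_map_le h5 a⁻¹; rwa [inv_smul_smul₀ ha] at this
  · rintro ⟨U, W, h1, h2, h3, h4, h5⟩
    exact ⟨U, W, h1, h2, h3, smul_map_le h4 a, smul_map_le h5 a⟩

theorem hasFlag_of_conj {V' : Type*} [AddCommGroup V'] [Module F V'] (e : V ≃ₗ[F] V') {y : End F V} {a b : ℕ}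
    (h : HasFlag (e.conj y) a b) : HasFlag y a b := by
  obtain ⟨U, W, h1, h2, h3, h4, h5⟩ := h
  have key : ∀ S : Submodule F V', S.map (e.conj y) ≤ S →
      (S.map (e.symm : V' →ₗ[F] V)).map y ≤ S.map (e.symm : V' →ₗ[F] V) := by
    rintro S hS _ ⟨_, ⟨s, hs, rfl⟩, rfl⟩
    exact ⟨e.conj y s, hS (Submodule.mem_map_of_mem hs), by simp [LinearEquiv.conj_apply]⟩
  exact ⟨_, _, Submodule.map_mono h1, (LinearEquiv.finrank_map_eq _ _).trans h2,
    (LinearEquiv.finrank_map_eq _ _).trans h3, key U h4, key W h5⟩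

section

variable [FiniteDimensional F V]

theorem exists_compl {y : End F V} {P : F[X]} (hP : Squarefree P) (hy : aeval y P = 0) {U : Submodule F V}
    (hU : U.map y ≤ U) : ∃ C : Submodule F V, C.map y ≤ C ∧ IsCompl U C := by
  obtain ⟨C, hC, h⟩ := End.isSemisimple_iff.1 (End.isSemisimple_of_squarefree_aeval_eq_zero hP hy) U
    ((End.mem_invtSubmodule_iff_map_le y).2 hU)
  exact ⟨C, (End.mem_invtSubmodule_iff_map_le y).1 hC, h⟩

theorem exists_cyclic (y : End F V) {g : F[X]} (hg : Irreducible g) (hm : g.Monic) {U : Submodule F V}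
    (hU : U.map y ≤ U) {v : V} (hv : v ∈ U) (hv0 : v ≠ 0) (hgv : aeval y g v = 0) :
    ∃ S : Submodule F V, S.map y ≤ S ∧ S ≤ U ∧ finrank F S = g.natDegree := by
  let ψ : F[X] →ₗ[F] V := (LinearMap.applyₗ v).comp (aeval y).toLinearMap
  have hψ : ∀ h, ψ h = aeval y h v := fun h => rfl
  let φ := ψ.domRestrict (degreeLT F g.natDegree)
  have hinj : Function.Injective φ := by
    refine (injective_iff_map_eq_zero φ).2 fun h hh => Subtype.ext ?_
    by_contra h0
    have hdeg : (h : F[X]).natDegree < g.natDegree := by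
      have := mem_degreeLT.1 h.2
      exact (natDegree_lt_iff_degree_lt h0).2 this
    have hco : IsCoprime g (h : F[X]) := hg.coprime_iff_not_dvd.2 fun hd =>
      absurd (natDegree_le_of_dvd hd h0) (not_le.2 hdeg)
    obtain ⟨a, b, hab⟩ := hco
    have hh' : aeval y (h : F[X]) v = 0 := hh
    have := congrArg (fun P => aeval y P v) hab
    simp only [map_add, map_mul, LinearMap.add_apply, End.mul_apply, hgv, hh', map_zero, add_zero, map_one,
      End.one_apply] at this
    exact hv0 this.symm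
  refine ⟨LinearMap.range φ, ?_, ?_, ?_⟩
  · rintro _ ⟨_, ⟨h, rfl⟩, rfl⟩
    refine ⟨⟨(X * (h : F[X])) %ₘ g, mem_degreeLT.2 ?_⟩, ?_⟩
    · rw [← degree_eq_natDegree hm.ne_zero]
      exact degree_modByMonic_lt _ hm
    · show aeval y ((X * (h : F[X])) %ₘ g) v = y (aeval y (h : F[X]) v)
      have e := congrArg (fun P => aeval y P v) (modByMonic_add_div (X * (h : F[X])) (q := g))
      rw [map_add, mul_comm g, map_mul (aeval y) ((X * (h : F[X])) /ₘ g) g, LinearMap.add_apply, End.mul_apply, hgv,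
        map_zero, add_zero, map_mul, aeval_X, End.mul_apply] at e
      exact e
  · rintro _ ⟨h, rfl⟩
    exact aeval_mem y hU _ hv
  · rw [LinearMap.finrank_range_of_inj hinj, (degreeLTEquiv F g.natDegree).finrank_eq, Module.finrank_fin_fun]

theorem exists_factor (y : End F V) {U : Submodule F V} (hU : U.map y ≤ U) (Q : F[X]) (hQ : Q ≠ 0) :
    ∀ v ∈ U, v ≠ 0 → aeval y Q v = 0 →
      ∃ g : F[X], Irreducible g ∧ g.Monic ∧ g ∣ Q ∧ ∃ w ∈ U, w ≠ 0 ∧ aeval y g w = 0 := by
  induction Q using UniqueFactorizationMonoid.induction_on_prime with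
  | h₁ => exact absurd rfl hQ
  | h₂ x hx =>
    intro v _ hv0 h
    obtain ⟨u, rfl⟩ := hx
    have h2 := congrArg (fun P => aeval y P v) (Units.inv_mul u)
    simp only [map_mul, End.mul_apply, h, map_zero, map_one, End.one_apply] at h2
    exact absurd h2.symm hv0
  | h₃ a q ha hq ih =>
    intro v hv hv0 h
    by_cases hw : aeval y a v = 0
    · obtain ⟨g, h1, h2, h3, h4⟩ := ih ha v hv hv0 hw
      exact ⟨g, h1, h2, dvd_mul_of_dvd_right h3 q, h4⟩
    · refine ⟨q * C q.leadingCoeff⁻¹, irreducible_mul_leadingCoeff_inv.2 hq.irreducible,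
        monic_mul_leadingCoeff_inv hq.ne_zero, ?_, aeval y a v, aeval_mem y hU a hv, hw, ?_⟩
      · exact mul_dvd_mul_left q (isUnit_C.2 (IsUnit.mk0 _ (inv_ne_zero (leadingCoeff_ne_zero.2 hq.ne_zero)))).dvd
      · rw [← End.mul_apply, ← map_mul, mul_right_comm, map_mul, aeval_C, End.mul_apply]
        rw [map_mul, End.mul_apply] at h ⊢
        rw [show ((algebraMap F (End F V)) q.leadingCoeff⁻¹) v = q.leadingCoeff⁻¹ • v from rfl, map_smul, map_smul,
          h, smul_zero]

/-- If all irreducible factors of an annihilating polynomial have degree `d`, invariant subspaces have all dimensions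
that are multiples of `d`. -/
theorem uniform {y : End F V} {P : F[X]} (hP : Squarefree P) (hy : aeval y P = 0) (Q : F[X]) (hQ0 : Q ≠ 0)
    {d : ℕ} (hd : ∀ g, Irreducible g → g ∣ Q → g.natDegree = d) :
    ∀ (n : ℕ) (U : Submodule F V), finrank F U = n → U.map y ≤ U → (∀ v ∈ U, aeval y Q v = 0) →
      d ∣ n ∧ ∀ b, d * b ≤ n → ∃ S : Submodule F V, S.map y ≤ S ∧ S ≤ U ∧ finrank F S = d * b := by
  intro n
  induction n using Nat.strong_induction_on with
  | _ n ih =>
  intro U hn hU hQ
  rcases eq_or_ne U ⊥ with rfl | hne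
  · rw [finrank_bot] at hn
    subst hn
    refine ⟨dvd_zero d, fun b hb => ⟨⊥, by simp, le_rfl, ?_⟩⟩
    rw [finrank_bot]
    omega
  obtain ⟨v, hv, hv0⟩ := U.exists_mem_ne_zero_of_ne_bot hne
  obtain ⟨g, hg, hgm, hgQ, w, hw, hw0, hgw⟩ := exists_factor y hU Q hQ0 v hv hv0 (hQ v hv)
  obtain ⟨S, hS, hSU, hSd⟩ := exists_cyclic y hg hgm hU hw hw0 hgw
  rw [hd g hg hgQ] at hSd
  have hd0 : 0 < d := hd g hg hgQ ▸ hg.natDegree_pos
  obtain ⟨C, hC, hSC⟩ := exists_compl hP hy hS
  have hUC : (U ⊓ C).map y ≤ U ⊓ C :=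
    le_trans (Submodule.map_inf_le _) (inf_le_inf hU hC)
  have hsum : S ⊔ U ⊓ C = U := by
    rw [inf_comm, ← sup_inf_assoc_of_le C hSU, hSC.sup_eq_top, top_inf_eq]
  have hinf : S ⊓ (U ⊓ C) = ⊥ := (hSC.disjoint.mono_right inf_le_right).eq_bot
  have hdim := Submodule.finrank_sup_add_finrank_inf_eq S (U ⊓ C)
  rw [hsum, hinf, finrank_bot, add_zero, hn, hSd] at hdim
  obtain ⟨h1, h2⟩ := ih _ (by omega) (U ⊓ C) rfl hUC (fun v hv => hQ v hv.1)
  refine ⟨hdim ▸ dvd_add dvd_rfl h1, fun b hb => ?_⟩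
  rcases b with _ | b
  · exact ⟨⊥, by simp, bot_le, by simp⟩
  rw [Nat.mul_succ] at hb
  obtain ⟨T, hT, hTU, hTd⟩ := h2 b (by omega)
  refine ⟨S ⊔ T, ?_, sup_le hSU (hTU.trans inf_le_left), ?_⟩
  · rw [Submodule.map_sup]
    exact sup_le_sup hS hT
  · have h3 := Submodule.finrank_sup_add_finrank_inf_eq S T
    rw [(hSC.disjoint.mono_right (hTU.trans inf_le_right)).eq_bot, finrank_bot, add_zero, hSd, hTd] at h3
    rw [h3, Nat.mul_succ, add_comm]

/-- A flag of multiples of `d`. -/
theorem uniform_flag {y : End F V} {P : F[X]} (hP : Squarefree P) (hy : aeval y P = 0)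
    {d : ℕ} (hd : ∀ g, Irreducible g → g ∣ P → g.natDegree = d) :
    d ∣ finrank F V ∧ ∀ a b, a ≤ b → d * b ≤ finrank F V → HasFlag y (d * a) (d * b) := by
  have htop : ∀ v ∈ (⊤ : Submodule F V), aeval y P v = 0 := fun v _ => by rw [hy]; rfl
  obtain ⟨h1, h2⟩ := uniform hP hy P hP.ne_zero hd _ ⊤ (finrank_top F V) (by simp) htop
  refine ⟨h1, fun a b hab hb => ?_⟩
  obtain ⟨W, hW, -, hWd⟩ := h2 b hb
  obtain ⟨-, h3⟩ := uniform hP hy P hP.ne_zero hd _ W hWd hW (fun v _ => htop v trivial)
  obtain ⟨U, hU, hUW, hUd⟩ := h3 a (Nat.mul_le_mul_left d hab)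
  exact ⟨U, W, hUW, hUd, hWd, hU, hW⟩

end

theorem det_eq (r : ℕ) (c : F) (hg : Irreducible (X ^ r - C c)) (hsq : Squarefree (X ^ r - C c)) (hr : 0 < r) :
    ∀ (k : ℕ) {V : Type*} [AddCommGroup V] [Module F V] [FiniteDimensional F V] (y : End F V),
      finrank F V = r * k → aeval y (X ^ r - C c) = 0 → LinearMap.det y = ((-1) ^ (r + 1) * c) ^ k := by
  intro k
  induction k with
  | zero =>
    intro V _ _ _ y hV _
    rw [pow_zero]
    exact LinearMap.det_eq_one_of_finrank_eq_zero (by rw [hV, mul_zero]) y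
  | succ k ih =>
    intro V _ _ _ y hV hy
    have hm : (X ^ r - C c).Monic := monic_X_pow_sub_C c hr.ne'
    have hdeg : (X ^ r - C c).natDegree = r := natDegree_X_pow_sub_C
    have hne : (⊤ : Submodule F V) ≠ ⊥ := by
      intro h
      have h' := congrArg (fun S : Submodule F V => finrank F S) h
      simp only [finrank_top, finrank_bot, hV] at h'
      exact absurd h' (Nat.mul_pos hr k.succ_pos).ne'
    obtain ⟨v, hv, hv0⟩ := Submodule.exists_mem_ne_zero_of_ne_bot hne
    obtain ⟨S, hS, -, hSd⟩ := exists_cyclic y hg hm (U := ⊤) (by simp) hv hv0 (by rw [hy]; rfl)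
    rw [hdeg] at hSd
    obtain ⟨T, hT, hST⟩ := exists_compl hsq hy hS
    let yS : End F S := y.restrict fun v hv => hS (Submodule.mem_map_of_mem hv)
    let yT : End F T := y.restrict fun v hv => hT (Submodule.mem_map_of_mem hv)
    have hconj : y = (Submodule.prodEquivOfIsCompl S T hST).conj (yS.prodMap yT) := by
      apply LinearMap.ext
      intro v
      obtain ⟨⟨s, s'⟩, rfl⟩ := (Submodule.prodEquivOfIsCompl S T hST).surjective v
      rw [LinearEquiv.conj_apply, LinearMap.comp_apply, LinearMap.comp_apply]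
      simp [yS, yT, LinearMap.restrict_coe_apply, map_add]
    have hcoe : ∀ (U : Submodule F V) (hU : ∀ v ∈ U, y v ∈ U),
        aeval (y.restrict hU) (X ^ r - C c) = 0 := by
      intro U hU
      apply LinearMap.ext
      intro v
      apply Subtype.ext
      have hpow : ∀ (j : ℕ) (w : U), ((((y.restrict hU : End F U) ^ j) w : U) : V) = (y ^ j) (w : V) := by
        intro j
        induction j with
        | zero => intro w; rfl
        | succ j ihj => intro w; rw [pow_succ', pow_succ', End.mul_apply, End.mul_apply, LinearMap.restrict_coe_apply, ihj]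
      have h1 := LinearMap.congr_fun hy (v : V)
      rw [map_sub, map_pow, aeval_X, aeval_C, LinearMap.sub_apply] at h1 ⊢
      rw [Submodule.coe_sub, hpow]
      exact h1
    have hTd : finrank F T = r * k := by
      have := Submodule.finrank_add_eq_of_isCompl hST
      rw [hSd, hV, Nat.mul_succ] at this
      omega
    have hSdet : LinearMap.det yS = (-1) ^ (r + 1) * c := by
      have hS0 := hcoe S (fun v hv => hS (Submodule.mem_map_of_mem hv))
      have : Nontrivial S := Module.nontrivial_of_finrank_pos (R := F) (by rw [hSd]; exact hr)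
      have hmin : minpoly F yS = X ^ r - C c := (minpoly.eq_of_irreducible_of_monic hg hS0 hm).symm
      have hch : yS.charpoly = X ^ r - C c := by
        symm
        refine (Polynomial.eq_of_monic_of_dvd_of_natDegree_le hm yS.charpoly_monic ?_ ?_).symm
        · exact hmin ▸ LinearMap.minpoly_dvd_charpoly yS
        · rw [LinearMap.charpoly_natDegree, hSd, hdeg]
      rw [LinearMap.det_eq_sign_charpoly_coeff, hch, hSd, coeff_sub, coeff_X_pow, if_neg hr.ne, coeff_C_zero,
        zero_sub, pow_succ]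
      ring
    rw [hconj, LinearEquiv.conj_apply, LinearMap.comp_assoc, LinearMap.det_conj, LinearMap.det_prodMap, hSdet,
      ih yT hTd (hcoe T _)]
    ring

end Cfsg.Agent.Lib.MaxSub.PrimeElem
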