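import Cfsg.Agent.Lib.MaxSub.QuadCount
import Mathlib

/-!
Types of non-degenerate even dimensional quadratic spaces over finite fields of any characteristic, by counting.
-/

set_option autoImplicit false
set_option maxHeartbeats 1000000
set_option linter.unusedSectionVars false

namespace Cfsg.Agent.Lib.MaxSub.QuadAny

open Module Cfsg.Agent.Lib.Geometry Cfsg.Agent.Lib.MaxSub
open Cfsg.Agent.Lib.MaxSub.QuadType (Nd TS Plus perp)
open QuadraticMap (polarBilin)
open scoped _root_.Classical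

attribute [local simp] map_smul
attribute [-simp] QuadraticMap.polarBilin_apply_apply

variable {F : Type*} [Field F] [Fintype F]

/-- The norm form. -/
def nrm (b e : F) (z : F × F) : F := z.1 ^ 2 + b * z.1 * z.2 + e * z.2 ^ 2

theorem nrm_surj (b e : F) (h : ∀ z, nrm b e z = 0 → z = 0) (c : F) : ∃ z, nrm b e z = c := by
  by_cases h2 : (2 : F) = 0
  · haveI : CharP F 2 := CharTwo.of_one_ne_zero_of_two_eq_zero one_ne_zero h2
    obtain ⟨t, ht⟩ := isSquare_of_charTwo' c
    exact ⟨(t, 0), by rw [ht]; simp only [nrm]; ring⟩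
  · have hodd : Fintype.card F % 2 = 1 := FiniteField.odd_card_of_char_ne_two fun h' => h2 (by
      haveI := ringChar.of_eq h'
      exact CharTwo.two_eq_zero)
    have hd : e - b ^ 2 / 4 ≠ 0 := fun hd => by
      have h4 : (4 : F) ≠ 0 := by
        rw [show (4 : F) = 2 * 2 by norm_num]
        exact mul_ne_zero h2 h2
      have := h (-b / 2, 1) (by
        simp only [nrm]
        field_simp at hd ⊢
        linear_combination hd)
      exact one_ne_zero (congrArg Prod.snd this)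
    obtain ⟨u, t, hut⟩ := FiniteField.exists_root_sum_quadratic (R := F)
      (f := Polynomial.X ^ 2 + Polynomial.C (-c)) (g := Polynomial.C (e - b ^ 2 / 4) * Polynomial.X ^ 2)
      (Polynomial.degree_X_pow_add_C (by norm_num) _)
      (by rw [Polynomial.degree_C_mul_X_pow 2 hd]; rfl) hodd
    refine ⟨(u - b / 2 * t, t), ?_⟩
    simp only [Polynomial.eval_add, Polynomial.eval_pow, Polynomial.eval_X, Polynomial.eval_C, Polynomial.eval_mul] at hut
    simp only [nrm]
    have e4 : (4 : F) = 2 * 2 := by norm_num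
    rw [e4] at hut
    field_simp at hut ⊢
    linear_combination hut

theorem nrm_card (b e : F) (h : ∀ z, nrm b e z = 0 → z = 0) {c : F} (hc : c ≠ 0) :
    Nat.card {z : F × F // nrm b e z = c} = Fintype.card F + 1 := by
  let mul : F × F → F × F → F × F := fun z w =>
    (z.1 * w.1 - e * (z.2 * w.2), z.1 * w.2 + z.2 * w.1 + b * (z.2 * w.2))
  have hmul : ∀ z w, nrm b e (mul z w) = nrm b e z * nrm b e w := fun z w => by
    simp only [nrm, mul]; ring
  have hle : ∀ {c d : F}, c ≠ 0 → d ≠ 0 →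
      Nat.card {z : F × F // nrm b e z = c} ≤ Nat.card {z : F × F // nrm b e z = d} := fun {c d} hc hd => by
    obtain ⟨z₀, hz₀⟩ := nrm_surj b e h (d / c)
    refine Nat.card_le_card_of_injective (fun z => ⟨mul z₀ z.1, by rw [hmul, hz₀, z.2, div_mul_cancel₀ d hc]⟩)
      fun z w hzw => ?_
    have he : mul z₀ z.1 = mul z₀ w.1 := congrArg Subtype.val hzw
    have h0 : mul z₀ (z.1 - w.1) = 0 := by
      have e1 := congrArg Prod.fst he
      have e2 := congrArg Prod.snd he
      simp only [mul] at e1 e2 ⊢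
      refine Prod.ext ?_ ?_
      · simp only [Prod.fst_sub, Prod.snd_sub, Prod.fst_zero]; linear_combination e1
      · simp only [Prod.fst_sub, Prod.snd_sub, Prod.snd_zero]; linear_combination e2
    have h1 := hmul z₀ (z.1 - w.1)
    rw [h0, hz₀] at h1
    simp only [nrm, Prod.fst_zero, Prod.snd_zero, zero_pow two_ne_zero, mul_zero, add_zero] at h1
    exact Subtype.ext (sub_eq_zero.1 (h _ ((mul_eq_zero.1 h1.symm).resolve_left (div_ne_zero hd hc))))
  have hall : ∀ d : F, Nat.card {z : F × F // nrm b e z = d} = if d = 0 then 1 else Nat.card {z : F × F // nrm b e z = c} :=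
    fun d => by
    split_ifs with hd
    · subst hd
      rw [Nat.card_eq_one_iff_exists]
      exact ⟨⟨0, by simp [nrm]⟩, fun z => Subtype.ext (h _ z.2)⟩
    · exact le_antisymm (hle hd hc) (hle hc hd)
  have hsum := Nat.card_congr (Equiv.sigmaFiberEquiv (nrm b e))
  rw [Nat.card_sigma, Finset.sum_congr rfl fun d _ => hall d, Finset.sum_ite, Finset.sum_const, Finset.sum_const,
    Finset.filter_eq' Finset.univ (0 : F), if_pos (Finset.mem_univ _), Finset.card_singleton,
    Finset.filter_ne' Finset.univ (0 : F), Finset.card_erase_of_mem (Finset.mem_univ _), Finset.card_univ,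
    Nat.card_prod, Nat.card_eq_fintype_card (α := F)] at hsum
  simp only [smul_eq_mul, mul_one] at hsum
  obtain ⟨k, hk⟩ : ∃ k, Fintype.card F = k + 2 := ⟨Fintype.card F - 2, by have := Fintype.one_lt_card (α := F); omega⟩
  rw [hk, show k + 2 - 1 = k + 1 by omega] at hsum
  rw [hk]
  refine Nat.eq_of_mul_eq_mul_left (show 0 < k + 1 by omega) ?_
  linarith

variable {V : Type*} [AddCommGroup V] [Module F V] [FiniteDimensional F V] (Q : QuadraticForm F V)
  (hQ : (polarBilin Q).Nondegenerate)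

/-- The sign of the type. -/
noncomputable def eps (U : Submodule F V) : ℤ := if Plus Q U then 1 else -1

/-- The basic oscillating function. -/
noncomputable def osc (c : F) : ℤ := (if c = 0 then (Fintype.card F : ℤ) else 0) - 1

theorem sum_osc : ∑ s : F, osc s = 0 := by
  simp only [osc, Finset.sum_sub_distrib, Finset.sum_ite_eq', Finset.mem_univ, if_true, Finset.sum_const,
    Finset.card_univ, nsmul_eq_mul, mul_one, sub_self]

theorem sum_osc_sub (c : F) : ∑ s : F, osc (c - s) = 0 := by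
  rw [← sum_osc (F := F)]
  exact Equiv.sum_comp (Equiv.subLeft c) osc

theorem sum_osc_mul (c : F) : ∑ s : F, osc s * osc (c - s) = (Fintype.card F : ℤ) * osc c := by
  rw [Finset.sum_congr rfl (g := fun s => (if s = 0 then (Fintype.card F : ℤ) * osc (c - s) else 0) - osc (c - s))
    fun s _ => by unfold osc; split_ifs <;> ring]
  rw [Finset.sum_sub_distrib, sum_osc_sub, Finset.sum_ite_eq', if_pos (Finset.mem_univ _), sub_zero, sub_zero]

include hQ in
/-- The counts multiply along orthogonal sums. -/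
theorem count_sup {A B : Submodule F V} (hA : Nd Q A) (hB : Nd Q B) (h : B ≤ perp Q A) {a b : ℕ} {e e' : ℤ}
    (cA : ∀ c, (Fintype.card F : ℤ) * Nat.card {v : A // Q (v : V) = c} =
      (Fintype.card F : ℤ) ^ (2 * a) + e * (Fintype.card F : ℤ) ^ a * osc c)
    (cB : ∀ c, (Fintype.card F : ℤ) * Nat.card {v : B // Q (v : V) = c} =
      (Fintype.card F : ℤ) ^ (2 * b) + e' * (Fintype.card F : ℤ) ^ b * osc c) (c : F) :
    (Fintype.card F : ℤ) * Nat.card {v : (A ⊔ B : Submodule F V) // Q (v : V) = c} =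
      (Fintype.card F : ℤ) ^ (2 * (a + b)) + e * e' * (Fintype.card F : ℤ) ^ (a + b) * osc c := by
  haveI : Finite V := Module.finite_of_finite F
  let g : A × B → (A ⊔ B : Submodule F V) := fun z => ⟨(z.1 : V) + (z.2 : V), Submodule.add_mem_sup z.1.2 z.2.2⟩
  have hg : Function.Bijective g := by
    constructor
    · rintro ⟨a, b⟩ ⟨a', b'⟩ h'
      have e : (a : V) + b = a' + b' := congrArg Subtype.val h'
      have h1 : (a : V) - a' = b' - b := by rw [sub_eq_sub_iff_add_eq_add, e, add_comm]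
      have h0 : (a : V) - a' ∈ A ⊓ (B ⊓ perp Q A) :=
        ⟨A.sub_mem a.2 a'.2, by rw [h1]; exact ⟨B.sub_mem b'.2 b.2, h (B.sub_mem b'.2 b.2)⟩⟩
      rw [QuadType.inf_perp Q hA, Submodule.mem_bot] at h0
      rw [h0] at h1
      rw [Subtype.ext (sub_eq_zero.1 h0), Subtype.ext (sub_eq_zero.1 h1.symm).symm]
    · rintro ⟨v, hv⟩
      obtain ⟨a, ha, b, hb, rfl⟩ := Submodule.mem_sup.1 hv
      exact ⟨(⟨a, ha⟩, ⟨b, hb⟩), rfl⟩
  have hq : ∀ (a : A) (b : B), Q ((g (a, b) : (A ⊔ B : Submodule F V)) : V) = Q (a : V) + Q (b : V) := fun a b => by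
    show Q ((a : V) + b) = _
    rw [quad_add, h b.2 a a.2, add_zero]
  let E : {v : (A ⊔ B : Submodule F V) // Q (v : V) = c} ≃
      Σ s : F, {a : A // Q (a : V) = s} × {b : B // Q (b : V) = c - s} :=
    (Equiv.subtypeEquiv (p := fun z : A × B => Q (z.1 : V) + Q (z.2 : V) = c) (Equiv.ofBijective g hg)
      fun z => by rw [← hq z.1 z.2]; rfl).symm.trans
    { toFun := fun z => ⟨Q (z.1.1 : V), ⟨z.1.1, rfl⟩, ⟨z.1.2, eq_sub_of_add_eq' z.2⟩⟩
      invFun := fun z => ⟨(z.2.1.1, z.2.2.1), by rw [z.2.1.2, z.2.2.2]; ring⟩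
      left_inv := fun z => rfl
      right_inv := by rintro ⟨s, ⟨a, rfl⟩, b, hb⟩; rfl }
  refine mul_left_cancel₀ (show (Fintype.card F : ℤ) ≠ 0 by simp) ?_
  rw [Nat.card_congr E, Nat.card_sigma]
  simp only [Nat.card_prod, Nat.cast_sum, Nat.cast_mul, Finset.mul_sum]
  rw [Finset.sum_congr rfl (g := fun s => (Fintype.card F : ℤ) ^ (2 * a) * (Fintype.card F : ℤ) ^ (2 * b) +
    ((Fintype.card F : ℤ) ^ (2 * a) * (e' * (Fintype.card F : ℤ) ^ b)) * osc (c - s) +
    (e * (Fintype.card F : ℤ) ^ a * (Fintype.card F : ℤ) ^ (2 * b)) * osc s +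
    (e * (Fintype.card F : ℤ) ^ a * (e' * (Fintype.card F : ℤ) ^ b)) * (osc s * osc (c - s))) fun s _ => by
      linear_combination ((Fintype.card F : ℤ) * (Nat.card {v : B // Q (v : V) = c - s} : ℤ)) * cA s +
        ((Fintype.card F : ℤ) ^ (2 * a) + e * (Fintype.card F : ℤ) ^ a * osc s) * cB (c - s)]
  rw [Finset.sum_add_distrib, Finset.sum_add_distrib, Finset.sum_add_distrib, ← Finset.mul_sum, ← Finset.mul_sum,
    ← Finset.mul_sum, ← Finset.mul_sum, Finset.sum_const, Finset.card_univ, sum_osc, sum_osc_sub, sum_osc_mul, nsmul_eq_mul]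
  ring

include hQ in
theorem count_plus {P : Submodule F V} (hP : Nd Q P) {a : ℕ} (hd : finrank F P = 2 * a) (hp : Plus Q P) (c : F) :
    (Fintype.card F : ℤ) * Nat.card {v : P // Q (v : V) = c} =
      (Fintype.card F : ℤ) ^ (2 * a) + 1 * (Fintype.card F : ℤ) ^ a * osc c := by
  rw [QuadCount.card_plus Q hQ hP hd hp c, Nat.cast_add, Nat.cast_mul, Nat.cast_pow,
    Nat.cast_sub (Nat.one_le_pow _ _ Fintype.card_pos), Nat.cast_pow, Nat.cast_one, osc]
  rcases Nat.eq_zero_or_pos a with rfl | ha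
  · by_cases hc : c = 0 <;> simp [hc]
  · obtain ⟨b, rfl⟩ : ∃ b, a = b + 1 := ⟨a - 1, by omega⟩
    rw [Nat.add_sub_cancel]
    by_cases hc : c = 0 <;> simp [hc] <;> ring

/-- An anisotropic plane. -/
theorem count_aniso {E : Submodule F V} (hd : finrank F E = 2) (hE : ∀ v ∈ E, Q v = 0 → v = 0) (c : F) :
    (Fintype.card F : ℤ) * Nat.card {v : E // Q (v : V) = c} =
      (Fintype.card F : ℤ) ^ (2 * 1) + -1 * (Fintype.card F : ℤ) ^ 1 * osc c := by
  by_cases hc : c = 0
  · subst hc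
    rw [show Nat.card {v : E // Q (v : V) = 0} = 1 from Nat.card_eq_one_iff_exists.2
      ⟨⟨0, QuadraticMap.map_zero _⟩, fun v => Subtype.ext (Subtype.ext (hE _ v.1.2 v.2))⟩, osc, if_pos rfl]
    push_cast
    ring
  let b := (Module.finBasisOfFinrankEq F E hd)
  set x : V := (b 0 : V)
  set y : V := (b 1 : V)
  have hx : Q x ≠ 0 := fun h0 => b.ne_zero 0 (Subtype.ext (hE _ (b 0).2 h0))
  have key : ∀ z : F × F, Q (((z.1 / Q x) • b 0 + z.2 • b 1 : E) : V) =
      nrm (polarBilin Q x y) (Q x * Q y) z / Q x := fun z => by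
    simp only [Submodule.coe_add, Submodule.coe_smul, quad_add, quad_smul, map_smul, LinearMap.smul_apply, smul_eq_mul,
      nrm]
    field_simp
    ring
  let f : F × F → E := fun z => (z.1 / Q x) • b 0 + z.2 • b 1
  have hf : Function.Bijective f := by
    refine ⟨fun z w h => ?_, fun v => ⟨(b.repr v 0 * Q x, b.repr v 1), ?_⟩⟩
    · have h0 := congrArg (fun v => b.repr v 0) h
      have h1 := congrArg (fun v => b.repr v 1) h
      simp [f, Finsupp.single_apply] at h0 h1
      exact Prod.ext ((div_left_inj' hx).1 h0) h1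
    · conv_rhs => rw [← b.sum_repr v, Fin.sum_univ_two]
      simp [f, hx]
  have haniso : ∀ z, nrm (polarBilin Q x y) (Q x * Q y) z = 0 → z = 0 := fun z hz => by
    refine hf.1 ((Subtype.ext (hE _ (f z).2 ?_)).trans (show (0 : E) = f 0 by simp [f]))
    rw [show ((f z : E) : V) = _ from rfl, key, hz, zero_div]
  have hcard : Nat.card {v : E // Q (v : V) = c} = Fintype.card F + 1 := by
    rw [← nrm_card _ _ haniso (mul_ne_zero hc hx)]
    refine (Nat.card_congr (Equiv.subtypeEquiv (Equiv.ofBijective f hf) fun z => ?_)).symm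
    show _ ↔ Q ((f z : E) : V) = c
    rw [show ((f z : E) : V) = _ from rfl, key, div_eq_iff hx]
  rw [hcard, osc, if_neg hc]
  push_cast
  ring

include hQ in
/-- A hyperbolic plane through a singular vector. -/
theorem exists_hyp {U : Submodule F V} (hU : Nd Q U) {u : V} (hu : u ∈ U) (hu0 : u ≠ 0) (hQu : Q u = 0) :
    ∃ z ∈ U, Q z = 0 ∧ polarBilin Q u z = 1 ∧ (F ∙ u) ⊔ (F ∙ z) ≤ U ∧ Nd Q ((F ∙ u) ⊔ (F ∙ z)) ∧
      finrank F ((F ∙ u) ⊔ (F ∙ z) : Submodule F V) = 2 ∧ Plus Q ((F ∙ u) ⊔ (F ∙ z)) := by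
  obtain ⟨y, hy, huy⟩ := hU u hu hu0
  obtain ⟨y', hy'U, huy'⟩ : ∃ y' ∈ U, polarBilin Q u y' = 1 :=
    ⟨(polarBilin Q u y)⁻¹ • y, U.smul_mem _ hy, by rw [map_smul, smul_eq_mul, inv_mul_cancel₀ huy]⟩
  set z := y' - Q y' • u with hz
  have hzU : z ∈ U := U.sub_mem hy'U (U.smul_mem _ hu)
  have huu : polarBilin Q u u = 0 := by rw [quad_polar_self, hQu, mul_zero]
  have huz : polarBilin Q u z = 1 := by simp [hz, huy', huu]
  have hQz : Q z = 0 := by
    rw [hz, quad_sub, quad_smul, hQu, map_smul, quad_polar_comm Q y' u, huy', smul_eq_mul]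
    ring
  have hzu : polarBilin Q z u = 1 := by rw [quad_polar_comm]; exact huz
  have hzz : polarBilin Q z z = 0 := by rw [quad_polar_self, hQz, mul_zero]
  have hd : finrank F ((F ∙ u) ⊔ (F ∙ z) : Submodule F V) = 2 := by
    have hi : (F ∙ u) ⊓ (F ∙ z) = ⊥ := by
      rw [Submodule.eq_bot_iff]
      rintro x ⟨h1, h3⟩
      obtain ⟨a, rfl⟩ := Submodule.mem_span_singleton.1 h1
      obtain ⟨b, hb⟩ := Submodule.mem_span_singleton.1 h3
      have e := congrArg (fun x => polarBilin Q x z) hb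
      simp [hzz, huz] at e
      simp [← e]
    have h4 := Submodule.finrank_sup_add_finrank_inf_eq (F ∙ u) (F ∙ z)
    rw [hi, finrank_bot, add_zero, finrank_span_singleton hu0, finrank_span_singleton (fun e => by simp [e] at huz)] at h4
    exact h4
  refine ⟨z, hzU, hQz, huz, sup_le ((Submodule.span_singleton_le_iff_mem _ _).2 hu)
    ((Submodule.span_singleton_le_iff_mem _ _).2 hzU), fun a ha ha0 => ?_, hd, F ∙ u, le_sup_left, fun x hx => ?_, ?_⟩
  · obtain ⟨p, hp, q, hq, rfl⟩ := Submodule.mem_sup.1 ha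
    obtain ⟨s, rfl⟩ := Submodule.mem_span_singleton.1 hp
    obtain ⟨t, rfl⟩ := Submodule.mem_span_singleton.1 hq
    by_cases hs : s = 0
    · refine ⟨u, Submodule.mem_sup_left (Submodule.mem_span_singleton_self u), ?_⟩
      have ht : t ≠ 0 := fun e => ha0 (by simp [hs, e])
      simp [hs, ht, hzu]
    · refine ⟨z, Submodule.mem_sup_right (Submodule.mem_span_singleton_self z), ?_⟩
      simp [hs, hzz, huz]
  · obtain ⟨a, rfl⟩ := Submodule.mem_span_singleton.1 hx
    rw [quad_smul, hQu, mul_zero]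
  · rw [hd, finrank_span_singleton hu0]

include hQ in
/-- Even dimensional spaces are hyperbolic, or hyperbolic plus an anisotropic plane. -/
theorem decomp : ∀ (N : ℕ) {W : Submodule F V}, finrank F W = N → Nd Q W → Even N → ¬ Plus Q W →
    ∃ P E : Submodule F V, Nd Q P ∧ Plus Q P ∧ Nd Q E ∧ finrank F E = 2 ∧ (∀ v ∈ E, Q v = 0 → v = 0) ∧
      E ≤ perp Q P ∧ P ⊔ E = W ∧ finrank F P + 2 = N := by
  intro N
  induction N using Nat.strong_induction_on with
  | _ N ih =>
  intro W hN hW hev hnp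
  obtain ⟨h, rfl⟩ := hev
  have hpbot : Plus Q (⊥ : Submodule F V) := ⟨⊥, le_rfl, fun u hu => by
    rw [(Submodule.mem_bot F).1 hu, QuadraticMap.map_zero], by rw [finrank_bot]⟩
  by_cases hs : ∃ u ∈ W, u ≠ 0 ∧ Q u = 0
  · obtain ⟨u, hu, hu0, hQu⟩ := hs
    obtain ⟨z, hz, -, -, hle, hH, hHd, hHp⟩ := exists_hyp Q hQ hW hu hu0 hQu
    obtain ⟨hsup, hR, hdim⟩ := QuadType.split_off Q hW hH hle
    have hnpR : ¬ Plus Q (W ⊓ perp Q ((F ∙ u) ⊔ (F ∙ z))) := fun hp =>
      hnp (hsup ▸ QuadType.plus_sup Q hQ hH hR inf_le_right hHp hp)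
    obtain ⟨P, E, hP, hPp, hE, hEd, hEa, hEP, hPE, hPd⟩ := ih _ (by omega) rfl hR ⟨h - 1, by omega⟩ hnpR
    have hPH : P ≤ perp Q ((F ∙ u) ⊔ (F ∙ z)) := (le_sup_left.trans hPE.le).trans inf_le_right
    have hEH : E ≤ perp Q ((F ∙ u) ⊔ (F ∙ z)) := (le_sup_right.trans hPE.le).trans inf_le_right
    obtain ⟨g1, g2⟩ := QuadType.nd_sup Q hH hP hPH
    refine ⟨_, E, g1, QuadType.plus_sup Q hQ hH hP hPH hHp hPp, hE, hEd, hEa, fun e he w hw => ?_,
      by rw [sup_assoc, hPE, hsup], by omega⟩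
    obtain ⟨a, ha, b, hb, rfl⟩ := Submodule.mem_sup.1 hw
    rw [map_add, LinearMap.add_apply, hEH he a ha, hEP he b hb, add_zero]
  · push Not at hs
    have hN2 : finrank F W < 3 := by
      by_contra h3
      obtain ⟨u, hu, hu0, hQu⟩ := QuadFin.exists_singular_mem Q W (by omega)
      exact hs u hu hu0 hQu
    have hh : h ≠ 0 := fun e => hnp (by
      subst e
      rw [show W = ⊥ from Submodule.finrank_eq_zero.1 (by omega)]
      exact hpbot)
    refine ⟨⊥, W, QuadType.nd_bot Q, hpbot, hW, by omega, fun v hv h0 => ?_, fun v _ w hw => ?_, bot_sup_eq _,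
      by rw [finrank_bot]; omega⟩
    · by_contra hv0
      exact hs v hv hv0 h0
    · rw [(Submodule.mem_bot F).1 hw, map_zero, LinearMap.zero_apply]

include hQ in
/-- The counts determine the type. -/
theorem count_nd {W : Submodule F V} (hW : Nd Q W) {a : ℕ} (hd : finrank F W = 2 * a) (c : F) :
    (Fintype.card F : ℤ) * Nat.card {v : W // Q (v : V) = c} =
      (Fintype.card F : ℤ) ^ (2 * a) + eps Q W * (Fintype.card F : ℤ) ^ a * osc c := by
  rw [eps]
  split_ifs with hp
  · exact count_plus Q hQ hW hd hp c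
  obtain ⟨P, E, hP, hPp, hE, hEd, hEa, hEP, hPE, hPd⟩ := decomp Q hQ _ rfl hW (hd ▸ even_two_mul a) hp
  obtain ⟨b, rfl⟩ : ∃ b, a = b + 1 := ⟨a - 1, by omega⟩
  subst hPE
  have h := count_sup Q hQ hP hE hEP (count_plus Q hQ hP (a := b) (by omega) hPp) (count_aniso Q hEd hEa) c
  rw [one_mul] at h
  exact h

include hQ in
/-- The type of an orthogonal sum. -/
theorem sup_iff {A B : Submodule F V} (hA : Nd Q A) (hB : Nd Q B) (h : B ≤ perp Q A) (eA : Even (finrank F A))
    (eB : Even (finrank F B)) : Plus Q (A ⊔ B) ↔ (Plus Q A ↔ Plus Q B) := by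
  obtain ⟨a, ha⟩ := eA
  obtain ⟨b, hb⟩ := eB
  rw [← two_mul] at ha hb
  obtain ⟨hAB, hd⟩ := QuadType.nd_sup Q hA hB h
  have h1 := count_sup Q hQ hA hB h (count_nd Q hQ hA ha) (count_nd Q hQ hB hb) 0
  rw [count_nd Q hQ hAB (a := a + b) (by omega) 0] at h1
  have hq : (osc (0 : F)) ≠ 0 := by
    rw [osc, if_pos rfl]
    have := Fintype.one_lt_card (α := F)
    omega
  have h2 : eps Q (A ⊔ B) = eps Q A * eps Q B := by
    have h3 := add_left_cancel h1
    exact mul_right_cancel₀ (pow_ne_zero _ (by simp)) (mul_right_cancel₀ hq h3)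
  unfold eps at h2
  split_ifs at h2 <;> simp_all

include hQ in
/-- An anisotropic plane in a space of dimension at least four. -/
theorem exists_minus_plane {U : Submodule F V} (hU : Nd Q U) (hd : 4 ≤ finrank F U) :
    ∃ E ≤ U, Nd Q E ∧ finrank F E = 2 ∧ ¬ Plus Q E := by
  have hnp : ∀ E : Submodule F V, finrank F E = 2 → (∀ v ∈ E, Q v = 0 → v = 0) → ¬ Plus Q E := by
    rintro E hE ha ⟨T, hTE, hT, hTd⟩
    have : T = ⊥ := (Submodule.eq_bot_iff _).2 fun v hv => ha v (hTE hv) (hT v hv)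
    rw [this, finrank_bot, hE] at hTd
    omega
  obtain ⟨e, he, he0, hQe⟩ := QuadFin.exists_singular_mem Q U (by omega)
  obtain ⟨f, hf, hQf, hef, hle, hH, hHd, -⟩ := exists_hyp Q hQ hU he he0 hQe
  obtain ⟨-, hR, hdim⟩ := QuadType.split_off Q hU hH hle
  by_cases hs : ∃ u ∈ U ⊓ perp Q ((F ∙ e) ⊔ (F ∙ f)), u ≠ 0 ∧ Q u = 0
  swap
  · push Not at hs
    have hd2 : finrank F (U ⊓ perp Q ((F ∙ e) ⊔ (F ∙ f)) : Submodule F V) = 2 := by
      by_contra h3
      obtain ⟨u, hu, hu0, hQu⟩ := QuadFin.exists_singular_mem Q (U ⊓ perp Q ((F ∙ e) ⊔ (F ∙ f))) (by omega)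
      exact hs u hu hu0 hQu
    refine ⟨_, inf_le_left, hR, hd2, hnp _ hd2 fun v hv h0 => ?_⟩
    by_contra hv0
    exact hs v hv hv0 h0
  obtain ⟨e', he', he'0, hQe'⟩ := hs
  obtain ⟨f', hf', hQf', hef', hle', -, -, -⟩ := exists_hyp Q hQ hR he' he'0 hQe'
  obtain ⟨ζ, hζ⟩ : ∃ ζ : F, ∀ t : F, t ^ 2 + t + ζ ≠ 0 := by
    by_contra hc
    push Not at hc
    choose g hg using hc
    have hsur : Function.Surjective (fun t : F => t ^ 2 + t) := fun c => ⟨g (-c), by linear_combination hg (-c)⟩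
    have := Finite.injective_iff_surjective.2 hsur (show (fun t : F => t ^ 2 + t) 0 = (fun t : F => t ^ 2 + t) (-1) by
      show (0 : F) ^ 2 + 0 = (-1) ^ 2 + (-1); ring)
    exact neg_ne_zero.2 one_ne_zero this.symm
  have me : e ∈ (F ∙ e) ⊔ (F ∙ f) := Submodule.mem_sup_left (Submodule.mem_span_singleton_self e)
  have mf : f ∈ (F ∙ e) ⊔ (F ∙ f) := Submodule.mem_sup_right (Submodule.mem_span_singleton_self f)
  set u := e + f with hu
  set v := f + e' + ζ • f' with hv
  have huu : Q u = 1 := by rw [hu, quad_add, hQe, hQf, hef]; ring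
  have hvv : Q v = ζ := by
    rw [hv, quad_add, quad_add, quad_smul, hQf, hQe', hQf', map_smul, map_add, LinearMap.add_apply,
      hf'.2 f mf, hef', he'.2 f mf, smul_eq_mul]
    ring
  have huv : polarBilin Q u v = 1 := by
    simp [hu, hv, hef, hf'.2 f mf, he'.2 f mf, hf'.2 e me, he'.2 e me, quad_polar_self, hQf]
  have hval : ∀ s t : F, Q (s • u + t • v) = s ^ 2 + s * t + ζ * t ^ 2 := fun s t => by
    rw [quad_add, quad_smul, quad_smul, map_smul, map_smul, LinearMap.smul_apply, huu, hvv, huv, smul_eq_mul,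
      smul_eq_mul]
    ring
  have haniso : ∀ s t : F, s ^ 2 + s * t + ζ * t ^ 2 = 0 → s = 0 ∧ t = 0 := fun s t h => by
    by_cases ht : t = 0
    · subst ht
      simp at h
      exact ⟨h, rfl⟩
    · refine absurd ?_ (hζ (s / t))
      field_simp
      linear_combination h
  have hmu : u ∈ U := U.add_mem he hf
  have hmv : v ∈ U := U.add_mem (U.add_mem hf he'.1) (U.smul_mem _ hf'.1)
  clear_value u v
  set E := (F ∙ u) ⊔ (F ∙ v) with hE
  have hmem : ∀ x ∈ E, ∃ s t : F, x = s • u + t • v := fun x hx => by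
    obtain ⟨a, ha, b, hb, rfl⟩ := Submodule.mem_sup.1 hx
    obtain ⟨s, rfl⟩ := Submodule.mem_span_singleton.1 ha
    obtain ⟨t, rfl⟩ := Submodule.mem_span_singleton.1 hb
    exact ⟨s, t, rfl⟩
  have hu0 : u ≠ 0 := fun e0 => by simp [e0] at huu
  have hv0 : v ≠ 0 := fun e0 => by simp [e0] at huv
  have hEd : finrank F E = 2 := by
    have hi : (F ∙ u) ⊓ (F ∙ v) = ⊥ := by
      rw [Submodule.eq_bot_iff]
      rintro x ⟨h1, h2⟩
      obtain ⟨s, rfl⟩ := Submodule.mem_span_singleton.1 h1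
      obtain ⟨t, ht⟩ := Submodule.mem_span_singleton.1 h2
      have h3 : s • u + (-t) • v = 0 := by rw [neg_smul, ht, add_neg_cancel]
      rw [(haniso s (-t) (by rw [← hval, h3, QuadraticMap.map_zero])).1, zero_smul]
    have h4 := Submodule.finrank_sup_add_finrank_inf_eq (F ∙ u) (F ∙ v)
    rw [hi, finrank_bot, add_zero, finrank_span_singleton hu0, finrank_span_singleton hv0] at h4
    exact h4
  refine ⟨E, sup_le ((Submodule.span_singleton_le_iff_mem _ _).2 hmu)
    ((Submodule.span_singleton_le_iff_mem _ _).2 hmv),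
    fun a ha ha0 => ?_, hEd, hnp E hEd fun x hx h0 => ?_⟩
  · obtain ⟨s, t, rfl⟩ := hmem a ha
    by_contra hne
    push Not at hne
    have h1 := hne _ ha
    rw [quad_polar_self, hval] at h1
    rcases mul_eq_zero.1 h1 with h2 | h2
    · have h3 := hne v (Submodule.mem_sup_right (Submodule.mem_span_singleton_self v))
      have h4 := hne u (Submodule.mem_sup_left (Submodule.mem_span_singleton_self u))
      rw [map_add, map_smul, map_smul, LinearMap.add_apply, LinearMap.smul_apply, LinearMap.smul_apply, huv,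
        quad_polar_self, hvv, smul_eq_mul, smul_eq_mul, h2, zero_mul, mul_zero, add_zero, mul_one] at h3
      rw [map_add, map_smul, map_smul, LinearMap.add_apply, LinearMap.smul_apply, LinearMap.smul_apply,
        quad_polar_self, quad_polar_comm Q v u, huv, huu, smul_eq_mul, smul_eq_mul, h2, zero_mul, mul_zero, zero_add,
        mul_one] at h4
      exact ha0 (by rw [h3, h4, zero_smul, zero_smul, add_zero])
    · obtain ⟨rfl, rfl⟩ := haniso s t h2
      exact ha0 (by rw [zero_smul, zero_smul, add_zero])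
  · obtain ⟨s, t, rfl⟩ := hmem x hx
    obtain ⟨rfl, rfl⟩ := haniso s t (by rw [← hval, h0])
    rw [zero_smul, zero_smul, add_zero]

include hQ in
/-- Subspaces of both types in a larger space of even dimension. -/
theorem exists_type : ∀ (h : ℕ) {U : Submodule F V}, Nd Q U → 2 * h + 2 ≤ finrank F U → Even (finrank F U) →
    ∀ pl : Prop, (h = 0 → pl) → ∃ W ≤ U, Nd Q W ∧ finrank F W = 2 * h ∧ (Plus Q W ↔ pl) := by
  intro h
  induction h with
  | zero =>
    intro U _ _ _ pl hpl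
    refine ⟨⊥, bot_le, QuadType.nd_bot Q, by rw [finrank_bot], iff_of_true ⟨⊥, le_rfl, ?_, by rw [finrank_bot]⟩ (hpl rfl)⟩
    intro u hu
    rw [(Submodule.mem_bot F).1 hu, QuadraticMap.map_zero]
  | succ h ih =>
    intro U hU hd he pl _
    obtain ⟨e, he'⟩ := he
    by_cases hh : h = 0
    · subst hh
      by_cases hp : pl
      · obtain ⟨u, hu, hu0, hQu⟩ := QuadFin.exists_singular_mem Q U (by omega)
        obtain ⟨z, hz, -, -, hle, hH, hHd, hHp⟩ := exists_hyp Q hQ hU hu hu0 hQu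
        exact ⟨_, hle, hH, hHd, iff_of_true hHp hp⟩
      · obtain ⟨E, hEU, hE, hEd, hEp⟩ := exists_minus_plane Q hQ hU (by omega)
        exact ⟨E, hEU, hE, hEd, iff_of_false hEp hp⟩
    obtain ⟨W, hWU, hW, hWd, hWp⟩ := ih hU (by omega) ⟨e, he'⟩ pl (fun e => absurd e hh)
    obtain ⟨hsup, hR, hdim⟩ := QuadType.split_off Q hU hW hWU
    obtain ⟨u, hu, hu0, hQu⟩ := QuadFin.exists_singular_mem Q _ (by omega : 3 ≤ finrank F (U ⊓ perp Q W : Submodule F V))
    obtain ⟨z, hz, -, -, hle, hH, hHd, hHp⟩ := exists_hyp Q hQ hR hu hu0 hQu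
    obtain ⟨g1, g2⟩ := QuadType.nd_sup Q hW hH (hle.trans inf_le_right)
    refine ⟨_, sup_le hWU (hle.trans inf_le_left), g1, by omega, ?_⟩
    rw [sup_iff Q hQ hW hH (hle.trans inf_le_right) (hWd ▸ even_two_mul h) (hHd ▸ even_two)]
    simp [hHp, hWp]

end Cfsg.Agent.Lib.MaxSub.QuadAny
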