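import Cfsg.Prelude.Def_GeometricClasses
import Mathlib

/-!
Quadratic extension structures on a vector space over a finite field, up to conjugation in the special linear group.
-/

set_option autoImplicit false
set_option maxHeartbeats 1000000

namespace Cfsg.Agent.Lib.MaxSub.QuadField

open Module

variable {F : Type*} [Field F] {n : ℕ}

local notation "M" => Matrix (Fin n) (Fin n) F

/-- A generator of a quadratic extension inside the matrix algebra. -/
theorem exists_gen {K : Subalgebra F M} (hK : Cfsg.Geo.IsFieldSubalgebra 2 K) (hn : 0 < n) :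
    ∃ (ω : M) (s t : F), ω * ω = s • ω + t • 1 ∧ (∀ r : F, r * r ≠ s * r + t) ∧
      (∀ k, k ∈ K ↔ ∃ a b : F, k = a • 1 + b • ω) ∧ (∀ a : F, ω ≠ a • 1) := by
  classical
  have hne : Nonempty (Fin n) := ⟨⟨0, hn⟩⟩
  have h1 : (1 : M) ≠ 0 := one_ne_zero
  obtain ⟨ω, hω, hns⟩ : ∃ ω ∈ K, ∀ a : F, ω ≠ a • 1 := by
    by_contra hne'
    push Not at hne'
    have : K ≤ ⊥ := fun k hk => by
      obtain ⟨a, ha⟩ := hne' k hk
      exact Algebra.mem_bot.2 ⟨a, by rw [Algebra.algebraMap_eq_smul_one, ha]⟩
    have h2 := Submodule.finrank_mono (show Subalgebra.toSubmodule K ≤ Subalgebra.toSubmodule (⊥ : Subalgebra F M) from this)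
    rw [Subalgebra.finrank_toSubmodule, Subalgebra.finrank_toSubmodule, hK.finrank_eq, Subalgebra.finrank_bot] at h2
    omega
  have hli : LinearIndependent F ![(1 : M), ω] := by
    rw [LinearIndependent.pair_iff]
    intro a b h
    by_cases hb : b = 0
    · subst hb
      rw [zero_smul, add_zero] at h
      exact ⟨(smul_eq_zero.1 h).resolve_right h1, rfl⟩
    · exfalso
      apply hns (-a / b)
      rw [eq_comm, div_eq_mul_inv, mul_comm, mul_smul, inv_smul_eq_iff₀ hb, neg_smul, neg_eq_iff_add_eq_zero, h]
  have hspan : Submodule.span F (Set.range ![(1 : M), ω]) = Subalgebra.toSubmodule K := by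
    refine Submodule.eq_of_le_of_finrank_eq (Submodule.span_le.2 ?_) ?_
    · rintro _ ⟨i, rfl⟩
      fin_cases i
      · exact K.one_mem
      · exact hω
    · rw [finrank_span_eq_card hli, Fintype.card_fin, Subalgebra.finrank_toSubmodule, hK.finrank_eq]
  have hmem : ∀ k, k ∈ K ↔ ∃ a b : F, k = a • 1 + b • ω := fun k => by
    rw [← Subalgebra.mem_toSubmodule, ← hspan, Submodule.mem_span_range_iff_exists_fun]
    constructor
    · rintro ⟨c, rfl⟩; exact ⟨c 0, c 1, by rw [Fin.sum_univ_two]; rfl⟩
    · rintro ⟨a, b, rfl⟩; exact ⟨![a, b], by rw [Fin.sum_univ_two]; rfl⟩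
  obtain ⟨t, s, hst⟩ := (hmem _).1 (K.mul_mem hω hω)
  refine ⟨ω, s, t, by rw [hst, add_comm], fun r hr => ?_, hmem, hns⟩
  have e : (ω - r • 1) * (ω - (s - r) • 1) = 0 := by
    rw [sub_mul, mul_sub, mul_sub, hst]
    simp only [Matrix.mul_smul, Matrix.smul_mul, mul_one, one_mul, smul_smul]
    rw [show t = r * r - s * r by rw [hr]; ring]
    module
  have hm1 : ω - r • 1 ∈ K := K.sub_mem hω (K.smul_mem K.one_mem r)
  obtain ⟨y, hy, hy'⟩ := hK.inv _ hm1 (sub_ne_zero.2 (hns r))
  apply hns (s - r)
  rw [← sub_eq_zero]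
  have h3 : y * ((ω - r • 1) * (ω - (s - r) • 1)) = 0 := by rw [e, mul_zero]
  rwa [← mul_assoc, hK.comm y hy _ hm1, hy', one_mul] at h3

/-- A frame for a map satisfying an irreducible quadratic. -/
theorem exists_frame {Ω : End F (Fin n → F)} {s t : F} (hΩ : ∀ v, Ω (Ω v) = s • Ω v + t • v)
    (hroot : ∀ r : F, r * r ≠ s * r + t) {m : ℕ} (hm : n = 2 * m) :
    ∃ u : Fin m → Fin n → F, Submodule.span F (Set.range (Sum.elim u (Ω ∘ u))) = ⊤ := by
  have step : ∀ k, 2 * k ≤ n → ∃ u : Fin k → Fin n → F,
      finrank F (Submodule.span F (Set.range (Sum.elim u (Ω ∘ u)))) = 2 * k := by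
    intro k
    induction k with
    | zero =>
      intro _
      refine ⟨Fin.elim0, ?_⟩
      rw [show Set.range (Sum.elim Fin.elim0 (Ω ∘ Fin.elim0) : Fin 0 ⊕ Fin 0 → Fin n → F) = ∅ from
        Set.range_eq_empty _, Submodule.span_empty, finrank_bot]
    | succ k ih =>
      intro hk
      obtain ⟨u, hu⟩ := ih (by omega)
      set S := Submodule.span F (Set.range (Sum.elim u (Ω ∘ u))) with hS
      have hinv : ∀ v ∈ S, Ω v ∈ S := by
        intro v hv
        induction hv using Submodule.span_induction with
        | mem z hz =>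
          obtain ⟨i | i, rfl⟩ := hz
          · exact Submodule.subset_span ⟨Sum.inr i, rfl⟩
          · show Ω (Ω (u i)) ∈ S
            rw [hΩ]
            exact S.add_mem (S.smul_mem s (Submodule.subset_span ⟨Sum.inr i, rfl⟩))
              (S.smul_mem t (Submodule.subset_span ⟨Sum.inl i, rfl⟩))
        | zero => rw [map_zero]; exact S.zero_mem
        | add z z' _ _ h1 h2 => rw [map_add]; exact S.add_mem h1 h2
        | smul a z _ h1 => rw [map_smul]; exact S.smul_mem a h1
      obtain ⟨v, hv⟩ : ∃ v, v ∉ S := by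
        by_contra hne
        push Not at hne
        have h1 := congrArg (fun U : Submodule F (Fin n → F) => finrank F U) (Submodule.eq_top_iff'.2 hne)
        simp only [finrank_top, Module.finrank_fin_fun, hu] at h1
        omega
      have key : ∀ a b : F, a • v + b • Ω v ∈ S → a = 0 ∧ b = 0 := by
        intro a b h
        have h2 : (a * a + a * b * s - b * b * t) • v ∈ S := by
          have e : (a * a + a * b * s - b * b * t) • v =
              (a + b * s) • (a • v + b • Ω v) - b • Ω (a • v + b • Ω v) := by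
            rw [map_add, map_smul, map_smul, hΩ]
            module
          rw [e]
          exact S.sub_mem (S.smul_mem _ h) (S.smul_mem b (hinv _ h))
        have h3 : a * a + a * b * s - b * b * t = 0 := by
          by_contra hne
          exact hv ((Submodule.smul_mem_iff S hne).1 h2)
        by_cases hb : b = 0
        · subst hb
          simp at h3
          exact ⟨h3, rfl⟩
        · refine absurd ?_ (hroot (-(a / b)))
          field_simp
          linear_combination h3
      refine ⟨Fin.snoc u v, ?_⟩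
      let P := Submodule.span F (Set.range ![v, Ω v])
      have hP : finrank F P = 2 := by
        rw [finrank_span_eq_card, Fintype.card_fin]
        refine LinearIndependent.pair_iff.2 fun a b h => key a b ?_
        rw [h]; exact S.zero_mem
      have hSP : S ⊓ P = ⊥ := by
        rw [eq_bot_iff]
        rintro z ⟨hzS, hzP⟩
        obtain ⟨a, rfl⟩ := (Submodule.mem_span_range_iff_exists_fun F).1 hzP
        rw [Fin.sum_univ_two] at hzS ⊢
        simp only [Matrix.cons_val_zero, Matrix.cons_val_one] at hzS ⊢
        obtain ⟨h1, h2⟩ := key _ _ hzS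
        rw [h1, h2, zero_smul, zero_smul, add_zero]
        exact zero_mem _
      have hspan : Submodule.span F (Set.range (Sum.elim (Fin.snoc u v) (Ω ∘ Fin.snoc u v))) = S ⊔ P := by
        refine le_antisymm (Submodule.span_le.2 ?_) (sup_le (Submodule.span_le.2 ?_) (Submodule.span_le.2 ?_))
        · rintro _ ⟨i | i, rfl⟩ <;> refine Fin.lastCases ?_ (fun j => ?_) i
          · exact Submodule.mem_sup_right (Submodule.subset_span ⟨0, by simp⟩)
          · exact Submodule.mem_sup_left (Submodule.subset_span ⟨Sum.inl j, by simp⟩)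
          · exact Submodule.mem_sup_right (Submodule.subset_span ⟨1, by simp⟩)
          · exact Submodule.mem_sup_left (Submodule.subset_span ⟨Sum.inr j, by simp⟩)
        · rintro _ ⟨i | i, rfl⟩
          · exact Submodule.subset_span ⟨Sum.inl i.castSucc, by simp⟩
          · exact Submodule.subset_span ⟨Sum.inr i.castSucc, by simp⟩
        · rintro _ ⟨i, rfl⟩
          fin_cases i
          · exact Submodule.subset_span ⟨Sum.inl (Fin.last k), by simp⟩
          · exact Submodule.subset_span ⟨Sum.inr (Fin.last k), by simp⟩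
      have h1 := Submodule.finrank_sup_add_finrank_inf_eq S P
      rw [hSP, finrank_bot, hu, hP, ← hspan] at h1
      omega
  obtain ⟨u, hu⟩ := step m (by omega)
  exact ⟨u, Submodule.eq_top_of_finrank_eq (by rw [hu, Module.finrank_fin_fun]; omega)⟩

/-- The coordinates of the standard model. -/
theorem exists_model {Ω : End F (Fin n → F)} {s t : F} (hΩ : ∀ v, Ω (Ω v) = s • Ω v + t • v)
    (hroot : ∀ r : F, r * r ≠ s * r + t) {m : ℕ} (hm : n = 2 * m) :
    ∃ T : (Fin m ⊕ Fin m → F) ≃ₗ[F] (Fin n → F), ∀ v,
      Ω (T v) = T (Sum.elim (fun i => t * v (Sum.inr i)) (fun i => v (Sum.inl i) + s * v (Sum.inr i))) := by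
  classical
  obtain ⟨u, hu⟩ := exists_frame hΩ hroot hm
  let b := basisOfTopLeSpanOfCardEqFinrank (Sum.elim u (Ω ∘ u)) hu.ge
    (by rw [Fintype.card_sum, Fintype.card_fin, Module.finrank_fin_fun]; omega)
  let T := (Pi.basisFun F (Fin m ⊕ Fin m)).equiv b (Equiv.refl _)
  have hT : ∀ z, T (Pi.single z 1) = Sum.elim u (Ω ∘ u) z := fun z => by
    rw [← Pi.basisFun_apply]
    show (Pi.basisFun F _).equiv b _ _ = _
    rw [Basis.equiv_apply, coe_basisOfTopLeSpanOfCardEqFinrank]
    rfl
  let A : End F (Fin m ⊕ Fin m → F) :=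
    { toFun := fun v => Sum.elim (fun i => t * v (Sum.inr i)) (fun i => v (Sum.inl i) + s * v (Sum.inr i))
      map_add' := fun a b => by funext z; rcases z with i | i <;> simp <;> ring
      map_smul' := fun c a => by funext z; rcases z with i | i <;> simp <;> ring }
  have hA : Ω.comp T.toLinearMap = T.toLinearMap.comp A := by
    refine (Pi.basisFun F (Fin m ⊕ Fin m)).ext fun z => ?_
    rw [LinearMap.comp_apply, LinearMap.comp_apply, Pi.basisFun_apply, LinearEquiv.coe_coe, hT]
    rcases z with i | i
    · have e : A (Pi.single (Sum.inl i) 1) = Pi.single (Sum.inr i) 1 := by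
        funext z
        rcases z with j | j <;> by_cases hj : j = i <;> simp [A, Pi.single_apply, hj]
      rw [e, hT]
      rfl
    · have e : A (Pi.single (Sum.inr i) 1) = t • Pi.single (Sum.inl i) 1 + s • Pi.single (Sum.inr i) 1 := by
        funext z
        rcases z with j | j <;> by_cases hj : j = i <;> simp [A, Pi.single_apply, hj]
      rw [e, map_add, map_smul, map_smul, hT, hT]
      show Ω (Ω (u i)) = _
      rw [hΩ, add_comm]
      rfl
  exact ⟨T, fun v => LinearMap.congr_fun hA v⟩

variable [Fintype F]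

theorem exists_norm {s t : F} (hroot : ∀ r : F, r * r ≠ s * r + t) {d : F} (hd : d ≠ 0) :
    ∃ a b : F, a * a + s * a * b - t * b * b = d := by
  classical
  by_cases h2 : (2 : F) = 0
  · have : CharP F 2 := CharTwo.of_one_ne_zero_of_two_eq_zero one_ne_zero h2
    obtain ⟨r, hr⟩ := FiniteField.isSquare_of_char_two (ringChar.eq F 2) d
    exact ⟨r, 0, by rw [hr]; ring⟩
  · have hD : s * s + 4 * t ≠ 0 := by
      intro h
      apply hroot (s / 2)
      field_simp
      linear_combination -h
    have hodd : Fintype.card F % 2 = 1 := by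
      refine FiniteField.odd_card_of_char_ne_two fun h => h2 ?_
      have : CharP F 2 := h ▸ ringChar.charP F
      exact CharTwo.two_eq_zero
    obtain ⟨x, y, hxy⟩ := FiniteField.exists_root_sum_quadratic (R := F)
      (f := Polynomial.X ^ 2) (g := Polynomial.C (-(s * s + 4 * t)) * Polynomial.X ^ 2 + Polynomial.C 0 * Polynomial.X + Polynomial.C (-(4 * d)))
      (Polynomial.degree_X_pow 2) (Polynomial.degree_quadratic (neg_ne_zero.2 hD)) hodd
    simp at hxy
    refine ⟨(x - s * y) / 2, y, ?_⟩
    field_simp
    linear_combination hxy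

/-- Conjugating a quadratic structure onto a given one by a matrix of determinant one. -/
theorem exists_conj {ω Ω : M} {s t : F} (hω : ω * ω = s • ω + t • 1) (hΩ : Ω * Ω = s • Ω + t • 1)
    (hroot : ∀ r : F, r * r ≠ s * r + t) {m : ℕ} (hm : n = 2 * m) (hm0 : 0 < m) :
    ∃ P : Matrix.SpecialLinearGroup (Fin n) F, Ω * (P : M) = (P : M) * ω := by
  classical
  have hfun : ∀ {A : M}, A * A = s • A + t • 1 → ∀ v, Matrix.toLin' A (Matrix.toLin' A v) = s • Matrix.toLin' A v + t • v :=
    fun {A} hA v => by
      rw [Matrix.toLin'_apply, Matrix.toLin'_apply, Matrix.mulVec_mulVec, hA, Matrix.add_mulVec, Matrix.smul_mulVec,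
        Matrix.smul_mulVec, Matrix.one_mulVec]
  obtain ⟨T, hT⟩ := exists_model (hfun hω) hroot hm
  obtain ⟨T', hT'⟩ := exists_model (hfun hΩ) hroot hm
  have hd0 : LinearMap.det (T'.toLinearMap.comp T.symm.toLinearMap) ≠ 0 :=
    (LinearEquiv.isUnit_det' (T.symm.trans T')).ne_zero
  obtain ⟨a, b, hab⟩ := exists_norm hroot (inv_ne_zero hd0)
  -- an element of the model commuting with it, of determinant `d⁻¹`
  let i0 : Fin m := ⟨0, hm0⟩
  let α : Fin m → F := fun i => if i = i0 then a else 1
  let β : Fin m → F := fun i => if i = i0 then b else 0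
  let E : Matrix (Fin m ⊕ Fin m) (Fin m ⊕ Fin m) F := Matrix.fromBlocks (Matrix.diagonal α)
    (Matrix.diagonal fun i => t * β i) (Matrix.diagonal β) (Matrix.diagonal fun i => α i + s * β i)
  have hE : ∀ v z, Matrix.toLin' E v z = Sum.elim (fun i => α i * v (Sum.inl i) + t * β i * v (Sum.inr i))
      (fun i => β i * v (Sum.inl i) + (α i + s * β i) * v (Sum.inr i)) z := by
    intro v z
    rw [Matrix.toLin'_apply, Matrix.fromBlocks_mulVec]
    rcases z with i | i <;> simp [Matrix.mulVec_diagonal]
  have hEdet : E.det = (LinearMap.det (T'.toLinearMap.comp T.symm.toLinearMap))⁻¹ := by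
    have hstep : E.det = ∏ i, (α i * (α i + s * β i) - t * β i * β i) := by
      let e : Fin 2 × Fin m ≃ Fin m ⊕ Fin m :=
        { toFun := fun z => if z.1 = 0 then Sum.inl z.2 else Sum.inr z.2
          invFun := Sum.elim (fun i => (0, i)) (fun i => (1, i))
          left_inv := fun ⟨j, i⟩ => by fin_cases j <;> rfl
          right_inv := fun z => by rcases z with i | i <;> rfl }
      have he : E = Matrix.reindex e e (Matrix.blockDiagonal fun i => !![α i, t * β i; β i, α i + s * β i]) := by
        ext z z'
        rcases z with i | i <;> rcases z' with j | j <;>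
          simp [E, e, Matrix.blockDiagonal_apply, Matrix.diagonal_apply]
      rw [he, Matrix.det_reindex_self, Matrix.det_blockDiagonal]
      refine Finset.prod_congr rfl fun i _ => ?_
      rw [Matrix.det_fin_two_of]
    rw [hstep, ← hab, Finset.prod_eq_single i0]
    · simp [α, β]; ring
    · intro i _ hi; simp [α, β, hi]
    · simp
  let S : End F (Fin n → F) := T'.toLinearMap.comp ((Matrix.toLin' E).comp T.symm.toLinearMap)
  have hSdet : LinearMap.det S = 1 := by
    have e : S = (T'.toLinearMap.comp T.symm.toLinearMap).comp (T.conj (Matrix.toLin' E)) := by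
      apply LinearMap.ext
      intro v
      simp [S, LinearEquiv.conj_apply]
    rw [e, LinearMap.det_comp, LinearEquiv.conj_apply, LinearMap.comp_assoc, LinearMap.det_conj, LinearMap.det_toLin',
      hEdet, mul_inv_cancel₀ hd0]
  refine ⟨⟨LinearMap.toMatrix' S, by rw [LinearMap.det_toMatrix', hSdet]⟩, ?_⟩
  apply Matrix.toLin'.injective
  show Matrix.toLin' (Ω * LinearMap.toMatrix' S) = Matrix.toLin' (LinearMap.toMatrix' S * ω)
  rw [Matrix.toLin'_mul, Matrix.toLin'_mul, Matrix.toLin'_toMatrix']
  apply LinearMap.ext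
  intro v
  obtain ⟨v, rfl⟩ := T.surjective v
  show Matrix.toLin' Ω (T' (Matrix.toLin' E (T.symm (T v)))) = T' (Matrix.toLin' E (T.symm (Matrix.toLin' ω (T v))))
  rw [hT, hT', LinearEquiv.symm_apply_apply, LinearEquiv.symm_apply_apply]
  congr 1
  funext z
  rcases z with i | i <;> simp [hE] <;> ring

end Cfsg.Agent.Lib.MaxSub.QuadField
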