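import Cfsg.Agent.Lib.Geometry.WittQuadratic
import Cfsg.Agent.Lib.Geometry.OrthSiegel
import Cfsg.Agent.Lib.QuadFin.Normal
import Mathlib

/-!
Types of non-degenerate subspaces of quadratic spaces over finite fields of odd order.
-/

set_option autoImplicit false
set_option maxHeartbeats 1000000
set_option linter.unusedSectionVars false

namespace Cfsg.Agent.Lib.MaxSub.QuadType

open Module Cfsg.Agent.Lib.Geometry
open QuadraticMap (polarBilin)
open scoped _root_.Classical

attribute [local simp] map_smul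
attribute [-simp] QuadraticMap.polarBilin_apply_apply

variable {F : Type*} [Field F] {V : Type*} [AddCommGroup V] [Module F V] [FiniteDimensional F V]
  (Q : QuadraticForm F V)

/-- The restriction of the form is non-degenerate. -/
def Nd (W : Submodule F V) : Prop := ∀ a ∈ W, a ≠ 0 → ∃ x ∈ W, polarBilin Q a x ≠ 0

/-- Totally singular. -/
def TS (W : Submodule F V) : Prop := ∀ u ∈ W, Q u = 0

/-- A totally singular subspace of half the dimension exists. -/
def Plus (W : Submodule F V) : Prop := ∃ U ≤ W, TS Q U ∧ 2 * finrank F U = finrank F W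

/-- The perpendicular space. -/
def perp (W : Submodule F V) : Submodule F V where
  carrier := {x | ∀ w ∈ W, polarBilin Q w x = 0}
  add_mem' {a b} ha hb w hw := by rw [map_add, ha w hw, hb w hw, add_zero]
  zero_mem' w _ := map_zero _
  smul_mem' c a ha w hw := by rw [map_smul, ha w hw, smul_zero]

theorem perp_anti {A B : Submodule F V} (h : A ≤ B) : perp Q B ≤ perp Q A := fun _ hx w hw => hx w (h hw)

theorem mem_perp' {W : Submodule F V} {x : V} (hx : x ∈ perp Q W) {w : V} (hw : w ∈ W) : polarBilin Q x w = 0 := by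
  rw [quad_polar_comm]; exact hx w hw

theorem ts_polar {U : Submodule F V} (hU : TS Q U) {a b : V} (ha : a ∈ U) (hb : b ∈ U) : polarBilin Q a b = 0 := by
  have h := hU (a + b) (U.add_mem ha hb)
  rw [quad_add, hU a ha, hU b hb, zero_add, zero_add] at h
  exact h

theorem ts_of_perp (h2 : (2 : F) ≠ 0) {U : Submodule F V} (hU : U ≤ perp Q U) : TS Q U := fun u hu => by
  have h := hU hu u hu
  rw [quad_polar_self] at h
  exact (mul_eq_zero.1 h).resolve_left h2

theorem nd_bot : Nd Q ⊥ := fun _ ha ha0 => absurd ((Submodule.mem_bot F).1 ha) ha0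

theorem nd_top (hQ : (polarBilin Q).Nondegenerate) : Nd Q ⊤ := fun a _ ha0 => by
  by_contra hc
  push Not at hc
  exact ha0 (hQ.1 a fun y => hc y Submodule.mem_top)

theorem inf_perp {L : Submodule F V} (hL : Nd Q L) (U : Submodule F V) : L ⊓ (U ⊓ perp Q L) = ⊥ := by
  rw [Submodule.eq_bot_iff]
  rintro v ⟨h1, -, h3⟩
  by_contra h0
  obtain ⟨x, hx, hvx⟩ := hL v h1 h0
  exact hvx (mem_perp' Q h3 hx)

/-- The part of `U` orthogonal to a subspace `L` has complementary dimension. -/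
theorem dim_inf_perp {U L : Submodule F V} (hU : Nd Q U) (hLU : L ≤ U) :
    finrank F L + finrank F (U ⊓ perp Q L : Submodule F V) = finrank F U := by
  let ψ : L →ₗ[F] Module.Dual F U := (polarBilin Q).domRestrict₁₂ L U
  have hψ : Function.Injective ψ := (injective_iff_map_eq_zero ψ).2 fun l hl => Subtype.ext (by
    by_contra h0
    obtain ⟨x, hx, hlx⟩ := hU l (hLU l.2) h0
    exact hlx (LinearMap.congr_fun hl ⟨x, hx⟩))
  let φ : U →ₗ[F] Module.Dual F L := ψ.flip
  have hs : Function.Surjective φ := by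
    have h := (LinearMap.dualMap_surjective_of_injective hψ).comp (Module.evalEquiv F U).surjective
    intro ξ
    obtain ⟨u, hu⟩ := h ξ
    exact ⟨u, by rw [← hu]; rfl⟩
  have h1 := φ.finrank_range_add_finrank_ker
  rw [LinearMap.range_eq_top.2 hs, finrank_top, Subspace.dual_finrank_eq] at h1
  have h2 : LinearMap.ker φ = (perp Q L).comap U.subtype := by
    ext u
    rw [LinearMap.mem_ker, Submodule.mem_comap]
    exact ⟨fun h w hw => LinearMap.congr_fun h ⟨w, hw⟩, fun h => LinearMap.ext fun w => h w w.2⟩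
  rw [h2] at h1
  rw [← h1]
  congr 1
  rw [← Submodule.map_comap_subtype U (perp Q L)]
  exact (Submodule.equivMapOfInjective _ U.subtype_injective _).finrank_eq.symm

theorem split_off {U L : Submodule F V} (hU : Nd Q U) (hL : Nd Q L) (hLU : L ≤ U) :
    L ⊔ (U ⊓ perp Q L) = U ∧ Nd Q (U ⊓ perp Q L) ∧
      finrank F L + finrank F (U ⊓ perp Q L : Submodule F V) = finrank F U := by
  have hdim := dim_inf_perp Q hU hLU
  have hsup : L ⊔ (U ⊓ perp Q L) = U := by
    have h4 := Submodule.finrank_sup_add_finrank_inf_eq L (U ⊓ perp Q L)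
    rw [inf_perp Q hL U, finrank_bot, add_zero] at h4
    exact Submodule.eq_of_le_of_finrank_le (sup_le hLU inf_le_left) (by omega)
  refine ⟨hsup, fun a ha ha0 => ?_, hdim⟩
  by_contra hc
  push Not at hc
  obtain ⟨x, hx, hax⟩ := hU a ha.1 ha0
  obtain ⟨l, hl, m, hm, rfl⟩ := Submodule.mem_sup.1 (hsup.symm ▸ hx : x ∈ L ⊔ (U ⊓ perp Q L))
  exact hax (by rw [map_add, hc m hm, mem_perp' Q ha.2 hl, zero_add])

theorem nd_sup {A B : Submodule F V} (hA : Nd Q A) (hB : Nd Q B) (h : B ≤ perp Q A) :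
    Nd Q (A ⊔ B) ∧ finrank F (A ⊔ B : Submodule F V) = finrank F A + finrank F B := by
  refine ⟨fun v hv hv0 => ?_, ?_⟩
  · obtain ⟨a, ha, b, hb, rfl⟩ := Submodule.mem_sup.1 hv
    by_cases ha0 : a = 0
    · subst ha0
      rw [zero_add] at hv0 ⊢
      obtain ⟨x, hx, hbx⟩ := hB b hb hv0
      exact ⟨x, Submodule.mem_sup_right hx, hbx⟩
    · obtain ⟨x, hx, hax⟩ := hA a ha ha0
      refine ⟨x, Submodule.mem_sup_left hx, ?_⟩
      rw [map_add, LinearMap.add_apply, mem_perp' Q (h hb) hx, add_zero]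
      exact hax
  · have hi : A ⊓ B = ⊥ := le_bot_iff.1 (le_trans (le_inf inf_le_left (le_inf inf_le_right (inf_le_right.trans h)))
      (inf_perp Q hA B).le)
    have h4 := Submodule.finrank_sup_add_finrank_inf_eq A B
    rw [hi, finrank_bot, add_zero] at h4
    exact h4

variable (hQ : (polarBilin Q).Nondegenerate)
include hQ

theorem compl_perp {W : Submodule F V} (hW : Nd Q W) :
    W ⊔ perp Q W = ⊤ ∧ Nd Q (perp Q W) ∧ finrank F W + finrank F (perp Q W) = finrank F V ∧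
      perp Q (perp Q W) = W := by
  have h := split_off Q (nd_top Q hQ) hW le_top
  rw [top_inf_eq, finrank_top] at h
  refine ⟨h.1, h.2.1, h.2.2, ?_⟩
  have h' := dim_inf_perp Q (nd_top Q hQ) (le_top : perp Q W ≤ ⊤)
  rw [top_inf_eq, finrank_top] at h'
  refine (Submodule.eq_of_le_of_finrank_le (show W ≤ perp Q (perp Q W) from fun w hw x hx => mem_perp' Q hx hw) ?_).symm
  omega

/-- The orthogonal projection. -/
theorem exists_proj {W : Submodule F V} (hW : Nd Q W) :
    ∃ π : V →ₗ[F] V, (∀ v, π v ∈ W) ∧ (∀ w ∈ W, π w = w) ∧ (∀ b ∈ perp Q W, π b = 0) ∧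
      ∀ v, v - π v ∈ perp Q W := by
  obtain ⟨h1, -, h3, -⟩ := compl_perp Q hQ hW
  have hc : IsCompl W (perp Q W) := by
    refine IsCompl.of_eq (le_bot_iff.1 (le_trans (le_inf inf_le_left (le_inf le_top inf_le_right)) (inf_perp Q hW ⊤).le)) h1
  refine ⟨W.projection (perp Q W) hc, fun v => Submodule.projection_apply_mem hc v, fun w hw => ?_, fun b hb => ?_, fun v => ?_⟩
  · exact Submodule.projection_apply_of_mem_left hc hw
  · exact (Submodule.projection_apply_eq_zero_iff hc).2 hb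
  · exact (Submodule.projection_apply_eq_zero_iff hc).1 (by
      rw [map_sub, Submodule.projection_apply_of_mem_left hc (Submodule.projection_apply_mem hc v), sub_self])

/-- An extension fixing the perpendicular space. -/
theorem witt_on {W A : Submodule F V} (hW : Nd Q W) (hA : A ≤ W) (φ : V →ₗ[F] V) (hφW : ∀ a ∈ A, φ a ∈ W)
    (hinj : ∀ a ∈ A, φ a = 0 → a = 0) (hφ : ∀ a ∈ A, Q (φ a) = Q a) :
    ∃ g : quadIsometries Q, (∀ a ∈ A, (g : V ≃ₗ[F] V) a = φ a) ∧ (∀ b ∈ perp Q W, (g : V ≃ₗ[F] V) b = b) := by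
  obtain ⟨π, hπ1, hπ2, hπ3, hπ4⟩ := exists_proj Q hQ hW
  let ψ : V →ₗ[F] V := φ ∘ₗ π + (LinearMap.id - π)
  have hψ : ∀ a ∈ A, ∀ b ∈ perp Q W, ψ (a + b) = φ a + b := fun a ha b hb => by
    simp [ψ, hπ2 a (hA ha), hπ3 b hb]
  have hi : Function.Injective (ψ.domRestrict (A ⊔ perp Q W)) := by
    refine (injective_iff_map_eq_zero _).2 fun ⟨v, hv⟩ h => ?_
    obtain ⟨a, ha, b, hb, rfl⟩ := Submodule.mem_sup.1 hv
    rw [LinearMap.domRestrict_apply, hψ a ha b hb] at h
    have hb0 : b = 0 := by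
      have : b ∈ W ⊓ ((⊤ : Submodule F V) ⊓ perp Q W) := ⟨by
        rw [eq_neg_of_add_eq_zero_right h]; exact W.neg_mem (hφW a ha), Submodule.mem_top, hb⟩
      rw [inf_perp Q hW] at this
      exact (Submodule.mem_bot F).1 this
    subst hb0
    rw [add_zero] at h
    exact Subtype.ext (by simp [hinj a ha h])
  have hq : ∀ x : (A ⊔ perp Q W : Submodule F V), Q (ψ.domRestrict (A ⊔ perp Q W) x) = Q (x : V) := by
    rintro ⟨v, hv⟩
    obtain ⟨a, ha, b, hb, rfl⟩ := Submodule.mem_sup.1 hv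
    rw [LinearMap.domRestrict_apply, hψ a ha b hb, quad_add, quad_add, hφ a ha, hb a (hA ha), hb _ (hφW a ha)]
  obtain ⟨g, hg, hgφ⟩ := witt_quadratic Q hQ (A ⊔ perp Q W) (ψ.domRestrict _) hi hq
  refine ⟨⟨g, hg⟩, fun a ha => ?_, fun b hb => ?_⟩
  · have h := hgφ ⟨a, Submodule.mem_sup_left ha⟩
    have e := hψ a ha 0 (Submodule.zero_mem _)
    simp only [add_zero] at e
    exact h.trans e
  · have h := hgφ ⟨b, Submodule.mem_sup_right hb⟩
    have e := hψ 0 (Submodule.zero_mem _) b hb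
    rw [zero_add, map_zero, zero_add] at e
    exact h.trans e

variable (h2 : (2 : F) ≠ 0)
include h2

omit h2 in
theorem ts_half {U W : Submodule F V} (hW : Nd Q W) (hUW : U ≤ W) (hU : TS Q U) : 2 * finrank F U ≤ finrank F W := by
  have h := dim_inf_perp Q hW hUW
  have := Submodule.finrank_mono (le_inf hUW (fun u hu w hw => ts_polar Q hU hw hu) : U ≤ W ⊓ perp Q U)
  omega

omit h2 in
theorem plus_sup {A B : Submodule F V} (hA : Nd Q A) (hB : Nd Q B) (h : B ≤ perp Q A) (pA : Plus Q A) (pB : Plus Q B) :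
    Plus Q (A ⊔ B) := by
  obtain ⟨U, hUA, hU, hUd⟩ := pA
  obtain ⟨U', hUB, hU', hUd'⟩ := pB
  refine ⟨U ⊔ U', sup_le_sup hUA hUB, fun v hv => ?_, ?_⟩
  · obtain ⟨a, ha, b, hb, rfl⟩ := Submodule.mem_sup.1 hv
    rw [quad_add, hU a ha, hU' b hb, h (hUB hb) a (hUA ha)]
    ring
  · have hi : U ⊓ U' = ⊥ := le_bot_iff.1 (le_trans (le_inf (inf_le_left.trans hUA)
      (le_inf (inf_le_right.trans hUB) ((inf_le_right.trans hUB).trans h))) (inf_perp Q hA B).le)
    have h4 := Submodule.finrank_sup_add_finrank_inf_eq U U'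
    rw [hi, finrank_bot, add_zero] at h4
    rw [(nd_sup Q hA hB h).2]
    omega

/-- Plus type subspaces cancel. -/
theorem plus_cancel {W P : Submodule F V} (hW : Nd Q W) (hP : Nd Q P) (hPW : P ≤ W) (pW : Plus Q W) (pP : Plus Q P) :
    Plus Q (W ⊓ perp Q P) := by
  obtain ⟨U, hUW, hU, hUd⟩ := pW
  obtain ⟨U₀, hU₀P, hU₀, hU₀d⟩ := pP
  have hle := Submodule.finrank_mono hPW
  obtain ⟨φ, hφU, hφi⟩ : ∃ φ : V →ₗ[F] V, (∀ a ∈ U₀, φ a ∈ U) ∧ ∀ a ∈ U₀, φ a = 0 → a = 0 := by
    obtain ⟨f, hf⟩ := (finrank_le_iff_exists_linearMap (R := F) (M := U₀) (M' := U)).1 (by omega)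
    obtain ⟨φ, hφ⟩ := LinearMap.exists_extend (U.subtype ∘ₗ f)
    refine ⟨φ, fun a ha => ?_, fun a ha h => ?_⟩
    · have e := LinearMap.congr_fun hφ ⟨a, ha⟩
      simp only [LinearMap.comp_apply, Submodule.subtype_apply] at e
      rw [e]
      exact SetLike.coe_mem _
    · have e := LinearMap.congr_fun hφ ⟨a, ha⟩
      simp only [LinearMap.comp_apply, Submodule.subtype_apply, h] at e
      have := hf (show f ⟨a, ha⟩ = f 0 by rw [map_zero]; exact Subtype.ext e.symm)
      simpa using congrArg Subtype.val this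
  obtain ⟨g, hg1, hg2⟩ := witt_on Q hQ hW (hU₀P.trans hPW) φ (fun a ha => hUW (hφU a ha)) hφi
    (fun a ha => by rw [hU _ (hφU a ha), hU₀ a ha])
  set U'' := U.comap ((g : V ≃ₗ[F] V) : V →ₗ[F] V) with hU''
  have hU''d : finrank F U'' = finrank F U := by
    rw [hU'', Submodule.comap_equiv_eq_map_symm]
    exact LinearEquiv.finrank_map_eq _ _
  have hU''W : U'' ≤ W := fun v hv => by
    rw [← (compl_perp Q hQ hW).2.2.2]
    intro b hb
    have h := quad_polar_map Q (T := ((g : V ≃ₗ[F] V) : V →ₗ[F] V)) g.2 b v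
    simp only [LinearEquiv.coe_coe, hg2 b hb] at h
    rw [← h]
    exact mem_perp' Q hb (hUW hv)
  have hU''ts : TS Q U'' := fun v hv => by rw [← g.2 v]; exact hU _ hv
  have hU₀'' : U₀ ≤ U'' := fun a ha => by
    show (g : V ≃ₗ[F] V) a ∈ U
    rw [hg1 a ha]; exact hφU a ha
  refine ⟨U'' ⊓ perp Q P, inf_le_inf_right _ hU''W, fun v hv => hU''ts v hv.1, ?_⟩
  obtain ⟨-, hR, hdim⟩ := split_off Q hW hP hPW
  have hhalf := ts_half Q hQ hR (inf_le_inf_right (perp Q P) hU''W) (fun v hv => hU''ts v hv.1)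
  -- a lower bound for the dimension
  let τ : U'' →ₗ[F] Module.Dual F P := (polarBilin Q).domRestrict₁₂ U'' P
  have h1 := τ.finrank_range_add_finrank_ker
  have hker : finrank F (LinearMap.ker τ) ≤ finrank F (U'' ⊓ perp Q P : Submodule F V) := by
    rw [← Submodule.map_comap_subtype U'' (perp Q P), ← (Submodule.equivMapOfInjective _ U''.subtype_injective _).finrank_eq]
    refine Submodule.finrank_mono fun u hu w hw => ?_
    rw [quad_polar_comm]
    exact LinearMap.congr_fun hu ⟨w, hw⟩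
  have hrange : LinearMap.range τ ≤ (U₀.comap P.subtype).dualAnnihilator := by
    rintro _ ⟨u, rfl⟩
    rw [Submodule.mem_dualAnnihilator]
    exact fun w hw => ts_polar Q hU''ts u.2 (hU₀'' hw)
  have h3 := Submodule.finrank_mono hrange
  have h4 := Subspace.finrank_add_finrank_dualAnnihilator_eq (U₀.comap P.subtype)
  rw [(Submodule.comapSubtypeEquivOfLe hU₀P).finrank_eq] at h4
  omega

/-- An anisotropic plane, with an orthogonal basis. -/
theorem plane_iff {v w : V} (hv : Q v ≠ 0) (hw : Q w ≠ 0) (hvw : polarBilin Q v w = 0) :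
    Nd Q ((F ∙ v) ⊔ (F ∙ w)) ∧ finrank F ((F ∙ v) ⊔ (F ∙ w) : Submodule F V) = 2 ∧
      (Plus Q ((F ∙ v) ⊔ (F ∙ w)) ↔ IsSquare (-(Q v * Q w))) := by
  have hs : ∀ {x : V}, Q x ≠ 0 → Nd Q (F ∙ x) := fun {x} hx a ha ha0 => by
    obtain ⟨c, rfl⟩ := Submodule.mem_span_singleton.1 ha
    refine ⟨x, Submodule.mem_span_singleton_self x, ?_⟩
    rw [map_smul, LinearMap.smul_apply, quad_polar_self, smul_eq_mul]
    exact mul_ne_zero (fun e => ha0 (by rw [e, zero_smul])) (mul_ne_zero h2 hx)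
  have hperp : (F ∙ w) ≤ perp Q (F ∙ v) := fun y hy x hx => by
    obtain ⟨a, rfl⟩ := Submodule.mem_span_singleton.1 hx
    obtain ⟨b, rfl⟩ := Submodule.mem_span_singleton.1 hy
    simp [hvw]
  obtain ⟨hnd, hd⟩ := nd_sup Q (hs hv) (hs hw) hperp
  have hv0 : v ≠ 0 := fun e => hv (by rw [e, QuadraticMap.map_zero])
  have hw0 : w ≠ 0 := fun e => hw (by rw [e, QuadraticMap.map_zero])
  rw [finrank_span_singleton hv0, finrank_span_singleton hw0] at hd
  refine ⟨hnd, hd, ⟨fun ⟨U, hUE, hU, hUd⟩ => ?_, fun ⟨t, ht⟩ => ?_⟩⟩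
  · obtain ⟨u, hu, hu0⟩ := (Submodule.ne_bot_iff U).1 fun e => by rw [e, finrank_bot] at hUd; omega
    obtain ⟨p, hp, q, hq, rfl⟩ := Submodule.mem_sup.1 (hUE hu)
    obtain ⟨a, rfl⟩ := Submodule.mem_span_singleton.1 hp
    obtain ⟨b, rfl⟩ := Submodule.mem_span_singleton.1 hq
    have h := hU _ hu
    rw [quad_add, quad_smul, quad_smul, map_smul, map_smul, LinearMap.smul_apply, hvw, smul_zero, smul_zero,
      add_zero] at h
    have hb : b ≠ 0 := fun e => by
      subst e
      rw [zero_mul, zero_mul, add_zero] at h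
      rcases mul_eq_zero.1 h with h' | h'
      · exact hu0 (by simp [mul_self_eq_zero.1 h'])
      · exact hv h'
    refine ⟨a * Q v / b, ?_⟩
    field_simp
    linear_combination (-1 : F) * h
  · refine ⟨F ∙ (Q w • v + t • w), ?_, fun u hu => ?_, ?_⟩
    · exact (Submodule.span_singleton_le_iff_mem _ _).2 (Submodule.add_mem_sup
        (Submodule.smul_mem _ _ (Submodule.mem_span_singleton_self v))
        (Submodule.smul_mem _ _ (Submodule.mem_span_singleton_self w)))
    · obtain ⟨c, rfl⟩ := Submodule.mem_span_singleton.1 hu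
      rw [quad_smul, quad_add, quad_smul, quad_smul, map_smul, map_smul, LinearMap.smul_apply, hvw, smul_zero,
        smul_zero, add_zero]
      linear_combination (-(c * c * Q w)) * ht
    · rw [hd, finrank_span_singleton]
      intro e
      have e1 := congrArg (fun z => polarBilin Q z v) e
      simp only [map_add, map_smul, LinearMap.add_apply, LinearMap.smul_apply, quad_polar_comm Q w v, hvw, smul_zero,
        add_zero, quad_polar_self, map_zero, LinearMap.zero_apply, smul_eq_mul, mul_zero] at e1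
      exact mul_ne_zero hw (mul_ne_zero h2 hv) e1

variable [Finite F]

theorem exists_val {U : Submodule F V} (hU : Nd Q U) (hd : 2 ≤ finrank F U) {c : F} (hc : c ≠ 0) :
    ∃ v ∈ U, Q v = c :=
  exists_quad_eq_mem Q h2 U (fun a ha h => by
    by_contra h0
    obtain ⟨x, hx, hax⟩ := hU a ha h0
    exact hax (h x hx)) hd c hc

/-- A hyperbolic plane through a singular vector. -/
theorem exists_hyp {U : Submodule F V} (hU : Nd Q U) {u : V} (hu : u ∈ U) (hu0 : u ≠ 0) (hQu : Q u = 0) :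
    ∃ z ∈ U, Q z = 0 ∧ polarBilin Q u z = 1 ∧ Nd Q ((F ∙ u) ⊔ (F ∙ z)) ∧
      finrank F ((F ∙ u) ⊔ (F ∙ z) : Submodule F V) = 2 ∧ Plus Q ((F ∙ u) ⊔ (F ∙ z)) := by
  obtain ⟨y, hy, huy⟩ := hU u hu hu0
  obtain ⟨y', hy'U, huy'⟩ : ∃ y' ∈ U, polarBilin Q u y' = 1 :=
    ⟨(polarBilin Q u y)⁻¹ • y, U.smul_mem _ hy, by rw [map_smul, smul_eq_mul, inv_mul_cancel₀ huy]⟩
  set z := y' - Q y' • u with hz
  have hzU : z ∈ U := U.sub_mem hy'U (U.smul_mem _ hu)
  have huu : polarBilin Q u u = 0 := by rw [quad_polar_self, hQu, mul_zero]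
  have huz : polarBilin Q u z = 1 := by simp [hz, huy', huu]
  have hQz : Q z = 0 := by
    rw [hz, quad_sub, quad_smul, hQu, map_smul, quad_polar_comm Q y' u, huy', smul_eq_mul]
    ring
  have hzu : polarBilin Q z u = 1 := by rw [quad_polar_comm]; exact huz
  have hzz : polarBilin Q z z = 0 := by rw [quad_polar_self, hQz, mul_zero]
  have hd : finrank F ((F ∙ u) ⊔ (F ∙ z) : Submodule F V) = 2 := by
    have hi : (F ∙ u) ⊓ (F ∙ z) = ⊥ := by
      rw [Submodule.eq_bot_iff]
      rintro x ⟨h1, h3⟩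
      obtain ⟨a, rfl⟩ := Submodule.mem_span_singleton.1 h1
      obtain ⟨b, hb⟩ := Submodule.mem_span_singleton.1 h3
      have e := congrArg (fun x => polarBilin Q x z) hb
      simp [hzz, huz] at e
      simp [← e]
    have h4 := Submodule.finrank_sup_add_finrank_inf_eq (F ∙ u) (F ∙ z)
    rw [hi, finrank_bot, add_zero, finrank_span_singleton hu0, finrank_span_singleton (fun e => by simp [e] at huz)] at h4
    exact h4
  refine ⟨z, hzU, hQz, huz, fun a ha ha0 => ?_, hd, F ∙ u, le_sup_left, fun x hx => ?_, ?_⟩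
  · obtain ⟨p, hp, q, hq, rfl⟩ := Submodule.mem_sup.1 ha
    obtain ⟨s, rfl⟩ := Submodule.mem_span_singleton.1 hp
    obtain ⟨t, rfl⟩ := Submodule.mem_span_singleton.1 hq
    by_cases hs : s = 0
    · refine ⟨u, Submodule.mem_sup_left (Submodule.mem_span_singleton_self u), ?_⟩
      have ht : t ≠ 0 := fun e => ha0 (by simp [hs, e])
      simp [hs, ht, hzu]
    · refine ⟨z, Submodule.mem_sup_right (Submodule.mem_span_singleton_self z), ?_⟩
      simp [hs, hzz, huz]
  · obtain ⟨a, rfl⟩ := Submodule.mem_span_singleton.1 hx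
    rw [quad_smul, hQu, mul_zero]
  · rw [hd, finrank_span_singleton hu0]

/-- A minus type space contains an anisotropic plane with hyperbolic complement. -/
theorem exists_plane : ∀ (N : ℕ) {W : Submodule F V}, finrank F W = N → Nd Q W → Even N → ¬ Plus Q W →
    ∃ v ∈ W, ∃ w ∈ W, Q v = 1 ∧ Q w ≠ 0 ∧ polarBilin Q v w = 0 ∧ ¬ IsSquare (-(Q w)) ∧
      Plus Q (W ⊓ perp Q ((F ∙ v) ⊔ (F ∙ w))) := by
  intro N
  induction N using Nat.strong_induction_on with
  | _ N ih =>
  intro W hN hW hev hnp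
  obtain ⟨h, rfl⟩ := hev
  rcases Nat.lt_or_ge h 1 with hh | hh
  · exact absurd ⟨⊥, bot_le, fun u hu => by rw [(Submodule.mem_bot F).1 hu, QuadraticMap.map_zero],
      by rw [finrank_bot]; omega⟩ hnp
  by_cases hh1 : h = 1
  · subst hh1
    obtain ⟨v, hv, hQv⟩ := exists_val Q hQ h2 hW (by omega) one_ne_zero
    have hv0 : v ≠ 0 := fun e => by simp [e] at hQv
    have hdim := dim_inf_perp Q hW ((Submodule.span_singleton_le_iff_mem _ _).2 hv)
    rw [finrank_span_singleton hv0] at hdim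
    obtain ⟨w, hw, hw0⟩ := (Submodule.ne_bot_iff _).1 (fun e => by rw [e, finrank_bot] at hdim; omega :
      W ⊓ perp Q (F ∙ v) ≠ ⊥)
    have hvw : polarBilin Q v w = 0 := hw.2 v (Submodule.mem_span_singleton_self v)
    have hQw : Q w ≠ 0 := by
      intro h0
      refine hnp ⟨F ∙ w, (Submodule.span_singleton_le_iff_mem _ _).2 hw.1, fun u hu => ?_, ?_⟩
      · obtain ⟨a, rfl⟩ := Submodule.mem_span_singleton.1 hu
        rw [quad_smul, h0, mul_zero]
      · rw [finrank_span_singleton hw0]; omega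
    obtain ⟨hE, hEd, hEp⟩ := plane_iff Q hQ h2 (by rw [hQv]; exact one_ne_zero) hQw hvw
    have hEW : (F ∙ v) ⊔ (F ∙ w) = W := Submodule.eq_of_le_of_finrank_le
      (sup_le ((Submodule.span_singleton_le_iff_mem _ _).2 hv) ((Submodule.span_singleton_le_iff_mem _ _).2 hw.1))
      (by omega)
    refine ⟨v, hv, w, hw.1, hQv, hQw, hvw, fun hsq => hnp (hEW ▸ hEp.2 (by rwa [hQv, one_mul])), ⊥, bot_le,
      fun u hu => by rw [(Submodule.mem_bot F).1 hu, QuadraticMap.map_zero], ?_⟩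
    have := (split_off Q hW hE hEW.le).2.2
    rw [finrank_bot]
    omega
  obtain ⟨u, hu, hu0, hQu⟩ := QuadFin.exists_singular_mem Q W (by omega)
  obtain ⟨z, hz, -, -, hH, hHd, hHp⟩ := exists_hyp Q hQ h2 hW hu hu0 hQu
  set H := (F ∙ u) ⊔ (F ∙ z)
  have hHW : H ≤ W := sup_le ((Submodule.span_singleton_le_iff_mem _ _).2 hu) ((Submodule.span_singleton_le_iff_mem _ _).2 hz)
  obtain ⟨hsup, hR, hdim⟩ := split_off Q hW hH hHW
  have hnpR : ¬ Plus Q (W ⊓ perp Q H) := fun hp => hnp (hsup ▸ plus_sup Q hQ hH hR inf_le_right hHp hp)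
  obtain ⟨v, hv, w, hw, hQv, hQw, hvw, hns, hp⟩ := ih _ (by omega) rfl hR ⟨h - 1, by omega⟩ hnpR
  refine ⟨v, hv.1, w, hw.1, hQv, hQw, hvw, hns, ?_⟩
  obtain ⟨hE, hEd, -⟩ := plane_iff Q hQ h2 (by rw [hQv]; exact one_ne_zero) hQw hvw
  set E := (F ∙ v) ⊔ (F ∙ w)
  have hER : E ≤ W ⊓ perp Q H := sup_le ((Submodule.span_singleton_le_iff_mem _ _).2 hv) ((Submodule.span_singleton_le_iff_mem _ _).2 hw)
  obtain ⟨-, hR', hdim'⟩ := split_off Q hR hE hER
  have hle : H ⊔ (W ⊓ perp Q H ⊓ perp Q E) ≤ W ⊓ perp Q E := by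
    refine sup_le (le_inf hHW fun x hx y hy => ?_) (inf_le_inf_right _ inf_le_left)
    exact mem_perp' Q (hER hy).2 hx
  have hd' := (nd_sup Q hH hR' (inf_le_left.trans inf_le_right)).2
  have hWE := (split_off Q hW hE (hER.trans inf_le_left)).2.2
  rw [← Submodule.eq_of_le_of_finrank_le hle (by omega)]
  exact plus_sup Q hQ hH hR' (inf_le_left.trans inf_le_right) hHp hp

/-- The sum of two minus type spaces is of plus type. -/
theorem minus_sup {A B : Submodule F V} (hA : Nd Q A) (hB : Nd Q B) (h : B ≤ perp Q A) (eA : Even (finrank F A))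
    (eB : Even (finrank F B)) (nA : ¬ Plus Q A) (nB : ¬ Plus Q B) : Plus Q (A ⊔ B) := by
  obtain ⟨v, hv, w, hw, hQv, hQw, hvw, hns, pA⟩ := exists_plane Q hQ h2 _ rfl hA eA nA
  obtain ⟨v₁, hv₁, w₁, hw₁, hQv₁, hQw₁, hvw₁, hns₁, pB⟩ := exists_plane Q hQ h2 _ rfl hB eB nB
  obtain ⟨hE, hEd, -⟩ := plane_iff Q hQ h2 (by rw [hQv]; exact one_ne_zero) hQw hvw
  obtain ⟨hE', hEd', -⟩ := plane_iff Q hQ h2 (by rw [hQv₁]; exact one_ne_zero) hQw₁ hvw₁
  set E := (F ∙ v) ⊔ (F ∙ w)
  set E' := (F ∙ v₁) ⊔ (F ∙ w₁)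
  have hEA : E ≤ A := sup_le ((Submodule.span_singleton_le_iff_mem _ _).2 hv) ((Submodule.span_singleton_le_iff_mem _ _).2 hw)
  have hEB : E' ≤ B := sup_le ((Submodule.span_singleton_le_iff_mem _ _).2 hv₁) ((Submodule.span_singleton_le_iff_mem _ _).2 hw₁)
  have hEE : E' ≤ perp Q E := fun y hy x hx => h (hEB hy) x (hEA hx)
  -- a singular line pair in the two planes
  obtain ⟨v', hv', hQv'⟩ := exists_val Q hQ h2 hE' hEd'.ge (neg_ne_zero.2 (one_ne_zero (α := F)))
  have hv'0 : v' ≠ 0 := fun e => by simp [e] at hQv'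
  have hdim := dim_inf_perp Q hE' ((Submodule.span_singleton_le_iff_mem _ _).2 hv')
  rw [finrank_span_singleton hv'0, hEd'] at hdim
  obtain ⟨w', hw', hw'0⟩ := (Submodule.ne_bot_iff _).1 (fun e => by rw [e, finrank_bot] at hdim; omega :
    E' ⊓ perp Q (F ∙ v') ≠ ⊥)
  have hvw' : polarBilin Q v' w' = 0 := hw'.2 v' (Submodule.mem_span_singleton_self v')
  have hnpE' : ¬ Plus Q E' := fun hp => hns₁ (by
    simpa [hQv₁] using (plane_iff Q hQ h2 (by rw [hQv₁]; exact one_ne_zero) hQw₁ hvw₁).2.2.1 hp)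
  have hQw' : Q w' ≠ 0 := fun h0 => hnpE' ⟨F ∙ w', (Submodule.span_singleton_le_iff_mem _ _).2 hw'.1, fun x hx => by
    obtain ⟨a, rfl⟩ := Submodule.mem_span_singleton.1 hx
    rw [quad_smul, h0, mul_zero], by rw [hEd', finrank_span_singleton hw'0]⟩
  have hspan : (F ∙ v') ⊔ (F ∙ w') = E' := Submodule.eq_of_le_of_finrank_le
    (sup_le ((Submodule.span_singleton_le_iff_mem _ _).2 hv') ((Submodule.span_singleton_le_iff_mem _ _).2 hw'.1))
    (by rw [hEd', (plane_iff Q hQ h2 (by rw [hQv']; exact neg_ne_zero.2 one_ne_zero) hQw' hvw').2.1])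
  have hns' : ¬ IsSquare (Q w') := fun hs => hnpE' (by
    rw [← hspan]
    exact (plane_iff Q hQ h2 (by rw [hQv']; exact neg_ne_zero.2 one_ne_zero) hQw' hvw').2.2.2 (by
      rwa [hQv', neg_one_mul, neg_neg]))
  obtain ⟨t, ht⟩ := isSquare_mul_iff_of_not_isSquare hns hns'
  have key : ∀ x ∈ E, ∀ y ∈ E', polarBilin Q x y = 0 := fun x hx y hy => hEE hy x hx
  have pEE : Plus Q (E ⊔ E') := by
    have a1 : v ∈ E := Submodule.mem_sup_left (Submodule.mem_span_singleton_self v)
    have a2 : w ∈ E := Submodule.mem_sup_right (Submodule.mem_span_singleton_self w)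
    refine ⟨(F ∙ (v + v')) ⊔ (F ∙ (Q w' • w + t • w')), sup_le ?_ ?_, fun x hx => ?_, ?_⟩
    · exact (Submodule.span_singleton_le_iff_mem _ _).2 (Submodule.add_mem_sup a1 hv')
    · exact (Submodule.span_singleton_le_iff_mem _ _).2 (Submodule.add_mem_sup (E.smul_mem _ a2) (E'.smul_mem _ hw'.1))
    · obtain ⟨p, hp, q, hq, rfl⟩ := Submodule.mem_sup.1 hx
      obtain ⟨a, rfl⟩ := Submodule.mem_span_singleton.1 hp
      obtain ⟨b, rfl⟩ := Submodule.mem_span_singleton.1 hq
      simp only [quad_add, quad_smul, map_add, map_smul, LinearMap.add_apply, LinearMap.smul_apply, smul_eq_mul,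
        key v a1 v' hv', key v a1 w' hw'.1, key w a2 w' hw'.1, key w a2 v' hv', hvw, hvw', hQv, hQv',
        quad_polar_comm Q v' w]
      linear_combination (-(b * b * Q w')) * ht
    · rw [(nd_sup Q hE hE' hEE).2, hEd, hEd']
      have e0 : v + v' ≠ 0 := fun e => by
        have e1 := congrArg (fun z => polarBilin Q z v) e
        simp [quad_polar_comm Q v' v, key v a1 v' hv', quad_polar_self, hQv, h2] at e1
      have hi : (F ∙ (v + v')) ⊓ (F ∙ (Q w' • w + t • w')) = ⊥ := by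
        rw [Submodule.eq_bot_iff]
        rintro x ⟨hx1, hx2⟩
        obtain ⟨a, rfl⟩ := Submodule.mem_span_singleton.1 hx1
        obtain ⟨b, hb⟩ := Submodule.mem_span_singleton.1 hx2
        have e1 := congrArg (fun z => polarBilin Q z v) hb
        simp [quad_polar_comm Q v' v, key v a1 v' hv', quad_polar_comm Q w v, hvw, quad_polar_comm Q w' v,
          key v a1 w' hw'.1, quad_polar_self, hQv, h2] at e1
        simp [e1]
      have e0' : Q w' • w + t • w' ≠ 0 := fun e => by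
        have e1 := congrArg (fun z => polarBilin Q z w) e
        simp [quad_polar_comm Q w' w, key w a2 w' hw'.1, quad_polar_self, h2, hQw, hQw'] at e1
      have h4 := Submodule.finrank_sup_add_finrank_inf_eq (F ∙ (v + v')) (F ∙ (Q w' • w + t • w'))
      rw [hi, finrank_bot, add_zero, finrank_span_singleton e0, finrank_span_singleton e0'] at h4
      omega
  obtain ⟨hA1, hRA, -⟩ := split_off Q hA hE hEA
  obtain ⟨hB1, hRB, -⟩ := split_off Q hB hE' hEB
  have hR2 : B ⊓ perp Q E' ≤ perp Q (A ⊓ perp Q E) := fun y hy x hx => h hy.1 x hx.1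
  obtain ⟨hRR, -⟩ := nd_sup Q hRA hRB hR2
  have hER : (A ⊓ perp Q E) ⊔ (B ⊓ perp Q E') ≤ perp Q (E ⊔ E') := by
    refine sup_le (fun y hy x hx => ?_) (fun y hy x hx => ?_) <;> obtain ⟨e, he, e', he', rfl⟩ := Submodule.mem_sup.1 hx
    · rw [map_add, LinearMap.add_apply, hy.2 e he, mem_perp' Q (h (hEB he')) hy.1, add_zero]
    · rw [map_add, LinearMap.add_apply, hy.2 e' he', h hy.1 e (hEA he), add_zero]
  have := plus_sup Q hQ (nd_sup Q hE hE' hEE).1 hRR hER pEE (plus_sup Q hQ hRA hRB hR2 pA pB)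
  rwa [sup_sup_sup_comm, hA1, hB1] at this

/-- The type of an orthogonal sum. -/
theorem sup_iff {A B : Submodule F V} (hA : Nd Q A) (hB : Nd Q B) (h : B ≤ perp Q A) (eA : Even (finrank F A))
    (eB : Even (finrank F B)) : Plus Q (A ⊔ B) ↔ (Plus Q A ↔ Plus Q B) := by
  have hAB := nd_sup Q hA hB h
  have hA' : A ≤ perp Q B := fun x hx y hy => mem_perp' Q (h hy) hx
  have eB' : (A ⊔ B) ⊓ perp Q A = B := by
    refine (Submodule.eq_of_le_of_finrank_le (le_inf le_sup_right h) ?_).symm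
    have := (split_off Q hAB.1 hA le_sup_left).2.2
    omega
  have eA' : (A ⊔ B) ⊓ perp Q B = A := by
    refine (Submodule.eq_of_le_of_finrank_le (le_inf le_sup_left hA') ?_).symm
    have := (split_off Q hAB.1 hB le_sup_right).2.2
    omega
  constructor
  · intro hp
    refine ⟨fun pA => ?_, fun pB => ?_⟩
    · exact eB' ▸ plus_cancel Q hQ h2 hAB.1 hA le_sup_left hp pA
    · exact eA' ▸ plus_cancel Q hQ h2 hAB.1 hB le_sup_right hp pB
  · intro hiff
    by_cases pA : Plus Q A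
    · exact plus_sup Q hQ hA hB h pA (hiff.1 pA)
    · exact minus_sup Q hQ h2 hA hB h eA eB pA (fun pB => pA (hiff.2 pB))

theorem exists_not_sq : ∃ δ : F, δ ≠ 0 ∧ ¬ IsSquare δ := by
  obtain ⟨δ, hδ⟩ := FiniteField.exists_nonsquare (F := F) fun e => h2 (by
    haveI := ringChar.of_eq e
    exact CharTwo.two_eq_zero)
  exact ⟨δ, fun e => hδ (e ▸ IsSquare.zero), hδ⟩

/-- Subspaces of both types in a larger non-degenerate space. -/
theorem exists_type : ∀ (h : ℕ) {U : Submodule F V}, Nd Q U → 2 * h < finrank F U → ∀ pl : Prop, (h = 0 → pl) →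
    ∃ W ≤ U, Nd Q W ∧ finrank F W = 2 * h ∧ (Plus Q W ↔ pl) := by
  intro h
  induction h with
  | zero =>
    intro U _ _ pl hpl
    refine ⟨⊥, bot_le, nd_bot Q, by rw [finrank_bot], iff_of_true ⟨⊥, le_rfl, ?_, by rw [finrank_bot]⟩ (hpl rfl)⟩
    intro u hu
    rw [(Submodule.mem_bot F).1 hu, QuadraticMap.map_zero]
  | succ h ih =>
    intro U hU hd pl _
    by_cases hh : h = 0
    · subst hh
      by_cases hp : pl
      · obtain ⟨u, hu, hu0, hQu⟩ := QuadFin.exists_singular_mem Q U (by omega)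
        obtain ⟨z, hz, -, -, hH, hHd, hHp⟩ := exists_hyp Q hQ h2 hU hu hu0 hQu
        exact ⟨_, sup_le ((Submodule.span_singleton_le_iff_mem _ _).2 hu) ((Submodule.span_singleton_le_iff_mem _ _).2 hz),
          hH, hHd, iff_of_true hHp hp⟩
      · obtain ⟨v, hv, hQv⟩ := exists_val Q hQ h2 hU (by omega) one_ne_zero
        have hv0 : v ≠ 0 := fun e => by simp [e] at hQv
        have hvv : Nd Q (F ∙ v) := fun a ha ha0 => by
          obtain ⟨c, rfl⟩ := Submodule.mem_span_singleton.1 ha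
          exact ⟨v, Submodule.mem_span_singleton_self v, by
            simp [quad_polar_self, hQv, h2, (smul_ne_zero_iff.1 ha0).1]⟩
        obtain ⟨-, hR, hdim⟩ := split_off Q hU hvv ((Submodule.span_singleton_le_iff_mem _ _).2 hv)
        rw [finrank_span_singleton hv0] at hdim
        obtain ⟨δ, hδ0, hδ⟩ := exists_not_sq Q hQ h2
        obtain ⟨w, hw, hQw⟩ := exists_val Q hQ h2 hR (by omega) (neg_ne_zero.2 hδ0)
        obtain ⟨hE, hEd, hEp⟩ := plane_iff Q hQ h2 (v := v) (w := w) (by rw [hQv]; exact one_ne_zero)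
          (by rw [hQw]; exact neg_ne_zero.2 hδ0) (hw.2 v (Submodule.mem_span_singleton_self v))
        refine ⟨_, sup_le ((Submodule.span_singleton_le_iff_mem _ _).2 hv) ((Submodule.span_singleton_le_iff_mem _ _).2 hw.1),
          hE, hEd, iff_of_false (fun p => hδ ?_) hp⟩
        simpa [hQv, hQw] using hEp.1 p
    obtain ⟨W, hWU, hW, hWd, hWp⟩ := ih hU (by omega) pl (fun e => absurd e hh)
    obtain ⟨hsup, hR, hdim⟩ := split_off Q hU hW hWU
    obtain ⟨u, hu, hu0, hQu⟩ := QuadFin.exists_singular_mem Q _ (by omega : 3 ≤ finrank F (U ⊓ perp Q W : Submodule F V))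
    obtain ⟨z, hz, -, -, hH, hHd, hHp⟩ := exists_hyp Q hQ h2 hR hu hu0 hQu
    set H := (F ∙ u) ⊔ (F ∙ z)
    have hHR : H ≤ U ⊓ perp Q W := sup_le ((Submodule.span_singleton_le_iff_mem _ _).2 hu) ((Submodule.span_singleton_le_iff_mem _ _).2 hz)
    obtain ⟨g1, g2⟩ := nd_sup Q hW hH (hHR.trans inf_le_right)
    refine ⟨W ⊔ H, sup_le hWU (hHR.trans inf_le_left), g1, by omega, ?_⟩
    rw [sup_iff Q hQ h2 hW hH (hHR.trans inf_le_right) ⟨h, by omega⟩ ⟨1, by omega⟩]
    simp [hHp, hWp]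

/-- A linear map carrying one subspace isometrically onto another. -/
def Carries (φ : V →ₗ[F] V) (W W' : Submodule F V) : Prop := W.map φ = W' ∧ ∀ x ∈ W, Q (φ x) = Q x

omit hQ h2 [Finite F] in
theorem carries_inj {W W' : Submodule F V} {φ : V →ₗ[F] V} (hW : Nd Q W) (hφ : Carries Q φ W W') :
    ∀ a ∈ W, φ a = 0 → a = 0 := fun a ha h => by
  by_contra h0
  obtain ⟨x, hx, hax⟩ := hW a ha h0
  have e := hφ.2 (a + x) (W.add_mem ha hx)
  rw [map_add, h, zero_add, hφ.2 x hx, quad_add, ← hφ.2 a ha, h, QuadraticMap.map_zero] at e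
  exact hax (by linear_combination -e)

omit h2 [Finite F] in
theorem carries_sup {A B A' B' : Submodule F V} {φ ψ : V →ₗ[F] V} (hA : Nd Q A) (h : B ≤ perp Q A)
    (h' : B' ≤ perp Q A') (h1 : Carries Q φ A A') (h3 : Carries Q ψ B B') :
    ∃ χ, Carries Q χ (A ⊔ B) (A' ⊔ B') := by
  obtain ⟨π, hπ1, hπ2, hπ3, -⟩ := exists_proj Q hQ hA
  refine ⟨φ ∘ₗ π + ψ ∘ₗ (LinearMap.id - π), ?_, fun x hx => ?_⟩
  · rw [Submodule.map_sup]
    congr 1
    · rw [← h1.1]
      exact SetLike.coe_injective (Set.image_congr fun a ha => by simp [hπ2 a ha])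
    · rw [← h3.1]
      exact SetLike.coe_injective (Set.image_congr fun b hb => by simp [hπ3 b (h hb)])
  · obtain ⟨a, ha, b, hb, rfl⟩ := Submodule.mem_sup.1 hx
    have e : (φ ∘ₗ π + ψ ∘ₗ (LinearMap.id - π) : V →ₗ[F] V) (a + b) = φ a + ψ b := by simp [hπ2 a ha, hπ3 b (h hb)]
    rw [e, quad_add, quad_add, h1.2 a ha, h3.2 b hb, h hb a ha,
      h' (h3.1 ▸ Submodule.mem_map_of_mem hb) _ (h1.1 ▸ Submodule.mem_map_of_mem ha)]

/-- Subspaces of the same dimension and type are isometric. -/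
theorem exists_carries : ∀ (h : ℕ) {W W' : Submodule F V}, Nd Q W → Nd Q W' → finrank F W = 2 * h →
    finrank F W' = 2 * h → (Plus Q W ↔ Plus Q W') → ∃ φ, Carries Q φ W W' := by
  intro h
  induction h with
  | zero =>
    intro W W' _ _ hd hd' _
    refine ⟨0, ?_, fun x hx => ?_⟩
    · rw [Submodule.map_zero, Submodule.finrank_eq_zero.1 hd']
    · rw [Submodule.finrank_eq_zero.1 hd] at hx
      simp [(Submodule.mem_bot F).1 hx]
  | succ h ih =>
    intro W W' hW hW' hd hd' hiff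
    by_cases hp : Plus Q W
    · have hplane : ∀ {W : Submodule F V}, Nd Q W → finrank F W = 2 * (h + 1) → Plus Q W →
          ∃ u z, u ∈ W ∧ z ∈ W ∧ Q u = 0 ∧ Q z = 0 ∧ polarBilin Q u z = 1 ∧ Nd Q ((F ∙ u) ⊔ (F ∙ z)) ∧
            finrank F (W ⊓ perp Q ((F ∙ u) ⊔ (F ∙ z)) : Submodule F V) = 2 * h ∧
            Plus Q (W ⊓ perp Q ((F ∙ u) ⊔ (F ∙ z))) := by
        intro W hW hd hp
        obtain ⟨T, hTW, hT, hTd⟩ := id hp
        obtain ⟨u, hu, hu0⟩ := (Submodule.ne_bot_iff T).1 fun e => by rw [e, finrank_bot] at hTd; omega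
        obtain ⟨z, hz, hQz, huz, hH, hHd, hHp⟩ := exists_hyp Q hQ h2 hW (hTW hu) hu0 (hT u hu)
        have hle := sup_le ((Submodule.span_singleton_le_iff_mem _ _).2 (hTW hu)) ((Submodule.span_singleton_le_iff_mem _ _).2 hz)
        exact ⟨u, z, hTW hu, hz, hT u hu, hQz, huz, hH, by have := (split_off Q hW hH hle).2.2; omega,
          plus_cancel Q hQ h2 hW hH hle hp hHp⟩
      obtain ⟨u, z, hu, hz, hQu, hQz, huz, hH, hRd, hRp⟩ := hplane hW hd hp
      obtain ⟨u', z', hu', hz', hQu', hQz', huz', hH', hRd', hRp'⟩ := hplane hW' hd' (hiff.1 hp)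
      let φ : V →ₗ[F] V := (polarBilin Q z).smulRight u' + (polarBilin Q u).smulRight z'
      have huu : polarBilin Q u u = 0 := by rw [quad_polar_self, hQu, mul_zero]
      have hzz : polarBilin Q z z = 0 := by rw [quad_polar_self, hQz, mul_zero]
      have hzu : polarBilin Q z u = 1 := by rw [quad_polar_comm]; exact huz
      have eu : φ u = u' := by simp [φ, hzu, huu]
      have ez : φ z = z' := by simp [φ, hzz, huz]
      have hc : Carries Q φ ((F ∙ u) ⊔ (F ∙ z)) ((F ∙ u') ⊔ (F ∙ z')) := by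
        refine ⟨by rw [Submodule.map_sup, Submodule.map_span, Submodule.map_span, Set.image_singleton,
          Set.image_singleton, eu, ez], fun x hx => ?_⟩
        obtain ⟨a, ha, b, hb, rfl⟩ := Submodule.mem_sup.1 hx
        obtain ⟨a, rfl⟩ := Submodule.mem_span_singleton.1 ha
        obtain ⟨b, rfl⟩ := Submodule.mem_span_singleton.1 hb
        simp [map_add, eu, ez, quad_add, quad_smul, hQu, hQz, hQu', hQz', huz, huz']
      obtain ⟨hsup, hR, -⟩ := split_off Q hW hH (sup_le ((Submodule.span_singleton_le_iff_mem _ _).2 hu) ((Submodule.span_singleton_le_iff_mem _ _).2 hz))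
      obtain ⟨hsup', hR', -⟩ := split_off Q hW' hH' (sup_le ((Submodule.span_singleton_le_iff_mem _ _).2 hu') ((Submodule.span_singleton_le_iff_mem _ _).2 hz'))
      obtain ⟨ψ, hψ⟩ := ih hR hR' hRd hRd' (iff_of_true hRp hRp')
      rw [← hsup, ← hsup']
      exact carries_sup Q hQ hH inf_le_right inf_le_right hc hψ
    · obtain ⟨v, hv, w, hw, hQv, hQw, hvw, hns, hRp⟩ := exists_plane Q hQ h2 _ rfl hW ⟨h + 1, by omega⟩ hp
      obtain ⟨v', hv', w₀, hw₀, hQv', hQw₀, hvw₀, hns₀, hRp'⟩ :=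
        exists_plane Q hQ h2 _ rfl hW' ⟨h + 1, by omega⟩ (fun e => hp (hiff.2 e))
      obtain ⟨t, ht⟩ := isSquare_mul_iff_of_not_isSquare hns hns₀
      have ht0 : t ≠ 0 := fun e => by
        rw [e, zero_mul, neg_mul_neg] at ht
        exact mul_ne_zero hQw hQw₀ ht
      set w' := (t / Q w₀) • w₀ with hw'def
      have hQw' : Q w' = Q w := by
        rw [hw'def, quad_smul]; field_simp
        linear_combination -ht
      have hspan : (F ∙ w') = (F ∙ w₀) := Submodule.span_singleton_smul_eq (Ne.isUnit (div_ne_zero ht0 hQw₀)) _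
      have hvw' : polarBilin Q v' w' = 0 := by simp [hw'def, hvw₀]
      obtain ⟨hE, hEd, -⟩ := plane_iff Q hQ h2 (by rw [hQv]; exact one_ne_zero) hQw hvw
      obtain ⟨hE', hEd', -⟩ := plane_iff Q hQ h2 (by rw [hQv']; exact one_ne_zero) hQw₀ hvw₀
      let φ : V →ₗ[F] V := ((2 * Q v)⁻¹ • polarBilin Q v).smulRight v' + ((2 * Q w)⁻¹ • polarBilin Q w).smulRight w'
      have ev : φ v = v' := by simp [φ, quad_polar_self, quad_polar_comm Q w v, hvw, hQv, h2]
      have ew : φ w = w' := by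
        simp [φ, quad_polar_self, hvw, hQw, h2]
        rw [show (Q w)⁻¹ * 2⁻¹ * (2 * Q w) = 1 by field_simp, one_smul]
      have hc : Carries Q φ ((F ∙ v) ⊔ (F ∙ w)) ((F ∙ v') ⊔ (F ∙ w₀)) := by
        refine ⟨by rw [Submodule.map_sup, Submodule.map_span, Submodule.map_span, Set.image_singleton,
          Set.image_singleton, ev, ew, hspan], fun x hx => ?_⟩
        obtain ⟨a, ha, b, hb, rfl⟩ := Submodule.mem_sup.1 hx
        obtain ⟨a, rfl⟩ := Submodule.mem_span_singleton.1 ha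
        obtain ⟨b, rfl⟩ := Submodule.mem_span_singleton.1 hb
        simp [map_add, ev, ew, quad_add, quad_smul, hQv, hQv', hQw', hvw, hvw']
      obtain ⟨hsup, hR, hdim⟩ := split_off Q hW hE (sup_le ((Submodule.span_singleton_le_iff_mem _ _).2 hv) ((Submodule.span_singleton_le_iff_mem _ _).2 hw))
      obtain ⟨hsup', hR', hdim'⟩ := split_off Q hW' hE' (sup_le ((Submodule.span_singleton_le_iff_mem _ _).2 hv') ((Submodule.span_singleton_le_iff_mem _ _).2 hw₀))
      obtain ⟨ψ, hψ⟩ := ih hR hR' (by omega) (by omega) (iff_of_true hRp hRp')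
      rw [← hsup, ← hsup']
      exact carries_sup Q hQ hE inf_le_right inf_le_right hc hψ

end Cfsg.Agent.Lib.MaxSub.QuadType
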