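import Cfsg.Agent.S5979
import Cfsg.Agent.Lib.MaxSub.QuadField
import Mathlib

/-!
Prime order elements and similitude groups of symmetric or Hermitian Gram matrices.
-/

set_option autoImplicit false
set_option maxHeartbeats 1000000

namespace Cfsg.Agent.Lib.MaxSub.SimilMat

open Matrix Polynomial Module

variable {F : Type*} [Field F] {n : ℕ}

local notation "M" => Matrix (Fin n) (Fin n) F

/-- Similitudes of a Gram matrix. -/
def Sim (σ : F →+* F) (G : M) (y : GL (Fin n) F) : Prop :=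
  ∃ μ : F, μ ≠ 0 ∧ (y : M)ᵀ * G * (y : M).map σ = μ • G

theorem map_smul_mat (σ : F →+* F) (c : F) (A : M) : (c • A).map σ = σ c • A.map σ := by
  ext i j
  simp

theorem aeval_map (σ : F →+* F) (Y : M) (g : F[X]) : (aeval Y g).map σ = aeval (Y.map σ) (g.map σ) := by
  induction g using Polynomial.induction_on with
  | C c => simp [Algebra.algebraMap_eq_smul_one, map_smul_mat, Matrix.map_one _ (map_zero σ) (map_one σ)]
  | add a b ha hb => rw [map_add, Polynomial.map_add, map_add, Matrix.map_add σ (map_add σ), ha, hb]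
  | monomial j c ih =>
    rw [pow_succ, ← mul_assoc, map_mul, Polynomial.map_mul, map_mul (aeval (Y.map σ)), aeval_X, Polynomial.map_X, aeval_X,
      Matrix.map_mul, ih]

theorem aeval_transpose (Y : M) (g : F[X]) : aeval Yᵀ g = (aeval Y g)ᵀ := by
  induction g using Polynomial.induction_on with
  | C c => simp [Algebra.algebraMap_eq_smul_one]
  | add a b ha hb => rw [map_add, map_add, Matrix.transpose_add, ha, hb]
  | monomial j c ih =>
    have h : Commute (aeval Y (Polynomial.C c * X ^ j)) Y := by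
      have := (Commute.all (Polynomial.C c * X ^ j) X).map (aeval (R := F) Y)
      rwa [aeval_X] at this
    rw [pow_succ, ← mul_assoc, map_mul, map_mul (aeval Y), aeval_X, aeval_X, ih, ← h.eq.symm, Matrix.transpose_mul]

theorem rank_conj {P Q : M} (h : P * Q = 1) (Y : M) : (Q * Y * P).rank = Y.rank := by
  rw [Matrix.rank_mul_eq_left_of_isUnit_det _ _ (Matrix.isUnit_det_of_right_inverse h),
    Matrix.rank_mul_eq_right_of_isUnit_det _ _ (Matrix.isUnit_det_of_left_inverse h)]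

theorem rank_map [Fintype F] (σ : F →+* F) (A : M) : (A.map σ).rank = A.rank := by
  classical
  have hb : Function.Bijective σ := ⟨σ.injective, Finite.injective_iff_surjective.1 σ.injective⟩
  have hmv : ∀ v : Fin n → F, A.map σ *ᵥ (σ ∘ v) = σ ∘ (A *ᵥ v) := fun v => (funext (RingHom.map_mulVec σ A v)).symm
  have hset : (LinearMap.range (A.map σ).mulVecLin : Set (Fin n → F)) = (σ ∘ ·) '' (LinearMap.range A.mulVecLin : Set (Fin n → F)) := by
    ext w
    constructor
    · rintro ⟨v, rfl⟩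
      obtain ⟨v', rfl⟩ := hb.2.comp_left v
      exact ⟨A *ᵥ v', ⟨v', rfl⟩, (hmv v').symm⟩
    · rintro ⟨_, ⟨v, rfl⟩, rfl⟩
      exact ⟨σ ∘ v, hmv v⟩
  have h1 : Nat.card (LinearMap.range (A.map σ).mulVecLin) = Nat.card (LinearMap.range A.mulVecLin) := by
    have h := congrArg (fun s : Set (Fin n → F) => Nat.card s) hset
    exact h.trans (Nat.card_image_of_injective hb.1.comp_left _)
  rw [Module.natCard_eq_pow_finrank (K := F) (V := LinearMap.range (A.map σ).mulVecLin),
    Module.natCard_eq_pow_finrank (K := F) (V := LinearMap.range A.mulVecLin)] at h1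
  exact Nat.pow_right_injective Finite.one_lt_card h1

/-- The rank invariant of similitudes. -/
theorem sim_rank [Fintype F] {σ : F →+* F} {G : M} (hG : G.det ≠ 0) {y : GL (Fin n) F} {μ : F}
    (h : (y : M)ᵀ * G * (y : M).map σ = μ • G) (g : F[X]) :
    (aeval (y : M) g).rank = (aeval (μ • ((y⁻¹ : GL (Fin n) F) : M)) (g.map σ)).rank := by
  have hGu : IsUnit G.det := isUnit_iff_ne_zero.2 hG
  have hy : (y : M).map σ = G⁻¹ * (μ • ((y⁻¹ : GL (Fin n) F) : M))ᵀ * G := by
    have h1 := congrArg (fun Z => G⁻¹ * (((y⁻¹ : GL (Fin n) F) : M)ᵀ * Z)) h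
    simp only [← mul_assoc] at h1
    rw [mul_assoc G⁻¹, ← Matrix.transpose_mul, Units.mul_inv, Matrix.transpose_one, mul_one, Matrix.nonsing_inv_mul _ hGu,
      one_mul] at h1
    rw [h1, Matrix.transpose_smul, Matrix.mul_smul, Matrix.mul_smul, Matrix.smul_mul]
  rw [← rank_map σ, aeval_map, hy, Cfsg.Agent.S5979.aeval_conj (Matrix.mul_nonsing_inv _ hGu) (Matrix.nonsing_inv_mul _ hGu),
    rank_conj (Matrix.mul_nonsing_inv _ hGu), aeval_transpose, Matrix.rank_transpose]

theorem multiplier_fixed [Nonempty (Fin n)] {σ : F →+* F} (hσ : ∀ a, σ (σ a) = a) {G : M} (hG : G.det ≠ 0)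
    (hGh : Gᵀ = G.map σ) {Y : M} {μ : F} (h : Yᵀ * G * Y.map σ = μ • G) : σ μ = μ := by
  have hmm : ∀ A : M, (A.map σ).map σ = A := fun A => by ext i j; simp [hσ]
  have hGG : G.map σ ≠ 0 := fun e => hG (by
    have := congrArg (fun A : M => A.map σ) e
    simp only [hmm] at this
    rw [this]
    simp [Matrix.det_zero])
  have h1 := congrArg Matrix.transpose h
  simp only [Matrix.transpose_mul, Matrix.transpose_transpose, Matrix.transpose_smul, hGh, ← mul_assoc] at h1
  have h2 := congrArg (fun A : M => A.map σ) h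
  simp only [Matrix.map_mul, map_smul_mat, hmm] at h2
  rw [← Matrix.transpose_map] at h1
  have h3 : (σ μ - μ) • G.map σ = 0 := by rw [sub_smul, ← h2, ← h1, sub_self]
  exact sub_eq_zero.1 ((smul_eq_zero.1 h3).resolve_right hGG)

theorem sim_pow {σ : F →+* F} {G Y : M} {μ : F} (h : Yᵀ * G * Y.map σ = μ • G) (k : ℕ) :
    (Y ^ k)ᵀ * G * (Y ^ k).map σ = μ ^ k • G := by
  induction k with
  | zero => simp [Matrix.map_one _ (map_zero σ) (map_one σ)]
  | succ k ih =>
    rw [pow_succ', Matrix.transpose_mul, Matrix.map_mul, show (Y ^ k)ᵀ * Yᵀ * G * (Y.map σ * (Y ^ k).map σ) =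
      (Y ^ k)ᵀ * (Yᵀ * G * Y.map σ) * (Y ^ k).map σ by simp only [mul_assoc], h, Matrix.mul_smul, Matrix.smul_mul, ih,
      smul_smul, pow_succ']

/-- What follows when a conjugate of `x` is a similitude. -/
theorem good_rank [Fintype F] [Nonempty (Fin n)] {σ : F →+* F} (hσ : ∀ a, σ (σ a) = a) {G : M} (hG : G.det ≠ 0)
    (hGh : Gᵀ = G.map σ) {r : ℕ} {x g : GL (Fin n) F} {z : F} (hz : (x : M) ^ r = z • 1) (h : Sim σ G (g⁻¹ * x * g)) :
    ∃ μ : F, μ ≠ 0 ∧ σ μ = μ ∧ μ ^ r = z * σ z ∧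
      ∀ P : F[X], (aeval (x : M) P).rank = (aeval (μ • ((x⁻¹ : GL (Fin n) F) : M)) (P.map σ)).rank := by
  obtain ⟨μ, hμ, h⟩ := h
  have hgg : (g : M) * ((g⁻¹ : GL (Fin n) F) : M) = 1 := Units.mul_inv g
  have hgg' : ((g⁻¹ : GL (Fin n) F) : M) * (g : M) = 1 := Units.inv_mul g
  refine ⟨μ, hμ, multiplier_fixed hσ hG hGh h, ?_, fun P => ?_⟩
  · have h1 := sim_pow h r
    have hp : ((g⁻¹ * x * g : GL (Fin n) F) : M) ^ r = z • 1 := by
      rw [← Units.val_pow_eq_pow_val, show (g⁻¹ * x * g) ^ r = g⁻¹ * x ^ r * g by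
        have := conj_pow (a := g⁻¹) (b := x) (i := r); simpa using this, Units.val_mul, Units.val_mul,
        Units.val_pow_eq_pow_val, hz, mul_smul_comm, mul_one, smul_mul_assoc, hgg']
    rw [hp, Matrix.transpose_smul, Matrix.transpose_one, map_smul_mat, Matrix.map_one _ (map_zero σ) (map_one σ),
      Matrix.smul_mul, one_mul, Matrix.mul_smul, mul_one, smul_smul] at h1
    have hG0 : G ≠ 0 := fun e => hG (by rw [e]; simp [Matrix.det_zero])
    have h2 : (μ ^ r - σ z * z) • G = 0 := by rw [sub_smul, ← h1, sub_self]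
    rw [mul_comm z]
    exact sub_eq_zero.1 ((smul_eq_zero.1 h2).resolve_right hG0)
  · have h1 := sim_rank hG h P
    rwa [Units.val_mul, Units.val_mul, Cfsg.Agent.S5979.aeval_conj hgg hgg', rank_conj hgg, _root_.mul_inv_rev, _root_.mul_inv_rev, inv_inv,
      Units.val_mul, Units.val_mul, ← mul_assoc, ← Matrix.smul_mul, ← Matrix.mul_smul,
      Cfsg.Agent.S5979.aeval_conj hgg hgg', rank_conj hgg] at h1

/-- A form preserved up to a scalar by `x` produces a conjugate similitude. -/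
theorem fix_of_form {σ : F →+* F} {G : M} {x : GL (Fin n) F} {μ κ : F} (hμ : μ ≠ 0) (hκ : κ ≠ 0) {S : M}
    (hS : (x : M)ᵀ * S * (x : M).map σ = μ • S) (h : GL (Fin n) F) (hh : (h : M)ᵀ * G * (h : M).map σ = κ • S)
    (hC : ∀ d : Fˣ, ∃ C : GL (Fin n) F, C * x = x * C ∧ Matrix.GeneralLinearGroup.det C = d) :
    ∃ g ∈ Cfsg.Geo.specialLinear (Fin n) F, Sim σ G (g⁻¹ * x * g) := by
  obtain ⟨C, hCx, hCd⟩ := hC (Matrix.GeneralLinearGroup.det h)⁻¹
  refine ⟨(h * C)⁻¹, inv_mem ?_, μ, hμ, ?_⟩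
  · show Matrix.GeneralLinearGroup.det (h * C) = 1
    rw [map_mul, hCd, mul_inv_cancel]
  · have e : ((h * C)⁻¹)⁻¹ * x * (h * C)⁻¹ = h * x * h⁻¹ := by
      rw [inv_inv, _root_.mul_inv_rev, mul_assoc h C x, hCx]
      group
    rw [e]
    set H := (h : M)
    set H' := ((h⁻¹ : GL (Fin n) F) : M)
    have hHH : H * H' = 1 := Units.mul_inv h
    have e2 : H'ᵀ * (κ • S) * H'.map σ = G := by
      rw [← hh, show H'ᵀ * (Hᵀ * G * H.map σ) * H'.map σ = (H * H')ᵀ * G * (H * H').map σ by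
        rw [Matrix.transpose_mul, Matrix.map_mul]; simp only [mul_assoc], hHH, Matrix.transpose_one,
        Matrix.map_one _ (map_zero σ) (map_one σ), one_mul, mul_one]
    rw [Units.val_mul, Units.val_mul]
    change (H * (x : M) * H')ᵀ * G * (H * (x : M) * H').map σ = μ • G
    rw [Matrix.transpose_mul, Matrix.transpose_mul, Matrix.map_mul, Matrix.map_mul,
      show H'ᵀ * ((x : M)ᵀ * Hᵀ) * G * (H.map σ * (x : M).map σ * H'.map σ) =
        H'ᵀ * ((x : M)ᵀ * (Hᵀ * G * H.map σ) * (x : M).map σ) * H'.map σ by simp only [mul_assoc], hh,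
      Matrix.mul_smul, Matrix.smul_mul, hS, smul_comm κ μ, Matrix.mul_smul, Matrix.smul_mul]
    exact congrArg (μ • ·) e2

/-- Transporting a preserved form along a change of basis. -/
theorem form_of_conj {σ : F →+* F} {X D T S : M} (hT : T.det ≠ 0) (hXT : X * T = T * D) {μ : F}
    (hS : Dᵀ * S * D.map σ = μ • S) :
    ∃ S' : M, S' = T⁻¹ᵀ * S * T⁻¹.map σ ∧ Xᵀ * S' * X.map σ = μ • S' := by
  have hu := isUnit_iff_ne_zero.2 hT
  have hX : T⁻¹ * X = D * T⁻¹ := by
    have h := congrArg (fun Z => T⁻¹ * Z * T⁻¹) hXT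
    simp only [mul_assoc, Matrix.mul_nonsing_inv _ hu, mul_one] at h
    rw [h, ← mul_assoc, Matrix.nonsing_inv_mul _ hu, one_mul]
  refine ⟨_, rfl, ?_⟩
  rw [show Xᵀ * (T⁻¹ᵀ * S * T⁻¹.map σ) * X.map σ = (T⁻¹ * X)ᵀ * S * (T⁻¹ * X).map σ by
    rw [Matrix.transpose_mul, Matrix.map_mul]; simp only [mul_assoc], hX, Matrix.transpose_mul, Matrix.map_mul,
    show T⁻¹ᵀ * Dᵀ * S * (D.map σ * T⁻¹.map σ) = T⁻¹ᵀ * (Dᵀ * S * D.map σ) * T⁻¹.map σ by simp only [mul_assoc], hS,
    Matrix.mul_smul, Matrix.smul_mul]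

theorem transport_herm {σ : F →+* F} (hσ : ∀ a, σ (σ a) = a) {T S : M} (hSh : Sᵀ = S.map σ) :
    (T⁻¹ᵀ * S * T⁻¹.map σ)ᵀ = (T⁻¹ᵀ * S * T⁻¹.map σ).map σ := by
  have hmm : ∀ A : M, (A.map σ).map σ = A := fun A => by ext i j; simp [hσ]
  rw [Matrix.transpose_mul, Matrix.transpose_mul, Matrix.transpose_transpose, Matrix.map_mul, Matrix.map_mul, hmm, hSh,
    Matrix.transpose_map, mul_assoc]

theorem transport_det {σ : F →+* F} {T S : M} (hT : T.det ≠ 0) (hS : S.det ≠ 0) :
    (T⁻¹ᵀ * S * T⁻¹.map σ).det ≠ 0 := by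
  rw [Matrix.det_mul, Matrix.det_mul, Matrix.det_transpose, ← RingHom.mapMatrix_apply, ← RingHom.map_det,
    Matrix.det_nonsing_inv, Ring.inverse_eq_inv']
  exact mul_ne_zero (mul_ne_zero (inv_ne_zero hT) hS) (by simpa using hT)

/-- Conjugating centralisers. -/
theorem centralizer_of_conj {x : GL (Fin n) F} {D T : M} (hT : T.det ≠ 0) (hXT : (x : M) * T = T * D)
    (hD : ∀ d : F, d ≠ 0 → ∃ C : M, C * D = D * C ∧ C.det = d) (d : Fˣ) :
    ∃ C : GL (Fin n) F, C * x = x * C ∧ Matrix.GeneralLinearGroup.det C = d := by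
  obtain ⟨C, hC, hCd⟩ := hD d d.ne_zero
  have hu := isUnit_iff_ne_zero.2 hT
  have hX : (x : M) = T * D * T⁻¹ := by rw [← hXT, mul_assoc, Matrix.mul_nonsing_inv _ hu, mul_one]
  have hdet : (T * C * T⁻¹).det = (d : F) := by
    rw [Matrix.det_mul, Matrix.det_mul, hCd, Matrix.det_nonsing_inv, Ring.inverse_eq_inv']
    field_simp
  refine ⟨Matrix.GeneralLinearGroup.mkOfDetNeZero (T * C * T⁻¹) (hdet ▸ d.ne_zero), Units.ext ?_, Units.ext hdet⟩
  show T * C * T⁻¹ * (x : M) = (x : M) * (T * C * T⁻¹)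
  rw [hX, show T * C * T⁻¹ * (T * D * T⁻¹) = T * (C * (T⁻¹ * T) * D) * T⁻¹ by simp only [mul_assoc],
    show T * D * T⁻¹ * (T * C * T⁻¹) = T * (D * (T⁻¹ * T) * C) * T⁻¹ by simp only [mul_assoc],
    Matrix.nonsing_inv_mul _ hu, mul_one, mul_one, hC]

theorem diag_centralizer (hn : 0 < n) (d : Fin n → F) {a : F} :
    ∃ C : M, C * Matrix.diagonal d = Matrix.diagonal d * C ∧ C.det = a := by
  classical
  refine ⟨Matrix.diagonal fun i => if i = ⟨0, hn⟩ then a else 1, ?_, ?_⟩
  · rw [Matrix.diagonal_mul_diagonal, Matrix.diagonal_mul_diagonal]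
    simp only [mul_comm]
  · rw [Matrix.det_diagonal, Finset.prod_ite_eq', if_pos (Finset.mem_univ _)]

/-- The form attached to a pairing of the eigenvalues. -/
theorem exists_perm_form (σ : F →+* F) (τ : Equiv.Perm (Fin n)) (hτ : ∀ i, τ (τ i) = i) {d : Fin n → F} {μ : F}
    (hd : ∀ i, d i * σ (d (τ i)) = μ) :
    ∃ S : M, Sᵀ = S ∧ S.map σ = S ∧ S.det ≠ 0 ∧ (Matrix.diagonal d)ᵀ * S * (Matrix.diagonal d).map σ = μ • S := by
  classical
  refine ⟨Matrix.of fun i j => if τ i = j then 1 else 0, ?_, ?_, ?_, ?_⟩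
  · ext i j
    simp only [Matrix.transpose_apply, Matrix.of_apply]
    by_cases h : τ i = j
    · subst h; simp [hτ]
    · rw [if_neg h, if_neg fun h' => h (by rw [← h', hτ])]
  · ext i j
    simp only [Matrix.map_apply, Matrix.of_apply, apply_ite σ, map_one, map_zero]
  · refine (Matrix.isUnit_det_of_right_inverse (B := Matrix.of fun i j => if τ i = j then (1 : F) else 0) ?_).ne_zero
    ext i j
    rw [Matrix.mul_apply, Finset.sum_eq_single (τ i)]
    · simp [Matrix.one_apply, hτ]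
    · intro b _ hb
      simp [hb.symm]
    · simp
  · ext i j
    rw [Matrix.diagonal_transpose, Matrix.diagonal_map (map_zero σ), Matrix.mul_diagonal, Matrix.diagonal_mul,
      Matrix.smul_apply, Matrix.of_apply, smul_eq_mul]
    by_cases h : τ i = j
    · subst h; simp [hd]
    · simp [h]

/-- Diagonalising elements of exponent `r` when the `r`th roots of unity lie in the field. -/
theorem exists_eigen {r : ℕ} (hr : (r : F) ≠ 0) {ζ : F} (hζ : IsPrimitiveRoot ζ r) {X : M} (hX : X ^ r = 1) :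
    ∃ (T : M) (d : Fin n → F), T.det ≠ 0 ∧ (∀ i, d i ^ r = 1) ∧ X * T = T * Matrix.diagonal d := by
  classical
  have hr0 : 0 < r := Nat.pos_of_ne_zero fun e => hr (by rw [e, Nat.cast_zero])
  set y := Matrix.toLin' X with hy
  have hyr : y ^ r = 1 := by rw [hy, ← Matrix.toLin'_pow, hX, Matrix.toLin'_one]; rfl
  let S : Set (Fin n → F) := {v | ∃ k : ℕ, y v = ζ ^ k • v}
  have hspan : ⊤ ≤ Submodule.span F S := by
    intro v _
    have hv : v = (r : F)⁻¹ • ∑ k ∈ Finset.range r, ∑ j ∈ Finset.range r, (ζ ^ j) ^ k • (y ^ j) v := by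
      rw [eq_inv_smul_iff₀ hr, Finset.sum_comm, Finset.sum_eq_single_of_mem 0 (Finset.mem_range.2 hr0) fun j hj hj0 => ?_]
      · ext; simp
      · rw [← Finset.sum_smul]
        have h1 : ζ ^ j ≠ 1 := hζ.pow_ne_one_of_pos_of_lt hj0 (Finset.mem_range.1 hj)
        have h2 := geom_sum_mul (ζ ^ j) r
        rw [← pow_mul, mul_comm j r, pow_mul, hζ.pow_eq_one, one_pow, sub_self] at h2
        rw [(mul_eq_zero.1 h2).resolve_right (sub_ne_zero.2 h1), zero_smul]
    rw [hv]
    refine Submodule.smul_mem _ _ (Submodule.sum_mem _ fun k hk => Submodule.subset_span ⟨r - k, ?_⟩)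
    have hk' := Finset.mem_range.1 hk
    rw [map_sum, Finset.smul_sum]
    have e1 : ∀ j, y ((ζ ^ j) ^ k • (y ^ j) v) = ζ ^ (r - k) • ((ζ ^ (j + 1)) ^ k • (y ^ (j + 1)) v) := fun j => by
      rw [map_smul, ← Module.End.mul_apply, ← pow_succ', smul_smul]
      congr 1
      rw [← pow_mul, ← pow_mul, ← pow_add, show r - k + (j + 1) * k = r + j * k by rw [add_mul, one_mul]; omega, pow_add,
        hζ.pow_eq_one, one_mul]
    simp only [e1, ← Finset.smul_sum]
    congr 1
    have e2 := Finset.sum_range_succ' (fun j => (ζ ^ j) ^ k • (y ^ j) v) r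
    rw [Finset.sum_range_succ] at e2
    simp only [hyr, hζ.pow_eq_one, one_pow, pow_zero] at e2
    exact (add_right_cancel e2).symm
  let b := Module.Basis.ofSpan hspan
  have hbS : ∀ a, b a ∈ S := fun a => Module.Basis.ofSpan_subset hspan ⟨a, rfl⟩
  haveI : Fintype _ := FiniteDimensional.fintypeBasisIndex b
  let e := Fintype.equivFinOfCardEq ((Module.finrank_eq_card_basis b).symm.trans (Module.finrank_fin_fun F))
  let bb := b.reindex e
  choose k hk using fun i : Fin n => hbS (e.symm i)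
  refine ⟨(Pi.basisFun F (Fin n)).toMatrix bb, fun i => ζ ^ k i, ?_, fun i => ?_, ?_⟩
  · rw [← Basis.det_apply]; exact ((Pi.basisFun F (Fin n)).isUnit_det bb).ne_zero
  · rw [← pow_mul, mul_comm, pow_mul, hζ.pow_eq_one, one_pow]
  · ext i j
    have h1 := congrFun (hk j) i
    rw [hy, Matrix.toLin'_apply, Matrix.mulVec, dotProduct, Pi.smul_apply, smul_eq_mul] at h1
    rw [Matrix.mul_diagonal, Matrix.mul_apply]
    simp only [Basis.toMatrix_apply, Pi.basisFun_repr, bb, Basis.reindex_apply]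
    rw [h1, mul_comm]

/-- Coordinates for a map whose square is a nonsquare scalar. -/
theorem exists_pair_model {X : M} {z : F} (hX : X * X = z • 1) (hz : ¬ IsSquare z) {m : ℕ} (hnm : n = 2 * m) :
    ∃ (e : Fin 2 × Fin m ≃ Fin n) (T : M), T.det ≠ 0 ∧
      X * T = T * Matrix.reindex e e (Matrix.blockDiagonal fun _ => !![0, z; 1, 0]) := by
  classical
  obtain ⟨u, hu⟩ := QuadField.exists_frame (Ω := Matrix.toLin' X) (s := 0) (t := z) (fun v => by
    rw [zero_smul, zero_add, Matrix.toLin'_apply, Matrix.toLin'_apply, Matrix.mulVec_mulVec, hX, Matrix.smul_mulVec,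
      Matrix.one_mulVec]) (fun a h => hz ⟨a, by rw [h]; ring⟩) hnm
  let e : Fin 2 × Fin m ≃ Fin n := Fintype.equivFinOfCardEq (by rw [Fintype.card_prod, Fintype.card_fin, Fintype.card_fin, hnm])
  let w : Fin 2 × Fin m → (Fin n → F) := fun p => ![u p.2, X *ᵥ u p.2] p.1
  have hw : ⊤ ≤ Submodule.span F (Set.range w) := by
    rw [← hu]
    refine Submodule.span_mono ?_
    rintro _ ⟨i | i, rfl⟩
    · exact ⟨(0, i), rfl⟩
    · exact ⟨(1, i), by simp [w, Matrix.toLin'_apply]⟩
  let b := (basisOfTopLeSpanOfCardEqFinrank w hw (by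
    rw [Fintype.card_prod, Fintype.card_fin, Fintype.card_fin, Module.finrank_fin_fun, hnm])).reindex e
  refine ⟨e, (Pi.basisFun F (Fin n)).toMatrix b, ?_, ?_⟩
  · rw [← Basis.det_apply]; exact ((Pi.basisFun F (Fin n)).isUnit_det b).ne_zero
  · ext i j
    obtain ⟨⟨a, l⟩, rfl⟩ := e.surjective j
    rw [Matrix.mul_apply, Matrix.mul_apply, ← e.sum_comp, ← e.sum_comp]
    simp only [Basis.toMatrix_apply, Pi.basisFun_repr, b, Basis.reindex_apply, Equiv.symm_apply_apply,
      coe_basisOfTopLeSpanOfCardEqFinrank, Matrix.reindex_apply, Matrix.submatrix_apply, Matrix.blockDiagonal_apply]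
    rw [show (∑ p, X i (e p) * w (a, l) (e p)) = (X *ᵥ w (a, l)) i from
      (e.sum_comp fun c => X i c * w (a, l) c), Fintype.sum_prod_type, Fin.sum_univ_two]
    fin_cases a
    · simp [w]
    · simp [w, Matrix.mulVec_mulVec, hX, Matrix.smul_mulVec, mul_comm]

/-- Pairings of exponents summing to zero. -/
theorem exists_pairing {r : ℕ} (hr : r = 3 ∨ r = 5) (f : Fin r → Fin r) (hf : r ∣ ∑ i, (f i : ℕ)) :
    ∃ τ : Equiv.Perm (Fin r), (∀ i, τ (τ i) = i) ∧
      ∀ i j, ((f i : ℕ) + (f (τ i) : ℕ)) % r = ((f j : ℕ) + (f (τ j) : ℕ)) % r := by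
  set π := Tuple.sort f with hπ
  have hm : Monotone (f ∘ π) := Tuple.monotone_sort f
  have key : ∃ k : Fin r, ∀ i, ((f (π i) : ℕ) + (f (π (k - i)) : ℕ)) % r = ((f (π k) : ℕ) + (f (π (k - k)) : ℕ)) % r := by
    have hs : r ∣ ∑ i, ((f ∘ π) i : ℕ) := by
      rwa [show ∑ i, ((f ∘ π) i : ℕ) = ∑ i, (f i : ℕ) from Equiv.sum_comp π fun i => (f i : ℕ)]
    rcases hr with rfl | rfl
    · have h3 : ∀ a b c : Fin 3, a ≤ b → b ≤ c → ((a : ℕ) + b + c) % 3 = 0 →
          ∃ k : Fin 3, ∀ i, ((![a, b, c] i : ℕ) + (![a, b, c] (k - i) : ℕ)) % 3 =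
            ((![a, b, c] k : ℕ) + (![a, b, c] (k - k) : ℕ)) % 3 := by decide
      have e : (f ∘ π) = ![(f ∘ π) 0, (f ∘ π) 1, (f ∘ π) 2] := by ext i; fin_cases i <;> rfl
      rw [Fin.sum_univ_three] at hs
      obtain ⟨k, hk⟩ := h3 _ _ _ (hm (show (0 : Fin 3) ≤ 1 by decide)) (hm (show (1 : Fin 3) ≤ 2 by decide)) (Nat.mod_eq_zero_of_dvd hs)
      rw [← e] at hk
      exact ⟨k, hk⟩
    · have h5 : ∀ a b : Fin 5, a ≤ b → ∀ c, b ≤ c → ∀ d, c ≤ d → ∀ e, d ≤ e → ((a : ℕ) + b + c + d + e) % 5 = 0 →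
          ∃ k : Fin 5, ∀ i, ((![a, b, c, d, e] i : ℕ) + (![a, b, c, d, e] (k - i) : ℕ)) % 5 =
            ((![a, b, c, d, e] k : ℕ) + (![a, b, c, d, e] (k - k) : ℕ)) % 5 := by decide
      have e : (f ∘ π) = ![(f ∘ π) 0, (f ∘ π) 1, (f ∘ π) 2, (f ∘ π) 3, (f ∘ π) 4] := by ext i; fin_cases i <;> rfl
      rw [Fin.sum_univ_five] at hs
      obtain ⟨k, hk⟩ := h5 _ _ (hm (show (0 : Fin 5) ≤ 1 by decide)) _ (hm (show (1 : Fin 5) ≤ 2 by decide)) _
        (hm (show (2 : Fin 5) ≤ 3 by decide)) _ (hm (show (3 : Fin 5) ≤ 4 by decide)) (Nat.mod_eq_zero_of_dvd hs)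
      rw [← e] at hk
      exact ⟨k, hk⟩
  obtain ⟨k, hk⟩ := key
  haveI : NeZero r := ⟨by rcases hr with rfl | rfl <;> norm_num⟩
  refine ⟨(π.symm.trans (Equiv.subLeft k)).trans π, fun i => by simp, fun i j => ?_⟩
  have h1 := hk (π.symm i)
  have h2 := hk (π.symm j)
  simp only [Equiv.apply_symm_apply] at h1 h2
  simp only [Equiv.trans_apply, Equiv.subLeft_apply]
  rw [h1, h2]

theorem three_not_symmetric {N : ℕ} (h0 : N ≠ 0) (h3 : N ≠ 3) (t : ZMod 3)
    (hall : ∀ a : ZMod 3, (if a = 0 then N else 0) + (if a = 1 then 2 else 0) + (if a = -2 then 1 else 0) =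
      (if t - a = 0 then N else 0) + (if t - a = 1 then 2 else 0) + (if t - a = -2 then 1 else 0)) : False := by
  have ha := hall 0
  have hb := hall 1
  have hc := hall 2
  have e : (-2 : ZMod 3) = 1 := by decide
  rw [e] at ha hb hc
  rcases (show ∀ t : ZMod 3, t = 0 ∨ t = 1 ∨ t = 2 by decide) t with rfl | rfl | rfl <;>
    simp [show (0 : ZMod 3) - 1 = 2 by decide, show (0 : ZMod 3) - 2 = 1 by decide, show (1 : ZMod 3) - 2 = 2 by decide,
      show (2 : ZMod 3) - 1 = 1 by decide, show (2 : ZMod 3) ≠ 0 by decide, show (2 : ZMod 3) ≠ 1 by decide,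
      show (1 : ZMod 3) ≠ 0 by decide, show (0 : ZMod 3) ≠ 1 by decide] at ha hb hc <;> omega

/-- The counting function of the standard unpairable exponent tuple. -/
theorem not_symmetric {r : ℕ} [hr : Fact r.Prime] (hr2 : r ≠ 2) (hn : 3 ≤ n) (h33 : ¬ (n = 3 ∧ r = 3))
    (h55 : ¬ (n = 5 ∧ r = 5)) (h63 : ¬ (n = 6 ∧ r = 3)) (t : ZMod r) :
    ∃ a : ZMod r,
      (if a = 0 then n - 3 else 0) + (if a = 1 then 2 else 0) + (if a = -2 then 1 else 0) ≠
      (if t - a = 0 then n - 3 else 0) + (if t - a = 1 then 2 else 0) + (if t - a = -2 then 1 else 0) := by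
  by_contra hall
  push Not at hall
  have hk : ∀ k : ℕ, 0 < k → k < r → ((k : ℕ) : ZMod r) ≠ 0 := fun k h1 h2 e => by
    have := Nat.le_of_dvd h1 ((ZMod.natCast_eq_zero_iff k r).1 e)
    omega
  have hr3 : 3 ≤ r := by have := hr.out.two_le; omega
  have h1 : (1 : ZMod r) ≠ 0 := one_ne_zero
  have h2 : (2 : ZMod r) ≠ 0 := by simpa using hk 2 (by omega) (by omega)
  rcases eq_or_ne r 3 with h3 | h3
  · subst h3
    exact three_not_symmetric (fun e => h33 ⟨by omega, rfl⟩) (fun e => h63 ⟨by omega, rfl⟩) t hall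
  · have h5' : r = 5 ∨ 7 ≤ r := by
      rcases Nat.lt_or_ge r 7 with h | h
      · interval_cases r
        · omega
        · exact absurd hr.out (by decide)
        · exact Or.inl rfl
        · exact absurd hr.out (by decide)
      · exact Or.inr h
    have h4 : (4 : ZMod r) ≠ 0 := by simpa using hk 4 (by omega) (by omega)
    have h3' : (3 : ZMod r) ≠ 0 := by simpa using hk 3 (by omega) (by omega)
    have hm2 : (-2 : ZMod r) ≠ 0 := neg_ne_zero.2 h2
    have hm21 : (-2 : ZMod r) ≠ 1 := fun e => h3' (by linear_combination -e)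
    have hA := hall (-2)
    rw [if_neg hm2, if_neg hm21, if_pos rfl, zero_add, zero_add] at hA
    have hB := hall 1
    rw [if_neg h1, if_pos rfl, if_neg hm21.symm, zero_add, add_zero] at hB
    by_cases e1 : t - -2 = 0
    · rw [if_pos e1, if_neg (e1 ▸ h1.symm), if_neg (e1 ▸ hm2.symm), add_zero, add_zero] at hA
      obtain rfl : t = -2 := by linear_combination e1
      rw [if_neg (fun e => h3' (by linear_combination -e)), if_neg (fun e => h4 (by linear_combination -e)),
        if_neg (fun e => h1 (by linear_combination -e))] at hB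
      omega
    by_cases e2 : t - -2 = 1
    · rw [if_neg e1, if_pos e2, if_neg (fun e => hm21 (e.symm.trans e2))] at hA
      omega
    by_cases e3 : t - -2 = -2
    · obtain rfl : t = -4 := by linear_combination e3
      rw [if_neg (show (-4 : ZMod r) - 1 ≠ 1 from fun e => hk 6 (by omega) (by
        rcases h5' with h | h
        · exfalso
          have h50 : (5 : ZMod r) = 0 := by subst h; exact_mod_cast ZMod.natCast_self 5
          exact h1 (by linear_combination -e - h50)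
        · omega) (by push_cast; linear_combination -e)),
        if_neg (show (-4 : ZMod r) - 1 ≠ -2 from fun e => h3' (by linear_combination -e)), add_zero, add_zero] at hB
      by_cases e5 : (-4 : ZMod r) - 1 = 0
      · have hr5 : r = 5 := by
          rcases h5' with h | h
          · exact h
          · exact absurd (by push_cast; linear_combination -e5) (hk 5 (by omega) (by omega))
        rw [if_pos e5] at hB
        omega
      · rw [if_neg e5] at hB
        omega
    · rw [if_neg e1, if_neg e2, if_neg e3] at hA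
      omega

end Cfsg.Agent.Lib.MaxSub.SimilMat
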