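import Cfsg.Agent.S5979
import Cfsg.Agent.Lib.MaxSub.SimilMat
import Mathlib

/-!
Elements of prime order outside all similitude groups.
-/

set_option autoImplicit false
set_option maxHeartbeats 1000000

namespace Cfsg.Agent.Lib.MaxSub.SimilMat

open Matrix Polynomial Module Cfsg.Agent.Lib.MaxSub

variable {F : Type*} [Field F] [Fintype F] {n : ℕ} {p : ℕ} [Fact p.Prime] [CharP F p] {r : ℕ} [hr : Fact r.Prime]

local notation "M" => Matrix (Fin n) (Fin n) F

/-- A single block whose dual block is different. -/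
theorem exists_block_bad (hrp : r ≠ p) {σ : F →+* F} {e : ℕ} (hσ : ∀ a, σ a = a ^ p ^ e) (hσσ : ∀ a, σ (σ a) = a) {c : ℕ}
    (hc : orderOf ((Fintype.card F : ℕ) : ZMod r) = c) (hc1 : c ≠ 1) (hcn : c ≤ n)
    (hno : ∀ j : ℕ, -((p ^ e : ℕ) : ZMod r) ≠ ((Fintype.card F : ℕ) : ZMod r) ^ j) :
    ∃ x ∈ Cfsg.Geo.specialLinear (Fin n) F, (x : M) ^ r = 1 ∧ (∀ z : F, (x : M) ≠ z • 1) ∧
      ∀ μ : F, μ ^ r = 1 →
        ¬ ∀ P : F[X], (aeval (x : M) P).rank = (aeval (μ • ((x⁻¹ : GL (Fin n) F) : M)) (P.map σ)).rank := by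
  classical
  obtain ⟨x, g, hxS, hxr, hns, hx1, hg, hgc, hgd, hgr⟩ := Cfsg.Agent.S5979.bad_block (n := n) hrp hc hc1 hcn
  refine ⟨x, hxS, hxr, hns, fun μ hμ hall => ?_⟩
  have hnd : ¬ r ∣ Fintype.card F - 1 := fun h => hc1 (hc ▸ (PrimeElemFlags.order_eq_one_iff rfl).2 h)
  obtain rfl : μ = 1 := by
    have hμ0 : μ ≠ 0 := fun h => by rw [h, zero_pow hr.out.ne_zero] at hμ; exact zero_ne_one hμ
    simpa [((Nat.Prime.coprime_iff_not_dvd hr.out).2 hnd).gcd_eq_one] using
      pow_gcd_eq_one.2 ⟨hμ, FiniteField.pow_card_sub_one_eq_one μ hμ0⟩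
  have hc0 : 0 < c := hgc ▸ hg.natDegree_pos
  have hg1 : g.eval 1 ≠ 0 := fun h0 => by
    have h1 := natDegree_eq_of_degree_eq (degree_eq_degree_of_associated
      ((irreducible_X_sub_C (1 : F)).associated_of_dvd hg (dvd_iff_isRoot.2 h0)))
    rw [natDegree_X_sub_C, hgc] at h1
    exact hc1 h1.symm
  set P := (g.map σ).comp (X ^ (r - 1)) with hP
  have hxinv : ((x⁻¹ : GL (Fin n) F) : M) = (x : M) ^ (r - 1) := by
    rw [← Units.val_pow_eq_pow_val]
    congr 1
    exact inv_eq_of_mul_eq_one_right (by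
      rw [← pow_succ', Nat.sub_add_cancel hr.out.one_lt.le]; exact Units.ext (by simpa using hxr))
  have hgP : ¬ g ∣ P := by
    intro hd
    have : Fact (Irreducible g) := ⟨hg⟩
    have : FiniteDimensional F (AdjoinRoot g) := (AdjoinRoot.powerBasis hg.ne_zero).finite
    have : Finite (AdjoinRoot g) := Module.finite_of_finite F
    have : CharP (AdjoinRoot g) p := charP_of_injective_algebraMap (algebraMap F (AdjoinRoot g)).injective p
    set α : AdjoinRoot g := AdjoinRoot.root g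
    have hα : α ^ r = 1 := by
      have h := congrArg (aeval α) (cyclotomic_prime_mul_X_sub_one F r)
      obtain ⟨Q, hQ⟩ := hgd
      rw [map_mul, hQ, map_mul, AdjoinRoot.aeval_eq, AdjoinRoot.mk_self, zero_mul, zero_mul, map_sub, map_pow, aeval_X,
        map_one] at h
      exact sub_eq_zero.1 h.symm
    have hα1 : α ≠ 1 := fun e1 => by
      have h0 : aeval α (X - Polynomial.C (1 : F)) = 0 := by simp [e1]
      rw [AdjoinRoot.aeval_eq, AdjoinRoot.mk_eq_zero] at h0
      have h4 := natDegree_le_of_dvd h0 (X_sub_C_ne_zero 1)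
      rw [natDegree_X_sub_C, hgc] at h4
      omega
    have h1 : aeval (α ^ (r - 1)) (g.map σ) = 0 := by
      obtain ⟨Q, hQ⟩ := hd
      have h := congrArg (aeval α) hQ
      rwa [hP, aeval_comp, map_pow, aeval_X, map_mul, show aeval α g = 0 by rw [AdjoinRoot.aeval_eq, AdjoinRoot.mk_self],
        zero_mul] at h
    have h2 : aeval (α ^ ((r - 1) * p ^ e)) g = 0 := by
      have h := congrArg (iterateFrobenius (AdjoinRoot g) p e) h1
      rw [map_zero, aeval_def, Polynomial.eval₂_map, Polynomial.hom_eval₂, iterateFrobenius_def] at h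
      rw [aeval_def, pow_mul]
      refine Eq.trans ?_ h
      congr 1
      ext a
      simp only [RingHom.comp_apply]
      rw [iterateFrobenius_def, ← map_pow, ← hσ, hσσ]
    let s : AdjoinRoot g →ₐ[F] AdjoinRoot g := AdjoinRoot.liftAlgHom g (Algebra.ofId F (AdjoinRoot g)) _ h2
    let s' : AdjoinRoot g ≃ₐ[F] AdjoinRoot g := AlgEquiv.ofBijective s
      ⟨s.toRingHom.injective, Finite.injective_iff_surjective.1 s.toRingHom.injective⟩
    obtain ⟨j, hj⟩ := (FiniteField.bijective_frobeniusAlgEquivOfAlgebraic_pow F (AdjoinRoot g)).2 s'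
    have h3 : α ^ (Fintype.card F ^ (j : ℕ)) = α ^ ((r - 1) * p ^ e) := by
      have h := congrArg (fun u : AdjoinRoot g ≃ₐ[F] AdjoinRoot g => u α) hj
      simp only [AlgEquiv.coe_pow, FiniteField.coe_frobeniusAlgEquivOfAlgebraic_iterate] at h
      exact h.trans (AdjoinRoot.liftAlgHom_root g (Algebra.ofId F (AdjoinRoot g)) _ h2)
    have ho : orderOf α = r := orderOf_eq_prime hα hα1
    have hfin : IsOfFinOrder α := isOfFinOrder_iff_pow_eq_one.2 ⟨r, hr.out.pos, hα⟩
    rw [hfin.pow_eq_pow_iff_modEq, ho, ← ZMod.natCast_eq_natCast_iff] at h3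
    refine hno j ?_
    rw [← Nat.cast_pow, h3, Nat.cast_mul, Nat.cast_sub hr.out.one_lt.le, ZMod.natCast_self, zero_sub, Nat.cast_one, neg_one_mul]
  have hco : IsCoprime P g := ((hg.coprime_iff_not_dvd).2 hgP).symm
  have hco1 : IsCoprime P (X - Polynomial.C (1 : F)) := by
    refine ((irreducible_X_sub_C (1 : F)).coprime_iff_not_dvd.2 fun h => ?_).symm
    rw [dvd_iff_isRoot, IsRoot, hP, eval_comp, eval_pow, eval_X, one_pow] at h
    refine hg1 ((map_eq_zero σ).1 ?_)
    rw [← h, Polynomial.eval_map, ← Polynomial.eval₂_at_apply, map_one]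
  have hcog : IsCoprime g (X - Polynomial.C (1 : F)) :=
    ((irreducible_X_sub_C (1 : F)).coprime_iff_not_dvd.2 fun h => hg1 (dvd_iff_isRoot.1 h)).symm
  set y : Module.End F (Fin n → F) := Matrix.toLin' (x : M) with hy
  have hlin : ∀ f : F[X], Matrix.toLin' (aeval (x : M) f) = aeval y f := fun f => by
    show Matrix.toLinAlgEquiv' (aeval (x : M) f) = _
    exact (aeval_algHom_apply (Matrix.toLinAlgEquiv' (R := F) (n := Fin n)).toAlgHom (x : M) f).symm
  have hrk : ∀ f : F[X], (aeval (x : M) f).rank + finrank F (LinearMap.ker (aeval y f)) = n := fun f => by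
    rw [Matrix.rank, ← Matrix.toLin'_apply', hlin, LinearMap.finrank_range_add_finrank_ker, Module.finrank_fin_fun]
  have d1 := hrk g
  have d2 := hrk (X - Polynomial.C 1)
  rw [hgr] at d1
  rw [map_sub, aeval_X, aeval_C, Algebra.algebraMap_eq_smul_one, hx1] at d2
  set K := LinearMap.ker (aeval y g)
  set K' := LinearMap.ker (aeval y (X - Polynomial.C (1 : F)))
  have hdisj : K ⊓ K' = ⊥ := by
    have h : Disjoint K K' := disjoint_ker_aeval_of_isCoprime y hcog
    exact h.eq_bot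
  have hsum := Submodule.finrank_sup_add_finrank_inf_eq K K'
  rw [hdisj, finrank_bot, add_zero] at hsum
  have htop : K ⊔ K' = ⊤ := Submodule.eq_top_of_finrank_eq (by rw [Module.finrank_fin_fun]; omega)
  have hinj : LinearMap.ker (aeval y P) = ⊥ := by
    rw [eq_bot_iff]
    intro v hv
    obtain ⟨a, ha, b, hb, rfl⟩ := Submodule.mem_sup.1 (htop ▸ Submodule.mem_top : v ∈ K ⊔ K')
    have hmem : ∀ (f : F[X]) (u : Fin n → F), u ∈ LinearMap.ker (aeval y f) → aeval y P u ∈ LinearMap.ker (aeval y f) := by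
      intro f u hu
      rw [LinearMap.mem_ker] at hu ⊢
      rw [← Module.End.mul_apply, ← map_mul, mul_comm, map_mul, Module.End.mul_apply, hu, map_zero]
    rw [LinearMap.mem_ker, map_add] at hv
    have h0 : aeval y P a ∈ K ⊓ K' := ⟨hmem g a ha, by
      rw [eq_neg_of_add_eq_zero_left hv]; exact Submodule.neg_mem _ (hmem _ b hb)⟩
    rw [hdisj, Submodule.mem_bot] at h0
    have ha0 : a = 0 := by
      have := (disjoint_ker_aeval_of_isCoprime y hco).eq_bot
      exact (Submodule.mem_bot F).1 (this ▸ ⟨h0, ha⟩)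
    rw [h0, zero_add] at hv
    have hb0 : b = 0 := by
      have := (disjoint_ker_aeval_of_isCoprime y hco1).eq_bot
      exact (Submodule.mem_bot F).1 (this ▸ ⟨hv, hb⟩)
    rw [ha0, hb0, add_zero]
    exact Submodule.zero_mem _
  have h5 := hall g
  rw [hgr, one_smul, hxinv, show aeval ((x : M) ^ (r - 1)) (g.map σ) = aeval (x : M) P by
    rw [hP, aeval_comp, map_pow, aeval_X]] at h5
  have h6 := hrk P
  rw [hinj, finrank_bot] at h6
  omega

theorem exists_blocks (hrp : r ≠ p) {c : ℕ} (hc : orderOf ((Fintype.card F : ℕ) : ZMod r) = c) (hc1 : c ≠ 1)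
    (hcn : c ∣ n) (hn : 0 < n) :
    ∃ x ∈ Cfsg.Geo.specialLinear (Fin n) F, (x : M) ^ r = 1 ∧ (∀ z : F, (x : M) ≠ z • 1) ∧
      ∀ v : Fin n → F, (x : M) *ᵥ v = v → v = 0 := by
  classical
  obtain ⟨k, hk⟩ := hcn
  obtain ⟨y, g, hyS, hyr, -, hy1, -, -, -, -⟩ := Cfsg.Agent.S5979.bad_block (F := F) (n := c) hrp hc hc1 le_rfl
  have hyd : (y : Matrix (Fin c) (Fin c) F).det = 1 := congrArg Units.val (MonoidHom.mem_ker.1 hyS)
  rw [one_smul] at hy1
  have hyi : ((y : Matrix (Fin c) (Fin c) F) - 1).det ≠ 0 := by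
    intro h0
    obtain ⟨v, hv, hv'⟩ := Matrix.exists_mulVec_eq_zero_iff.2 h0
    have h1 := (Matrix.mulVecLin ((y : Matrix (Fin c) (Fin c) F) - 1)).finrank_range_add_finrank_ker
    change ((y : Matrix (Fin c) (Fin c) F) - 1).rank + _ = _ at h1
    rw [Module.finrank_fin_fun, hy1] at h1
    have h2 : LinearMap.ker (Matrix.mulVecLin ((y : Matrix (Fin c) (Fin c) F) - 1)) = ⊥ := Submodule.finrank_eq_zero.1 (by omega)
    exact hv ((Submodule.mem_bot F).1 (h2 ▸ (LinearMap.mem_ker.2 hv')))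
  let eq : Fin c × Fin k ≃ Fin n := finProdFinEquiv.trans (finCongr hk.symm)
  set B := Matrix.blockDiagonal fun _ : Fin k => (y : Matrix (Fin c) (Fin c) F)
  set Y : M := Matrix.reindexAlgEquiv F F eq B with hY
  obtain ⟨x, hx, hxS⟩ := Cfsg.Agent.S5979.mk_GL Y (by
    rw [hY, Matrix.det_reindexAlgEquiv, Matrix.det_blockDiagonal]; simp [hyd])
  have hpow : Y ^ r = 1 := by
    rw [hY, ← map_pow, ← Matrix.blockDiagonal_pow, show (fun _ : Fin k => (y : Matrix (Fin c) (Fin c) F)) ^ r = 1 from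
      funext fun _ => hyr, Matrix.blockDiagonal_one, map_one]
  have hd1 : (Y - 1).det ≠ 0 := by
    rw [hY, ← map_one (Matrix.reindexAlgEquiv F F eq), ← map_sub, Matrix.det_reindexAlgEquiv, ← Matrix.blockDiagonal_one,
      ← Matrix.blockDiagonal_sub, Matrix.det_blockDiagonal]
    exact Finset.prod_ne_zero_iff.2 fun _ _ => hyi
  have hfix : ∀ v : Fin n → F, (x : M) *ᵥ v = v → v = 0 := fun v hv => by
    by_contra hne
    exact hd1 (Matrix.exists_mulVec_eq_zero_iff.1 ⟨v, hne, by rw [Matrix.sub_mulVec, ← hx, hv, Matrix.one_mulVec, sub_self]⟩)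
  refine ⟨x, hxS, hx ▸ hpow, fun z hz => ?_, hfix⟩
  have hzr : z ^ r = 1 := by
    have h2 := hpow
    rw [← hx, hz, _root_.smul_pow, one_pow] at h2
    simpa using congrFun (congrFun h2 ⟨0, hn⟩) ⟨0, hn⟩
  have hnd : ¬ r ∣ Fintype.card F - 1 := fun h => hc1 (hc ▸ (PrimeElemFlags.order_eq_one_iff rfl).2 h)
  have hz1 : z = 1 := by
    have hz0 : z ≠ 0 := fun h => by rw [h, zero_pow hr.out.ne_zero] at hzr; exact zero_ne_one hzr
    simpa [((Nat.Prime.coprime_iff_not_dvd hr.out).2 hnd).gcd_eq_one] using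
      pow_gcd_eq_one.2 ⟨hzr, FiniteField.pow_card_sub_one_eq_one z hz0⟩
  have := congrFun (hfix (Pi.single ⟨0, hn⟩ 1) (by rw [hz, hz1, one_smul, Matrix.one_mulVec])) ⟨0, hn⟩
  simp at this

omit hr in
theorem diag_counts {σ : F →+* F} {x : GL (Fin n) F} {d : Fin n → F} (hx : (x : M) = Matrix.diagonal d)
    (hd : ∀ i, d i ≠ 0) {μ : F}
    (hall : ∀ P : F[X], (aeval (x : M) P).rank = (aeval (μ • ((x⁻¹ : GL (Fin n) F) : M)) (P.map σ)).rank) (lam : F) :
    Nat.card {i // d i = lam} = Nat.card {i // σ lam * d i = μ} := by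
  classical
  have hinv : ((x⁻¹ : GL (Fin n) F) : M) = Matrix.diagonal fun i => (d i)⁻¹ := by
    rw [Matrix.coe_units_inv, hx]
    refine Matrix.inv_eq_right_inv ?_
    rw [Matrix.diagonal_mul_diagonal]
    simp [hd]
  have h := hall (X - Polynomial.C lam)
  simp only [map_sub, Polynomial.map_sub, Polynomial.map_X, Polynomial.map_C, aeval_X, aeval_C,
    Algebra.algebraMap_eq_smul_one, hinv, hx, ← Matrix.diagonal_smul] at h
  rw [Cfsg.Agent.S5979.rank_diag, Cfsg.Agent.S5979.rank_diag] at h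
  simp only [Nat.card_eq_fintype_card, Fintype.card_subtype_compl] at h
  rw [Nat.card_eq_fintype_card, Nat.card_eq_fintype_card]
  have e : Fintype.card {i // σ lam * d i = μ} = Fintype.card {i // (μ • fun i => (d i)⁻¹) i = σ lam} :=
    Fintype.card_congr (Equiv.subtypeEquivRight fun i => by
      rw [Pi.smul_apply, smul_eq_mul, ← div_eq_mul_inv, div_eq_iff (hd i), eq_comm])
  have h1 := Fintype.card_subtype_le fun i : Fin n => d i = lam
  have h2 := Fintype.card_subtype_le fun i : Fin n => (μ • fun i => (d i)⁻¹) i = σ lam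
  omega

theorem count_exp {ζ : F} (hζ : IsPrimitiveRoot ζ r) {ι : Type} [Fintype ι] (f : ι → ℕ) {η : F} (hη : η ≠ 0) (a : ℕ) :
    Nat.card {i // η * ζ ^ f i = η * ζ ^ a} = Nat.card {i // (f i : ZMod r) = (a : ZMod r)} :=
  Nat.card_congr (Equiv.subtypeEquivRight fun i => by
    rw [mul_right_inj' hη, (hζ.isOfFinOrder hr.out.ne_zero).pow_eq_pow_iff_modEq, ← hζ.eq_orderOf,
      ZMod.natCast_eq_natCast_iff])

/-- Unpairable exponents. -/
theorem exists_exp_bad {σ : F →+* F} {ζ : F} (hζ : IsPrimitiveRoot ζ r) (hσζ : σ ζ = ζ) (hr2 : r ≠ 2) (hn : 3 ≤ n)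
    (h33 : ¬ (n = 3 ∧ r = 3)) (h55 : ¬ (n = 5 ∧ r = 5)) (h63 : ¬ (n = 6 ∧ r = 3)) :
    ∃ x ∈ Cfsg.Geo.specialLinear (Fin n) F, (x : M) ^ r = 1 ∧ (∀ z : F, (x : M) ≠ z • 1) ∧
      ∀ μ : F, μ ^ r = 1 →
        ¬ ∀ P : F[X], (aeval (x : M) P).rank = (aeval (μ • ((x⁻¹ : GL (Fin n) F) : M)) (P.map σ)).rank := by
  classical
  have hr3 : 3 ≤ r := by have := hr.out.two_le; omega
  let eq : Fin (n - 3) ⊕ (Fin 2 ⊕ Fin 1) ≃ Fin n := Fintype.equivFinOfCardEq (by simp; omega)
  let f : Fin n → ℕ := (Sum.elim (fun _ => 0) (Sum.elim (fun _ => 1) fun _ => r - 2)) ∘ eq.symm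
  let d : Fin n → F := fun i => 1 * ζ ^ f i
  have hd : ∀ i, d i ≠ 0 := fun i => mul_ne_zero one_ne_zero (pow_ne_zero _ (hζ.ne_zero hr.out.ne_zero))
  have hsum : ∑ i, f i = r := by
    rw [show ∑ i, f i = _ from eq.symm.sum_comp (Sum.elim (fun _ => 0) (Sum.elim (fun _ => 1) fun _ => r - 2))]
    simp
    omega
  obtain ⟨x, hx, hxS⟩ := Cfsg.Agent.S5979.mk_GL (Matrix.diagonal d) (by
    rw [Matrix.det_diagonal]
    simp only [d, one_mul]
    rw [Finset.prod_pow_eq_pow_sum, hsum, hζ.pow_eq_one])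
  have hcount : ∀ a : ZMod r, Nat.card {i // (f i : ZMod r) = a} =
      (if a = 0 then n - 3 else 0) + (if a = 1 then 2 else 0) + (if a = -2 then 1 else 0) := by
    intro a
    refine (Nat.card_congr (Equiv.subtypeEquiv eq.symm (q := fun b => ((Sum.elim (fun _ => 0) (Sum.elim (fun _ => 1)
      fun _ => r - 2) b : ℕ) : ZMod r) = a) fun i => Iff.rfl)).trans ?_
    rw [Nat.card_eq_fintype_card, Fintype.card_subtype,
      Finset.card_filter, Fintype.sum_sum_type, Fintype.sum_sum_type]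
    simp [Nat.cast_sub (show 2 ≤ r by omega), eq_comm (a := a), ← add_assoc]
  refine ⟨x, hxS, ?_, fun z hz => ?_, fun μ hμ hall => ?_⟩
  · rw [hx, Matrix.diagonal_pow, ← Matrix.diagonal_one]
    congr 1
    funext i
    simp only [d, one_mul, Pi.pow_apply]
    rw [← pow_mul, mul_comm, pow_mul, hζ.pow_eq_one, one_pow]
  · rw [hx] at hz
    have e1 := congrFun (congrFun hz (eq (Sum.inr (Sum.inl 0)))) (eq (Sum.inr (Sum.inl 0)))
    have e2 := congrFun (congrFun hz (eq (Sum.inr (Sum.inr 0)))) (eq (Sum.inr (Sum.inr 0)))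
    simp [d, f] at e1 e2
    have h := e1.trans e2.symm
    by_cases hr33 : r = 3
    · subst hr33
      obtain ⟨k, hk⟩ : ∃ k, n - 3 = k + 1 := ⟨n - 4, by omega⟩
      have e3 := congrFun (congrFun hz (eq (Sum.inl ⟨0, by omega⟩))) (eq (Sum.inl ⟨0, by omega⟩))
      simp [d, f] at e3
      exact hζ.ne_one (by norm_num) (e1.trans e3.symm)
    · rw [← pow_one ζ, ← pow_mul] at h
      have := hζ.pow_inj (by omega : 1 < r) (by omega : 1 * (r - 2) < r) h
      omega
  · obtain ⟨t, -, ht⟩ := hζ.eq_pow_of_pow_eq_one hμ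
    obtain ⟨a, ha⟩ := not_symmetric hr2 hn h33 h55 h63 (t : ZMod r)
    apply ha
    have h := diag_counts hx hd hall (1 * ζ ^ a.val)
    rw [count_exp hζ f one_ne_zero, ZMod.natCast_zmod_val, hcount] at h
    rw [h, ← hcount]
    refine Nat.card_congr (Equiv.subtypeEquivRight fun i => ?_)
    simp only [d, one_mul, map_pow, hσζ, ← ht, ← pow_add]
    rw [(hζ.isOfFinOrder hr.out.ne_zero).pow_eq_pow_iff_modEq, ← hζ.eq_orderOf, ← ZMod.natCast_eq_natCast_iff,
      Nat.cast_add, ZMod.natCast_zmod_val, eq_sub_iff_add_eq, add_comm]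

/-- The twisted element. -/
theorem exists_twist_bad {σ : F →+* F} {η : F} (hη : IsPrimitiveRoot η (r * r)) (hση : σ η = η) (hr2 : r ≠ 2)
    (hnr : n = r) :
    ∃ x ∈ Cfsg.Geo.specialLinear (Fin n) F, ∃ z : F, (x : M) ^ r = z • 1 ∧ (∀ z : F, (x : M) ≠ z • 1) ∧
      ∀ μ : F, μ ^ r = z * σ z →
        ¬ ∀ P : F[X], (aeval (x : M) P).rank = (aeval (μ • ((x⁻¹ : GL (Fin n) F) : M)) (P.map σ)).rank := by
  classical
  have hr3 : 3 ≤ r := by have := hr.out.two_le; omega
  set ζ := η ^ r with hζdef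
  have hζ : IsPrimitiveRoot ζ r := hη.pow (Nat.mul_pos hr.out.pos hr.out.pos) rfl
  have hη0 : η ≠ 0 := hη.ne_zero (Nat.mul_ne_zero hr.out.ne_zero hr.out.ne_zero)
  let eq : Fin (n - 1) ⊕ Fin 1 ≃ Fin n := Fintype.equivFinOfCardEq (by simp; omega)
  let f : Fin n → ℕ := (Sum.elim (fun _ => 0) fun _ => r - 1) ∘ eq.symm
  let d : Fin n → F := fun i => η * ζ ^ f i
  have hd : ∀ i, d i ≠ 0 := fun i => mul_ne_zero hη0 (pow_ne_zero _ (hζ.ne_zero hr.out.ne_zero))
  obtain ⟨x, hx, hxS⟩ := Cfsg.Agent.S5979.mk_GL (Matrix.diagonal d) (by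
    rw [Matrix.det_diagonal]
    simp only [d]
    rw [Finset.prod_mul_distrib, Finset.prod_const, Finset.card_univ, Fintype.card_fin, show η ^ n = η ^ r by rw [hnr], Finset.prod_pow_eq_pow_sum,
      show ∑ i, f i = _ from eq.symm.sum_comp (Sum.elim (fun _ => 0) fun _ => r - 1)]
    simp
    rw [← hζdef, ← pow_succ', Nat.sub_add_cancel (by omega : 1 ≤ r), hζ.pow_eq_one])
  have hcount : ∀ a : ZMod r, Nat.card {i // (f i : ZMod r) = a} = (if a = 0 then n - 1 else 0) + (if a = -1 then 1 else 0) := by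
    intro a
    refine (Nat.card_congr (Equiv.subtypeEquiv eq.symm (q := fun b => ((Sum.elim (fun _ => 0) (fun _ => r - 1) b : ℕ) : ZMod r) = a)
      fun i => Iff.rfl)).trans ?_
    rw [Nat.card_eq_fintype_card, Fintype.card_subtype, Finset.card_filter, Fintype.sum_sum_type]
    simp [Nat.cast_sub (show 1 ≤ r by omega), eq_comm (a := a)]
  refine ⟨x, hxS, η ^ r, ?_, fun z hz => ?_, fun μ hμ hall => ?_⟩
  · rw [hx, Matrix.diagonal_pow, Matrix.smul_one_eq_diagonal]
    congr 1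
    funext i
    simp only [d, Pi.pow_apply]
    rw [mul_pow, ← pow_mul ζ, mul_comm _ r, pow_mul, hζ.pow_eq_one, one_pow, mul_one]
  · rw [hx] at hz
    have e1 := congrFun (congrFun hz (eq (Sum.inl ⟨0, by omega⟩))) (eq (Sum.inl ⟨0, by omega⟩))
    have e2 := congrFun (congrFun hz (eq (Sum.inr 0))) (eq (Sum.inr 0))
    simp [d, f] at e1 e2
    have h : ζ ^ (r - 1) = 1 := by
      rw [← e1] at e2
      exact mul_left_cancel₀ hη0 (by rwa [mul_one])
    have := Nat.le_of_dvd (by omega) ((hζ.pow_eq_one_iff_dvd _).1 h)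
    omega
  · obtain ⟨t, -, ht⟩ := hζ.eq_pow_of_pow_eq_one (ξ := μ / (η * η)) (by
      rw [div_pow, hμ, map_pow, hση, mul_pow]; field_simp)
    rw [eq_div_iff (mul_ne_zero hη0 hη0)] at ht
    have hsym : ∀ a : ZMod r, (if a = 0 then n - 1 else 0) + (if a = -1 then 1 else 0) =
        (if (t : ZMod r) - a = 0 then n - 1 else 0) + (if (t : ZMod r) - a = -1 then 1 else 0) := by
      intro a
      have h := diag_counts hx hd hall (η * ζ ^ a.val)
      rw [count_exp hζ f hη0, ZMod.natCast_zmod_val, hcount] at h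
      rw [h, ← hcount]
      refine Nat.card_congr (Equiv.subtypeEquivRight fun i => ?_)
      simp only [d, map_mul, map_pow, hση, show σ ζ = ζ by rw [hζdef, map_pow, hση], ← ht]
      rw [show η * ζ ^ a.val * (η * ζ ^ f i) = ζ ^ (a.val + f i) * (η * η) by ring,
        mul_left_inj' (mul_ne_zero hη0 hη0), (hζ.isOfFinOrder hr.out.ne_zero).pow_eq_pow_iff_modEq, ← hζ.eq_orderOf,
        ← ZMod.natCast_eq_natCast_iff, Nat.cast_add, ZMod.natCast_zmod_val, eq_sub_iff_add_eq, add_comm]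
    have h1 : (-1 : ZMod r) ≠ 0 := neg_ne_zero.2 one_ne_zero
    have h2 : (2 : ZMod r) ≠ 0 := fun e => by
      have := Nat.le_of_dvd (by norm_num) ((ZMod.natCast_eq_zero_iff 2 r).1 (by exact_mod_cast e))
      omega
    have hA := hsym 0
    rw [if_pos rfl, if_neg h1.symm, sub_zero, add_zero] at hA
    have hB := hsym (-1)
    rw [if_neg h1, if_pos rfl, zero_add] at hB
    by_cases ht0 : (t : ZMod r) = 0
    · rw [ht0, if_neg (fun e => one_ne_zero (show (1 : ZMod r) = 0 by linear_combination e)),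
        if_neg (fun e => h2 (by linear_combination e))] at hB
      omega
    · rw [if_neg ht0] at hA
      split_ifs at hA <;> omega

/-- Pairing the eigenvalues in the small cases. -/
theorem small_pairing {ζ : F} (hζ : IsPrimitiveRoot ζ r) (hrr : ∀ w : F, w ^ (r * r) = 1 → w ^ r = 1)
    (hr35 : r = 3 ∨ r = 5) (hnr : n = r) {x : GL (Fin n) F} (hx : x ∈ Cfsg.Geo.specialLinear (Fin n) F) {z : F}
    (hz : (x : M) ^ r = z • 1) :
    ∃ (T : M) (d : Fin n → F) (τ : Equiv.Perm (Fin n)) (μ : F), T.det ≠ 0 ∧ (x : M) * T = T * Matrix.diagonal d ∧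
      (∀ i, τ (τ i) = i) ∧ μ ^ r = 1 ∧ (∀ i, d i ^ r = 1) ∧ ∀ i, d i * d (τ i) = μ := by
  classical
  have hrF : (r : F) ≠ 0 := by
    haveI : NeZero r := ⟨hr.out.ne_zero⟩
    haveI := hζ.neZero'
    exact NeZero.ne (r : F)
  have hdet : (x : M).det = 1 := congrArg Units.val (MonoidHom.mem_ker.1 hx)
  have hzr : z ^ r = 1 := by
    have h := congrArg Matrix.det hz
    rwa [Matrix.det_pow, hdet, one_pow, Matrix.det_smul, Matrix.det_one, mul_one, Fintype.card_fin, hnr, eq_comm] at h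
  have hodd : Odd r := by rcases hr35 with rfl | rfl <;> decide
  have hz1 : z = 1 := by
    by_contra hne
    have hpow : ∀ w : F, w ^ r ≠ z := fun w hw => hne (hw ▸ hrr w (by rw [pow_mul, hw, hzr]))
    have hirr : Irreducible (X ^ r - Polynomial.C z) := X_pow_sub_C_irreducible_of_prime hr.out hpow
    have hmon : (X ^ r - Polynomial.C z).Monic := monic_X_pow_sub_C z hr.out.ne_zero
    haveI : Nonempty (Fin n) := ⟨⟨0, by have := hr.out.pos; omega⟩⟩
    have hmin : minpoly F (x : M) = X ^ r - Polynomial.C z :=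
      (minpoly.eq_of_irreducible_of_monic hirr (by
        rw [map_sub, map_pow, aeval_X, aeval_C, hz, Algebra.algebraMap_eq_smul_one, sub_self]) hmon).symm
    have hch : (x : M).charpoly = X ^ r - Polynomial.C z := by
      rw [← hmin]
      refine Polynomial.eq_of_monic_of_dvd_of_natDegree_le (minpoly.monic (Matrix.isIntegral (x : M)))
        (Matrix.charpoly_monic (x : M)) (Matrix.minpoly_dvd_charpoly (x : M)) ?_
      rw [Matrix.charpoly_natDegree_eq_dim, hmin, natDegree_X_pow_sub_C, Fintype.card_fin, hnr]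
    have h := Matrix.det_eq_sign_charpoly_coeff (x : M)
    rw [hdet, hch, Fintype.card_fin, hnr, hodd.neg_one_pow, Polynomial.coeff_sub, Polynomial.coeff_X_pow,
      if_neg hr.out.ne_zero.symm, Polynomial.coeff_C_zero] at h
    exact hne (by linear_combination -h)
  subst hz1
  rw [one_smul] at hz
  obtain ⟨T, d, hT, hd, hXT⟩ := exists_eigen hrF hζ hz
  choose e he using fun i => hζ.eq_pow_of_pow_eq_one (hd i)
  have hsum : r ∣ ∑ i, e i := by
    rw [← hζ.pow_eq_one_iff_dvd, ← Finset.prod_pow_eq_pow_sum]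
    simp only [fun i => (he i).2]
    have h := congrArg Matrix.det hXT
    rw [Matrix.det_mul, Matrix.det_mul, hdet, one_mul, Matrix.det_diagonal] at h
    exact (mul_eq_left₀ hT).1 h.symm
  subst hnr
  obtain ⟨τ, hτ, hτs⟩ := exists_pairing hr35 (fun i : Fin n => (⟨e i, (he i).1⟩ : Fin n)) hsum
  have i₀ : Fin n := ⟨0, hr.out.pos⟩
  refine ⟨T, d, τ, ζ ^ (e i₀ + e (τ i₀)), hT, hXT, hτ, ?_, hd, fun i => ?_⟩
  · rw [← pow_mul, mul_comm, pow_mul, hζ.pow_eq_one, one_pow]
  · rw [← (he i).2, ← (he (τ i)).2, ← pow_add, (hζ.isOfFinOrder hr.out.ne_zero).pow_eq_pow_iff_modEq, ← hζ.eq_orderOf]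
    exact hτs i i₀

end Cfsg.Agent.Lib.MaxSub.SimilMat
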