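import Mathlib

/-!
The multiplications by non-zero elements of an extension field, as linear automorphisms.
-/

set_option autoImplicit false

namespace Cfsg.Agent.Lib.MaxSub.Singer

variable (F K : Type*) [Field F] [Field K] [Algebra F K]

/-- Multiplication by a non-zero element of `K` as a unit of `End F K`. -/
noncomputable def mu : Kˣ →* (Module.End F K)ˣ :=
  Units.map ((Algebra.lmul F K : K →ₐ[F] Module.End F K) : K →* Module.End F K)

variable {F K}

theorem mu_coe_apply (a : Kˣ) (x : K) : ((mu F K a : (Module.End F K)ˣ) : Module.End F K) x = (a : K) * x := rfl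

theorem mu_injective : Function.Injective (mu F K) := by
  intro a b h
  have := congrArg (fun u : (Module.End F K)ˣ => (u : Module.End F K) 1) h
  simpa [mu_coe_apply, Units.ext_iff] using this

theorem card_range [Fintype K] :
    Nat.card (mu F K).range = Fintype.card K - 1 := by
  rw [← Nat.card_congr (MonoidHom.ofInjective mu_injective).toEquiv, Nat.card_units,
    Nat.card_eq_fintype_card]

theorem mem_range_of_commute (g : (Module.End F K)ˣ)
    (h : ∀ a : Kˣ, mu F K a * g = g * mu F K a) : g ∈ (mu F K).range := by
  have hx : ∀ x : K, (g : Module.End F K) x = x * (g : Module.End F K) 1 := by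
    intro x
    by_cases hx0 : x = 0
    · simp [hx0]
    · have := congrArg (fun u : (Module.End F K)ˣ => (u : Module.End F K) 1) (h (Units.mk0 x hx0))
      simpa [mu_coe_apply] using this.symm
  have hne : (g : Module.End F K) 1 ≠ 0 := by
    intro h0
    have h1 : ((g⁻¹ : (Module.End F K)ˣ) : Module.End F K) ((g : Module.End F K) 1) = 1 := by
      rw [← Module.End.mul_apply, ← Units.val_mul, inv_mul_cancel]; rfl
    rw [h0, map_zero] at h1
    exact zero_ne_one h1
  refine ⟨Units.mk0 _ hne, ?_⟩
  ext x
  rw [mu_coe_apply, hx x, Units.val_mk0, mul_comm]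

theorem centralizer_range :
    Subgroup.centralizer ((mu F K).range : Set (Module.End F K)ˣ) = (mu F K).range := by
  ext g
  constructor
  · intro hg
    exact mem_range_of_commute g fun a => Subgroup.mem_centralizer_iff.mp hg _ ⟨a, rfl⟩
  · rintro ⟨b, rfl⟩
    rw [Subgroup.mem_centralizer_iff]
    rintro _ ⟨a, rfl⟩
    rw [← map_mul, ← map_mul, mul_comm]

/-- The Frobenius twists: a field automorphism as a unit of `End F K`. -/
noncomputable def galUnit (σ : K ≃ₐ[F] K) : (Module.End F K)ˣ :=
  ⟨σ.toLinearEquiv.toLinearMap, σ.toLinearEquiv.symm.toLinearMap,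
    by ext x; exact σ.apply_symm_apply x, by ext x; exact σ.symm_apply_apply x⟩

theorem galUnit_apply (σ : K ≃ₐ[F] K) (x : K) : ((galUnit σ : (Module.End F K)ˣ) : Module.End F K) x = σ x := rfl

theorem galUnit_mul_mu (σ : K ≃ₐ[F] K) (a : Kˣ) :
    galUnit σ * mu F K a = mu F K (Units.map (σ : K →* K) a) * galUnit σ := by
  ext x
  show σ ((a : K) * x) = σ (a : K) * σ x
  exact map_mul σ _ _

theorem mem_normalizer_iff' [Fintype K] (g : (Module.End F K)ˣ) :
    g ∈ Subgroup.normalizer ((mu F K).range : Set (Module.End F K)ˣ) ↔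
      ∃ (c : Kˣ) (σ : K ≃ₐ[F] K), g = mu F K c * galUnit σ := by
  constructor
  · intro hg
    have hs : ∀ a : Kˣ, ∃ b : Kˣ, g * mu F K a * g⁻¹ = mu F K b := by
      intro a
      obtain ⟨b, hb⟩ := (Subgroup.mem_normalizer_iff.mp hg (mu F K a)).mp ⟨a, rfl⟩
      exact ⟨b, hb.symm⟩
    choose s hs using hs
    have hsg : ∀ (a : Kˣ) (x : K),
        (g : Module.End F K) ((a : K) * x) = (s a : K) * (g : Module.End F K) x := by
      intro a x
      have : g * mu F K a = mu F K (s a) * g := by rw [← hs a]; group
      exact congrArg (fun u : (Module.End F K)ˣ => (u : Module.End F K) x) this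
    classical
    set c : K := (g : Module.End F K) 1 with hcdef
    have hginj : Function.Injective (g : Module.End F K) := by
      intro x y h
      have := congrArg ((g⁻¹ : (Module.End F K)ˣ) : Module.End F K) h
      rwa [← Module.End.mul_apply, ← Module.End.mul_apply, ← Units.val_mul, inv_mul_cancel] at this
    have hc : c ≠ 0 := fun h => one_ne_zero (hginj (h.trans (map_zero _).symm))
    let f : K → K := fun x => c⁻¹ * (g : Module.End F K) x
    have hf : ∀ a : Kˣ, f (a : K) = (s a : K) := by
      intro a
      show c⁻¹ * _ = _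
      have := hsg a 1
      rw [mul_one] at this
      rw [this, mul_comm (s a : K) _, ← mul_assoc, ← hcdef, inv_mul_cancel₀ hc, one_mul]
    have hmul : ∀ x y : K, f (x * y) = f x * f y := by
      intro x y
      by_cases hx : x = 0
      · simp [hx, f]
      · have h1 := hsg (Units.mk0 x hx) y
        rw [Units.val_mk0] at h1
        have h2 := hf (Units.mk0 x hx)
        rw [Units.val_mk0] at h2
        show c⁻¹ * _ = f x * (c⁻¹ * _)
        rw [h1, h2]; ring
    have hsmul : ∀ r : F, f (algebraMap F K r) = algebraMap F K r := by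
      intro r
      show c⁻¹ * _ = _
      rw [Algebra.algebraMap_eq_smul_one, map_smul, mul_smul_comm, ← hcdef, inv_mul_cancel₀ hc]
    let φ : K →ₐ[F] K :=
      { toFun := f
        map_one' := by show c⁻¹ * c = 1; exact inv_mul_cancel₀ hc
        map_mul' := hmul
        map_zero' := by simp [f]
        map_add' := fun x y => by simp [f, mul_add]
        commutes' := hsmul }
    have hbij : Function.Bijective φ :=
      Finite.injective_iff_bijective.mp (φ : K →+* K).injective
    refine ⟨Units.mk0 c hc, AlgEquiv.ofBijective φ hbij, ?_⟩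
    ext x
    show _ = c * f x
    show _ = c * (c⁻¹ * _)
    rw [← mul_assoc, mul_inv_cancel₀ hc, one_mul]
  · rintro ⟨c, σ, rfl⟩
    refine mul_mem (Subgroup.le_normalizer ⟨c, rfl⟩) ?_
    rw [Subgroup.mem_normalizer_iff]
    intro h
    constructor
    · rintro ⟨a, rfl⟩
      exact ⟨Units.map (σ : K →* K) a, by rw [galUnit_mul_mu]; group⟩
    · rintro ⟨b, hb⟩
      refine ⟨Units.map (σ.symm : K →* K) b, ?_⟩
      have h1 : galUnit σ * mu F K (Units.map (σ.symm : K →* K) b) * (galUnit σ)⁻¹ = mu F K b := by
        rw [galUnit_mul_mu]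
        have : Units.map (σ : K →* K) (Units.map (σ.symm : K →* K) b) = b := by
          ext; exact σ.apply_symm_apply _
        rw [this]; group
      have h2 := h1.trans hb
      exact mul_left_cancel (mul_right_cancel h2)

theorem pair_injective {c d : Kˣ} {σ τ : K ≃ₐ[F] K}
    (h : mu F K c * galUnit σ = mu F K d * galUnit τ) : c = d ∧ σ = τ := by
  have h1 : ∀ x, (c : K) * σ x = (d : K) * τ x := fun x =>
    congrArg (fun u : (Module.End F K)ˣ => (u : Module.End F K) x) h
  have hcd : c = d := by
    have := h1 1
    simpa [Units.ext_iff] using this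
  refine ⟨hcd, AlgEquiv.ext fun x => ?_⟩
  have := h1 x
  rw [hcd] at this
  exact mul_left_cancel₀ d.ne_zero this

end Cfsg.Agent.Lib.MaxSub.Singer
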