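import Cfsg.Agent.Lib.MaxSub.SpThreeGenSpread
import Mathlib

/-!
Three conjugates of the regular unipotent element which generate the symplectic group.
-/

set_option autoImplicit false
set_option maxHeartbeats 800000
set_option linter.unusedSectionVars false

namespace Cfsg.Agent.Lib.MaxSub.SpThreeGen

open Matrix

section

variable {F : Type*} [Field F] {n : ℕ}

local notation "Φ" => stdAlt n F

local notation g "⋆" x => ((g : GL (Fin n ⊕ Fin n) F) : Matrix (Fin n ⊕ Fin n) (Fin n ⊕ Fin n) F) *ᵥ x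

theorem trans_mul_trans' (w : Fin n ⊕ Fin n → F) (a b : F) :
    (Φ).trans w a * (Φ).trans w b = (Φ).trans w (a + b) :=
  Units.ext (eq_of_mulVec_eq fun x => by
    simp only [Units.val_mul, ← Matrix.mulVec_mulVec, AltForm.trans_mulVec, map_add, map_smul, LinearMap.add_apply,
      LinearMap.smul_apply, (Φ).alt, smul_eq_mul]
    module)

theorem trans_zero' (w : Fin n ⊕ Fin n → F) : (Φ).trans w 0 = 1 :=
  Units.ext (eq_of_mulVec_eq fun x => by simp [AltForm.trans_mulVec])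

theorem trans_inv' (w : Fin n ⊕ Fin n → F) (a : F) : ((Φ).trans w a)⁻¹ = (Φ).trans w (-a) :=
  inv_eq_of_mul_eq_one_right (by rw [trans_mul_trans', add_neg_cancel, trans_zero'])

theorem trans_pow' (w : Fin n ⊕ Fin n → F) (a : F) : ∀ k : ℕ, (Φ).trans w a ^ k = (Φ).trans w (k * a)
  | 0 => by rw [pow_zero, Nat.cast_zero, zero_mul, trans_zero']
  | k + 1 => by rw [pow_succ, trans_pow' w a k, trans_mul_trans', Nat.cast_succ, add_mul, one_mul]

theorem trans_smul' (w : Fin n ⊕ Fin n → F) (a c : F) : (Φ).trans (a • w) c = (Φ).trans w (a * a * c) :=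
  Units.ext (eq_of_mulVec_eq fun x => by
    simp only [AltForm.trans_mulVec, map_smul, smul_eq_mul, smul_smul]
    congr 2
    ring)

theorem trans_conj_mem {K : Subgroup (GL (Fin n ⊕ Fin n) F)} (hKΦ : ∀ g ∈ K, (Φ).Preserves g)
    {g : GL (Fin n ⊕ Fin n) F} (hg : g ∈ K) {w : Fin n ⊕ Fin n → F} {c : F} (h : (Φ).trans w c ∈ K) :
    (Φ).trans (g ⋆ w) c ∈ K :=
  (Φ).conj_trans (hKΦ g hg) w c ▸ K.mul_mem (K.mul_mem hg h) (K.inv_mem hg)

/-- Closure under a generator squared gives all parameters. -/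
theorem centre_of_param [Finite F] {K : Subgroup (GL (Fin n ⊕ Fin n) F)} {w : Fin n ⊕ Fin n → F} {b c0 : F}
    (hgen : ∀ x : F, x ≠ 0 → ∃ k : ℕ, x = b ^ k) (hc0 : c0 ≠ 0) (hK : (Φ).trans w c0 ∈ K)
    (hS : ∀ c, (Φ).trans w c ∈ K → (Φ).trans w (b * b * c) ∈ K) : (Φ).Centre K w := by
  have hpow : ∀ k : ℕ, (Φ).trans w (b ^ k * b ^ k * c0) ∈ K := by
    intro k
    induction k with
    | zero => simpa using hK
    | succ k ih =>
      have := hS _ ih
      rwa [show b * b * (b ^ k * b ^ k * c0) = b ^ (k + 1) * b ^ (k + 1) * c0 by ring] at this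
  have hsq : ∀ y : F, (Φ).trans w (y * y * c0) ∈ K := fun y => by
    rcases eq_or_ne y 0 with rfl | hy
    · simp only [zero_mul, trans_zero']; exact K.one_mem
    · obtain ⟨k, rfl⟩ := hgen y hy; exact hpow k
  intro x
  rcases eq_or_ne (2 : F) 0 with h2 | h2
  · haveI : CharP F 2 := CharTwo.of_one_ne_zero_of_two_eq_zero one_ne_zero h2
    obtain ⟨y, hy⟩ := isSquare_of_charTwo' (x / c0)
    have := hsq y
    rwa [← hy, div_mul_cancel₀ _ hc0] at this
  · have h4 : (4 : F) ≠ 0 := by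
      rw [show (4 : F) = 2 * 2 by norm_num]; exact mul_ne_zero h2 h2
    set z := x / (4 * c0) with hz
    have := K.mul_mem (hsq (z + 1)) (K.inv_mem (hsq (z - 1)))
    rwa [trans_inv', trans_mul_trans',
      show (z + 1) * (z + 1) * c0 + -((z - 1) * (z - 1) * c0) = x by rw [hz]; field_simp; ring] at this

/-- An injective endomorphism preserving the form is an isometry. -/
theorem exists_isometry (φ : Module.End F (Fin n ⊕ Fin n → F)) (hφ : ∀ x y, (Φ).B (φ x) (φ y) = (Φ).B x y) :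
    ∃ g : GL (Fin n ⊕ Fin n) F, (Φ).Preserves g ∧ ∀ x, (g ⋆ x) = φ x := by
  have hinj : Function.Injective ((LinearMap.toMatrix' φ).mulVec) := by
    intro x y hxy
    simp only [LinearMap.toMatrix'_mulVec] at hxy
    refine sub_eq_zero.mp ((Φ).nondeg _ fun z => ?_)
    rw [← hφ, map_sub φ, hxy, sub_self, map_zero]
  refine ⟨(Matrix.mulVec_injective_iff_isUnit.mp hinj).unit, fun x y => ?_, fun x => LinearMap.toMatrix'_mulVec φ x⟩
  simp only [IsUnit.unit_spec, LinearMap.toMatrix'_mulVec, hφ]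

/-- The embedding of the span of the vectors `f`. -/
def fL : (Fin n → F) →ₗ[F] (Fin n ⊕ Fin n → F) where
  toFun x := Sum.elim x 0
  map_add' x y := funext fun k => by cases k <;> simp
  map_smul' c x := funext fun k => by cases k <;> simp

theorem fv_eq (i : Fin n) : (fv i : Fin n ⊕ Fin n → F) = fL (Pi.single i 1) := by
  funext k; cases k <;> simp [fv, fL, Pi.single_apply]

theorem exists_levi (φ : Module.End F (Fin n → F)) (hinj : Function.Injective φ) :
    ∃ g : GL (Fin n ⊕ Fin n) F, (Φ).Preserves g ∧ ∀ x, (g ⋆ fL x) = fL (φ x) := by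
  have hinj' : Function.Injective ((LinearMap.toMatrix' φ).mulVec) := fun x y h => hinj (by
    simpa [LinearMap.toMatrix'_mulVec] using h)
  refine ⟨levi (Matrix.mulVec_injective_iff_isUnit.mp hinj').unit, levi_preserves _, fun x => ?_⟩
  rw [levi_mulVec]
  simp [fL, LinearMap.toMatrix'_mulVec]

variable (hn : 0 < n)

/-- The transvection obtained from a conjugate when the rank is at least three. -/
theorem tau_big {i1 i2 : Fin n} (h1 : i1.val = 1) (h2 : i2.val = 2) :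
    ∃ g : GL (Fin n ⊕ Fin n) F, (Φ).Preserves g ∧
      g * regU hn * g⁻¹ * (regU hn)⁻¹ = (Φ).trans (ev ⟨0, hn⟩) (-1) := by
  set e0 : Fin n ⊕ Fin n → F := ev ⟨0, hn⟩
  set u : GL (Fin n ⊕ Fin n) F := regU hn
  set X := (Φ).trans (ev i1) 1 * (Φ).trans (e0 + ev i2) (-1) * (Φ).trans e0 1 * (Φ).trans (ev i2) 1 with hX
  have hu0 : (u ⋆ e0) = e0 := regU_ev_zero hn rfl
  have hu1 : (u ⋆ ev i1) = ev i1 - e0 :=
    (regU_ev_succ hn (i := ⟨0, hn⟩) (j := i1) (by simp [h1])).trans (congrArg (ev i1 - ·) hu0)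
  have hu2 : (u ⋆ ev i2) = ev i2 - (ev i1 - e0) :=
    (regU_ev_succ hn (i := i1) (j := i2) (by omega)).trans (congrArg (ev i2 - ·) hu1)
  have hXp : (Φ).Preserves X :=
    preserves_mul (preserves_mul (preserves_mul ((Φ).trans_preserves _ _) ((Φ).trans_preserves _ _))
      ((Φ).trans_preserves _ _)) ((Φ).trans_preserves _ _)
  refine ⟨X⁻¹, preserves_inv hXp, ?_⟩
  have key : u * X * u⁻¹ = X * (Φ).trans e0 (-1) := by
    have hsplit : u * X * u⁻¹ = (u * (Φ).trans (ev i1) 1 * u⁻¹) * (u * (Φ).trans (e0 + ev i2) (-1) * u⁻¹) *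
        (u * (Φ).trans e0 1 * u⁻¹) * (u * (Φ).trans (ev i2) 1 * u⁻¹) := by
      rw [hX]; group
    have hup : (Φ).Preserves u := regU_preserves hn
    rw [hsplit, (Φ).conj_trans hup, (Φ).conj_trans hup, (Φ).conj_trans hup, (Φ).conj_trans hup,
      Matrix.mulVec_add, hu0, hu1, hu2, hX]
    refine Units.ext (eq_of_mulVec_eq fun x => ?_)
    simp only [Units.val_mul, ← Matrix.mulVec_mulVec, AltForm.trans_mulVec, map_add, map_sub, map_smul,
      LinearMap.add_apply, LinearMap.sub_apply, LinearMap.smul_apply, smul_eq_mul, B_ev_ev, e0, mul_zero, sub_zero,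
      add_zero]
    module
  rw [inv_inv, show X⁻¹ * u * X * u⁻¹ = X⁻¹ * (u * X * u⁻¹) by group, key, inv_mul_cancel_left]

/-- Scaling one coordinate. -/
theorem spin_b {i1 : Fin n} (h1 : i1.val = 1) {b : F} (hb : b ≠ 0) :
    ∃ h : GL (Fin n ⊕ Fin n) F, (Φ).Preserves h ∧ (Φ).B (ev ⟨0, hn⟩) (h ⋆ ev ⟨0, hn⟩) ≠ 0 ∧
      ((h⁻¹ * regU hn * h : GL (Fin n ⊕ Fin n) F) ⋆ ev ⟨0, hn⟩) = ev ⟨0, hn⟩ + b • ev i1 := by
  set e0 : Fin n ⊕ Fin n → F := ev ⟨0, hn⟩ with he0
  set f0 : Fin n ⊕ Fin n → F := fv ⟨0, hn⟩ with hf0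
  have hne : (⟨0, hn⟩ : Fin n) ≠ i1 := fun e => by rw [← e] at h1; simp at h1
  set M : GL (Fin n ⊕ Fin n) F :=
    (Φ).trans e0 1 * (Φ).trans f0 1 * (Φ).trans (ev i1) 1 * (Φ).trans (fv i1) 1 with hM
  obtain ⟨g, hg, hgx⟩ := exists_levi (F := F)
    (LinearMap.id + (LinearMap.proj i1).smulRight ((b⁻¹ - 1) • (Pi.single i1 1 : Fin n → F))) (by
    refine (injective_iff_map_eq_zero _).mpr fun x hx => ?_
    funext k
    have h1' := congrFun hx i1
    simp at h1'
    have hx1 : x i1 = 0 := by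
      have : x i1 * b⁻¹ = 0 := by linear_combination h1'
      simpa [hb] using this
    have := congrFun hx k
    simpa [hx1] using this)
  have hg0 : (g ⋆ f0) = f0 := by
    rw [hf0, fv_eq, hgx]; congr 1; funext k; simp [Pi.single_apply, hne, Ne.symm hne]
  have hg1 : (g ⋆ (b • fv i1)) = fv i1 := by
    rw [fv_eq, ← map_smul, hgx]; congr 1; funext k
    by_cases hk : k = i1 <;> simp [Pi.single_apply, hk, mul_sub, mul_inv_cancel₀ hb]
  have hM0 : (M ⋆ e0) = f0 := by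
    simp only [hM, Units.val_mul, ← Matrix.mulVec_mulVec, AltForm.trans_mulVec, B_ev_ev, B_ev_fv, B_fv_ev, e0, f0,
      map_add, LinearMap.add_apply, map_smul, LinearMap.smul_apply, smul_eq_mul, if_neg hne, eq_self_iff_true, if_true]
    module
  have hM1 : (M ⋆ ev i1) = fv i1 := by
    simp only [hM, Units.val_mul, ← Matrix.mulVec_mulVec, AltForm.trans_mulVec, B_ev_ev, B_fv_fv, B_ev_fv, B_fv_ev,
      e0, f0, map_add, LinearMap.add_apply, map_smul, LinearMap.smul_apply, smul_eq_mul, if_neg (Ne.symm hne),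
      eq_self_iff_true, if_true]
    module
  have hh0 : ((g * M : GL (Fin n ⊕ Fin n) F) ⋆ e0) = f0 := by rw [mul_apply', hM0, hg0]
  have hh1 : ((g * M : GL (Fin n ⊕ Fin n) F) ⋆ (e0 + b • ev i1)) = f0 + fv i1 := by
    rw [Matrix.mulVec_add, hh0, mul_apply', Matrix.mulVec_smul, hM1, hg1]
  refine ⟨g * M, preserves_mul hg (preserves_mul (preserves_mul (preserves_mul ((Φ).trans_preserves _ _)
    ((Φ).trans_preserves _ _)) ((Φ).trans_preserves _ _)) ((Φ).trans_preserves _ _)), ?_, ?_⟩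
  · rw [hh0, B_ev_fv, if_pos rfl]; exact one_ne_zero
  · rw [mul_apply', mul_apply', hh0, hf0, regU_fv hn (j := i1) (by simp [h1])]
    exact inv_apply hh1

/-- The second differences of a quadratic. -/
theorem param_b {i1 : Fin n} (h1 : i1.val = 1) {K : Subgroup (GL (Fin n ⊕ Fin n) F)}
    (hKΦ : ∀ g ∈ K, (Φ).Preserves g) (hu : regU hn ∈ K) {w : GL (Fin n ⊕ Fin n) F} (hw : w ∈ K) {b : F}
    (hwe : (w ⋆ ev ⟨0, hn⟩) = ev ⟨0, hn⟩ + b • ev i1) {c : F} (hc : (Φ).trans (ev ⟨0, hn⟩) c ∈ K) :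
    (Φ).trans (ev ⟨0, hn⟩) (2 * (b * b) * c) ∈ K := by
  set e0 : Fin n ⊕ Fin n → F := ev ⟨0, hn⟩
  set u : GL (Fin n ⊕ Fin n) F := regU hn
  have hu0 : (u ⋆ e0) = e0 := regU_ev_zero hn rfl
  have hu1 : (u ⋆ ev i1) = ev i1 - e0 :=
    (regU_ev_succ hn (i := ⟨0, hn⟩) (j := i1) (by simp [h1])).trans (congrArg (ev i1 - ·) hu0)
  have hn2 : (Φ).trans e0 (-c + -c) ∈ K := by
    rw [← trans_mul_trans', ← trans_inv']; exact K.mul_mem (K.inv_mem hc) (K.inv_mem hc)
  have t1 := trans_conj_mem hKΦ hw hc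
  have t2 := trans_conj_mem hKΦ hu (trans_conj_mem hKΦ hw hn2)
  have t3 := trans_conj_mem hKΦ hu (trans_conj_mem hKΦ hu (trans_conj_mem hKΦ hw hc))
  rw [hwe] at t1 t2 t3
  simp only [Matrix.mulVec_add, Matrix.mulVec_smul, Matrix.mulVec_sub, hu0, hu1] at t2 t3
  convert K.mul_mem (K.mul_mem t1 t2) t3 using 1
  refine Units.ext (eq_of_mulVec_eq fun x => ?_)
  simp only [Units.val_mul, ← Matrix.mulVec_mulVec, AltForm.trans_mulVec, map_add, map_sub, map_smul,
    LinearMap.add_apply, LinearMap.sub_apply, LinearMap.smul_apply, smul_eq_mul, B_ev_ev, e0, mul_zero, sub_zero,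
    add_zero]
  module

/-- The word scaling the fixed vector when the rank is at least three and the characteristic is two. -/
theorem spin_a {i1 i2 : Fin n} (h1 : i1.val = 1) (h2 : i2.val = 2) (htwo : (2 : F) = 0) {b : F} (hb : b ≠ 0) :
    ∃ h : GL (Fin n ⊕ Fin n) F, (Φ).Preserves h ∧ (Φ).B (ev ⟨0, hn⟩) (h ⋆ ev ⟨0, hn⟩) ≠ 0 ∧
      ((h⁻¹ * regU hn * h * regU hn * (h⁻¹ * regU hn * h) : GL (Fin n ⊕ Fin n) F) ⋆ ev ⟨0, hn⟩) =
        b • ev ⟨0, hn⟩ := by
  set i0 : Fin n := ⟨0, hn⟩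
  set e0 : Fin n ⊕ Fin n → F := ev i0 with he0
  have h01 : i0 ≠ i1 := fun e => by rw [← e] at h1; simp [i0] at h1
  have h02 : i0 ≠ i2 := fun e => by rw [← e] at h2; simp [i0] at h2
  have h12 : i1 ≠ i2 := fun e => by rw [e] at h1; omega
  set M : GL (Fin n ⊕ Fin n) F := (Φ).trans e0 1 * (Φ).trans (fv i0) 1 with hM
  let s : Fin n → (Fin n → F) := fun i => Pi.single i 1
  obtain ⟨g, hg, hgx⟩ := exists_levi (F := F)
    (LinearMap.id + (LinearMap.proj i0).smulRight (s i1) + (LinearMap.proj i1).smulRight (s i0 + s i1 + s i2)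
      + (LinearMap.proj i2).smulRight ((b + 1) • s i0)) (by
    refine (injective_iff_map_eq_zero _).mpr fun x hx => ?_
    have a0 := congrFun hx i0
    have a1 := congrFun hx i1
    have a2 := congrFun hx i2
    simp [s, h01, h02, h12, Ne.symm h01, Ne.symm h02, Ne.symm h12] at a0 a1 a2
    have hx0 : x i0 = 0 := by linear_combination a1 - x i1 * htwo
    have hx2 : x i2 = 0 := by
      have : x i2 * b = 0 := by linear_combination a0 - a2 - hx0 + x i2 * (0 : F)
      simpa [hb] using this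
    have hx1 : x i1 = 0 := by linear_combination a2 - hx2
    funext k
    have := congrFun hx k
    simpa [hx0, hx1, hx2] using this)
  have hs : ∀ i, (fv i : Fin n ⊕ Fin n → F) = fL (s i) := fun i => fv_eq i
  have hg0 : (g ⋆ fv i0) = fv i0 + fv i1 := by
    rw [hs, hs, hgx, ← map_add]; congr 1; funext k
    simp [s, Pi.single_apply, h01, h02, Ne.symm h01, Ne.symm h02]
  have hg1 : (g ⋆ fv i1) = fv i0 + fv i2 := by
    rw [hs, hs, hs, hgx, ← map_add]; congr 1; funext k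
    simp [s, Pi.single_apply, h01, h12, Ne.symm h01, Ne.symm h12]
    linear_combination (if k = i1 then (1 : F) else 0) * htwo
  have hg12 : (g ⋆ (fv i1 + fv i2)) = b • fv i0 := by
    rw [hs, hs, hs, ← map_add, hgx, ← map_smul]; congr 1; funext k
    simp [s, Pi.single_apply, h01, h02, h12, Ne.symm h01, Ne.symm h02, Ne.symm h12]
    split_ifs <;> first | (linear_combination htwo) | (linear_combination 2 * htwo) | (linear_combination 3 * htwo) | (linear_combination (0 : F) * htwo)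
  have hM0 : (M ⋆ e0) = fv i0 := by
    simp only [hM, Units.val_mul, ← Matrix.mulVec_mulVec, AltForm.trans_mulVec, B_ev_ev, B_ev_fv, B_fv_ev, e0,
      map_add, LinearMap.add_apply, map_smul, LinearMap.smul_apply, smul_eq_mul, eq_self_iff_true, if_true]
    module
  have hMfix : ∀ i, i ≠ i0 → (M ⋆ fv i) = fv i := fun i hi => by
    simp only [hM, Units.val_mul, ← Matrix.mulVec_mulVec, AltForm.trans_mulVec, B_fv_fv, B_fv_ev, e0,
      map_add, LinearMap.add_apply, map_smul, LinearMap.smul_apply, smul_eq_mul, if_neg hi, mul_zero, zero_smul,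
      add_zero]
  set h : GL (Fin n ⊕ Fin n) F := g * M with hh
  set u : GL (Fin n ⊕ Fin n) F := regU hn
  have hu0 : (u ⋆ fv i0) = fv i0 + fv i1 := regU_fv hn (by simp [i0, h1])
  have hu1 : (u ⋆ fv i1) = fv i1 + fv i2 := regU_fv hn (by omega)
  have hh0 : (h ⋆ e0) = fv i0 + fv i1 := by rw [hh, mul_apply', hM0, hg0]
  have e1 : ((h⁻¹ * u * h : GL (Fin n ⊕ Fin n) F) ⋆ e0) = fv i1 := by
    rw [mul_apply', mul_apply', hh0, Matrix.mulVec_add, hu0, hu1]
    refine inv_apply ?_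
    rw [hh, mul_apply', hMfix i1 (Ne.symm h01), hg1]
    funext k
    simp only [Pi.add_apply]
    linear_combination -(fv i1 k : F) * htwo
  have e3 : ((h⁻¹ * u * h : GL (Fin n ⊕ Fin n) F) ⋆ (fv i1 + fv i2)) = b • e0 := by
    rw [mul_apply', mul_apply', show (h ⋆ (fv i1 + fv i2)) = b • fv i0 by
      rw [hh, mul_apply', Matrix.mulVec_add, hMfix i1 (Ne.symm h01), hMfix i2 (Ne.symm h02), hg12], Matrix.mulVec_smul, hu0]
    exact inv_apply (by rw [Matrix.mulVec_smul, hh0])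
  refine ⟨h, preserves_mul hg (preserves_mul ((Φ).trans_preserves _ _) ((Φ).trans_preserves _ _)), ?_, ?_⟩
  · rw [hh0, map_add, B_ev_fv, B_ev_fv, if_pos rfl, if_neg h01, add_zero]; exact one_ne_zero
  · rw [mul_apply', mul_apply', e1, hu1, e3]

end

section Two

variable {F : Type*} [Field F]

local notation "Φ₂" => stdAlt 2 F

local notation g "⋆₂" x => ((g : GL (Fin 2 ⊕ Fin 2) F) : Matrix (Fin 2 ⊕ Fin 2) (Fin 2 ⊕ Fin 2) F) *ᵥ x

/-- The transvection obtained from a conjugate in rank two. -/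
theorem tau_two (t : F) :
    ∃ g : GL (Fin 2 ⊕ Fin 2) F, (Φ₂).Preserves g ∧
      (regU (F := F) two_pos)⁻¹ * (g * regU two_pos * g⁻¹) = (Φ₂).trans (ev ⟨0, two_pos⟩) (t - t * t) := by
  let A : GL (Fin 2) F := ⟨!![1, 0; -t, 1], !![1, 0; t, 1],
    by ext i j; fin_cases i <;> fin_cases j <;> simp [Matrix.mul_apply, Fin.sum_univ_two],
    by ext i j; fin_cases i <;> fin_cases j <;> simp [Matrix.mul_apply, Fin.sum_univ_two]⟩
  set e0 : Fin 2 ⊕ Fin 2 → F := ev ⟨0, two_pos⟩ with he0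
  set e1 : Fin 2 ⊕ Fin 2 → F := ev (top' two_pos) with he1
  set L : GL (Fin 2 ⊕ Fin 2) F := levi (sbU F 2) with hL
  have hcomm : A * sbU F 2 = sbU F 2 * A := by
    apply Units.ext
    simp only [Units.val_mul]
    ext i j
    fin_cases i <;> fin_cases j <;> simp [A, sbU, sb, Matrix.mul_apply, Fin.sum_univ_two]
    ring
  have hAe : (levi A ⋆₂ e1) = t • e0 + e1 := by
    rw [levi_mulVec]
    funext k
    rcases k with k | k <;> fin_cases k <;>
      simp [A, e0, e1, ev, top', Matrix.mulVec, dotProduct, Fin.sum_univ_two, Pi.single_apply]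
  have hLe : (L⁻¹ ⋆₂ e1) = e1 + e0 :=
    inv_apply (levi_sb_ev_succ (i := ⟨0, two_pos⟩) (j := top' two_pos) (by simp [top']))
  have hconjA : levi A * regU two_pos * (levi A)⁻¹ = L * (Φ₂).trans (t • e0 + e1) (-1) := by
    rw [regU, show levi A * (levi (sbU F 2) * (Φ₂).trans (ev (top' two_pos)) (-1)) * (levi A)⁻¹
      = levi A * levi (sbU F 2) * (levi A)⁻¹ * (levi A * (Φ₂).trans (ev (top' two_pos)) (-1) * (levi A)⁻¹) by group,
      ← map_mul, hcomm, map_mul, mul_inv_cancel_right, (Φ₂).conj_trans (levi_preserves A), hAe]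
  refine ⟨(Φ₂).trans e1 t * levi A, preserves_mul ((Φ₂).trans_preserves _ _) (levi_preserves _), ?_⟩
  rw [show (Φ₂).trans e1 t * levi A * regU two_pos * ((Φ₂).trans e1 t * levi A)⁻¹
      = (Φ₂).trans e1 t * (levi A * regU two_pos * (levi A)⁻¹) * ((Φ₂).trans e1 t)⁻¹ by group, hconjA,
    show (regU (F := F) two_pos)⁻¹ = ((Φ₂).trans e1 (-1))⁻¹ * L⁻¹ by rw [regU, _root_.mul_inv_rev],
    show ((Φ₂).trans e1 (-1))⁻¹ * L⁻¹ * ((Φ₂).trans e1 t * (L * (Φ₂).trans (t • e0 + e1) (-1)) * ((Φ₂).trans e1 t)⁻¹)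
      = ((Φ₂).trans e1 (-1))⁻¹ * (L⁻¹ * (Φ₂).trans e1 t * L⁻¹⁻¹) * (Φ₂).trans (t • e0 + e1) (-1) *
        ((Φ₂).trans e1 t)⁻¹ by group,
    (Φ₂).conj_trans (preserves_inv (levi_preserves _)), hLe, trans_inv', trans_inv']
  refine Units.ext (eq_of_mulVec_eq fun x => ?_)
  simp only [Units.val_mul, ← Matrix.mulVec_mulVec, AltForm.trans_mulVec, map_add, map_smul, LinearMap.add_apply,
    LinearMap.smul_apply, smul_eq_mul, B_ev_ev, e0, e1, mul_zero, add_zero]
  module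

/-- The word scaling the fixed vector in rank two and characteristic two. -/
theorem spin_c (htwo : (2 : F) = 0) {β : F} (hβ : β ≠ 0) :
    ∃ h : GL (Fin 2 ⊕ Fin 2) F, (Φ₂).Preserves h ∧ (Φ₂).B (ev ⟨0, two_pos⟩) (h ⋆₂ ev ⟨0, two_pos⟩) ≠ 0 ∧
      ((h⁻¹ * regU two_pos * h * regU two_pos * (h⁻¹ * regU two_pos * h) : GL (Fin 2 ⊕ Fin 2) F) ⋆₂
        ev ⟨0, two_pos⟩) = (β * β) • ev ⟨0, two_pos⟩ := by
  let φ : Module.End F (Fin 2 ⊕ Fin 2 → F) :=
    { toFun := fun x => Sum.elim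
        ![x (Sum.inr 0) + (β + 1 + β⁻¹) * x (Sum.inr 1) + β⁻¹ * x (Sum.inl 1),
          (β + β⁻¹) * x (Sum.inr 1) + β⁻¹ * x (Sum.inl 0) + β⁻¹ * x (Sum.inl 1)]
        ![x (Sum.inl 0), β * x (Sum.inr 1) + x (Sum.inl 0)]
      map_add' := fun x y => by
        funext k
        rcases k with k | k <;> fin_cases k <;> simp <;> ring
      map_smul' := fun c x => by
        funext k
        rcases k with k | k <;> fin_cases k <;> simp <;> ring }
  have hi : β * β⁻¹ = 1 := mul_inv_cancel₀ hβ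
  obtain ⟨h, hh, hx⟩ := exists_isometry φ (fun x y => by
    simp [φ, B_eq, Fin.sum_univ_two]
    linear_combination
      ((x (Sum.inl 0) * y (Sum.inr 0) - x (Sum.inr 0) * y (Sum.inl 0))
        + (β + β⁻¹) * (x (Sum.inl 0) * y (Sum.inr 1) - x (Sum.inr 1) * y (Sum.inl 0))
        + β⁻¹ * (x (Sum.inl 0) * y (Sum.inl 1) - x (Sum.inl 1) * y (Sum.inl 0))) * htwo
      + (-(x (Sum.inl 0) * y (Sum.inr 1) - x (Sum.inr 1) * y (Sum.inl 0))
        + (x (Sum.inr 1) * y (Sum.inl 1) - x (Sum.inl 1) * y (Sum.inr 1))) * hi)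
  set u : GL (Fin 2 ⊕ Fin 2) F := regU two_pos
  set e0 : Fin 2 ⊕ Fin 2 → F := ev ⟨0, two_pos⟩ with he0
  set e1 : Fin 2 ⊕ Fin 2 → F := ev (top' two_pos) with he1
  set f0 : Fin 2 ⊕ Fin 2 → F := fv ⟨0, two_pos⟩ with hf0
  set f1 : Fin 2 ⊕ Fin 2 → F := fv (top' two_pos) with hf1
  have hue0 : (u ⋆₂ e0) = e0 := regU_ev_zero two_pos rfl
  have hue1 : (u ⋆₂ e1) = e1 - e0 :=
    (regU_ev_succ two_pos (i := ⟨0, two_pos⟩) (j := top' two_pos) (by simp [top'])).trans (congrArg (e1 - ·) hue0)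
  have huf0 : (u ⋆₂ f0) = f0 + f1 := regU_fv two_pos (by simp [top'])
  have huf1 : (u ⋆₂ f1) = f1 + (e1 - e0) := (regU_fv_top two_pos).trans (congrArg (f1 + ·) hue1)
  have hh0 : (h ⋆₂ e0) = f0 := by
    rw [hx]; funext k
    rcases k with k | k <;> fin_cases k <;> simp [φ, e0, f0, ev, fv, Pi.single_apply]
  have w0 : ((h⁻¹ * u * h : GL (Fin 2 ⊕ Fin 2) F) ⋆₂ e0) = β • f1 := by
    rw [mul_apply', mul_apply', hh0, huf0]
    refine inv_apply ?_
    rw [hx]; funext k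
    rcases k with k | k <;> fin_cases k <;> simp [φ, f0, f1, ev, fv, top', Pi.single_apply, hi, mul_comm β⁻¹ β]
  have w1 : ((h⁻¹ * u * h : GL (Fin 2 ⊕ Fin 2) F) ⋆₂ (β • (f1 + (e1 - e0)))) = (β * β) • e0 := by
    rw [mul_apply', mul_apply', show (h ⋆₂ (β • (f1 + (e1 - e0)))) = (β * β) • (f0 + f1 + e1) by
      rw [hx]; funext k
      rcases k with k | k <;> fin_cases k <;> simp [φ, e0, e1, f0, f1, ev, fv, top', Pi.single_apply]
      · linear_combination 2 * hi + htwo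
      · linear_combination 2 * hi + htwo
      , Matrix.mulVec_smul, Matrix.mulVec_add, Matrix.mulVec_add, huf0, huf1, hue1]
    refine inv_apply ?_
    rw [Matrix.mulVec_smul, hh0]
    congr 1
    funext k
    simp only [Pi.add_apply, Pi.sub_apply]
    linear_combination (-(f1 k) - e1 k + e0 k) * htwo
  refine ⟨h, hh, ?_, ?_⟩
  · rw [hh0, B_ev_fv, if_pos rfl]; exact one_ne_zero
  · rw [mul_apply', mul_apply', w0, Matrix.mulVec_smul, huf1, w1]

end Two

section Main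

variable {F : Type*} [Field F] [Finite F] {n : ℕ}

local notation "Φ" => stdAlt n F

theorem exists_ne_zero_one (h : Nat.card F ≠ 2) : ∃ γ : F, γ ≠ 0 ∧ γ ≠ 1 := by
  classical
  haveI := Fintype.ofFinite F
  by_contra hc
  push Not at hc
  refine h ?_
  rw [Nat.card_eq_fintype_card, ← Finset.card_univ, show (Finset.univ : Finset F) = {0, 1} by
    ext x; simp only [Finset.mem_univ, Finset.mem_insert, Finset.mem_singleton, true_iff]
    rcases eq_or_ne x 0 with h0 | h0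
    · exact Or.inl h0
    · exact Or.inr (hc x h0)]
  simp

/-- Three conjugates of the regular unipotent element whose group has every vector as a centre. -/
theorem centres_of_three (hn : 0 < n) (h2 : 1 < n) (h22 : ¬ (n = 2 ∧ Nat.card F = 2)) :
    ∃ g h : GL (Fin n ⊕ Fin n) F, (Φ).Preserves g ∧ (Φ).Preserves h ∧
      ∀ w, (Φ).Centre (Subgroup.closure
        ({regU hn, g * regU hn * g⁻¹, h⁻¹ * regU hn * h} : Set (GL (Fin n ⊕ Fin n) F))) w := by
  classical
  haveI := Fintype.ofFinite F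
  obtain ⟨z, hz⟩ := IsCyclic.exists_generator (α := Fˣ)
  set b : F := (z : F) with hbdef
  have hb : b ≠ 0 := z.ne_zero
  have hgen : ∀ x : F, x ≠ 0 → ∃ k : ℕ, x = b ^ k := fun x hx => by
    obtain ⟨k, hk⟩ := (mem_powers_iff_mem_zpowers.mpr (hz (Units.mk0 x hx)))
    exact ⟨k, by simpa [hbdef] using (congrArg Units.val hk).symm⟩
  set i1 : Fin n := ⟨1, h2⟩ with hi1
  set e0 : Fin n ⊕ Fin n → F := ev ⟨0, hn⟩ with he0
  -- the transvection
  obtain ⟨g, c0, hg, hc0, hτ⟩ : ∃ (g : GL (Fin n ⊕ Fin n) F) (c0 : F), (Φ).Preserves g ∧ c0 ≠ 0 ∧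
      ∀ K : Subgroup (GL (Fin n ⊕ Fin n) F), regU hn ∈ K → g * regU hn * g⁻¹ ∈ K → (Φ).trans e0 c0 ∈ K := by
    by_cases hn3 : 2 < n
    · obtain ⟨g, hg, he⟩ := tau_big (F := F) hn (i1 := i1) (i2 := ⟨2, hn3⟩) rfl rfl
      exact ⟨g, -1, hg, neg_ne_zero.mpr one_ne_zero, fun K hu hgu => he ▸ K.mul_mem hgu (K.inv_mem hu)⟩
    · obtain rfl : n = 2 := by omega
      obtain ⟨t, ht0, ht1⟩ := exists_ne_zero_one (F := F) fun h => h22 ⟨rfl, h⟩
      obtain ⟨g, hg, he⟩ := tau_two t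
      refine ⟨g, t - t * t, hg, ?_, fun K hu hgu => he ▸ K.mul_mem (K.inv_mem hu) hgu⟩
      rw [show t - t * t = t * (1 - t) by ring]
      exact mul_ne_zero ht0 (sub_ne_zero.mpr (Ne.symm ht1))
  -- the second conjugate
  suffices H : ∃ h : GL (Fin n ⊕ Fin n) F, (Φ).Preserves h ∧
      (Φ).B e0 ((h : Matrix (Fin n ⊕ Fin n) (Fin n ⊕ Fin n) F) *ᵥ e0) ≠ 0 ∧
      ∀ K : Subgroup (GL (Fin n ⊕ Fin n) F), (∀ x ∈ K, (Φ).Preserves x) → regU hn ∈ K → h⁻¹ * regU hn * h ∈ K →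
        (∀ c, (Φ).trans e0 c ∈ K → (Φ).trans e0 (b * b * c) ∈ K) ∧
        ((Φ).Centre K e0 → (∃ γ : F, γ ≠ 0 ∧ γ ≠ 1) ∨ (Φ).Centre K (e0 + ev i1)) by
    obtain ⟨h, hh, hne, hH⟩ := H
    refine ⟨g, h, hg, hh, ?_⟩
    set K := Subgroup.closure ({regU hn, g * regU hn * g⁻¹, h⁻¹ * regU hn * h} : Set (GL (Fin n ⊕ Fin n) F))
    have hKΦ : ∀ x ∈ K, (Φ).Preserves x := by
      have hle : K ≤ Cfsg.spGL n F := by
        refine (Subgroup.closure_le _).mpr ?_
        rintro x (rfl | rfl | rfl)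
        · exact mem_spGL_iff.mpr (regU_preserves hn)
        · exact mem_spGL_iff.mpr (preserves_mul (preserves_mul hg (regU_preserves hn)) (preserves_inv hg))
        · exact mem_spGL_iff.mpr (preserves_mul (preserves_mul (preserves_inv hh) (regU_preserves hn)) hh)
      exact fun x hx => mem_spGL_iff.mp (hle hx)
    have hu : regU hn ∈ K := Subgroup.subset_closure (by simp)
    have hwK : h⁻¹ * regU hn * h ∈ K := Subgroup.subset_closure (by simp)
    obtain ⟨hS, hbig⟩ := hH K hKΦ hu hwK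
    have hc : (Φ).Centre K e0 := centre_of_param hgen hc0 (hτ K hu (Subgroup.subset_closure (by simp))) hS
    exact all_centres hn h2 hKΦ hu hh hwK hne hc (hbig hc)
  by_cases hcase : (2 : F) = 0 ∧ ∃ γ : F, γ ≠ 0 ∧ γ ≠ 1
  · obtain ⟨htwo, hγ⟩ := hcase
    obtain ⟨h, hh, hne, hm⟩ : ∃ h : GL (Fin n ⊕ Fin n) F, (Φ).Preserves h ∧
        (Φ).B e0 ((h : Matrix (Fin n ⊕ Fin n) (Fin n ⊕ Fin n) F) *ᵥ e0) ≠ 0 ∧
        ((h⁻¹ * regU hn * h * regU hn * (h⁻¹ * regU hn * h) : GL (Fin n ⊕ Fin n) F) :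
          Matrix (Fin n ⊕ Fin n) (Fin n ⊕ Fin n) F) *ᵥ e0 = b • e0 := by
      by_cases hn3 : 2 < n
      · exact spin_a hn (i1 := i1) (i2 := ⟨2, hn3⟩) rfl rfl htwo hb
      · obtain rfl : n = 2 := by omega
        haveI : CharP F 2 := CharTwo.of_one_ne_zero_of_two_eq_zero one_ne_zero htwo
        obtain ⟨β, hβ⟩ := isSquare_of_charTwo' b
        rw [hβ]
        exact spin_c htwo fun h0 => hb (by rw [hβ, h0, zero_mul])
    refine ⟨h, hh, hne, fun K hKΦ hu hw => ⟨fun c hc => ?_, fun _ => Or.inl hγ⟩⟩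
    have := trans_conj_mem hKΦ (K.mul_mem (K.mul_mem hw hu) hw) hc
    rwa [hm, trans_smul'] at this
  · obtain ⟨h, hh, hne, hwe⟩ := spin_b hn (i1 := i1) rfl hb
    refine ⟨h, hh, hne, fun K hKΦ hu hw => ?_⟩
    have hb1 : (2 : F) = 0 → b = 1 := fun h20 => by
      by_contra hb1; exact hcase ⟨h20, b, hb, hb1⟩
    refine ⟨fun c hc => ?_, fun hc => ?_⟩
    · by_cases h20 : (2 : F) = 0
      · rwa [hb1 h20, one_mul, one_mul]
      · have := K.pow_mem (param_b hn rfl hKΦ hu hw hwe hc) (2 ^ (Fintype.card F - 2))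
        rw [trans_pow'] at this
        rwa [Nat.cast_pow, Nat.cast_ofNat, ← mul_assoc, ← mul_assoc, ← pow_succ,
          show Fintype.card F - 2 + 1 = Fintype.card F - 1 by have := Fintype.one_lt_card (α := F); omega,
          FiniteField.pow_card_sub_one_eq_one _ h20, one_mul] at this
    · by_cases hγ : ∃ γ : F, γ ≠ 0 ∧ γ ≠ 1
      · exact Or.inl hγ
      · have hb1' : b = 1 := by by_contra h1; exact hγ ⟨b, hb, h1⟩
        have := hc.of_conj hw (hKΦ _ hw)
        rw [hwe, hb1', one_smul] at this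
        exact Or.inr this

end Main

end Cfsg.Agent.Lib.MaxSub.SpThreeGen
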