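import Cfsg.Agent.Lib.MaxSub.Symplectic
import Cfsg.Agent.Lib.Geometry.SympBasic
import Mathlib

/-!
A standard regular unipotent element of the symplectic group and the cyclic structure it gives on the space.
-/

set_option autoImplicit false
set_option maxHeartbeats 800000
set_option linter.unusedSectionVars false

namespace Cfsg.Agent.Lib.MaxSub.SpThreeGen

open Matrix

variable {F : Type*} [Field F] {n : ℕ}

/-- The vector `e i`. -/
def ev (i : Fin n) : Fin n ⊕ Fin n → F := Pi.single (Sum.inr i) 1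

/-- The vector `f i`. -/
def fv (i : Fin n) : Fin n ⊕ Fin n → F := Pi.single (Sum.inl i) 1

local notation "Φ" => stdAlt n F

theorem B_eq (x y : Fin n ⊕ Fin n → F) :
    (Φ).B x y = ∑ i : Fin n, (x (Sum.inr i) * y (Sum.inl i) - x (Sum.inl i) * y (Sum.inr i)) := by
  rw [stdAlt_apply, Geometry.sympForm_eq_sum]

theorem B_ev_right (x : Fin n ⊕ Fin n → F) (i : Fin n) : (Φ).B x (ev i) = -x (Sum.inl i) := by
  rw [B_eq]
  simp [ev, Pi.single_apply, Finset.sum_neg_distrib]

theorem B_fv_right (x : Fin n ⊕ Fin n → F) (i : Fin n) : (Φ).B x (fv i) = x (Sum.inr i) := by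
  rw [B_eq]
  simp [fv, Pi.single_apply]

theorem B_ev_ev (i j : Fin n) : (Φ).B (ev i) (ev j) = 0 := by
  rw [B_ev_right]; simp [ev]

theorem B_fv_fv (i j : Fin n) : (Φ).B (fv i) (fv j) = 0 := by
  rw [B_fv_right]; simp [fv]

theorem B_ev_fv (i j : Fin n) : (Φ).B (ev i) (fv j) = if i = j then 1 else 0 := by
  simp [B_fv_right, ev, Pi.single_apply, eq_comm]

theorem B_fv_ev (i j : Fin n) : (Φ).B (fv i) (ev j) = if i = j then -1 else 0 := by
  rw [B_ev_right, fv, Pi.single_apply]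
  by_cases h : i = j <;> simp [h, eq_comm]

theorem sum_expand (x : Fin n ⊕ Fin n → F) :
    x = ∑ i : Fin n, (x (Sum.inl i) • fv i + x (Sum.inr i) • ev i) := by
  funext k
  rw [Finset.sum_apply]
  rcases k with k | k <;> simp [fv, ev, Pi.single_apply]

theorem preserves_mul {g h : GL (Fin n ⊕ Fin n) F} (hg : (Φ).Preserves g) (hh : (Φ).Preserves h) :
    (Φ).Preserves (g * h) := fun u v => by
  rw [Units.val_mul, ← Matrix.mulVec_mulVec, ← Matrix.mulVec_mulVec, hg, hh]

theorem preserves_inv {g : GL (Fin n ⊕ Fin n) F} (hg : (Φ).Preserves g) : (Φ).Preserves g⁻¹ := fun u v => by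
  rw [← hg, Matrix.mulVec_mulVec, Matrix.mulVec_mulVec, ← Units.val_mul, mul_inv_cancel, Units.val_one,
    Matrix.one_mulVec, Matrix.one_mulVec]

theorem inv_apply {g : GL (Fin n ⊕ Fin n) F} {x y : Fin n ⊕ Fin n → F}
    (h : (g : Matrix (Fin n ⊕ Fin n) (Fin n ⊕ Fin n) F) *ᵥ x = y) :
    ((g⁻¹ : GL (Fin n ⊕ Fin n) F) : Matrix (Fin n ⊕ Fin n) (Fin n ⊕ Fin n) F) *ᵥ y = x := by
  rw [← h, Matrix.mulVec_mulVec, ← Units.val_mul, inv_mul_cancel, Units.val_one, Matrix.one_mulVec]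

theorem mul_apply' (g h : GL (Fin n ⊕ Fin n) F) (x : Fin n ⊕ Fin n → F) :
    ((g * h : GL (Fin n ⊕ Fin n) F) : Matrix (Fin n ⊕ Fin n) (Fin n ⊕ Fin n) F) *ᵥ x =
      (g : Matrix (Fin n ⊕ Fin n) (Fin n ⊕ Fin n) F) *ᵥ ((h : Matrix (Fin n ⊕ Fin n) (Fin n ⊕ Fin n) F) *ᵥ x) := by
  rw [Units.val_mul, Matrix.mulVec_mulVec]

/-- The Levi element of an invertible matrix. -/
noncomputable def levi : GL (Fin n) F →* GL (Fin n ⊕ Fin n) F :=
  MonoidHom.toHomUnits
    { toFun := fun A => fromBlocks (A : Matrix (Fin n) (Fin n) F) 0 0 ((A⁻¹ : GL (Fin n) F) : Matrix (Fin n) (Fin n) F)ᵀ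
      map_one' := by simp
      map_mul' := fun A B => by simp [fromBlocks_multiply, _root_.mul_inv_rev, Units.val_mul, transpose_mul] }

theorem levi_mulVec (A : GL (Fin n) F) (x : Fin n ⊕ Fin n → F) :
    (levi A : Matrix (Fin n ⊕ Fin n) (Fin n ⊕ Fin n) F) *ᵥ x = Sum.elim ((A : Matrix (Fin n) (Fin n) F) *ᵥ (x ∘ Sum.inl))
      (((A⁻¹ : GL (Fin n) F) : Matrix (Fin n) (Fin n) F)ᵀ *ᵥ (x ∘ Sum.inr)) := by
  show fromBlocks _ _ _ _ *ᵥ x = _
  rw [fromBlocks_mulVec]
  simp

theorem levi_preserves (A : GL (Fin n) F) : (Φ).Preserves (levi A) := by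
  have key : ∀ x y : Fin n → F, ((A : Matrix (Fin n) (Fin n) F) *ᵥ x) ⬝ᵥ
      (((A⁻¹ : GL (Fin n) F) : Matrix (Fin n) (Fin n) F)ᵀ *ᵥ y) = x ⬝ᵥ y := fun x y => by
    rw [Matrix.mulVec_transpose, dotProduct_comm, ← Matrix.dotProduct_mulVec, Matrix.mulVec_mulVec,
      ← Units.val_mul, inv_mul_cancel, Units.val_one, Matrix.one_mulVec, dotProduct_comm]
  intro x y
  rw [levi_mulVec, levi_mulVec, B_eq, B_eq]
  simp only [Sum.elim_inl, Sum.elim_inr, Finset.sum_sub_distrib]
  have h1 := key (y ∘ Sum.inl) (x ∘ Sum.inr)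
  have h2 := key (x ∘ Sum.inl) (y ∘ Sum.inr)
  simp only [dotProduct, Function.comp_apply] at h1 h2
  rw [← h2]
  congr 1
  simp only [mul_comm (((_ : Matrix (Fin n) (Fin n) F)ᵀ *ᵥ _) _) _, mul_comm (x (Sum.inr _)) _]
  exact h1

theorem levi_fv (A : GL (Fin n) F) (i : Fin n) :
    (levi A : Matrix (Fin n ⊕ Fin n) (Fin n ⊕ Fin n) F) *ᵥ fv i = ∑ j, (A : Matrix (Fin n) (Fin n) F) j i • fv j := by
  rw [levi_mulVec]
  funext k
  rw [Finset.sum_apply]
  rcases k with k | k <;> simp [fv, Matrix.mulVec, dotProduct, Pi.single_apply]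

/-- The lower bidiagonal matrix. -/
def sb (F : Type*) [Field F] (n : ℕ) : Matrix (Fin n) (Fin n) F :=
  Matrix.of fun i j => if i = j then 1 else if i.val = j.val + 1 then 1 else 0

theorem sb_det : (sb F n).det = 1 := by
  rw [Matrix.det_of_lowerTriangular _ (fun i j h => by
    have hlt : i.val < j.val := h
    simp [sb, show i ≠ j from fun e => by omega, show i.val ≠ j.val + 1 by omega])]
  simp [sb]

/-- The bidiagonal matrix as an invertible one. -/
noncomputable def sbU (F : Type*) [Field F] (n : ℕ) : GL (Fin n) F :=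
  Matrix.GeneralLinearGroup.mkOfDetNeZero (sb F n) (by rw [sb_det]; exact one_ne_zero)

/-- The top index. -/
def top' (hn : 0 < n) : Fin n := ⟨n - 1, by omega⟩

/-- The standard regular unipotent element. -/
noncomputable def regU (hn : 0 < n) : GL (Fin n ⊕ Fin n) F :=
  levi (sbU F n) * (Φ).trans (ev (top' hn)) (-1)

theorem regU_preserves (hn : 0 < n) : (Φ).Preserves (regU hn) :=
  preserves_mul (levi_preserves _) ((Φ).trans_preserves _ _)

local notation g "⋆" x => ((g : GL (Fin n ⊕ Fin n) F) : Matrix (Fin n ⊕ Fin n) (Fin n ⊕ Fin n) F) *ᵥ x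

theorem levi_sb_fv {i j : Fin n} (h : j.val = i.val + 1) : (levi (sbU F n) ⋆ fv i) = fv i + fv j := by
  rw [levi_fv, Finset.sum_eq_add i j (fun e => by rw [e] at h; omega)]
  · simp [sbU, sb, h, show j ≠ i from fun e => by rw [e] at h; omega]
  · intro k _ hk
    simp [sbU, sb, hk.1, show k.val ≠ i.val + 1 from fun e => hk.2 (Fin.ext (by omega))]
  · simp
  · simp

theorem levi_sb_fv_top (hn : 0 < n) : (levi (sbU F n) ⋆ fv (top' hn)) = fv (top' hn) := by
  rw [levi_fv, Finset.sum_eq_single (top' hn)]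
  · simp [sbU, sb]
  · intro k _ hk
    have := k.isLt
    simp [sbU, sb, hk, show k.val ≠ (top' hn).val + 1 by simp [top']; omega]
  · simp

/-- The transpose of the bidiagonal matrix on the vectors `e`. -/
theorem levi_sb_ev_succ {i j : Fin n} (h : j.val = i.val + 1) :
    (levi (sbU F n) ⋆ (ev j + ev i)) = ev j := by
  have hT : (sb F n)ᵀ *ᵥ Pi.single j 1 = Pi.single j 1 + Pi.single i 1 := by
    funext k
    simp only [Matrix.mulVec_single_one, Matrix.col_apply, Matrix.transpose_apply, sb, Matrix.of_apply, Pi.add_apply,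
      Pi.single_apply]
    rcases eq_or_ne k j with rfl | hkj
    · simp [show k ≠ i from fun e => by rw [e] at h; omega]
    · rcases eq_or_ne k i with rfl | hki
      · simp [hkj, Ne.symm hkj, h]
      · simp [hkj, hki, Ne.symm hkj, show j.val ≠ k.val + 1 from fun e => hki (Fin.ext (by omega))]
  rw [levi_mulVec]
  funext k
  rcases k with k | k
  · show ((sbU F n : Matrix (Fin n) (Fin n) F) *ᵥ ((ev j + ev i) ∘ Sum.inl)) k = _
    rw [show ((ev j + ev i : Fin n ⊕ Fin n → F) ∘ Sum.inl) = 0 by funext m; simp [ev], Matrix.mulVec_zero]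
    simp [ev]
  · show (((sbU F n)⁻¹ : GL (Fin n) F) : Matrix (Fin n) (Fin n) F)ᵀ.mulVec ((ev j + ev i) ∘ Sum.inr) k = _
    rw [show ((ev j + ev i) ∘ Sum.inr : Fin n → F) = (sb F n)ᵀ *ᵥ Pi.single j 1 by
      rw [hT]; funext m; simp [ev, Pi.single_apply], Matrix.mulVec_mulVec, ← Matrix.transpose_mul,
      show sb F n * ((sbU F n)⁻¹ : GL (Fin n) F) = 1 from (sbU F n).mul_inv, Matrix.transpose_one, Matrix.one_mulVec]
    simp [ev, Pi.single_apply]

theorem levi_sb_ev_zero {i : Fin n} (h : i.val = 0) : (levi (sbU F n) ⋆ ev i) = ev i := by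
  have hT : (sb F n)ᵀ *ᵥ Pi.single i 1 = Pi.single i 1 := by
    funext k
    simp only [Matrix.mulVec_single_one, Matrix.col_apply, Matrix.transpose_apply, sb, Matrix.of_apply, Pi.single_apply]
    rcases eq_or_ne k i with rfl | hki
    · simp
    · simp [hki, Ne.symm hki, show i.val ≠ k.val + 1 by omega]
  rw [levi_mulVec]
  funext k
  rcases k with k | k
  · show ((sbU F n : Matrix (Fin n) (Fin n) F) *ᵥ (ev i ∘ Sum.inl)) k = _
    rw [show ((ev i : Fin n ⊕ Fin n → F) ∘ Sum.inl) = 0 by funext m; simp [ev], Matrix.mulVec_zero]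
    simp [ev]
  · show (((sbU F n)⁻¹ : GL (Fin n) F) : Matrix (Fin n) (Fin n) F)ᵀ.mulVec (ev i ∘ Sum.inr) k = _
    rw [show (ev i ∘ Sum.inr : Fin n → F) = (sb F n)ᵀ *ᵥ Pi.single i 1 by
      rw [hT]; funext m; simp [ev, Pi.single_apply], Matrix.mulVec_mulVec, ← Matrix.transpose_mul,
      show sb F n * ((sbU F n)⁻¹ : GL (Fin n) F) = 1 from (sbU F n).mul_inv, Matrix.transpose_one, Matrix.one_mulVec]
    simp [ev, Pi.single_apply]

variable (hn : 0 < n)

theorem regU_ev (i : Fin n) : (regU hn ⋆ ev i) = (levi (sbU F n) ⋆ ev i) := by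
  rw [regU, mul_apply', AltForm.trans_mulVec, B_ev_ev, mul_zero, zero_smul, add_zero]

theorem regU_ev_zero {i : Fin n} (h : i.val = 0) : (regU hn ⋆ ev i) = (ev i : Fin n ⊕ Fin n → F) := by
  rw [regU_ev, levi_sb_ev_zero h]

theorem regU_ev_succ {i j : Fin n} (h : j.val = i.val + 1) :
    (regU hn ⋆ ev j) = (ev j : Fin n ⊕ Fin n → F) - (regU hn ⋆ ev i) := by
  rw [eq_sub_iff_add_eq, regU_ev, regU_ev, ← Matrix.mulVec_add, levi_sb_ev_succ h]

theorem regU_fv {i j : Fin n} (h : j.val = i.val + 1) :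
    (regU hn ⋆ fv i) = (fv i + fv j : Fin n ⊕ Fin n → F) := by
  rw [regU, mul_apply', AltForm.trans_mulVec, B_fv_ev,
    if_neg (show i ≠ top' hn from fun e => by have := j.isLt; rw [e] at h; simp [top'] at h; omega),
    mul_zero, zero_smul, add_zero, levi_sb_fv h]

theorem regU_fv_top :
    (regU hn ⋆ fv (top' hn)) = (fv (top' hn) : Fin n ⊕ Fin n → F) + (regU hn ⋆ ev (top' hn)) := by
  rw [regU_ev]
  rw [regU, mul_apply', AltForm.trans_mulVec, B_fv_ev, if_pos rfl, neg_one_mul, neg_neg, one_smul, Matrix.mulVec_add,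
    levi_sb_fv_top hn]

/-- The nilpotent part as an endomorphism. -/
noncomputable def nilP : Module.End F (Fin n ⊕ Fin n → F) :=
  Matrix.toLin' ((regU hn : GL (Fin n ⊕ Fin n) F) : Matrix (Fin n ⊕ Fin n) (Fin n ⊕ Fin n) F) - 1

theorem nilP_apply (x : Fin n ⊕ Fin n → F) : nilP hn x = (regU hn ⋆ x) - x := by
  simp [nilP]

theorem nilP_comm (x : Fin n ⊕ Fin n → F) : nilP hn (regU hn ⋆ x) = (regU hn ⋆ nilP hn x) := by
  rw [nilP_apply, nilP_apply, Matrix.mulVec_sub]

theorem nilP_pow_comm (k : ℕ) (x : Fin n ⊕ Fin n → F) :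
    (nilP hn ^ k) (regU hn ⋆ x) = (regU hn ⋆ (nilP hn ^ k) x) := by
  induction k generalizing x with
  | zero => rfl
  | succ k ih => rw [pow_succ, Module.End.mul_apply, Module.End.mul_apply, nilP_comm, ih]

theorem nilP_ev_zero {i : Fin n} (h : i.val = 0) : nilP hn (ev i : Fin n ⊕ Fin n → F) = 0 := by
  rw [nilP_apply, regU_ev_zero hn h, sub_self]

theorem nilP_ev_succ {i j : Fin n} (h : j.val = i.val + 1) :
    nilP hn (ev j : Fin n ⊕ Fin n → F) = -(regU hn ⋆ ev i) := by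
  rw [nilP_apply, regU_ev_succ hn h, sub_sub_cancel_left]

theorem nilP_pow_ev_zero {j : Fin n} : ∀ k, j.val < k → (nilP hn ^ k) (ev j : Fin n ⊕ Fin n → F) = 0 := by
  intro k
  induction k generalizing j with
  | zero => intro h; omega
  | succ k ih =>
    intro h
    rw [pow_succ, Module.End.mul_apply]
    rcases Nat.eq_zero_or_pos j.val with hj | hj
    · rw [nilP_ev_zero hn hj, map_zero]
    · rw [nilP_ev_succ hn (i := ⟨j.val - 1, by omega⟩) (by simp; omega), map_neg, nilP_pow_comm,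
        ih (by simp; omega), Matrix.mulVec_zero, neg_zero]

theorem nilP_pow_ev {j : Fin n} : ∀ k, j.val = k → (nilP hn ^ k) (ev j : Fin n ⊕ Fin n → F)
    = (-1 : F) ^ k • ev ⟨0, hn⟩ := by
  intro k
  induction k generalizing j with
  | zero => intro h; rw [pow_zero, pow_zero, one_smul, show j = ⟨0, hn⟩ from Fin.ext h]; rfl
  | succ k ih =>
    intro h
    rw [pow_succ, Module.End.mul_apply, nilP_ev_succ hn (i := ⟨j.val - 1, by omega⟩) (by simp; omega), map_neg,
      nilP_pow_comm, ih (by simp; omega), Matrix.mulVec_smul, regU_ev_zero hn rfl, pow_succ, mul_neg_one, neg_smul]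

theorem nilP_pow_fv {i : Fin n} : ∀ k, ∀ j : Fin n, j.val = i.val + k →
    (nilP hn ^ k) (fv i : Fin n ⊕ Fin n → F) = fv j := by
  intro k
  induction k with
  | zero => intro j h; rw [show j = i from Fin.ext (by omega)]; rfl
  | succ k ih =>
    intro j h
    rw [pow_succ', Module.End.mul_apply, ih ⟨i.val + k, by omega⟩ rfl, nilP_apply, regU_fv hn (j := j) (by simp; omega),
      add_sub_cancel_left]

theorem nilP_fv_top : nilP hn (fv (top' hn) : Fin n ⊕ Fin n → F) = (regU hn ⋆ ev (top' hn)) := by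
  rw [nilP_apply, regU_fv_top, add_sub_cancel_left]

theorem nilP_nilpotent : (nilP hn : Module.End F (Fin n ⊕ Fin n → F)) ^ (2 * n) = 0 := by
  refine LinearMap.ext fun x => ?_
  rw [sum_expand x, map_sum, LinearMap.zero_apply]
  refine Finset.sum_eq_zero fun i _ => ?_
  rw [map_add, map_smul, map_smul]
  have h1 : (nilP hn ^ (2 * n)) (ev i : Fin n ⊕ Fin n → F) = 0 := nilP_pow_ev_zero hn _ (by omega)
  have h2 : (nilP hn ^ (2 * n)) (fv i : Fin n ⊕ Fin n → F) = 0 := by
    rw [show 2 * n = (n + i.val) + (1 + (n - 1 - i.val)) by omega, pow_add, pow_add _ 1, pow_one, Module.End.mul_apply,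
      Module.End.mul_apply, nilP_pow_fv hn _ (top' hn) (by simp [top']; omega), nilP_fv_top, nilP_pow_comm,
      nilP_pow_ev_zero hn _ (by simp [top']; omega), Matrix.mulVec_zero]
  rw [h1, h2, smul_zero, smul_zero, add_zero]

theorem nilP_top_pow : (nilP hn ^ (2 * n - 1)) (fv ⟨0, hn⟩ : Fin n ⊕ Fin n → F)
    = (-1 : F) ^ (n - 1) • ev ⟨0, hn⟩ := by
  rw [show 2 * n - 1 = (n - 1) + (1 + (n - 1)) by omega, pow_add, pow_add, pow_one, Module.End.mul_apply,
    Module.End.mul_apply, nilP_pow_fv hn _ (top' hn) (by simp [top']), nilP_fv_top, nilP_pow_comm,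
    nilP_pow_ev hn _ (by simp [top']), Matrix.mulVec_smul, regU_ev_zero hn rfl]

theorem ev_zero_ne : (ev ⟨0, hn⟩ : Fin n ⊕ Fin n → F) ≠ 0 := fun h => by
  have := congrFun h (Sum.inr ⟨0, hn⟩)
  simp [ev] at this

/-- The form kills the first vector against the image. -/
theorem B_ev_zero_nilP (x : Fin n ⊕ Fin n → F) : (Φ).B (ev ⟨0, hn⟩) (nilP hn x) = 0 := by
  rw [nilP_apply, map_sub, sub_eq_zero]
  conv_lhs => rw [← regU_ev_zero hn (i := ⟨0, hn⟩) rfl, regU_preserves hn]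

/-- An invariant subspace meeting the complement of the hyperplane of the fixed vector is everything. -/
theorem eq_top_of_invariant (W : Submodule F (Fin n ⊕ Fin n → F)) (hW : ∀ x ∈ W, (regU hn ⋆ x) ∈ W)
    {x : Fin n ⊕ Fin n → F} (hx : x ∈ W) (hne : (Φ).B (ev ⟨0, hn⟩) x ≠ 0) : W = ⊤ := by
  have hN : ∀ z ∈ W, nilP hn z ∈ W := fun z hz => by rw [nilP_apply]; exact W.sub_mem (hW z hz) hz
  have hNk : ∀ k, ∀ z ∈ W, (nilP hn ^ k) z ∈ W := by
    intro k
    induction k with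
    | zero => exact fun z hz => hz
    | succ k ih => intro z hz; rw [pow_succ', Module.End.mul_apply]; exact hN _ (ih z hz)
  -- the space is the line of the first lower vector plus the image
  set R := LinearMap.range (nilP hn : Module.End F (Fin n ⊕ Fin n → F))
  have hfvR : ∀ i : Fin n, i.val ≠ 0 → (fv i : Fin n ⊕ Fin n → F) ∈ R := fun i hi =>
    ⟨fv ⟨i.val - 1, by omega⟩, by rw [nilP_apply, regU_fv hn (j := i) (by simp; omega), add_sub_cancel_left]⟩
  have huR : ∀ z ∈ R, (regU hn ⋆ z) ∈ R := by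
    rintro _ ⟨y, rfl⟩; exact ⟨_, nilP_comm hn y⟩
  have hevR : ∀ k, ∀ i : Fin n, n = i.val + 1 + k → (ev i : Fin n ⊕ Fin n → F) ∈ R := by
    have hpull : ∀ z, (regU hn ⋆ z) ∈ R → z ∈ R := fun z hz => by
      have h1 : nilP hn z ∈ R := ⟨z, rfl⟩
      rw [show z = (regU hn ⋆ z) - nilP hn z by rw [nilP_apply, sub_sub_cancel]]
      exact R.sub_mem hz h1
    intro k
    induction k with
    | zero =>
      intro i hi
      rw [show i = top' hn from Fin.ext (by simp [top']; omega)]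
      exact hpull _ ⟨_, nilP_fv_top hn⟩
    | succ k ih =>
      intro i hi
      have hj := ih ⟨i.val + 1, by omega⟩ (by simp; omega)
      refine hpull _ ?_
      rw [← neg_neg (regU hn ⋆ ev i), ← nilP_ev_succ hn (j := ⟨i.val + 1, by omega⟩) rfl]
      exact R.neg_mem ⟨_, rfl⟩
  have hdec : ∀ z : Fin n ⊕ Fin n → F, ∃ y, z = z (Sum.inl ⟨0, hn⟩) • fv ⟨0, hn⟩ + nilP hn y := fun z => by
    have : z - z (Sum.inl ⟨0, hn⟩) • fv ⟨0, hn⟩ ∈ R := by
      have hz := sum_expand z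
      rw [Finset.sum_add_distrib] at hz
      rw [show z - z (Sum.inl ⟨0, hn⟩) • fv ⟨0, hn⟩
        = (∑ i : Fin n, z (Sum.inl i) • fv i + ∑ i : Fin n, z (Sum.inr i) • ev i) - z (Sum.inl ⟨0, hn⟩) • fv ⟨0, hn⟩
        from congrArg (· - _) hz]
      rw [ ← Finset.sum_erase_add _ _ (Finset.mem_univ (⟨0, hn⟩ : Fin n)), add_assoc,
        add_comm (z (Sum.inl ⟨0, hn⟩) • fv ⟨0, hn⟩), ← add_assoc, add_sub_cancel_right]
      refine R.add_mem (R.sum_mem fun i hi => R.smul_mem _ (hfvR i fun h => ?_))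
        (R.sum_mem fun i _ => R.smul_mem _ (hevR (n - 1 - i.val) i (by omega)))
      exact (Finset.mem_erase.mp hi).1 (Fin.ext h)
    obtain ⟨y, hy⟩ := this
    exact ⟨y, by rw [hy]; abel⟩
  -- all powers of the cyclic vector lie in the subspace
  have hmem : ∀ k, ∀ j, 2 * n ≤ j + k → (nilP hn ^ j) (fv ⟨0, hn⟩ : Fin n ⊕ Fin n → F) ∈ W ∧
      ∀ z, (nilP hn ^ j) z ∈ W := by
    intro k
    induction k with
    | zero =>
      intro j hj
      have : (nilP hn : Module.End F (Fin n ⊕ Fin n → F)) ^ j = 0 := pow_eq_zero_of_le (by omega) (nilP_nilpotent hn)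
      exact ⟨by rw [this]; exact W.zero_mem, fun z => by rw [this]; exact W.zero_mem⟩
    | succ k ih =>
      intro j hj
      obtain ⟨-, h2⟩ := ih (j + 1) (by omega)
      obtain ⟨y, hy⟩ := hdec x
      have hc : x (Sum.inl ⟨0, hn⟩) ≠ 0 := by
        have : (Φ).B (ev ⟨0, hn⟩) x = x (Sum.inl ⟨0, hn⟩) := by
          rw [hy, map_add, map_smul, B_ev_fv, B_ev_zero_nilP, if_pos rfl, add_zero, smul_eq_mul, mul_one, ← hy]
        rwa [this] at hne
      have h1 : (nilP hn ^ j) (fv ⟨0, hn⟩ : Fin n ⊕ Fin n → F) ∈ W := by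
        have := W.sub_mem (hNk j x hx) (show (nilP hn ^ j) (nilP hn y) ∈ W by
          rw [← Module.End.mul_apply, ← pow_succ]; exact h2 y)
        rw [← map_sub, show x - nilP hn y = x (Sum.inl ⟨0, hn⟩) • fv ⟨0, hn⟩ by
          nth_rewrite 1 [hy]; rw [add_sub_cancel_right], map_smul] at this
        exact (Submodule.smul_mem_iff _ hc).mp this
      refine ⟨h1, fun z => ?_⟩
      obtain ⟨y', hy'⟩ := hdec z
      rw [hy', map_add, map_smul]
      exact W.add_mem (W.smul_mem _ h1) (by rw [← Module.End.mul_apply, ← pow_succ]; exact h2 y')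
  exact eq_top_iff.mpr fun z _ => (hmem (2 * n) 0 (by omega)).2 z

end Cfsg.Agent.Lib.MaxSub.SpThreeGen
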