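import Cfsg.Agent.Lib.MaxSub.SpThreeGenBase
import Mathlib

/-!
One centre at the fixed vector of the regular unipotent element and a second conjugate give all centres.
-/

set_option autoImplicit false
set_option maxHeartbeats 800000
set_option linter.unusedSectionVars false

namespace Cfsg.Agent.Lib.MaxSub.SpThreeGen

open Matrix

variable {F : Type*} [Field F] {n : ℕ}

local notation "Φ" => stdAlt n F

local notation g "⋆" x => ((g : GL (Fin n ⊕ Fin n) F) : Matrix (Fin n ⊕ Fin n) (Fin n ⊕ Fin n) F) *ᵥ x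

theorem orbit_invariant (g : GL (Fin n ⊕ Fin n) F) (x : Fin n ⊕ Fin n → F) :
    ∀ y ∈ Submodule.span F (Set.range fun k : ℕ => (g ^ k) ⋆ x),
      (g ⋆ y) ∈ Submodule.span F (Set.range fun k : ℕ => (g ^ k) ⋆ x) := by
  intro y hy
  induction hy using Submodule.span_induction with
  | mem z hz =>
    obtain ⟨k, rfl⟩ := hz
    exact Submodule.subset_span ⟨k + 1, by simp only [pow_succ', mul_apply']⟩
  | zero => rw [Matrix.mulVec_zero]; exact Submodule.zero_mem _
  | add a b _ _ ha hb => rw [Matrix.mulVec_add]; exact Submodule.add_mem _ ha hb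
  | smul c a _ ha => rw [Matrix.mulVec_smul]; exact Submodule.smul_mem _ c ha

/-- All vectors are centres. -/
theorem all_centres (hn : 0 < n) (h2 : 1 < n) {K : Subgroup (GL (Fin n ⊕ Fin n) F)}
    (hKΦ : ∀ g ∈ K, (Φ).Preserves g) (hu : regU hn ∈ K) {h : GL (Fin n ⊕ Fin n) F} (hh : (Φ).Preserves h)
    (hw : h⁻¹ * regU hn * h ∈ K) (hne : (Φ).B (ev ⟨0, hn⟩) (h ⋆ ev ⟨0, hn⟩) ≠ 0)
    (hc : (Φ).Centre K (ev ⟨0, hn⟩))
    (hbig : (∃ γ : F, γ ≠ 0 ∧ γ ≠ 1) ∨ (Φ).Centre K (ev ⟨0, hn⟩ + ev ⟨1, h2⟩)) :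
    ∀ w, (Φ).Centre K w := by
  classical
  set e0 : Fin n ⊕ Fin n → F := ev ⟨0, hn⟩ with he0
  set e1 : Fin n ⊕ Fin n → F := ev ⟨1, h2⟩ with he1
  set u : GL (Fin n ⊕ Fin n) F := regU hn with hudef
  have hue : (u ⋆ e0) = e0 := regU_ev_zero hn rfl
  set x0 := (h ⋆ e0) with hx0
  -- a centre not orthogonal to the fixed vector
  obtain ⟨k, hk⟩ : ∃ k : ℕ, (Φ).B x0 ((u ^ k) ⋆ x0) ≠ 0 := by
    by_contra H
    push Not at H
    have hW := eq_top_of_invariant hn _ (orbit_invariant u x0) (x := x0)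
      (Submodule.subset_span ⟨0, by simp⟩) hne
    have hle : Submodule.span F (Set.range fun k : ℕ => (u ^ k) ⋆ x0) ≤ LinearMap.ker ((Φ).B x0) :=
      Submodule.span_le.mpr (by rintro _ ⟨k, rfl⟩; exact H k)
    rw [hW] at hle
    exact hne (by rw [(Φ).skew, show (Φ).B x0 e0 = 0 from hle trivial, neg_zero])
  set v0 := (h⁻¹ ⋆ ((u ^ k) ⋆ x0)) with hv0
  set β := (Φ).B e0 v0 with hβ
  have hhv : (h ⋆ v0) = ((u ^ k) ⋆ x0) := by rw [hv0, ← mul_apply', mul_inv_cancel, Units.val_one, Matrix.one_mulVec]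
  have hβ0 : β ≠ 0 := by rw [hβ, ← hh e0 v0, hhv]; exact hk
  have hcv : (Φ).Centre K v0 := by
    have := hc.of_conj (K.pow_mem hw k) (hKΦ _ (K.pow_mem hw k))
    have e : (h⁻¹ * u * h) ^ k = h⁻¹ * u ^ k * h := by
      rw [← inv_inv h, inv_inv h⁻¹, conj_pow]
    rwa [e, mul_apply', mul_apply'] at this
  -- the plane of centres
  set D := Submodule.span F ({e0, v0} : Set (Fin n ⊕ Fin n → F)) with hDdef
  have he0D : e0 ∈ D := Submodule.subset_span (by simp)
  have hv0D : v0 ∈ D := Submodule.subset_span (by simp)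
  have hD : ∀ a ∈ D, (Φ).Centre K a := by
    intro a ha
    obtain ⟨p, q, rfl⟩ := Submodule.mem_span_pair.mp ha
    rcases eq_or_ne p 0 with rfl | hp
    · rw [zero_smul, zero_add]; exact hcv.smul q
    · have := (hc.add_smul hcv hβ0 (q / p)).smul p
      rwa [smul_add, smul_smul, mul_div_cancel₀ _ hp] at this
  have hv0e0 : (Φ).B v0 e0 = -β := (Φ).skew _ _
  have hnd : ∀ a ∈ D, a ≠ 0 → ∃ x ∈ D, (Φ).B a x ≠ 0 := by
    intro a ha ha0
    obtain ⟨p, q, rfl⟩ := Submodule.mem_span_pair.mp ha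
    by_cases hp : p = 0
    · refine ⟨e0, he0D, ?_⟩
      subst hp
      simp only [zero_smul, zero_add, map_smul, LinearMap.smul_apply, smul_eq_mul, hv0e0] at ha0 ⊢
      exact mul_ne_zero (fun h => ha0 (by rw [h, zero_smul])) (neg_ne_zero.mpr hβ0)
    · refine ⟨v0, hv0D, ?_⟩
      simp only [map_add, LinearMap.add_apply, map_smul, LinearMap.smul_apply, smul_eq_mul, (Φ).alt, ← hβ,
        mul_zero, add_zero]
      exact mul_ne_zero hp hβ0
  -- decomposition along the plane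
  let pa : (Fin n ⊕ Fin n → F) → (Fin n ⊕ Fin n → F) := fun z =>
    ((Φ).B z v0 / β) • e0 + (-((Φ).B z e0) / β) • v0
  have hpaD : ∀ z, pa z ∈ D := fun z => D.add_mem (D.smul_mem _ he0D) (D.smul_mem _ hv0D)
  have hpr : ∀ z, z - pa z ∈ (Φ).perp D := by
    intro z w hw
    obtain ⟨p, q, rfl⟩ := Submodule.mem_span_pair.mp hw
    simp only [pa, map_add, map_sub, LinearMap.add_apply, map_smul, LinearMap.smul_apply, smul_eq_mul,
      (Φ).alt, ← hβ, hv0e0, (Φ).skew z v0, (Φ).skew z e0]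
    field_simp
    ring
  have hDperp : ∀ {r}, r ∈ (Φ).perp D → ∀ x ∈ D, (Φ).B r x = 0 := fun hr x hx => (Φ).mem_perp' hr hx
  let R : (Fin n ⊕ Fin n → F) → Prop := fun r => ∀ b ∈ D, b ≠ 0 → (Φ).Centre K (b + r)
  have Rintro : ∀ {a r}, a ∈ D → a ≠ 0 → r ∈ (Φ).perp D → (Φ).Centre K (a + r) → R r :=
    fun ha ha0 hr hc b hb hb0 => (Φ).centre_replace D hD hnd ha ha0 hb hb0 (hDperp hr) hc
  have Rsmul : ∀ {r}, R r → ∀ c : F, R (c • r) := by
    intro r hr c b hb hb0
    rcases eq_or_ne c 0 with rfl | hc0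
    · rw [zero_smul, add_zero]; exact hD b hb
    · have := (hr (c⁻¹ • b) (D.smul_mem _ hb) (smul_ne_zero (inv_ne_zero hc0) hb0)).smul c
      rwa [smul_add, smul_smul, mul_inv_cancel₀ hc0, one_smul] at this
  have RR : ∀ {r s}, r ∈ (Φ).perp D → s ∈ (Φ).perp D → R r → R s → ∀ {a b}, a ∈ D → b ∈ D → a ≠ 0 → b ≠ 0 →
      (Φ).B a b + (Φ).B r s ≠ 0 → (Φ).Centre K (a + b + (r + s)) := by
    intro r s hr hs hRr hRs a b ha hb ha0 hb0 hab
    have := (hRr a ha ha0).add (hRs b hb hb0) (by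
      simp only [map_add, LinearMap.add_apply, hDperp hr b hb, hs a ha, add_zero, zero_add]
      exact hab)
    rwa [show a + r + (b + s) = a + b + (r + s) by abel] at this
  have he00 : e0 ≠ 0 := ev_zero_ne hn
  have hv00 : v0 ≠ 0 := fun h => hβ0 (by rw [hβ, h, map_zero])
  have RR_P : ∀ {r s}, r ∈ (Φ).perp D → s ∈ (Φ).perp D → R r → R s → (Φ).B r s ≠ 0 → (Φ).Centre K (r + s) := by
    intro r s hr hs hRr hRs hrs
    have := RR hr hs hRr hRs he0D (D.neg_mem he0D) he00 (neg_ne_zero.mpr he00)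
      (by rwa [map_neg, (Φ).alt, neg_zero, zero_add])
    rwa [add_neg_cancel, zero_add] at this
  have RR_R : ∀ {r s}, r ∈ (Φ).perp D → s ∈ (Φ).perp D → R r → R s → (Φ).B r s = 0 → R (r + s) := by
    intro r s hr hs hRr hRs hrs
    refine Rintro (D.add_mem he0D hv0D) (fun h => hβ0 ?_) (Submodule.add_mem _ hr hs)
      (RR hr hs hRr hRs he0D hv0D he00 hv00 (by rw [hrs, add_zero]; exact hβ0))
    rw [hβ, eq_neg_of_add_eq_zero_right h, map_neg, (Φ).alt, neg_zero]
  have PR : ∀ {r s}, r ∈ (Φ).perp D → s ∈ (Φ).perp D → R r → (Φ).Centre K s → (Φ).B r s ≠ 0 →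
      ∀ c : F, R (r + c • s) := by
    intro r s hr hs hRr hPs hrs c
    refine Rintro he0D he00 (Submodule.add_mem _ hr (Submodule.smul_mem _ c hs)) ?_
    rw [← add_assoc]
    exact (hRr e0 he0D he00).add_smul hPs (by rwa [map_add, LinearMap.add_apply, hs e0 he0D, zero_add]) c
  let Good : (Fin n ⊕ Fin n → F) → Prop := fun r => r ∈ (Φ).perp D ∧ (Φ).Centre K r ∧ R r
  have claim : ∀ {g s}, Good g → s ∈ (Φ).perp D → ((Φ).Centre K s ∨ R s) → (Φ).B g s ≠ 0 → Good s := by
    rintro g s ⟨hg, hPg, hRg⟩ hs hor hgs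
    have hne' : (Φ).B (g + s) g ≠ 0 := by
      rw [map_add, LinearMap.add_apply, (Φ).alt, zero_add, (Φ).skew]; exact neg_ne_zero.mpr hgs
    rcases hor with hPs | hRs
    · have h1 : R (g + s) := by simpa using PR hg hs hRg hPs hgs 1
      have h2 := PR (Submodule.add_mem _ hg hs) hg h1 hPg hne' (-1)
      rw [neg_one_smul, add_neg_cancel_comm] at h2
      exact ⟨hs, hPs, h2⟩
    · have h1 := (RR_P hg hs hRg hRs hgs).add_smul hPg hne' (-1)
      rw [neg_one_smul, add_neg_cancel_comm] at h1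
      exact ⟨hs, h1, hRs⟩
  -- the orbit of the second centre
  let y : ℕ → Fin n ⊕ Fin n → F := fun i => (u ^ i) ⋆ v0
  let rr : ℕ → Fin n ⊕ Fin n → F := fun i => y i - pa (y i)
  have hue' : ∀ i, ((u ^ i) ⋆ e0) = e0 := by
    intro i
    induction i with
    | zero => simp
    | succ i ih => rw [pow_succ, mul_apply', hue, ih]
  have hye : ∀ i, (Φ).B e0 (y i) = β := fun i => by
    rw [show (Φ).B e0 (y i) = (Φ).B ((u ^ i) ⋆ e0) (y i) by rw [hue'], hKΦ _ (K.pow_mem hu i)]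
  have hgen : ∀ i, R (rr i) := by
    intro i
    refine Rintro (hpaD (y i)) (fun h => hβ0 ?_) (hpr _) ?_
    · have := hpr (y i) e0 he0D
      rwa [h, sub_zero, hye] at this
    · rw [show pa (y i) + rr i = y i from add_sub_cancel _ _]
      exact hcv.of_conj (K.pow_mem hu i) (hKΦ _ (K.pow_mem hu i))
  have hYtop : Submodule.span F (Set.range fun i : ℕ => (u ^ i) ⋆ v0) = ⊤ :=
    eq_top_of_invariant hn _ (orbit_invariant u v0) (x := v0) (Submodule.subset_span ⟨0, by simp⟩) hβ0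
  have detect : ∀ {r}, r ∈ (Φ).perp D → r ≠ 0 → ∃ i, (Φ).B (rr i) r ≠ 0 := by
    intro r hr hr0
    by_contra H
    push Not at H
    refine hr0 ((Φ).nondeg r fun x => ?_)
    have hle : Submodule.span F (Set.range fun i : ℕ => (u ^ i) ⋆ v0) ≤ LinearMap.ker ((Φ).B.flip r) := by
      refine Submodule.span_le.mpr ?_
      rintro _ ⟨i, rfl⟩
      show (Φ).B (y i) r = 0
      rw [show y i = pa (y i) + rr i from (add_sub_cancel _ _).symm, map_add, LinearMap.add_apply,
        hr _ (hpaD _), H i, add_zero]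
    rw [hYtop] at hle
    exact hle (Submodule.mem_top (x := x))
  -- one good vector
  set r1 := e1 - pa e1 with hr1
  have he10 : (Φ).B e1 e0 = 0 := B_ev_ev _ _
  have hpa1 : pa e1 = ((Φ).B e1 v0 / β) • e0 := by simp [pa, he10]
  have hr1ne : r1 ≠ 0 := by
    intro h
    rw [hr1, sub_eq_zero] at h
    have h' := congrFun (h.trans hpa1) (Sum.inr ⟨1, h2⟩)
    simp [he1, he0, ev, Pi.single_apply] at h'
  obtain ⟨g0, hg0, hg0ne⟩ : ∃ g0, Good g0 ∧ g0 ≠ 0 := by
    by_cases hγ : ∃ γ : F, γ ≠ 0 ∧ γ ≠ 1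
    · obtain ⟨i, hi⟩ := detect (hpr e1) hr1ne
      have hi0 : rr i ≠ 0 := fun h => hi (by rw [h, map_zero, LinearMap.zero_apply])
      obtain ⟨j, hj⟩ := detect (hpr _) hi0
      obtain ⟨γ, hγ0, hγm⟩ : ∃ γ : F, γ ≠ 0 ∧ γ * β + (Φ).B (rr j) (rr i) ≠ 0 := by
        obtain ⟨γ, h0, h1⟩ := hγ
        by_cases h : 1 * β + (Φ).B (rr j) (rr i) ≠ 0
        · exact ⟨1, one_ne_zero, h⟩
        · push Not at h
          refine ⟨γ, h0, fun h' => mul_ne_zero (sub_ne_zero.mpr h1) hβ0 ?_⟩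
          linear_combination h' - h
      refine ⟨rr j + rr i, ⟨Submodule.add_mem _ (hpr _) (hpr _), RR_P (hpr _) (hpr _) (hgen j) (hgen i) hj,
        Rintro (D.add_mem he0D (D.smul_mem γ hv0D)) (fun h => ?_) (Submodule.add_mem _ (hpr _) (hpr _))
          (RR (hpr _) (hpr _) (hgen j) (hgen i) he0D (D.smul_mem γ hv0D) he00 (smul_ne_zero hγ0 hv00) ?_)⟩, ?_⟩
      · refine mul_ne_zero hγ0 hβ0 ?_
        have := congrArg ((Φ).B e0) h
        rwa [map_add, (Φ).alt, zero_add, map_smul, smul_eq_mul, map_zero] at this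
      · rwa [map_smul, smul_eq_mul, ← hβ]
      · intro h
        refine hj ?_
        rw [eq_neg_of_add_eq_zero_left h, map_neg, LinearMap.neg_apply, (Φ).alt, neg_zero]
    · have hc1 := hbig.resolve_left hγ
      push Not at hγ
      have hce1 : (Φ).Centre K e1 := by
        have := hc1.of_conj hu (hKΦ _ hu)
        rwa [Matrix.mulVec_add, hue, show (u ⋆ e1) = e1 - e0 from
          (regU_ev_succ hn (i := ⟨0, hn⟩) (j := ⟨1, h2⟩) rfl).trans (congrArg (e1 - ·) hue), add_sub_cancel] at this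
      set γ := (Φ).B e1 v0 / β with hγdef
      have hdec : γ • e0 + r1 = e1 := by rw [hr1, hpa1, add_sub_cancel]
      refine ⟨r1, ⟨hpr e1, ?_⟩, hr1ne⟩
      rcases eq_or_ne γ 0 with h0 | h0
      · rw [h0, zero_smul, zero_add] at hdec
        exact ⟨by rwa [hdec], Rintro he0D he00 (hpr e1) (by rwa [hdec])⟩
      · have h1 : γ = 1 := hγ γ h0
        have h11 : (1 : F) + 1 = 0 := by
          by_contra h
          have := hγ _ h
          exact one_ne_zero (α := F) (by linear_combination this)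
        rw [h1, one_smul] at hdec
        refine ⟨?_, Rintro he0D he00 (hpr e1) (by rwa [hdec])⟩
        rw [← hdec, ← add_assoc, ← two_smul F e0, show (2 : F) = 1 + 1 by norm_num, h11, zero_smul, zero_add] at hc1
        exact hc1
  -- all orbit components are good
  have hgenGood : ∀ i, rr i ≠ 0 → Good (rr i) := by
    intro i hi0
    by_contra hbad
    have horth : ∀ {g}, Good g → (Φ).B g (rr i) = 0 := fun hg => by
      by_contra h
      exact hbad (claim hg (hpr _) (Or.inr (hgen i)) h)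
    obtain ⟨j, hj⟩ := detect hg0.1 hg0ne
    have hjG : Good (rr j) := claim hg0 (hpr _) (Or.inr (hgen j)) (by rw [(Φ).skew]; exact neg_ne_zero.mpr hj)
    have hsum : Good (rr i + g0) := claim hjG (Submodule.add_mem _ (hpr _) hg0.1)
      (Or.inr (RR_R (hpr _) hg0.1 (hgen i) hg0.2.2 (by rw [(Φ).skew, horth hg0, neg_zero])))
      (by rw [map_add, horth hjG, zero_add]; exact hj)
    obtain ⟨l, hl⟩ := detect (hpr _) hi0
    refine hl (horth ?_)
    by_cases h : (Φ).B g0 (rr l) = 0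
    · refine claim hsum (hpr _) (Or.inr (hgen l)) ?_
      rw [map_add, LinearMap.add_apply, h, add_zero, (Φ).skew]
      exact neg_ne_zero.mpr hl
    · exact claim hg0 (hpr _) (Or.inr (hgen l)) h
  have hGood0 : Good 0 := ⟨Submodule.zero_mem _, by simpa using hc.smul 0, fun b hb _ => by rw [add_zero]; exact hD b hb⟩
  let S : Submodule F (Fin n ⊕ Fin n → F) :=
    { carrier := {r | Good r}
      add_mem' := by
        intro r s hr hs
        rcases eq_or_ne (r + s) 0 with h | h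
        · show Good (r + s); rw [h]; exact hGood0
        obtain ⟨i, hi⟩ := detect (Submodule.add_mem _ hr.1 hs.1) h
        have hi0 : rr i ≠ 0 := fun h => hi (by rw [h, map_zero, LinearMap.zero_apply])
        refine claim (hgenGood i hi0) (Submodule.add_mem _ hr.1 hs.1) ?_ hi
        by_cases hrs : (Φ).B r s = 0
        · exact Or.inr (RR_R hr.1 hs.1 hr.2.2 hs.2.2 hrs)
        · exact Or.inl (RR_P hr.1 hs.1 hr.2.2 hs.2.2 hrs)
      zero_mem' := hGood0
      smul_mem' := fun c r hr => ⟨Submodule.smul_mem _ c hr.1, hr.2.1.smul c, Rsmul hr.2.2 c⟩ }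
  have hDS : D ⊔ S = ⊤ := by
    refine eq_top_iff.mpr (hYtop ▸ Submodule.span_le.mpr ?_)
    rintro _ ⟨i, rfl⟩
    show y i ∈ D ⊔ S
    rw [show y i = pa (y i) + rr i from (add_sub_cancel _ _).symm]
    refine Submodule.add_mem_sup (hpaD _) ?_
    show Good (rr i)
    by_cases h : rr i = 0
    · rw [h]; exact hGood0
    · exact hgenGood i h
  intro w
  have hGw : Good (w - pa w) := by
    obtain ⟨a, ha, s, hs, has⟩ := Submodule.mem_sup.mp (show w - pa w ∈ D ⊔ S by rw [hDS]; trivial)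
    have haperp : a ∈ (Φ).perp D := by
      rw [show a = (w - pa w) - s by rw [← has, add_sub_cancel_right]]
      exact Submodule.sub_mem _ (hpr w) hs.1
    have ha0 : a = 0 := by
      by_contra h
      obtain ⟨x, hx, hax⟩ := hnd a ha h
      exact hax (hDperp haperp x hx)
    rw [← has, ha0, zero_add]; exact hs
  rcases eq_or_ne (pa w) 0 with h | h
  · have := hGw.2.1; rwa [h, sub_zero] at this
  · have := hGw.2.2 _ (hpaD w) h; rwa [add_sub_cancel] at this

end Cfsg.Agent.Lib.MaxSub.SpThreeGen
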