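import Mathlib

/-!
Counting subspaces, flags and complementary pairs over a finite field.
-/

set_option autoImplicit false
set_option maxHeartbeats 1000000

namespace Cfsg.Agent.Lib.MaxSub.SubspaceCount

open Module

variable (F : Type*) [Field F] [Fintype F] (V : Type*) [AddCommGroup V] [Module F V] [FiniteDimensional F V]

/-- The number of subspaces of dimension `k`. -/
noncomputable def numSub (k : ℕ) : ℕ := Nat.card {W : Submodule F V // finrank F W = k}

/-- The product of the first `k` factors `q^(d - j) - 1`. -/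
def pr (q d k : ℕ) : ℕ := ∏ j ∈ Finset.range k, (q ^ (d - j) - 1)

theorem pr_pos {q : ℕ} (hq : 1 < q) {d k : ℕ} (hk : k ≤ d) : 0 < pr q d k :=
  Finset.prod_pos fun j hj => Nat.sub_pos_of_lt (Nat.one_lt_pow (by have := Finset.mem_range.1 hj; omega) hq)

theorem pr_add (q d k l : ℕ) : pr q d (k + l) = pr q d k * pr q (d - k) l := by
  unfold pr
  rw [Finset.prod_range_add]
  congr 1
  refine Finset.prod_congr rfl fun j _ => ?_
  rw [Nat.sub_sub]

theorem prod_sub_pow (q d k : ℕ) (hk : k ≤ d) :
    ∏ i : Fin k, (q ^ d - q ^ (i : ℕ)) = q ^ (∑ i ∈ Finset.range k, i) * pr q d k := by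
  rw [Fin.prod_univ_eq_prod_range (fun i => q ^ d - q ^ i), pr, ← Finset.prod_pow_eq_pow_sum, ← Finset.prod_mul_distrib]
  refine Finset.prod_congr rfl fun i hi => ?_
  rw [Finset.mem_range] at hi
  rw [Nat.mul_sub, mul_one, ← pow_add, Nat.add_sub_cancel' (by omega)]

theorem numSub_mul {d k : ℕ} (hd : finrank F V = d) (hk : k ≤ d) :
    numSub F V k * pr (Fintype.card F) k k = pr (Fintype.card F) d k := by
  classical
  have : Finite V := Module.finite_of_finite F
  let T := {s : Fin k → V // LinearIndependent F s}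
  let φ : T → {W : Submodule F V // finrank F W = k} :=
    fun s => ⟨Submodule.span F (Set.range s.1), by rw [finrank_span_eq_card s.2, Fintype.card_fin]⟩
  have hfib : ∀ W, Nat.card {s // φ s = W} = ∏ i : Fin k, (Fintype.card F ^ k - Fintype.card F ^ (i : ℕ)) := by
    intro W
    rw [Nat.card_congr (β := {s : Fin k → W.1 // LinearIndependent F s})
      { toFun := fun s => ⟨fun a => ⟨s.1.1 a, by
          have h := congrArg Subtype.val s.2
          exact h ▸ Submodule.subset_span ⟨a, rfl⟩⟩, LinearIndependent.of_comp W.1.subtype s.1.2⟩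
        invFun := fun s => ⟨⟨fun a => (s.1 a : V), s.2.map' W.1.subtype (Submodule.ker_subtype W.1)⟩, by
          apply Subtype.ext
          refine Submodule.eq_of_le_of_finrank_eq ?_ ?_
          · exact Submodule.span_le.mpr (by rintro _ ⟨a, rfl⟩; exact (s.1 a).2)
          · exact ((φ _).2).trans W.2.symm⟩
        left_inv := fun s => rfl
        right_inv := fun s => rfl },
      card_linearIndependent W.2.ge, W.2]
  have h1 : Nat.card T = ∏ i : Fin k, (Fintype.card F ^ d - Fintype.card F ^ (i : ℕ)) := by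
    rw [card_linearIndependent (hd.symm ▸ hk), hd]
  have h2 : Nat.card T = numSub F V k * ∏ i : Fin k, (Fintype.card F ^ k - Fintype.card F ^ (i : ℕ)) := by
    rw [← Nat.card_congr (Equiv.sigmaFiberEquiv φ), numSub]
    have : Fintype {W : Submodule F V // finrank F W = k} := Fintype.ofFinite _
    rw [Nat.card_sigma, Finset.sum_congr rfl fun W _ => hfib W, Finset.sum_const, Finset.card_univ, smul_eq_mul,
      Nat.card_eq_fintype_card]
  rw [h1, prod_sub_pow _ _ _ hk, prod_sub_pow _ _ _ le_rfl, mul_left_comm] at h2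
  exact (Nat.eq_of_mul_eq_mul_left (pow_pos Fintype.card_pos _) h2).symm

theorem dvd_pr {d k r : ℕ} (hd : finrank F V = d) (hk : k ≤ d) (h : r ∣ numSub F V k) :
    r ∣ pr (Fintype.card F) d k :=
  (h.trans (dvd_mul_right _ _)).trans (numSub_mul F V hd hk).dvd

theorem numSub_comm {d k : ℕ} (hd : finrank F V = d) (hk : k ≤ d) : numSub F V (d - k) = numSub F V k := by
  have hq : 1 < Fintype.card F := Fintype.one_lt_card
  have h1 := numSub_mul F V hd hk
  have h2 := numSub_mul F V hd (Nat.sub_le d k)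
  have e1 := pr_add (Fintype.card F) d k (d - k)
  have e2 := pr_add (Fintype.card F) d (d - k) k
  rw [Nat.add_sub_cancel' hk] at e1
  rw [Nat.sub_add_cancel hk, Nat.sub_sub_self hk] at e2
  refine Nat.eq_of_mul_eq_mul_right (Nat.mul_pos (pr_pos hq (le_refl (d - k))) (pr_pos hq (le_refl k))) ?_
  rw [← mul_assoc, h2, ← e2, e1, ← h1]
  ring

theorem cast_numSub {p : ℕ} [Fact p.Prime] [CharP F p] {d k : ℕ} (hd : finrank F V = d) (hk : k ≤ d) :
    ((numSub F V k : ℕ) : ZMod p) = 1 := by
  have hq : 1 < Fintype.card F := Fintype.one_lt_card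
  obtain ⟨⟨e, he⟩, -, hcard⟩ := FiniteField.card F p
  have hz : ((Fintype.card F : ℕ) : ZMod p) = 0 := by rw [hcard]; simp [he.ne']
  have key : ∀ d', k ≤ d' → ((pr (Fintype.card F) d' k : ℕ) : ZMod p) = (-1) ^ k := by
    intro d' hd'
    rw [pr, Nat.cast_prod]
    rw [Finset.prod_congr rfl (g := fun _ => (-1 : ZMod p)), Finset.prod_const, Finset.card_range]
    intro j hj
    rw [Finset.mem_range] at hj
    rw [Nat.cast_sub (Nat.one_le_pow _ _ (by omega)), Nat.cast_pow, hz, zero_pow (by omega), Nat.cast_one, zero_sub]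
  have h := congrArg (Nat.cast : ℕ → ZMod p) (numSub_mul F V hd hk)
  rw [Nat.cast_mul, key k le_rfl, key d hk] at h
  exact (mul_eq_right₀ (pow_ne_zero _ (neg_ne_zero.2 one_ne_zero))).1 h

/-- Flags with dimensions `a ≤ b`. -/
theorem card_flags {d a b : ℕ} (hd : finrank F V = d) (hab : a ≤ b) (W : Type*) [AddCommGroup W] [Module F W]
    [FiniteDimensional F W] (hW : finrank F W = d - a) :
    Nat.card {P : Submodule F V × Submodule F V // P.1 ≤ P.2 ∧ finrank F P.1 = a ∧ finrank F P.2 = b} =
      numSub F V a * numSub F W (b - a) := by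
  classical
  have : Finite V := Module.finite_of_finite F
  have : Fintype {U : Submodule F V // finrank F U = a} := Fintype.ofFinite _
  let e : {P : Submodule F V × Submodule F V // P.1 ≤ P.2 ∧ finrank F P.1 = a ∧ finrank F P.2 = b} ≃
      (U : {U : Submodule F V // finrank F U = a}) × {X : Submodule F V // U.1 ≤ X ∧ finrank F X = b} :=
    { toFun := fun P => ⟨⟨P.1.1, P.2.2.1⟩, ⟨P.1.2, P.2.1, P.2.2.2⟩⟩
      invFun := fun s => ⟨(s.1.1, s.2.1), s.2.2.1, s.1.2, s.2.2.2⟩
      left_inv := fun P => rfl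
      right_inv := fun s => rfl }
  rw [Nat.card_congr e, Nat.card_sigma]
  rw [Finset.sum_congr rfl (g := fun _ => numSub F W (b - a)), Finset.sum_const, Finset.card_univ, smul_eq_mul,
    ← Nat.card_eq_fintype_card]
  · rfl
  intro U _
  have hquot : finrank F (V ⧸ U.1) = d - a := by
    rw [Submodule.finrank_quotient, hd, U.2]
  obtain ⟨w⟩ := FiniteDimensional.nonempty_linearEquiv_of_finrank_eq (hquot.trans hW.symm)
  refine Nat.card_congr (Equiv.symm ?_)
  have hsurj : Function.Surjective ((w : (V ⧸ U.1) →ₗ[F] W).comp U.1.mkQ) := by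
    rw [LinearMap.coe_comp]
    exact w.surjective.comp (Submodule.mkQ_surjective U.1)
  have key : ∀ Y : Submodule F W, finrank F (Submodule.comap ((w : (V ⧸ U.1) →ₗ[F] W).comp U.1.mkQ) Y) =
      finrank F Y + a := by
    intro Y
    have h := ((((w : (V ⧸ U.1) →ₗ[F] W).comp U.1.mkQ)).domRestrict
      (Submodule.comap ((w : (V ⧸ U.1) →ₗ[F] W).comp U.1.mkQ) Y)).finrank_range_add_finrank_ker
    rw [LinearMap.range_domRestrict, Submodule.map_comap_eq_of_surjective hsurj, LinearMap.ker_domRestrict] at h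
    rw [← h]
    congr 1
    have hk : LinearMap.ker ((w : (V ⧸ U.1) →ₗ[F] W).comp U.1.mkQ) = U.1 := by
      rw [LinearEquiv.ker_comp, Submodule.ker_mkQ]
    rw [hk]
    refine (Submodule.comapSubtypeEquivOfLe ?_).finrank_eq.trans U.2
    exact le_trans hk.ge (LinearMap.ker_le_comap _)
  refine Equiv.ofBijective (fun Y => ⟨Submodule.comap ((w : (V ⧸ U.1) →ₗ[F] W).comp U.1.mkQ) Y.1,
    ?_, by rw [key, Y.2]; omega⟩) ⟨?_, ?_⟩
  · intro v hv
    show w (U.1.mkQ v) ∈ Y.1
    rw [Submodule.mkQ_apply, (Submodule.Quotient.mk_eq_zero U.1).2 hv, map_zero]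
    exact Y.1.zero_mem
  · intro Y Y' h
    exact Subtype.ext (Submodule.comap_injective_of_surjective hsurj (congrArg Subtype.val h))
  · intro X
    have hk : LinearMap.ker ((w : (V ⧸ U.1) →ₗ[F] W).comp U.1.mkQ) = U.1 := by
      rw [LinearEquiv.ker_comp, Submodule.ker_mkQ]
    have h1 : Submodule.comap ((w : (V ⧸ U.1) →ₗ[F] W).comp U.1.mkQ)
        (Submodule.map ((w : (V ⧸ U.1) →ₗ[F] W).comp U.1.mkQ) X.1) = X.1 :=
      Submodule.comap_map_eq_self (hk.le.trans X.2.1)
    refine ⟨⟨Submodule.map ((w : (V ⧸ U.1) →ₗ[F] W).comp U.1.mkQ) X.1, ?_⟩, Subtype.ext h1⟩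
    have h2 := key (Submodule.map ((w : (V ⧸ U.1) →ₗ[F] W).comp U.1.mkQ) X.1)
    rw [h1, X.2.2] at h2
    omega

theorem dvd_pr_of_pairs {p : ℕ} [Fact p.Prime] [CharP F p] {d k r : ℕ} (hd : finrank F V = d) (hk : k ≤ d)
    (hr : r.Prime) (hrp : r ≠ p)
    (h : r ∣ Nat.card {P : Submodule F V × Submodule F V // IsCompl P.1 P.2 ∧ finrank F P.1 = k}) :
    r ∣ pr (Fintype.card F) d k := by
  classical
  refine dvd_pr F V hd hk ?_
  have : Finite V := Module.finite_of_finite F
  have : Fintype {U : Submodule F V // finrank F U = k} := Fintype.ofFinite _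
  obtain ⟨⟨e0, he0⟩, -, hcard⟩ := FiniteField.card F p
  simp only [PNat.mk_coe] at hcard
  have hpp : p.Prime := Fact.out
  have hsame : ∀ U : {U : Submodule F V // finrank F U = k},
      Nat.card {X : Submodule F V // IsCompl U.1 X} = p ^ (e0 * (d * k - k * k)) := by
    intro U
    rw [Nat.card_congr U.1.isComplEquivProj]
    obtain ⟨f0, hf0⟩ : ∃ f : V →ₗ[F] U.1, ∀ x : U.1, f x = x := by
      obtain ⟨X, hX⟩ := Submodule.exists_isCompl U.1
      exact ⟨_, Submodule.projectionOnto_apply_left hX⟩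
    let res : (V →ₗ[F] U.1) →ₗ[F] (U.1 →ₗ[F] U.1) := LinearMap.lcomp F U.1 U.1.subtype
    have hres : ∀ f x, res f x = f (x : U.1) := fun f x => rfl
    rw [Nat.card_congr (β := LinearMap.ker res)
      { toFun := fun f => ⟨f.1 - f0, LinearMap.mem_ker.2 (LinearMap.ext fun x => by
          rw [hres, LinearMap.sub_apply, f.2, hf0, sub_self, LinearMap.zero_apply])⟩
        invFun := fun g => ⟨g.1 + f0, fun x => by
          have := LinearMap.congr_fun (LinearMap.mem_ker.1 g.2) x
          rw [hres, LinearMap.zero_apply] at this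
          rw [LinearMap.add_apply, hf0, this, zero_add]⟩
        left_inv := fun f => Subtype.ext (sub_add_cancel _ _)
        right_inv := fun g => Subtype.ext (add_sub_cancel_right _ _) }]
    have hsurj : LinearMap.range res = ⊤ := LinearMap.range_eq_top.2 fun g => ⟨g.comp f0, LinearMap.ext fun x => by
      rw [hres, LinearMap.comp_apply, hf0]⟩
    have h1 := res.finrank_range_add_finrank_ker
    rw [hsurj, finrank_top, Module.finrank_linearMap, Module.finrank_linearMap, hd, U.2] at h1
    rw [Module.natCard_eq_pow_finrank (K := F), Nat.card_eq_fintype_card (α := F), hcard, ← pow_mul,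
      show finrank F (LinearMap.ker res) = d * k - k * k by omega]
  let e : {P : Submodule F V × Submodule F V // IsCompl P.1 P.2 ∧ finrank F P.1 = k} ≃
      (U : {U : Submodule F V // finrank F U = k}) × {X : Submodule F V // IsCompl U.1 X} :=
    { toFun := fun P => ⟨⟨P.1.1, P.2.2⟩, ⟨P.1.2, P.2.1⟩⟩
      invFun := fun s => ⟨(s.1.1, s.2.1), s.2.2, s.1.2⟩
      left_inv := fun P => rfl
      right_inv := fun s => rfl }
  rw [Nat.card_congr e, Nat.card_sigma, Finset.sum_congr rfl (fun U _ => hsame U), Finset.sum_const, Finset.card_univ,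
    smul_eq_mul, ← Nat.card_eq_fintype_card] at h
  rcases (Nat.Prime.dvd_mul hr).1 h with h' | h'
  · exact h'
  · exact absurd ((Nat.prime_dvd_prime_iff_eq hr hpp).1 (hr.dvd_of_dvd_pow h')) hrp

/-- A prime dividing the product gives a small residue of the dimension modulo the order. -/
theorem mod_order_lt {q n k r : ℕ} [Fact r.Prime] (hq : 1 < q) (h : r ∣ pr q n k) :
    n % orderOf (q : ZMod r) < k := by
  obtain ⟨j, hj, hd⟩ := (Prime.dvd_finsetProd_iff (Nat.prime_iff.1 Fact.out) _).1 h
  rw [Finset.mem_range] at hj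
  have h1 : ((q ^ (n - j) - 1 : ℕ) : ZMod r) = 0 := (ZMod.natCast_eq_zero_iff _ _).2 hd
  rw [Nat.cast_sub (Nat.one_le_pow _ _ (by omega)), Nat.cast_pow, Nat.cast_one, sub_eq_zero] at h1
  have h2 := orderOf_dvd_of_pow_eq_one h1
  rcases le_or_gt n j with hn | hn
  · exact lt_of_le_of_lt (Nat.mod_le _ _) (by omega)
  · obtain ⟨c, hc⟩ := h2
    rw [show n = j + orderOf (q : ZMod r) * c by omega, Nat.add_mul_mod_self_left]
    exact lt_of_le_of_lt (Nat.mod_le _ _) hj

end Cfsg.Agent.Lib.MaxSub.SubspaceCount
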