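import Mathlib

/-!
Stabilisers of uniform partitions in symmetric and alternating groups.
-/

set_option autoImplicit false

namespace Cfsg.Agent.Lib.MaxSub.Wreath

open Equiv MulAction Pointwise

variable {Ω ι : Type*}

/-- Permutations preserving the partition into the fibres of `f`. -/
def pres (f : Ω → ι) : Subgroup (Perm Ω) where
  carrier := {g | ∀ x y : Ω, f x = f y ↔ f (g x) = f (g y)}
  one_mem' := fun _ _ => Iff.rfl
  mul_mem' {g h} hg hh := fun x y => (hh x y).trans (hg (h x) (h y))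
  inv_mem' {g} hg := fun x y => by
    have h := hg (g⁻¹ x) (g⁻¹ y)
    simp only [Perm.inv_def, Equiv.apply_symm_apply] at h ⊢
    exact h.symm

theorem mem_pres {f : Ω → ι} {g : Perm Ω} : g ∈ pres f ↔ ∀ x y : Ω, f x = f y ↔ f (g x) = f (g y) :=
  Iff.rfl

theorem closure_eq (f : Ω → ι) :
    Subgroup.closure {g : Perm Ω | ∀ x y : Ω, f x = f y ↔ f (g x) = f (g y)} = pres f :=
  Subgroup.closure_eq (pres f)

theorem swap_apply_fibre [DecidableEq Ω] {f : Ω → ι} {u v : Ω} (h : f u = f v) (x : Ω) :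
    f (swap u v x) = f x := by
  rw [swap_apply_def]; split_ifs with h1 h2
  · rw [h1, h]
  · rw [h2, h]
  · rfl

theorem swap_mem [DecidableEq Ω] {f : Ω → ι} {u v : Ω} (h : f u = f v) : swap u v ∈ pres f :=
  fun x y => by rw [swap_apply_fibre h, swap_apply_fibre h]

theorem sign_fix [Fintype Ω] [DecidableEq Ω] {f : Ω → ι} {g : Perm Ω} (hg : g ∈ pres f) {u v : Ω}
    (huv : f u = f v) (hne : u ≠ v) :
    ∃ g' ∈ pres f, Perm.sign g' = 1 ∧ ∀ x, g x ≠ u → g x ≠ v → g' x = g x := by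
  rcases Int.units_eq_one_or (Perm.sign g) with h | h
  · exact ⟨g, hg, h, fun _ _ _ => rfl⟩
  · refine ⟨swap u v * g, mul_mem (swap_mem huv) hg, ?_, fun x h1 h2 => ?_⟩
    · rw [map_mul, h, Perm.sign_swap hne]; rfl
    · rw [Perm.mul_apply, swap_apply_of_ne_of_ne h1 h2]

section
variable [Fintype Ω] [DecidableEq Ω] {a b : ℕ} {f : Ω → Fin b}
variable (hf : ∀ i : Fin b, Nat.card {x : Ω // f x = i} = a)
include hf

theorem card_eq : Fintype.card Ω = a * b := by
  rw [← Nat.card_eq_fintype_card, Nat.card_congr (Equiv.sigmaFiberEquiv f).symm, Nat.card_sigma,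
    Finset.sum_congr rfl (fun i _ => hf i)]
  simp [mul_comm]

theorem exists_fibre_pair (ha : 2 ≤ a) (i : Fin b) : ∃ u v, f u = i ∧ f v = i ∧ u ≠ v := by
  have : 1 < Fintype.card {x : Ω // f x = i} := by rw [← Nat.card_eq_fintype_card, hf]; omega
  obtain ⟨⟨u, hu⟩, ⟨v, hv⟩, h⟩ := Fintype.one_lt_card_iff.mp this
  exact ⟨u, v, hu, hv, fun e => h (Subtype.ext e)⟩

theorem exists_fibre_avoid_two (ha : 3 ≤ a) (i : Fin b) (p : Ω) :
    ∃ u v, f u = i ∧ f v = i ∧ u ≠ v ∧ u ≠ p ∧ v ≠ p := by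
  have h3 : 2 < Fintype.card {x : Ω // f x = i} := by rw [← Nat.card_eq_fintype_card, hf]; omega
  obtain ⟨⟨u, hu⟩, ⟨v, hv⟩, ⟨w, hw⟩, huv, huw, hvw⟩ := Fintype.two_lt_card_iff.mp h3
  simp only [ne_eq, Subtype.mk.injEq] at huv huw hvw
  by_cases h1 : u = p
  · exact ⟨v, w, hv, hw, hvw, fun h => huv (h1.trans h.symm), fun h => huw (h1.trans h.symm)⟩
  by_cases h2 : v = p
  · exact ⟨u, w, hu, hw, huw, h1, fun h => hvw (h2.trans h.symm)⟩
  exact ⟨u, v, hu, hv, huv, h1, h2⟩

theorem exists_map (π : Perm (Fin b)) :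
    ∃ g ∈ pres f, ∀ x, f (g x) = π (f x) := by
  have e : ∀ i : Fin b, {x : Ω // π (f x) = i} ≃ {x : Ω // f x = i} := fun i =>
    (Equiv.subtypeEquivRight fun x => π.eq_symm_apply.symm.trans Iff.rfl).trans
      (Classical.choice ((Nat.card_eq_fintype_card (α := {x : Ω // f x = π.symm i}) ▸
        Nat.card_eq_fintype_card (α := {x : Ω // f x = i}) ▸ (hf (π.symm i)).trans (hf i).symm :
        Fintype.card {x : Ω // f x = π.symm i} = Fintype.card {x : Ω // f x = i}) |> fun h =>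
          ⟨Fintype.equivOfCardEq h⟩))
  refine ⟨Equiv.ofFiberEquiv e, fun x y => ?_, fun x => Equiv.ofFiberEquiv_map e x⟩
  rw [Equiv.ofFiberEquiv_map e, Equiv.ofFiberEquiv_map e, π.injective.eq_iff]

theorem exists_map_one (π : Perm (Fin b)) {x x' : Ω} (hx : f x' = π (f x)) :
    ∃ g ∈ pres f, g x = x' ∧ ∀ z, f (g z) = π (f z) := by
  obtain ⟨g, hg, hgf⟩ := exists_map hf π
  have h : f (g x) = f x' := by rw [hgf, hx]
  refine ⟨swap (g x) x' * g, mul_mem (swap_mem h) hg, swap_apply_left _ _, fun z => ?_⟩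
  rw [Perm.mul_apply, swap_apply_fibre h, hgf]

theorem exists_map_two (π : Perm (Fin b)) {x x' y y' : Ω} (hx : f x' = π (f x)) (hy : f y' = π (f y))
    (hxy : x ≠ y) (hxy' : x' ≠ y') :
    ∃ g ∈ pres f, g x = x' ∧ g y = y' := by
  obtain ⟨g, hg, hgx, hgf⟩ := exists_map_one hf π hx
  have h : f (g y) = f y' := by rw [hgf, hy]
  refine ⟨swap (g y) y' * g, mul_mem (swap_mem h) hg, ?_, swap_apply_left _ _⟩
  rw [Perm.mul_apply, hgx, swap_apply_of_ne_of_ne _ hxy']
  intro h'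
  exact hxy (g.injective (hgx.trans h'))

theorem exists_even_map_two (ha : 2 ≤ a) (hb : 2 ≤ b) (hn : 4 < a * b) (π : Perm (Fin b))
    {x x' y y' : Ω} (hx : f x' = π (f x)) (hy : f y' = π (f y))
    (hxy : x ≠ y) (hxy' : x' ≠ y') :
    ∃ g ∈ pres f ⊓ alternatingGroup Ω, g x = x' ∧ g y = y' := by
  obtain ⟨g, hg, hgx, hgy⟩ := exists_map_two hf π hx hy hxy hxy'
  obtain ⟨u, v, huv, hne, hu1, hu2, hv1, hv2⟩ :
      ∃ u v, f u = f v ∧ u ≠ v ∧ u ≠ x' ∧ u ≠ y' ∧ v ≠ x' ∧ v ≠ y' := by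
    by_cases h : ∃ i, i ≠ f x' ∧ i ≠ f y'
    · obtain ⟨i, h1, h2⟩ := h
      obtain ⟨u, v, hu, hv, hne⟩ := exists_fibre_pair hf ha i
      exact ⟨u, v, hu.trans hv.symm, hne, fun e => h1 (by rw [← hu, e]), fun e => h2 (by rw [← hu, e]),
        fun e => h1 (by rw [← hv, e]), fun e => h2 (by rw [← hv, e])⟩
    · push Not at h
      have hb2 : b = 2 := by
        by_contra hb'
        have hcard : 2 < Fintype.card (Fin b) := by rw [Fintype.card_fin]; omega
        obtain ⟨i, j, k, hij, hik, hjk⟩ := Fintype.two_lt_card_iff.mp hcard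
        by_cases hi : i = f x'
        · exact hjk ((h j (fun e => hij (hi.trans e.symm))).trans (h k (fun e => hik (hi.trans e.symm))).symm)
        by_cases hj : j = f x'
        · exact hik ((h i hi).trans (h k (fun e => hjk (hj.trans e.symm))).symm)
        exact hij ((h i hi).trans (h j hj).symm)
      have ha3 : 3 ≤ a := by subst hb2; omega
      have hxy2 : f x' ≠ f y' := by
        intro e
        haveI : Nontrivial (Fin b) := Fin.nontrivial_iff_two_le.mpr hb
        obtain ⟨i, hi⟩ := exists_ne (f x')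
        exact hi ((h i hi).trans e.symm)
      obtain ⟨u, v, hu, hv, hne, h1, h2⟩ := exists_fibre_avoid_two hf ha3 (f x') x'
      exact ⟨u, v, hu.trans hv.symm, hne, h1, fun e => hxy2 (by rw [← hu, e]), h2,
        fun e => hxy2 (by rw [← hv, e])⟩
  obtain ⟨g', hg', hs, hsame⟩ := sign_fix hg huv hne
  refine ⟨g', ⟨hg', hs⟩, ?_, ?_⟩
  · rw [hsame x (by rw [hgx]; exact hu1.symm) (by rw [hgx]; exact hv1.symm), hgx]
  · rw [hsame y (by rw [hgy]; exact hu2.symm) (by rw [hgy]; exact hv2.symm), hgy]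

/-- Two blocks containing the same point and meeting another part: the block is everything. -/
theorem block_eq_univ (ha : 2 ≤ a) (hb : 2 ≤ b) (hn : 4 < a * b) {L : Subgroup (Perm Ω)}
    (hWL : pres f ⊓ alternatingGroup Ω ≤ L) {B : Set Ω} (hB : IsBlock L B) {x y : Ω}
    (hx : x ∈ B) (hy : y ∈ B) (hxy : f x ≠ f y) : B = Set.univ := by
  have key : ∀ {p q z : Ω}, p ∈ B → q ∈ B → f p ≠ f q → f z ≠ f p → z ∈ B := by
    intro p q z hp hq hpq hzp
    obtain ⟨g, hg, hgp, hgq⟩ := exists_even_map_two hf ha hb hn (swap (f q) (f z)) (x := p) (x' := p)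
      (y := q) (y' := z) (swap_apply_of_ne_of_ne hpq hzp.symm).symm (swap_apply_left _ _).symm
      (fun e => hpq (by rw [e])) (fun e => hzp (by rw [e]))
    have hne : ((⟨g, hWL hg⟩ : L) • B ∩ B).Nonempty := ⟨p, ⟨p, hp, hgp⟩, hp⟩
    have heq := hB.smul_eq_of_nonempty hne
    rw [← heq]
    exact ⟨q, hq, hgq⟩
  refine Set.eq_univ_of_forall fun z => ?_
  by_cases h : f z = f x
  · exact key hy hx hxy.symm (fun e => hxy (h.symm.trans e))
  · exact key hx hy hxy h

theorem block_eq_fibre (ha : 2 ≤ a) (hb : 2 ≤ b) (hn : 4 < a * b) {L : Subgroup (Perm Ω)}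
    (hWL : pres f ⊓ alternatingGroup Ω ≤ L) {B : Set Ω} (hB : IsBlock L B) (hne : B ≠ Set.univ)
    {x y : Ω} (hx : x ∈ B) (hy : y ∈ B) (hxy : x ≠ y) : B = {z | f z = f x} := by
  ext z
  constructor
  · intro hz
    by_contra h
    exact hne (block_eq_univ hf ha hb hn hWL hB hz hx h)
  · intro hz
    by_cases hzx : z = x
    · exact hzx ▸ hx
    have hyx : f y = f x := by
      by_contra h
      exact hne (block_eq_univ hf ha hb hn hWL hB hy hx h)
    obtain ⟨g, hg, hgx, hgy⟩ := exists_even_map_two hf ha hb hn 1 (x := x) (x' := x)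
      (y := y) (y' := z) rfl (by simpa using (show f z = f y from hz.trans hyx.symm)) hxy (Ne.symm hzx)
    have hne' : ((⟨g, hWL hg⟩ : L) • B ∩ B).Nonempty := ⟨x, ⟨x, hx, hgx⟩, hx⟩
    rw [← hB.smul_eq_of_nonempty hne']
    exact ⟨y, hy, hgy⟩

theorem exists_even_move (ha : 2 ≤ a) (hb : 2 ≤ b) (hn : 4 < a * b) (x x' : Ω) :
    ∃ g ∈ pres f ⊓ alternatingGroup Ω, g x = x' := by
  obtain ⟨u, v, hu, hv, hne⟩ := exists_fibre_pair hf ha (f x)
  obtain ⟨u', v', hu', hv', hne'⟩ := exists_fibre_pair hf ha (f x')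
  obtain ⟨y, hy, hxy⟩ : ∃ y, f y = f x ∧ x ≠ y := by
    by_cases h : x = u
    · exact ⟨v, hv, h ▸ hne⟩
    · exact ⟨u, hu, h⟩
  obtain ⟨y', hy', hxy'⟩ : ∃ y, f y = f x' ∧ x' ≠ y := by
    by_cases h : x' = u'
    · exact ⟨v', hv', h ▸ hne'⟩
    · exact ⟨u', hu', h⟩
  obtain ⟨g, hg, h1, -⟩ := exists_even_map_two hf ha hb hn (swap (f x) (f x')) (x := x) (x' := x')
    (y := y) (y' := y') (swap_apply_left _ _).symm
    (by rw [hy', hy, swap_apply_left]) hxy hxy'
  exact ⟨g, hg, h1⟩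

/-- An overgroup of the even part either preserves the partition or is primitive. -/
theorem isPreprimitive_of_not_le (ha : 2 ≤ a) (hb : 2 ≤ b) (hn : 4 < a * b) {L : Subgroup (Perm Ω)}
    (hWL : pres f ⊓ alternatingGroup Ω ≤ L) (hL : ¬ L ≤ pres f) : IsPreprimitive L Ω := by
  haveI : IsPretransitive L Ω := ⟨fun x x' => by
    obtain ⟨g, hg, h⟩ := exists_even_move hf ha hb hn x x'
    exact ⟨⟨g, hWL hg⟩, h⟩⟩
  constructor
  intro B hB
  rcases B.subsingleton_or_nontrivial with h | ⟨x, hx, y, hy, hxy⟩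
  · exact Or.inl h
  by_contra hne
  have hne' : B ≠ Set.univ := fun e => hne (Or.inr e)
  have hfib := block_eq_fibre hf ha hb hn hWL hB hne' hx hy hxy
  apply hL
  intro g hg
  have fwd : ∀ h ∈ L, ∀ z w : Ω, f z = f w → f (h z) = f (h w) := by
    intro h hh z w hzw
    by_cases hzw' : z = w
    · rw [hzw']
    obtain ⟨k, hk, hkx⟩ := exists_even_move hf ha hb hn x z
    set m : L := ⟨h, hh⟩ * ⟨k, hWL hk⟩ with hm
    have hB' : IsBlock L (m • B) := hB.translate m
    have hne'' : m • B ≠ Set.univ := by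
      intro e
      apply hne'
      have := congrArg (fun s => m⁻¹ • s) e
      simpa using this
    have hzB : h z ∈ m • B := ⟨x, hx, by show h (k x) = h z; rw [hkx]⟩
    have hwB : h w ∈ m • B := by
      refine ⟨k⁻¹ w, ?_, by show h (k (k⁻¹ w)) = h w; rw [Perm.inv_def, Equiv.apply_symm_apply]⟩
      rw [hfib]
      show f (k⁻¹ w) = f x
      have := (hk.1 (k⁻¹ w) x).mpr (by rw [Perm.inv_def, Equiv.apply_symm_apply, hkx]; exact hzw.symm)
      exact this
    by_contra hf'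
    exact hne'' (block_eq_univ hf ha hb hn hWL hB' hzB hwB hf')
  exact fun z w => ⟨fwd g hg z w, fun h => by
    have := fwd g⁻¹ (inv_mem hg) _ _ h
    simpa using this⟩

theorem exists_swap_not_mem (ha : 2 ≤ a) (hb : 2 ≤ b) :
    ∃ x y z : Ω, f x ≠ f y ∧ f z = f x ∧ z ≠ x := by
  haveI : Nontrivial (Fin b) := Fin.nontrivial_iff_two_le.mpr hb
  obtain ⟨i, j, hij⟩ := exists_pair_ne (Fin b)
  obtain ⟨x, z, hx, hz, hxz⟩ := exists_fibre_pair hf ha i
  obtain ⟨y, _, hy, _, _⟩ := exists_fibre_pair hf ha j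
  exact ⟨x, y, z, by rw [hx, hy]; exact hij, hz.trans hx.symm, hxz.symm⟩

end

/-- The product of two double transpositions sharing one point yields a three-cycle. -/
theorem isThreeCycle_sq_of_double [Fintype Ω] [DecidableEq Ω] {p p' q r s k k' : Ω}
    (hpp' : p ≠ p') (hpq : p ≠ q) (hp'q : q ≠ p')
    (h1 : Perm.Disjoint (swap r s) (swap p p')) (h2 : Perm.Disjoint (swap r s) (swap p q))
    (h3 : Perm.Disjoint (swap k k') (swap p p')) (h4 : Perm.Disjoint (swap k k') (swap p q))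
    (h5 : Perm.Disjoint (swap r s) (swap k k')) :
    Perm.IsThreeCycle (((swap p q * swap r s) * (swap p p' * swap k k')) ^ 2) := by
  have e1 : (swap p q * swap r s) * (swap p p' * swap k k') = (swap p q * swap p p') * (swap r s * swap k k') := by
    rw [mul_assoc, ← mul_assoc (swap r s), h1.commute.eq, mul_assoc (swap p p'), ← mul_assoc]
  have c : Commute (swap p q * swap p p') (swap r s * swap k k') :=
    Commute.mul_left (Commute.mul_right h2.commute.symm h4.commute.symm)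
      (Commute.mul_right h1.commute.symm h3.commute.symm)
  have e2 : (swap r s * swap k k') ^ 2 = 1 := by
    rw [h5.commute.mul_pow, sq, sq, swap_mul_self, swap_mul_self, one_mul]
  rw [e1, c.mul_pow, e2, mul_one, sq]
  exact (Perm.isThreeCycle_swap_mul_swap_same hpq hpp' hp'q).isThreeCycle_sq

theorem disjoint_swap [DecidableEq Ω] {a b c d : Ω} (h1 : a ≠ c) (h2 : a ≠ d) (h3 : b ≠ c) (h4 : b ≠ d) :
    Perm.Disjoint (swap a b) (swap c d) := by
  intro x
  by_cases hx : x = a ∨ x = b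
  · right; rcases hx with rfl | rfl
    · exact swap_apply_of_ne_of_ne h1 h2
    · exact swap_apply_of_ne_of_ne h3 h4
  · left; push Not at hx; exact swap_apply_of_ne_of_ne hx.1 hx.2

end Cfsg.Agent.Lib.MaxSub.Wreath
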