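import Mathlib
import Cfsg.Agent.Lib.MaxSub.Wreath

/-!
Subgroups of small index in symmetric groups.
-/

set_option autoImplicit false

namespace Cfsg.Agent.Lib.MaxSub.SymIndex

open Equiv MulAction Pointwise

theorem choose_le_choose_inner (n : ℕ) : ∀ j k : ℕ, j ≤ k → k + j ≤ n → n.choose j ≤ n.choose k := by
  induction n with
  | zero =>
    intro j k h1 h2
    obtain rfl : j = 0 := by omega
    obtain rfl : k = 0 := by omega
    rfl
  | succ n ih =>
    intro j k h1 h2
    rcases eq_or_lt_of_le h2 with h | h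
    · rw [show k = n + 1 - j by omega, Nat.choose_symm (show j ≤ n + 1 by omega)]
    · cases j with
      | zero => rw [Nat.choose_zero_right]; exact Nat.choose_pos (by omega)
      | succ j =>
        obtain ⟨k, rfl⟩ : ∃ k', k = k' + 1 := ⟨k - 1, by omega⟩
        rw [Nat.choose_succ_succ, Nat.choose_succ_succ]
        exact Nat.add_le_add (ih j k (by omega) (by omega)) (ih (j + 1) (k + 1) (by omega) (by omega))

theorem choose_two_mul (n : ℕ) : n.choose 2 * 2 = n * (n - 1) := by
  rw [Nat.choose_two_right, Nat.div_mul_cancel]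
  rcases n with _ | n
  · simp
  · simpa [mul_comm] using (Nat.even_mul_succ_self n).two_dvd

theorem choose_three_mul (n : ℕ) (hn : 3 ≤ n) : n.choose 3 * 6 = n * (n - 1) * (n - 2) := by
  have h := Nat.descFactorial_eq_factorial_mul_choose n 3
  simp [Nat.descFactorial_succ, Nat.factorial] at h
  linarith [h, mul_comm (n - 2) ((n - 1) * n)]

variable {Ω : Type*} [Fintype Ω] [DecidableEq Ω]

theorem index_stabilizer_finset (s : Finset Ω) :
    (stabilizer (Perm Ω) (s : Set Ω)).index = (Fintype.card Ω).choose s.card := by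
  haveI := Set.powersetCard.isPretransitive (α := Ω) (n := s.card)
  let t : Set.powersetCard Ω s.card := ⟨s, rfl⟩
  rw [show stabilizer (Perm Ω) (s : Set Ω) = stabilizer (Perm Ω) t from
      (Set.powersetCard.stabilizer_coe t).symm, index_stabilizer_of_transitive, Set.powersetCard.card,
    Nat.card_eq_fintype_card]

theorem choose_dvd_index {H : Subgroup (Perm Ω)} {s : Finset Ω}
    (h : ∀ g ∈ H, ∀ x ∈ s, g x ∈ s) : (Fintype.card Ω).choose s.card ∣ H.index := by
  rw [← index_stabilizer_finset s]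
  apply Subgroup.index_dvd_of_le
  intro g hg
  rw [mem_stabilizer_iff]
  apply Set.eq_of_subset_of_ncard_le (ht := s.finite_toSet)
  · rintro _ ⟨x, hx, rfl⟩
    exact h g hg x hx
  · rw [Set.ncard_smul_set]

theorem card_perm_eq : Nat.card (Perm Ω) = (Fintype.card Ω).factorial := by
  rw [Nat.card_perm, Nat.card_eq_fintype_card]

theorem card_mul_eq {H : Subgroup (Perm Ω)} (hH : H.index = Fintype.card Ω) :
    Nat.card H * Fintype.card Ω = (Fintype.card Ω).factorial := by
  rw [← hH, H.card_mul_index, card_perm_eq, hH]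

/-- If the order is prime to the index, some conjugate of every element of prime order lies in the subgroup. -/
theorem exists_conj_mem {G : Type*} [Group G] [Finite G] {p : ℕ} [Fact p.Prime] {H : Subgroup G}
    (hH : ¬ p ∣ H.index) {c : G} (hc : orderOf c = p) : ∃ g : G, g * c * g⁻¹ ∈ H := by
  obtain ⟨P, hP⟩ := IsPGroup.exists_le_sylow (p := p) (P := Subgroup.zpowers c)
    (IsPGroup.of_card (n := 1) (by rw [Nat.card_zpowers, hc, pow_one]))
  obtain ⟨Q⟩ : Nonempty (Sylow p H) := inferInstance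
  set Q' := (Q : Subgroup H).map H.subtype with hQ'
  have hQp : IsPGroup p Q' := Q.2.map _
  obtain ⟨R, hR⟩ := hQp.exists_le_sylow
  have hcard : Nat.card Q' = Nat.card R := by
    rw [hQ', Subgroup.card_map_of_injective H.subtype_injective, Q.card_eq_multiplicity,
      R.card_eq_multiplicity]
    congr 1
    rw [← H.card_mul_index, Nat.factorization_mul Nat.card_pos.ne' (Subgroup.index_ne_zero_of_finite),
      Finsupp.add_apply, Nat.factorization_eq_zero_of_not_dvd hH, add_zero]
  have hRQ : (R : Subgroup G) = Q' := (Subgroup.eq_of_le_of_card_ge hR hcard.ge).symm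
  obtain ⟨g, hg⟩ := exists_smul_eq G P R
  refine ⟨g, ?_⟩
  have h1 : g * c * g⁻¹ ∈ (R : Subgroup G) := by
    rw [← hg]
    exact Subgroup.smul_mem_pointwise_smul c (MulAut.conj g) _ (hP (Subgroup.mem_zpowers c))
  rw [hRQ] at h1
  obtain ⟨x, -, hx⟩ := h1
  rw [← hx]
  exact x.2

theorem exists_partner {H : Subgroup (Perm Ω)} (hH : H.index = Fintype.card Ω)
    (hs : ∀ c ∈ H, ¬ Perm.IsSwap c) (h3 : ∀ c ∈ H, ¬ Perm.IsThreeCycle c)
    {x y z : Ω} (hxy : x ≠ y) (hxz : x ≠ z) (hyz : y ≠ z) :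
    ∃ w, w ≠ x ∧ w ≠ y ∧ w ≠ z ∧ swap x w * swap y z ∈ H := by
  have h3' : ∀ a b c : Ω, a ≠ b → a ≠ c → b ≠ c → swap a b * swap a c ∉ H := fun a b c h1 h2 h3' hm =>
    h3 _ hm (Perm.isThreeCycle_swap_mul_swap_same h1 h2 h3')
  let φ : Ω → Perm Ω ⧸ H := fun w => QuotientGroup.mk (swap x w)
  have hinj : Function.Injective φ := by
    intro w w' h
    by_contra hne
    have hm := QuotientGroup.eq.mp h
    rw [swap_inv] at hm
    by_cases hw : x = w
    · subst hw; rw [swap_self, ← Perm.one_def, one_mul] at hm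
      exact hs _ hm ⟨x, w', hne, rfl⟩
    by_cases hw' : x = w'
    · subst hw'; rw [swap_self, ← Perm.one_def, mul_one] at hm
      exact hs _ hm ⟨x, w, hw, rfl⟩
    exact h3' x w w' hw hw' hne hm
  have hbij := (Nat.bijective_iff_injective_and_card φ).mpr
    ⟨hinj, by rw [← Subgroup.index_eq_card, hH, Nat.card_eq_fintype_card]⟩
  obtain ⟨w, hw⟩ := hbij.2 (QuotientGroup.mk (swap y z))
  have hm := QuotientGroup.eq.mp hw
  rw [swap_inv] at hm
  refine ⟨w, ?_, ?_, ?_, hm⟩
  · rintro rfl
    rw [swap_self, ← Perm.one_def, one_mul] at hm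
    exact hs _ hm ⟨y, z, hyz, rfl⟩
  · rintro rfl
    rw [swap_comm x w] at hm
    exact h3' w x z hxy.symm hyz hxz hm
  · rintro rfl
    rw [swap_comm x w, swap_comm y w] at hm
    exact h3' w x y hxz.symm hyz.symm hxy hm

theorem exists_swap_or_threeCycle {H : Subgroup (Perm Ω)} (hH : H.index = Fintype.card Ω)
    (h9 : 9 ≤ Fintype.card Ω) :
    (∃ c ∈ H, Perm.IsSwap c) ∨ ∃ c ∈ H, Perm.IsThreeCycle c := by
  by_contra hcon
  push Not at hcon
  obtain ⟨hs, h3⟩ := hcon
  have h3' : ∀ a b c : Ω, a ≠ b → a ≠ c → b ≠ c → swap a b * swap a c ∉ H := fun a b c h1 h2 h3' hm =>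
    h3 _ hm (Perm.isThreeCycle_swap_mul_swap_same h1 h2 h3')
  have key : ∀ x y z : Ω, x ≠ y → x ≠ z → y ≠ z →
      ∃ w, w ≠ x ∧ w ≠ y ∧ w ≠ z ∧ swap x w * swap y z ∈ H := fun x y z => exists_partner hH hs h3
  obtain ⟨x, y, z, hxy, hxz, hyz⟩ := Fintype.two_lt_card_iff.mp (by omega : 2 < Fintype.card Ω)
  obtain ⟨w, hwx, hwy, hwz, hd⟩ := key x y z hxy hxz hyz
  obtain ⟨a, -, ha⟩ := Finset.exists_mem_notMem_of_card_lt_card
    (s := ({x, y, z, w} : Finset Ω)) (t := Finset.univ)
    (lt_of_le_of_lt Finset.card_le_four (by rw [Finset.card_univ]; omega))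
  simp at ha
  obtain ⟨hax, hay, haz, haw⟩ := ha
  have key2 : ∀ b : Ω, ∃ c, b ≠ y → b ≠ a → c ≠ b ∧ c ≠ y ∧ c ≠ a ∧ swap b c * swap y a ∈ H := by
    intro b
    by_cases h : b ≠ y ∧ b ≠ a
    · obtain ⟨c, hc⟩ := key b y a h.1 h.2 (Ne.symm hay)
      exact ⟨c, fun _ _ => hc⟩
    · exact ⟨b, fun h1 h2 => absurd ⟨h1, h2⟩ h⟩
  choose σ hσ using key2
  set B := (Finset.univ : Finset Ω) \ {x, w, y, z, a} with hB
  have hBcard : 4 ≤ B.card := by
    have h1 := Finset.le_card_sdiff ({x, w, y, z, a} : Finset Ω) Finset.univ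
    have h2 : ({x, w, y, z, a} : Finset Ω).card ≤ 5 := Finset.card_le_five
    rw [Finset.card_univ] at h1
    rw [hB]; omega
  have hBmem : ∀ b ∈ B, b ≠ x ∧ b ≠ w ∧ b ≠ y ∧ b ≠ z ∧ b ≠ a := by
    intro b hb; simpa [hB] using hb
  have hinj : Set.InjOn σ B := by
    intro b hb b' hb' h
    by_contra hne
    obtain ⟨-, -, hby, -, hba⟩ := hBmem b hb
    obtain ⟨-, -, hby', -, hba'⟩ := hBmem b' hb'
    obtain ⟨hc1, -, -, hm⟩ := hσ b hby hba
    obtain ⟨hc1', -, -, hm'⟩ := hσ b' hby' hba'
    rw [← h] at hm' hc1'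
    have hp := mul_mem hm (inv_mem hm')
    rw [mul_inv_rev, swap_inv, swap_inv, mul_assoc, ← mul_assoc (swap y a), swap_mul_self, one_mul,
      swap_comm b, swap_comm b'] at hp
    exact h3' (σ b) b b' hc1 hc1' hne hp
  obtain ⟨c, hcim, hc⟩ := Finset.exists_mem_notMem_of_card_lt_card
    (s := ({x, w, z} : Finset Ω)) (t := B.image σ)
    (lt_of_le_of_lt Finset.card_le_three (by rw [Finset.card_image_of_injOn hinj]; omega))
  obtain ⟨b, hb, rfl⟩ := Finset.mem_image.mp hcim
  obtain ⟨hbx, hbw, hby, hbz, hba⟩ := hBmem b hb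
  obtain ⟨hcb, hcy, hca, hm⟩ := hσ b hby hba
  simp at hc
  obtain ⟨hcx, hcw, hcz⟩ := hc
  have e1 : swap x w * swap y z = swap y z * swap x w :=
    (Wreath.disjoint_swap hxy hxz hwy hwz).commute.eq
  have e2 : swap b (σ b) * swap y a = swap y a * swap b (σ b) :=
    (Wreath.disjoint_swap hby hba hcy hca).commute.eq
  rw [e1] at hd
  rw [e2] at hm
  exact h3 _ (pow_mem (mul_mem hd hm) 2) (Wreath.isThreeCycle_sq_of_double (Ne.symm hay) hyz (Ne.symm haz)
    (Wreath.disjoint_swap hxy (Ne.symm hax) hwy (Ne.symm haw))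
    (Wreath.disjoint_swap hxy hxz hwy hwz)
    (Wreath.disjoint_swap hby hba hcy hca)
    (Wreath.disjoint_swap hby hbz hcy hcz)
    (Wreath.disjoint_swap (Ne.symm hbx) (Ne.symm hcx) (Ne.symm hbw) (Ne.symm hcw)))

theorem isPreprimitive_of_index {H : Subgroup (Perm Ω)} (hH : H.index = Fintype.card Ω)
    (h8 : 6 ≤ Fintype.card Ω) [IsPretransitive H Ω] : IsPreprimitive H Ω := by
  classical
  constructor
  intro B hB
  rcases B.subsingleton_or_nontrivial with h | hnt
  · exact Or.inl h
  by_contra hne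
  have hne' : B ≠ Set.univ := fun e => hne (Or.inr e)
  obtain ⟨x, hx⟩ := hnt.nonempty
  set n := Fintype.card Ω with hn
  have hBn := hB.ncard_block_mul_ncard_orbit_eq ⟨x, hx⟩
  rw [Nat.card_eq_fintype_card, ← hn] at hBn
  set b := (orbit H B).ncard with hb
  have ha2 : 2 ≤ B.ncard := by
    rw [← not_lt, Nat.lt_succ_iff, Set.ncard_le_one_iff_subsingleton]
    exact Set.not_subsingleton_iff.mpr hnt
  have haN : B.ncard < n := by
    rw [hn, ← Nat.card_eq_fintype_card, ← Set.ncard_univ]
    exact Set.ncard_lt_ncard (Set.ssubset_univ_iff.mpr hne')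
  have hb2 : 2 ≤ b := by
    by_contra hc
    interval_cases b <;> omega
  let S := stabilizer H B
  have hS : S.index = b := by rw [hb, MulAction.index_stabilizer]
  let H' := S.map H.subtype
  have hH' : H'.index = n * b := by
    show (S.map H.subtype).index = _
    rw [Subgroup.index_map_subtype, hS, hH, mul_comm, hn]
  have hdvd : n.choose B.ncard ∣ n * b := by
    rw [← hH', Set.ncard_eq_toFinset_card']
    refine choose_dvd_index fun g hg z hz => ?_
    obtain ⟨g', hg', rfl⟩ := hg
    rw [Set.mem_toFinset] at hz ⊢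
    have hfix : g' • B = B := hg'
    rw [← hfix]
    exact ⟨z, hz, rfl⟩
  by_cases hatwo : B.ncard = 2
  · rw [hatwo] at hdvd hBn
    obtain ⟨k, hk⟩ := hdvd
    have h1 := choose_two_mul n
    have h2 : n * n = n * ((n - 1) * k) := by
      calc n * n = n * b * 2 := by rw [← hBn]; ring
        _ = n.choose 2 * 2 * k := by rw [hk]; ring
        _ = _ := by rw [h1]; ring
    have h3 := Nat.eq_of_mul_eq_mul_left (by omega) h2
    rcases k with _ | _ | k
    · omega
    · omega
    · nlinarith [Nat.sub_add_cancel (show 1 ≤ n by omega)]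
  · have ha3 : 3 ≤ B.ncard := by omega
    have hle : n.choose 3 ≤ n.choose B.ncard := by
      refine choose_le_choose_inner n 3 B.ncard ha3 ?_
      nlinarith
    have hle2 := le_trans hle (Nat.le_of_dvd (by positivity) hdvd)
    have h1 := choose_three_mul n (by omega)
    obtain ⟨m, hm⟩ : ∃ m, n = m + 2 := ⟨n - 2, by omega⟩
    have h3b : 3 * b ≤ n := by nlinarith
    rw [hm] at h1 hle2 h3b
    have e1 : m + 2 - 1 = m + 1 := by omega
    have e2 : m + 2 - 2 = m := by omega
    rw [e1, e2] at h1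
    have e3 : (m + 2) * ((m + 1) * m) ≤ (m + 2) * (2 * (m + 2)) := by nlinarith
    have e4 := Nat.le_of_mul_le_mul_left e3 (by omega)
    nlinarith

theorem two_mul_le_of_index {H : Subgroup (Perm Ω)} (hH : H.index = Fintype.card Ω) (h3 : 3 ≤ Fintype.card Ω) :
    ¬ alternatingGroup Ω ≤ H := by
  intro hle
  haveI : Nontrivial Ω := Fintype.one_lt_card_iff_nontrivial.mp (by omega)
  have h := Nat.le_of_dvd (by rw [alternatingGroup.index_eq_two]; omega) (Subgroup.index_dvd_of_le hle)
  rw [alternatingGroup.index_eq_two, hH] at h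
  omega

/-- Subgroups of index `n ≠ 6` fix a point. -/
theorem exists_fixed (h6 : Fintype.card Ω ≠ 6) {H : Subgroup (Perm Ω)} (hH : H.index = Fintype.card Ω) :
    ∃ x : Ω, H = stabilizer (Perm Ω) x := by
  classical
  set n := Fintype.card Ω with hn
  have hpos : 0 < n := by rw [← hH]; exact Nat.pos_of_ne_zero Subgroup.index_ne_zero_of_finite
  haveI : Nonempty Ω := Fintype.card_pos_iff.mp hpos
  suffices ∃ x : Ω, H ≤ stabilizer (Perm Ω) x by
    obtain ⟨x, hx⟩ := this
    refine ⟨x, le_antisymm hx ?_⟩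
    have h1 : (stabilizer (Perm Ω) x).index = n := by
      rw [index_stabilizer_of_transitive, Nat.card_eq_fintype_card]
    have h2 := Subgroup.relIndex_mul_index hx
    rw [h1, hH] at h2
    exact Subgroup.relIndex_eq_one.mp (Nat.eq_of_mul_eq_mul_right hpos (h2.trans (one_mul n).symm))
  by_cases ht : IsPretransitive H Ω
  · by_cases hn1 : n = 1
    · obtain ⟨x⟩ := (inferInstance : Nonempty Ω)
      haveI := Fintype.card_le_one_iff_subsingleton.mp hn1.le
      exact ⟨x, fun g _ => Subsingleton.elim _ _⟩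
    exfalso
    obtain ⟨x⟩ := (inferInstance : Nonempty Ω)
    have hdvd : n ∣ Nat.card H := by
      rw [← Subgroup.card_mul_index (stabilizer H x), index_stabilizer_of_transitive,
        Nat.card_eq_fintype_card (α := Ω)]
      exact dvd_mul_left n (Nat.card (stabilizer H x))
    have hmul := card_mul_eq hH
    rw [← hn] at hmul
    obtain ⟨k, hk⟩ := hdvd
    rw [hk] at hmul
    have h7 : 7 ≤ n := by
      by_contra hlt
      interval_cases n <;> simp [Nat.factorial] at hmul <;> omega
    haveI := isPreprimitive_of_index hH (by omega)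
    have hno : ∀ c ∈ H, ¬ Perm.IsSwap c := fun c hc hs => by
      have := Perm.subgroup_eq_top_of_isPreprimitive_of_isSwap_mem inferInstance c hs hc
      rw [this, Subgroup.index_top] at hH
      omega
    have hno3 : ∀ c ∈ H, ¬ Perm.IsThreeCycle c := fun c hc h3 =>
      two_mul_le_of_index hH (by omega)
        (Perm.alternatingGroup_le_of_isPreprimitive_of_isThreeCycle_mem inferInstance h3 hc)
    by_cases hdiv : 3 ∣ n
    · have h9 : 9 ≤ n := by omega
      rcases exists_swap_or_threeCycle hH h9 with ⟨c, hc, h⟩ | ⟨c, hc, h⟩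
      exacts [hno c hc h, hno3 c hc h]
    · obtain ⟨a, b, c, hab, hac, hbc⟩ := Fintype.two_lt_card_iff.mp (show 2 < Fintype.card Ω by omega)
      haveI : Fact (Nat.Prime 3) := ⟨Nat.prime_three⟩
      have h3 := Perm.isThreeCycle_swap_mul_swap_same hab hac hbc
      obtain ⟨g, hg⟩ := exists_conj_mem (p := 3) (by rwa [hH]) h3.orderOf
      refine hno3 _ hg ?_
      unfold Perm.IsThreeCycle
      rw [Perm.cycleType_conj]
      exact h3
  · have : ∃ x : Ω, ∃ y : Ω, y ∉ orbit H x := by
      by_contra hc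
      push Not at hc
      exact ht ⟨fun x y => hc x y⟩
    obtain ⟨x, y, hy⟩ := this
    set s : Finset Ω := (orbit H x).toFinset with hs
    have hmem : ∀ g ∈ H, ∀ z ∈ s, g z ∈ s := by
      intro g hg z hz
      rw [hs, Set.mem_toFinset] at hz ⊢
      obtain ⟨k, rfl⟩ := hz
      exact ⟨⟨g, hg⟩ * k, mul_smul _ _ _⟩
    have hxs : x ∈ s := by rw [hs, Set.mem_toFinset]; exact mem_orbit_self x
    have hys : y ∉ s := by rw [hs, Set.mem_toFinset]; exact hy
    have hd := choose_dvd_index hmem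
    rw [← hn, hH] at hd
    have hle := Nat.le_of_dvd hpos hd
    have hlt : s.card < n := by
      rw [hn]; exact Finset.card_lt_univ_of_notMem hys
    have h1 : 1 ≤ s.card := Finset.card_pos.mpr ⟨x, hxs⟩
    by_cases hk : s.card = 1
    · obtain ⟨z, hz⟩ := Finset.card_eq_one.mp hk
      exact ⟨z, fun g hg => Finset.mem_singleton.mp (hz ▸ hmem g hg z (by rw [hz]; exact Finset.mem_singleton_self z))⟩
    by_cases hk' : s.card + 1 = n
    · have hc : sᶜ.card = 1 := by rw [Finset.card_compl, ← hn]; omega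
      obtain ⟨z, hz⟩ := Finset.card_eq_one.mp hc
      refine ⟨z, fun g hg => ?_⟩
      have hzs : z ∉ s := Finset.mem_compl.mp (by rw [hz]; exact Finset.mem_singleton_self z)
      have : g z ∉ s := fun h => hzs (by
        have := hmem g⁻¹ (inv_mem hg) _ h
        simpa using this)
      exact Finset.mem_singleton.mp (hz ▸ Finset.mem_compl.mpr this)
    have hle2 := le_trans (choose_le_choose_inner n 2 s.card (by omega) (by omega)) hle
    have := choose_two_mul n
    have h4 : 4 ≤ n := by omega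
    nlinarith [Nat.sub_add_cancel (show 1 ≤ n by omega)]

end Cfsg.Agent.Lib.MaxSub.SymIndex
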