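import Mathlib
import Cfsg.Agent.Lib.MaxSub.SymIndex

/-!
The subgroups of index six in the symmetric group of degree six.
-/

set_option autoImplicit false

namespace Cfsg.Agent.Lib.MaxSub.SymSix

open Equiv MulAction Pointwise

/-- No point is fixed by the whole subgroup. -/
def NoFix (H : Subgroup (Perm (Fin 6))) : Prop := ∀ x : Fin 6, H ≠ stabilizer (Perm (Fin 6)) x

theorem index_stab (x : Fin 6) : (stabilizer (Perm (Fin 6)) x).index = 6 := by
  rw [index_stabilizer_of_transitive, Nat.card_eq_fintype_card, Fintype.card_fin]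

theorem eq_stab_of_le {H : Subgroup (Perm (Fin 6))} (hH : H.index = 6) {x : Fin 6}
    (h : H ≤ stabilizer (Perm (Fin 6)) x) : H = stabilizer (Perm (Fin 6)) x := by
  refine le_antisymm h (Subgroup.relIndex_eq_one.mp ?_)
  have := Subgroup.relIndex_mul_index h
  rw [index_stab, hH] at this
  omega

theorem transitive_of_noFix {H : Subgroup (Perm (Fin 6))} (hH : H.index = 6) (hn : NoFix H) :
    IsPretransitive H (Fin 6) := by
  classical
  refine ⟨fun x y => ?_⟩
  by_contra hy
  have hy' : y ∉ orbit H x := fun ⟨g, hg⟩ => hy ⟨g, hg⟩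
  set s : Finset (Fin 6) := (orbit H x).toFinset with hs
  have hmem : ∀ g ∈ H, ∀ z ∈ s, g z ∈ s := by
    intro g hg z hz
    rw [hs, Set.mem_toFinset] at hz ⊢
    obtain ⟨k, rfl⟩ := hz
    exact ⟨⟨g, hg⟩ * k, mul_smul _ _ _⟩
  have hd := SymIndex.choose_dvd_index hmem
  rw [hH, Fintype.card_fin] at hd
  have hxs : x ∈ s := by rw [hs, Set.mem_toFinset]; exact mem_orbit_self x
  have hys : y ∉ s := by rw [hs, Set.mem_toFinset]; exact hy'
  have hlt := Finset.card_lt_univ_of_notMem hys
  rw [Fintype.card_fin] at hlt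
  have h1 : 1 ≤ s.card := Finset.card_pos.mpr ⟨x, hxs⟩
  have h15 : s.card = 1 ∨ s.card = 5 := by
    interval_cases h : s.card <;> simp [Nat.choose_succ_succ] at hd <;> norm_num at hd <;> omega
  rcases h15 with hk | hk
  · obtain ⟨z, hz⟩ := Finset.card_eq_one.mp hk
    exact hn z (eq_stab_of_le hH fun g hg =>
      Finset.mem_singleton.mp (hz ▸ hmem g hg z (by rw [hz]; exact Finset.mem_singleton_self z)))
  · have hc : sᶜ.card = 1 := by rw [Finset.card_compl, Fintype.card_fin, hk]
    obtain ⟨z, hz⟩ := Finset.card_eq_one.mp hc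
    refine hn z (eq_stab_of_le hH fun g hg => ?_)
    have hzs : z ∉ s := Finset.mem_compl.mp (by rw [hz]; exact Finset.mem_singleton_self z)
    have : g z ∉ s := fun h => hzs (by
      have := hmem g⁻¹ (inv_mem hg) _ h
      simpa using this)
    exact Finset.mem_singleton.mp (hz ▸ Finset.mem_compl.mpr this)

theorem no_short {H : Subgroup (Perm (Fin 6))} (hH : H.index = 6) (hn : NoFix H) :
    (∀ c ∈ H, ¬ Perm.IsSwap c) ∧ ∀ c ∈ H, ¬ Perm.IsThreeCycle c := by
  have hH' : H.index = Fintype.card (Fin 6) := by rw [hH, Fintype.card_fin]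
  haveI := transitive_of_noFix hH hn
  haveI := SymIndex.isPreprimitive_of_index hH' (by simp)
  refine ⟨fun c hc hs => ?_, fun c hc h3 => ?_⟩
  · have := Perm.subgroup_eq_top_of_isPreprimitive_of_isSwap_mem inferInstance c hs hc
    rw [this, Subgroup.index_top] at hH
    omega
  · exact SymIndex.two_mul_le_of_index hH' (by simp)
      (Perm.alternatingGroup_le_of_isPreprimitive_of_isThreeCycle_mem inferInstance h3 hc)

/-- The standard four double transpositions. -/
def gens : Fin 4 → Perm (Fin 6) :=
  ![swap 0 1 * swap 2 3, swap 0 1 * swap 4 5, swap 0 2 * swap 1 4, swap 0 2 * swap 3 5]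

theorem map_conj_index {G : Type*} [Group G] (H : Subgroup G) (g : G) :
    (H.map (MulAut.conj g).toMonoidHom).index = H.index :=
  Subgroup.index_map_of_bijective (MulAut.conj g).bijective H

theorem mem_map_conj {G : Type*} [Group G] {H : Subgroup G} {g x : G} :
    x ∈ H.map (MulAut.conj g).toMonoidHom ↔ g⁻¹ * x * g ∈ H := by
  constructor
  · rintro ⟨y, hy, rfl⟩; simpa [mul_assoc] using hy
  · intro h; exact ⟨_, h, by simp [mul_assoc]⟩

theorem noFix_map {H : Subgroup (Perm (Fin 6))} (hH : H.index = 6) (hn : NoFix H) (g : Perm (Fin 6)) :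
    NoFix (H.map (MulAut.conj g).toMonoidHom) := by
  intro x h
  refine hn (g⁻¹ x) (eq_stab_of_le hH fun a ha => ?_)
  have : g * a * g⁻¹ ∈ stabilizer (Perm (Fin 6)) x := h ▸ ⟨a, ha, rfl⟩
  rw [mem_stabilizer_iff] at this ⊢
  show a (g⁻¹ x) = g⁻¹ x
  change g (a (g⁻¹ x)) = x at this
  exact g.injective (by rw [this]; simp)

theorem exists_conj_gens {H : Subgroup (Perm (Fin 6))} (hH : H.index = 6) (hn : NoFix H) :
    ∃ g : Perm (Fin 6), ∀ i, gens i ∈ H.map (MulAut.conj g).toMonoidHom := by
  have partner : ∀ H : Subgroup (Perm (Fin 6)), H.index = 6 → NoFix H → ∀ x y z : Fin 6,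
      x ≠ y → x ≠ z → y ≠ z → ∃ w, w ≠ x ∧ w ≠ y ∧ w ≠ z ∧ swap x w * swap y z ∈ H :=
    fun H hH hn x y z => SymIndex.exists_partner (by rw [hH, Fintype.card_fin]) (no_short hH hn).1
      (no_short hH hn).2
  have clash : ∀ H : Subgroup (Perm (Fin 6)), H.index = 6 → NoFix H → ∀ p q : Perm (Fin 6),
      p ∈ H → q ∈ H → (p * q).support.card ≠ 3 :=
    fun H hH hn p q hp hq h => (no_short hH hn).2 _ (mul_mem hp hq) (card_support_eq_three_iff.mp h)
  obtain ⟨w, hw2, hw0, hw1, hw⟩ := partner H hH hn 2 0 1 (by decide) (by decide) (by decide)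
  set g₁ : Perm (Fin 6) := swap 3 w
  set H₁ := H.map (MulAut.conj g₁).toMonoidHom with hH₁
  have hi₁ : H₁.index = 6 := by rw [hH₁, map_conj_index, hH]
  have hn₁ : NoFix H₁ := noFix_map hH hn g₁
  have h1 : gens 0 ∈ H₁ := by
    refine ⟨_, hw, ?_⟩
    show g₁ * (swap 2 w * swap 0 1) * g₁⁻¹ = gens 0
    revert hw2 hw0 hw1
    clear hw hH₁ hi₁ hn₁
    revert w
    decide +kernel
  obtain ⟨v, hv4, hv0, hv1, hv⟩ := partner H₁ hi₁ hn₁ 4 0 1 (by decide) (by decide) (by decide)
  have hv5 : v = 5 := by
    have hc := clash H₁ hi₁ hn₁ _ _ h1 hv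
    revert hv4 hv0 hv1 hc
    clear hv
    revert v
    decide +kernel
  subst hv5
  have h2 : gens 1 ∈ H₁ := by
    convert hv using 1
    decide +kernel
  obtain ⟨u, hu1, hu0, hu2, hu⟩ := partner H₁ hi₁ hn₁ 1 0 2 (by decide) (by decide) (by decide)
  have hu3 : u ≠ 3 := by
    rintro rfl
    obtain ⟨t, ht4, ht0, ht2, ht⟩ := partner H₁ hi₁ hn₁ 4 0 2 (by decide) (by decide) (by decide)
    have hc1 := clash H₁ hi₁ hn₁ _ _ hu ht
    have hc2 := clash H₁ hi₁ hn₁ _ _ h2 ht
    revert ht4 ht0 ht2 hc1 hc2
    clear ht
    revert t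
    decide +kernel
  set g₂ : Perm (Fin 6) := swap 4 u
  set H₂ := H₁.map (MulAut.conj g₂).toMonoidHom with hH₂
  have hi₂ : H₂.index = 6 := by rw [hH₂, map_conj_index, hi₁]
  have hn₂ : NoFix H₂ := noFix_map hi₁ hn₁ g₂
  have hu45 : u = 4 ∨ u = 5 := by omega
  have k1 : gens 0 ∈ H₂ := by
    refine ⟨_, h1, ?_⟩
    show g₂ * gens 0 * g₂⁻¹ = gens 0
    rcases hu45 with rfl | rfl <;> decide +kernel
  have k2 : gens 1 ∈ H₂ := by
    refine ⟨_, h2, ?_⟩
    show g₂ * gens 1 * g₂⁻¹ = gens 1
    rcases hu45 with rfl | rfl <;> decide +kernel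
  have k3 : gens 2 ∈ H₂ := by
    refine ⟨_, hu, ?_⟩
    show g₂ * (swap 1 u * swap 0 2) * g₂⁻¹ = gens 2
    rcases hu45 with rfl | rfl <;> decide +kernel
  obtain ⟨t, ht3, ht0, ht2, ht⟩ := partner H₂ hi₂ hn₂ 3 0 2 (by decide) (by decide) (by decide)
  have ht5 : t = 5 := by
    have hc := clash H₂ hi₂ hn₂ _ _ k3 ht
    revert ht3 ht0 ht2 hc
    clear ht
    revert t
    decide +kernel
  subst ht5
  have k4 : gens 3 ∈ H₂ := by
    convert ht using 1
    decide +kernel
  refine ⟨g₂ * g₁, fun i => ?_⟩
  have he : H.map (MulAut.conj (g₂ * g₁)).toMonoidHom = H₂ := by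
    rw [hH₂, hH₁, Subgroup.map_map]
    congr 1
  rw [he]
  clear he
  fin_cases i
  exacts [k1, k2, k3, k4]

/-- A subgroup of index six containing the standard elements is the normaliser of their span. -/
theorem eq_of_gens {H K : Subgroup (Perm (Fin 6))} (hH : H.index = 6) (hK : K.index = 6)
    (hHn : NoFix H) (hHg : ∀ i, gens i ∈ H) (hKg : ∀ i, gens i ∈ K) : H = K := by
  set D := Subgroup.closure (Set.range gens) with hD
  have hDH : D ≤ H := (Subgroup.closure_le _).mpr (by rintro _ ⟨i, rfl⟩; exact hHg i)
  have hDK : D ≤ K := (Subgroup.closure_le _).mpr (by rintro _ ⟨i, rfl⟩; exact hKg i)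
  have hg : ∀ i, gens i ∈ D := fun i => Subgroup.subset_closure ⟨i, rfl⟩
  have h720 : Nat.card (Perm (Fin 6)) = 720 := by
    rw [Nat.card_perm, Nat.card_eq_fintype_card, Fintype.card_fin]; rfl
  have hcard : ∀ L : Subgroup (Perm (Fin 6)), L.index = 6 → Nat.card L = 120 := by
    intro L hL
    have := L.card_mul_index
    rw [hL, h720] at this
    omega
  have h60 : 60 ∣ Nat.card D := by
    have d5 : 5 ∣ Nat.card D := by
      have ho : orderOf (gens 0 * gens 2) = 5 :=
        haveI : Fact (Nat.Prime 5) := ⟨by norm_num⟩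
        orderOf_eq_prime (by decide +kernel) (by decide +kernel)
      rw [← ho, ← Subgroup.orderOf_mk (H := D) _ (mul_mem (hg 0) (hg 2))]
      exact orderOf_dvd_natCard _
    have d3 : 3 ∣ Nat.card D := by
      have ho : orderOf (gens 1 * gens 3) = 3 :=
        haveI : Fact (Nat.Prime 3) := ⟨Nat.prime_three⟩
        orderOf_eq_prime (by decide +kernel) (by decide +kernel)
      rw [← ho, ← Subgroup.orderOf_mk (H := D) _ (mul_mem (hg 1) (hg 3))]
      exact orderOf_dvd_natCard _
    have d4 : 4 ∣ Nat.card D := by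
      let V : Subgroup (Perm (Fin 6)) :=
        { carrier := {1, gens 0, gens 1, gens 0 * gens 1}
          one_mem' := by simp
          mul_mem' := by
            rintro a b (rfl | rfl | rfl | rfl) (rfl | rfl | rfl | rfl) <;>
              simp only [Set.mem_insert_iff, Set.mem_singleton_iff] <;> decide +kernel
          inv_mem' := by
            rintro a (rfl | rfl | rfl | rfl) <;>
              simp only [Set.mem_insert_iff, Set.mem_singleton_iff] <;> decide +kernel }
      have hV : Nat.card V = 4 := by
        show ({1, gens 0, gens 1, gens 0 * gens 1} : Set (Perm (Fin 6))).ncard = 4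
        rw [show ({1, gens 0, gens 1, gens 0 * gens 1} : Set (Perm (Fin 6))) =
          (({1, gens 0, gens 1, gens 0 * gens 1} : Finset (Perm (Fin 6))) : Set (Perm (Fin 6))) by simp,
          Set.ncard_coe_finset]
        decide +kernel
      rw [← hV]
      refine Subgroup.card_dvd_of_le ?_
      rintro a (rfl | rfl | rfl | rfl)
      exacts [one_mem _, hg 0, hg 1, mul_mem (hg 0) (hg 1)]
    exact Nat.Coprime.mul_dvd_of_dvd_of_dvd (by norm_num : Nat.Coprime 20 3)
      (Nat.Coprime.mul_dvd_of_dvd_of_dvd (by norm_num : Nat.Coprime 4 5) d4 d5) d3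
  have hnorm : ∀ L : Subgroup (Perm (Fin 6)), L.index = 6 → D ≤ L →
      L ≤ Subgroup.normalizer (D : Set (Perm (Fin 6))) := by
    intro L hL hDL
    rw [← Subgroup.normal_subgroupOf_iff_le_normalizer hDL]
    have h := Subgroup.card_dvd_of_le hDL
    rw [hcard L hL] at h
    obtain ⟨k, hk⟩ := h60
    have hidx := (D.subgroupOf L).card_mul_index
    rw [Nat.card_congr (Subgroup.subgroupOfEquivOfLe hDL).toEquiv, hcard L hL, hk] at hidx
    have h2 : (D.subgroupOf L).index = 1 ∨ (D.subgroupOf L).index = 2 := by
      have hk0 : 0 < k := by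
        rcases Nat.eq_zero_or_pos k with h0 | h0
        · rw [h0] at hidx; simp at hidx
        · exact h0
      have : (D.subgroupOf L).index ≤ 2 := by nlinarith
      have : 0 < (D.subgroupOf L).index := Nat.pos_of_ne_zero Subgroup.index_ne_zero_of_finite
      omega
    rcases h2 with h1 | h2
    · rw [Subgroup.index_eq_one.mp h1]; infer_instance
    · exact Subgroup.normal_of_index_eq_two h2
  set N := Subgroup.normalizer (D : Set (Perm (Fin 6))) with hN
  have hHN := hnorm H hH hDH
  have hKN := hnorm K hK hDK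
  have hN6 : N.index = 6 := by
    have h : N.index ∣ 6 := (Subgroup.index_dvd_of_le hHN).trans (dvd_of_eq hH)
    have hle : N.index ≤ 6 := Nat.le_of_dvd (by norm_num) h
    have hne1 : N.index ≠ 1 := by
      intro h1
      rw [Subgroup.index_eq_one] at h1
      haveI hDn : D.Normal := Subgroup.normalizer_eq_top_iff.mp h1
      haveI : IsSimpleGroup (alternatingGroup (Fin 6)) := alternatingGroup.isSimpleGroup (by simp)
      rcases IsSimpleGroup.eq_bot_or_eq_top_of_normal (D.subgroupOf (alternatingGroup (Fin 6))) inferInstance with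
        hb | ht
      · have h0 : (⟨gens 0, Perm.mem_alternatingGroup.mpr (by decide +kernel)⟩ : alternatingGroup (Fin 6)) ∈ D.subgroupOf (alternatingGroup (Fin 6)) := hg 0
        rw [hb, Subgroup.mem_bot] at h0
        exact absurd (congrArg Subtype.val h0) (by decide +kernel)
      · rw [Subgroup.subgroupOf_eq_top] at ht
        have h3 : Perm.IsThreeCycle (swap (0 : Fin 6) 1 * swap 0 2) :=
          Perm.isThreeCycle_swap_mul_swap_same (by decide) (by decide) (by decide)
        exact (no_short hH hHn).2 _ (hDH (ht h3.mem_alternatingGroup)) h3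
    have hne2 : N.index ≠ 2 := by
      intro h2
      have hA := Perm.eq_alternatingGroup_of_index_eq_two h2
      have h := Subgroup.card_dvd_of_le (hA ▸ hHN : H ≤ alternatingGroup (Fin 6))
      have h' := two_mul_nat_card_alternatingGroup (α := Fin 6)
      rw [h720] at h'
      haveI : IsSimpleGroup (alternatingGroup (Fin 6)) := alternatingGroup.isSimpleGroup (by simp)
      have hle : H ≤ alternatingGroup (Fin 6) := hA ▸ hHN
      set H' := H.subgroupOf (alternatingGroup (Fin 6)) with hH'
      have hA6 : Nat.card ↥(alternatingGroup (Fin 6)) = 360 := by omega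
      have hidx : H'.index = 3 := by
        have := H'.card_mul_index
        rw [Nat.card_congr (Subgroup.subgroupOfEquivOfLe hle).toEquiv, hcard H hH, hA6] at this
        omega
      have hinj : Function.Injective (toPermHom (alternatingGroup (Fin 6)) (alternatingGroup (Fin 6) ⧸ H')) := by
        rw [← MonoidHom.ker_eq_bot_iff, ← Subgroup.normalCore_eq_ker]
        refine (IsSimpleGroup.eq_bot_or_eq_top_of_normal H'.normalCore inferInstance).resolve_right fun h => ?_
        have : H' = ⊤ := eq_top_iff.mpr (h ▸ H'.normalCore_le)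
        rw [this, Subgroup.index_top] at hidx
        omega
      have h6 := Nat.card_le_card_of_injective _ hinj
      rw [Nat.card_perm, ← Subgroup.index_eq_card, hidx, hA6] at h6
      norm_num [Nat.factorial] at h6
    have hne3 : N.index ≠ 3 := by
      intro h3
      haveI : IsSimpleGroup (alternatingGroup (Fin 6)) := alternatingGroup.isSimpleGroup (by simp)
      have hker : N.normalCore ≤ N := N.normalCore_le
      have hinj := Nat.card_congr (QuotientGroup.quotientKerEquivRange
        (toPermHom (Perm (Fin 6)) (Perm (Fin 6) ⧸ N))).toEquiv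
      rw [← Subgroup.normalCore_eq_ker, ← Subgroup.index_eq_card] at hinj
      have hle6 : N.normalCore.index ≤ 6 := by
        rw [hinj]
        refine le_trans (Subgroup.card_le_card_group _) ?_
        rw [Nat.card_perm, ← Subgroup.index_eq_card, h3]
        rfl
      rcases IsSimpleGroup.eq_bot_or_eq_top_of_normal
        (N.normalCore.subgroupOf (alternatingGroup (Fin 6))) inferInstance with hb | ht
      · have h' := two_mul_nat_card_alternatingGroup (α := Fin 6)
        rw [h720] at h'
        have hA : Nat.card (alternatingGroup (Fin 6)) = 360 := by omega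
        have := Nat.le_of_dvd (Nat.pos_of_ne_zero Subgroup.index_ne_zero_of_finite)
          (Subgroup.relIndex_dvd_index_of_normal N.normalCore (alternatingGroup (Fin 6)))
        rw [show N.normalCore.relIndex (alternatingGroup (Fin 6)) =
          (N.normalCore.subgroupOf (alternatingGroup (Fin 6))).index from rfl, hb, Subgroup.index_bot, hA] at this
        omega
      · rw [Subgroup.subgroupOf_eq_top] at ht
        have := Subgroup.index_dvd_of_le (ht.trans hker)
        rw [alternatingGroup.index_eq_two, h3] at this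
        omega
    interval_cases hh : N.index <;> omega
  have e1 : H = N := Subgroup.eq_of_le_of_card_ge hHN (by rw [hcard N hN6, hcard H hH])
  have e2 : K = N := Subgroup.eq_of_le_of_card_ge hKN (by rw [hcard N hN6, hcard K hK])
  rw [e1, e2]

theorem conj_of_noFix {H K : Subgroup (Perm (Fin 6))} (hH : H.index = 6) (hK : K.index = 6)
    (hHn : NoFix H) (hKn : NoFix K) : ∃ g : Perm (Fin 6), H.map (MulAut.conj g).toMonoidHom = K := by
  obtain ⟨g, hg⟩ := exists_conj_gens hH hHn
  obtain ⟨k, hk⟩ := exists_conj_gens hK hKn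
  have := eq_of_gens ((map_conj_index H g).trans hH) ((map_conj_index K k).trans hK) (noFix_map hH hHn g) hg hk
  refine ⟨k⁻¹ * g, ?_⟩
  ext x
  have h := SetLike.ext_iff.mp this (k * x * k⁻¹)
  rw [mem_map_conj, mem_map_conj] at h
  rw [mem_map_conj]
  simpa [mul_assoc] using h

/-- The action on the six Sylow five-subgroups. -/
theorem exists_exotic :
    ∃ ψ : Perm (Fin 5) →* Perm (Fin 6), Function.Injective ψ ∧ ψ.range.index = 6 ∧ NoFix ψ.range := by
  classical
  haveI : Fact (Nat.Prime 5) := ⟨by norm_num⟩
  have hcard : Nat.card (Sylow 5 (Perm (Fin 5))) = 6 := by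
    set G := Perm (Fin 5)
    have hG : Nat.card G = 120 := by
      rw [Nat.card_perm, Nat.card_eq_fintype_card, Fintype.card_fin]; rfl
    obtain ⟨P⟩ : Nonempty (Sylow 5 G) := inferInstance
    have hP : Nat.card P = 5 := by
      rw [P.card_eq_multiplicity, hG]
      rw [show (120 : ℕ) = 24 * 5 from rfl, Nat.factorization_mul (by norm_num) (by norm_num),
        Finsupp.add_apply, Nat.factorization_eq_zero_of_not_dvd (by norm_num),
        Nat.Prime.factorization_self (by norm_num)]
      norm_num
    have hd : Nat.card (Sylow 5 G) ∣ 24 := by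
      have h := P.card_dvd_index
      have h2 := (P : Subgroup G).card_mul_index
      rw [hP, hG] at h2
      rwa [show (P : Subgroup G).index = 24 by omega] at h
    have hmod := card_sylow_modEq_one 5 G
    have hle := Nat.le_of_dvd (by norm_num) hd
    unfold Nat.ModEq at hmod
    have hne : Nat.card (Sylow 5 G) ≠ 1 := by
      intro h1
      haveI hn : (P : Subgroup G).Normal := by
        haveI : Subsingleton (Sylow 5 G) := (Nat.card_eq_one_iff_unique.mp h1).1
        exact P.normal_of_subsingleton
      haveI : IsSimpleGroup (alternatingGroup (Fin 5)) := alternatingGroup.isSimpleGroup (by simp)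
      have hA : 2 * Nat.card (alternatingGroup (Fin 5)) = 120 := by
        rw [two_mul_nat_card_alternatingGroup]; exact hG
      have hA60 : Nat.card ↥(alternatingGroup (Fin 5)) = 60 := by omega
      rcases IsSimpleGroup.eq_bot_or_eq_top_of_normal
        ((P : Subgroup G).subgroupOf (alternatingGroup (Fin 5))) inferInstance with hb | ht
      · have hd' := (P : Subgroup G).relIndex_dvd_index_of_normal (alternatingGroup (Fin 5))
        rw [show (P : Subgroup G).relIndex (alternatingGroup (Fin 5)) =
          ((P : Subgroup G).subgroupOf (alternatingGroup (Fin 5))).index from rfl, hb, Subgroup.index_bot] at hd'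
        have h2 := (P : Subgroup G).card_mul_index
        rw [hP, hG] at h2
        have hPi : (P : Subgroup G).index = 24 := by
          have := hP
          omega
        rw [hPi] at hd'
        have := Nat.le_of_dvd (by norm_num) hd'
        erw [hA60] at this
        omega
      · rw [Subgroup.subgroupOf_eq_top] at ht
        have h5 := Subgroup.card_dvd_of_le ht
        rw [hP] at h5
        have := Nat.le_of_dvd (by norm_num) h5
        erw [hA60] at this
        omega
    interval_cases h : Nat.card (Sylow 5 G) <;> omega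
  let e : Sylow 5 (Perm (Fin 5)) ≃ Fin 6 := (Finite.equivFinOfCardEq hcard)
  let ψ : Perm (Fin 5) →* Perm (Fin 6) :=
    e.permCongrHom.toMonoidHom.comp (toPermHom (Perm (Fin 5)) (Sylow 5 (Perm (Fin 5))))
  have happ : ∀ g i, ψ g i = e (g • e.symm i) := fun g i => rfl
  have hinj : Function.Injective ψ := by
    rw [← MonoidHom.ker_eq_bot_iff]
    by_contra hne
    haveI : IsSimpleGroup (alternatingGroup (Fin 5)) := alternatingGroup.isSimpleGroup (by simp)
    have hA : alternatingGroup (Fin 5) ≤ ψ.ker := by
      rcases IsSimpleGroup.eq_bot_or_eq_top_of_normal (ψ.ker.subgroupOf (alternatingGroup (Fin 5)))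
        inferInstance with hb | ht
      · exfalso
        apply hne
        rw [eq_bot_iff]
        intro g hg
        rw [Subgroup.mem_bot]
        have hc : ∀ h : Perm (Fin 5), g * h = h * g := by
          intro h
          have hmem : g * h * g⁻¹ * h⁻¹ ∈ ψ.ker := by
            rw [mul_assoc, mul_assoc, ← mul_assoc h]
            exact mul_mem hg (ψ.normal_ker.conj_mem _ (inv_mem hg) h)
          have hs : g * h * g⁻¹ * h⁻¹ ∈ alternatingGroup (Fin 5) := by
            show Perm.sign _ = 1
            simp [mul_comm, mul_left_comm]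
          have : (⟨_, hs⟩ : alternatingGroup (Fin 5)) ∈ ψ.ker.subgroupOf (alternatingGroup (Fin 5)) := hmem
          rw [hb, Subgroup.mem_bot] at this
          have h' := congrArg Subtype.val this
          simp only [OneMemClass.coe_one] at h'
          rw [mul_inv_eq_one, mul_inv_eq_iff_eq_mul] at h'
          exact h'
        have key : ∀ g : Perm (Fin 5), (∀ i j : Fin 5, g * swap i j = swap i j * g) → g = 1 := by
          decide +kernel
        exact key g fun i j => hc _
      · exact Subgroup.subgroupOf_eq_top.mp ht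
    obtain ⟨P⟩ : Nonempty (Sylow 5 (Perm (Fin 5))) := inferInstance
    have hsub : alternatingGroup (Fin 5) ≤ stabilizer (Perm (Fin 5)) P := by
      intro g hg
      rw [mem_stabilizer_iff]
      have := congrArg (fun σ : Perm (Fin 6) => σ (e P)) (MonoidHom.mem_ker.mp (hA hg))
      simpa [happ] using this
    have h6 : (stabilizer (Perm (Fin 5)) P).index = 6 := by
      rw [index_stabilizer_of_transitive, hcard]
    have := Nat.le_of_dvd (by rw [alternatingGroup.index_eq_two]; omega) (Subgroup.index_dvd_of_le hsub)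
    rw [h6, alternatingGroup.index_eq_two] at this
    omega
  refine ⟨ψ, hinj, ?_, ?_⟩
  · have h := ψ.range.card_mul_index
    rw [← Nat.card_congr (MonoidHom.ofInjective hinj).toEquiv, Nat.card_perm, Nat.card_perm,
      Nat.card_eq_fintype_card, Nat.card_eq_fintype_card, Fintype.card_fin, Fintype.card_fin] at h
    simp [Nat.factorial] at h
    omega
  · intro x hx
    obtain ⟨y, hy⟩ := exists_ne x
    obtain ⟨g, hg⟩ := exists_smul_eq (Perm (Fin 5)) (e.symm x) (e.symm y)
    have : ψ g ∈ stabilizer (Perm (Fin 6)) x := hx ▸ ⟨g, rfl⟩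
    rw [mem_stabilizer_iff] at this
    change ψ g x = x at this
    rw [happ, hg, e.apply_symm_apply] at this
    exact hy this

end Cfsg.Agent.Lib.MaxSub.SymSix
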