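import Cfsg.Agent.Lib.MaxSub.Symplectic
import Cfsg.Agent.Lib.MaxSub.Orth
import Cfsg.Agent.Lib.Geometry.OrthNegOne
import Cfsg.Agent.Lib.QuadFin.WittIndex
import Cfsg.Prelude.Def_GeometricClasses
import Mathlib

/-!
The quadratic forms with the standard alternating form as polar form, in characteristic two.
-/

set_option autoImplicit false
set_option maxHeartbeats 1000000

namespace Cfsg.Agent.Lib.MaxSub.SympForms

open Matrix
open QuadraticMap (polarBilin)
open Cfsg.Agent.Lib.Geometry (matQuad plusMatrix)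

attribute [-simp] QuadraticMap.polarBilin_apply_apply

variable {F : Type*} [Field F] [CharP F 2] {d : ℕ}

variable (F d) in
/-- The standard alternating form. -/
noncomputable abbrev B : (Fin d ⊕ Fin d → F) →ₗ[F] (Fin d ⊕ Fin d → F) →ₗ[F] F := (stdAlt d F).B

theorem B_apply (u v : Fin d ⊕ Fin d → F) :
    B F d u v = ∑ i, (u (.inl i) * v (.inr i) + u (.inr i) * v (.inl i)) := by
  show (stdAlt d F).B u v = _
  rw [stdAlt_apply, Cfsg.sympForm]
  simp [dotProduct, Matrix.J, Matrix.mulVec, Fintype.sum_sum_type, Matrix.fromBlocks, Matrix.one_apply, CharTwo.neg_eq,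
    Finset.sum_add_distrib, CharTwo.sub_eq_add]

theorem B_comm (u v : Fin d ⊕ Fin d → F) : B F d u v = B F d v u := by
  rw [(stdAlt d F).skew, CharTwo.neg_eq]

theorem B_ext {a b : Fin d ⊕ Fin d → F} (h : ∀ v, B F d v a = B F d v b) : a = b :=
  sub_eq_zero.1 ((stdAlt d F).nondeg _ fun v => by rw [map_sub, h, sub_self])

theorem plus_add (u v : Fin d ⊕ Fin d → F) :
    Cfsg.quadFormPlus d F (u + v) = Cfsg.quadFormPlus d F u + Cfsg.quadFormPlus d F v + B F d u v := by
  simp only [Cfsg.quadFormPlus, B_apply, Pi.add_apply, ← Finset.sum_add_distrib]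
  exact Finset.sum_congr rfl fun i _ => by ring

theorem plus_smul (c : F) (v : Fin d ⊕ Fin d → F) :
    Cfsg.quadFormPlus d F (c • v) = c * c * Cfsg.quadFormPlus d F v := by
  simp only [Cfsg.quadFormPlus, Pi.smul_apply, smul_eq_mul, Finset.mul_sum]
  exact Finset.sum_congr rfl fun i _ => by ring

/-- The form attached to a vector. -/
noncomputable def QF (a : Fin d ⊕ Fin d → F) : QuadraticForm F (Fin d ⊕ Fin d → F) :=
  matQuad (plusMatrix d F) + QuadraticMap.linMulLin ((B F d).flip a) ((B F d).flip a)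

theorem QF_apply (a v : Fin d ⊕ Fin d → F) : QF a v = Cfsg.quadFormPlus d F v + B F d v a * B F d v a := by
  rw [QF, QuadraticMap.add_apply, QuadraticMap.linMulLin_apply, congrFun (Geometry.quadFormPlus_eq d) v]
  rfl

theorem QF_add (a u v : Fin d ⊕ Fin d → F) : QF a (u + v) = QF a u + QF a v + B F d u v := by
  rw [QF_apply, QF_apply, QF_apply, plus_add, map_add, LinearMap.add_apply]
  linear_combination (B F d u a * B F d v a) * (CharTwo.two_eq_zero (R := F))

theorem polar_QF (a u v : Fin d ⊕ Fin d → F) : polarBilin (QF a) u v = B F d u v := by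
  rw [QuadraticMap.polarBilin_apply_apply, QuadraticMap.polar, QF_add]
  ring

theorem QF_nondeg (a : Fin d ⊕ Fin d → F) : (polarBilin (QF a)).Nondegenerate :=
  ⟨fun u hu => (stdAlt d F).nondeg u fun v => by have := hu v; rwa [polar_QF, B_comm] at this,
    fun u hu => (stdAlt d F).nondeg u fun v => by have := hu v; rwa [polar_QF] at this⟩

theorem QF_injective {a b : Fin d ⊕ Fin d → F} (h : ∀ v, QF a v = QF b v) : a = b := by
  refine B_ext fun v => ?_
  have h1 := h v
  rw [QF_apply, QF_apply, add_right_inj] at h1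
  rcases mul_self_eq_mul_self_iff.1 h1 with h2 | h2
  · exact h2
  · rw [h2, CharTwo.neg_eq]

theorem preserves_of_QF {g : GL (Fin d ⊕ Fin d) F} {a b : Fin d ⊕ Fin d → F}
    (h : ∀ v, QF a ((g : Matrix _ _ F) *ᵥ v) = QF b v) : g ∈ Cfsg.spGL d F := by
  refine mem_spGL_iff.2 fun u v => ?_
  have h1 := QF_add a ((g : Matrix _ _ F) *ᵥ u) ((g : Matrix _ _ F) *ᵥ v)
  rw [← Matrix.mulVec_add, h, h, h, QF_add] at h1
  exact (add_left_cancel h1).symm

variable (F) in
/-- The values `t ^ 2 + t`. -/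
def P : AddSubgroup F :=
  AddMonoidHom.range
    { toFun := fun t : F => t ^ 2 + t
      map_zero' := by simp
      map_add' := fun s t => by rw [CharTwo.add_sq]; abel }

theorem mem_P {c : F} : c ∈ P F ↔ ∃ t, t ^ 2 + t = c := Iff.rfl

theorem sq_add_mem_P (c : F) : c * c + c ∈ P F := mem_P.2 ⟨c, by ring⟩

variable [Fintype F]

theorem P_index : (P F).index = 2 := by
  let f : F →+ F :=
    { toFun := fun t : F => t ^ 2 + t
      map_zero' := by simp
      map_add' := fun s t => by rw [CharTwo.add_sq]; abel }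
  have hk : Nat.card f.ker = 2 := by
    rw [Nat.card_eq_two_iff]
    refine ⟨⟨0, by simp⟩, ⟨1, by
      show (1 : F) ^ 2 + 1 = 0
      rw [one_pow, CharTwo.add_self_eq_zero]⟩, by simp, Set.eq_univ_of_forall fun x => ?_⟩
    have hx : (x : F) * ((x : F) + 1) = 0 := by
      have : (x : F) ^ 2 + x = 0 := x.2
      linear_combination this
    rcases mul_eq_zero.1 hx with h | h
    · exact Or.inl (Subtype.ext h)
    · exact Or.inr (Subtype.ext (show (x : F) = 1 from CharTwo.add_eq_zero.1 h))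
  have h1 := f.range.card_mul_index
  have h3 := f.ker.card_mul_index
  rw [AddSubgroup.index_ker, hk] at h3
  rw [← h3, Nat.mul_comm 2] at h1
  exact Nat.eq_of_mul_eq_mul_left Nat.card_pos h1

theorem add_mem_P_iff {c c' : F} : c + c' ∈ P F ↔ (c ∈ P F ↔ c' ∈ P F) := AddSubgroup.add_mem_iff_of_index_two P_index

theorem exists_notMem_P : ∃ c : F, c ∉ P F := by
  by_contra h
  push Not at h
  have := P_index (F := F)
  rw [show P F = ⊤ from eq_top_iff.2 fun x _ => h x, AddSubgroup.index_top] at this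
  exact absurd this (by norm_num)

theorem exists_sqrt (c : F) : ∃ s : F, c = s * s := FiniteField.isSquare_of_char_two (ringChar.eq F 2) c

/-- Membership of `QF a`'s class: the form is of plus type. -/
def Chi (a : Fin d ⊕ Fin d → F) : Prop := Cfsg.quadFormPlus d F a ∈ P F

/-- Two forms of the same class are isometric. -/
theorem exists_isometry {a b : Fin d ⊕ Fin d → F} (h : Chi a ↔ Chi b) :
    ∃ g ∈ Cfsg.spGL d F, ∀ v, QF a ((g : Matrix _ _ F) *ᵥ v) = QF b v := by
  set w := a + b with hw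
  have hc : QF a w ∈ P F := by
    have e : QF a w = (Cfsg.quadFormPlus d F a + Cfsg.quadFormPlus d F b) + (B F d a b * B F d a b + B F d a b) := by
      rw [QF_apply, hw, plus_add, map_add, LinearMap.add_apply, (stdAlt d F).alt, zero_add, B_comm b a]
      ring
    rw [e]
    exact (P F).add_mem (add_mem_P_iff.2 h) (sq_add_mem_P _)
  obtain ⟨t, ht⟩ := mem_P.1 hc
  obtain ⟨s, hs⟩ : ∃ s : F, s + s * s * QF a w = 1 := by
    by_cases h0 : QF a w = 0
    · exact ⟨1, by rw [h0, mul_zero, add_zero]⟩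
    · refine ⟨t / QF a w, ?_⟩
      field_simp
      linear_combination ht
  refine ⟨(stdAlt d F).trans w s, mem_spGL_iff.2 ((stdAlt d F).trans_preserves w s), fun v => ?_⟩
  rw [AltForm.trans_mulVec, QF_add, QuadraticMap.map_smul, map_smul, smul_eq_mul, smul_eq_mul, QF_apply b v]
  conv_lhs => rw [QF_apply a v]
  have hb : B F d v b = B F d v w + B F d v a := by
    rw [hw, map_add, add_comm (B F d v a), add_assoc, CharTwo.add_self_eq_zero, add_zero]
  rw [hb]
  linear_combination (B F d v w * B F d v w) * hs -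
    (B F d v w * B F d v a) * (CharTwo.two_eq_zero (R := F))

theorem plus_congr {a b : Fin d ⊕ Fin d → F} {g : GL (Fin d ⊕ Fin d) F}
    (h : ∀ v, QF a ((g : Matrix _ _ F) *ᵥ v) = QF b v) (ha : Cfsg.Geo.IsPlusTypeOn (⇑(QF a)) ⊤) :
    Cfsg.Geo.IsPlusTypeOn (⇑(QF b)) ⊤ := by
  obtain ⟨U, -, hU, hdim⟩ := ha
  refine ⟨U.map (Matrix.toLin' ((g⁻¹ : GL (Fin d ⊕ Fin d) F) : Matrix _ _ F)), le_top, ?_, ?_⟩
  · rintro _ ⟨u, hu, rfl⟩
    rw [← h, Matrix.toLin'_apply, Matrix.mulVec_mulVec, ← Units.val_mul, mul_inv_cancel, Units.val_one,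
      Matrix.one_mulVec]
    exact hU u hu
  · rw [← hdim, ← (Submodule.equivMapOfInjective _ ?_ U).finrank_eq]
    intro x y hxy
    have := congrArg (fun z => (g : Matrix (Fin d ⊕ Fin d) (Fin d ⊕ Fin d) F) *ᵥ z) hxy
    simpa [Matrix.mulVec_mulVec, ← Units.val_mul] using this

theorem isPlus_zero : Cfsg.Geo.IsPlusTypeOn (⇑(QF (0 : Fin d ⊕ Fin d → F))) ⊤ := by
  refine ⟨LinearMap.ker (LinearMap.funLeft F F (Sum.inr : Fin d → Fin d ⊕ Fin d)), le_top, fun u hu => ?_, ?_⟩
  · have h : ∀ i, u (.inr i) = 0 := fun i => congrFun (LinearMap.mem_ker.1 hu) i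
    simp [QF_apply, Cfsg.quadFormPlus, h]
  · have h1 := (LinearMap.funLeft F F (Sum.inr : Fin d → Fin d ⊕ Fin d)).finrank_range_add_finrank_ker
    rw [LinearMap.range_eq_top.2 (LinearMap.funLeft_surjective_of_injective _ _ _ Sum.inr_injective), finrank_top,
      Module.finrank_fintype_fun_eq_card, Module.finrank_fintype_fun_eq_card, Fintype.card_sum, Fintype.card_fin] at h1
    rw [finrank_top, Module.finrank_fintype_fun_eq_card, Fintype.card_sum, Fintype.card_fin]
    omega

/-- The index map identifying the elliptic form with a form `QF a`. -/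
def idx (k : ℕ) : (Fin k ⊕ Fin k) ⊕ Fin 2 → Fin (k + 1) ⊕ Fin (k + 1) :=
  Sum.elim (Sum.elim (fun i => .inl i.castSucc) (fun i => .inr i.castSucc)) ![.inr (Fin.last k), .inl (Fin.last k)]

theorem idx_surjective (k : ℕ) : Function.Surjective (idx k) := by
  rintro (i | i) <;> refine Fin.lastCases ?_ ?_ i
  · exact ⟨.inr 1, rfl⟩
  · exact fun j => ⟨.inl (.inl j), rfl⟩
  · exact ⟨.inr 0, rfl⟩
  · exact fun j => ⟨.inl (.inr j), rfl⟩

theorem idx_injective (k : ℕ) : Function.Injective (idx k) :=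
  ((Fintype.bijective_iff_surjective_and_card _).2 ⟨idx_surjective k, by
    simp only [Fintype.card_sum, Fintype.card_fin]; omega⟩).1

/-- A vector outside the plus class. -/
def minusVec (k : ℕ) (ζ : F) : Fin (k + 1) ⊕ Fin (k + 1) → F :=
  Pi.single (.inl (Fin.last k)) 1 + Pi.single (.inr (Fin.last k)) ζ

theorem plus_minusVec (k : ℕ) (ζ : F) : Cfsg.quadFormPlus (k + 1) F (minusVec k ζ) = ζ := by
  simp only [Cfsg.quadFormPlus]
  rw [Finset.sum_eq_single (Fin.last k)] <;> simp [minusVec, Pi.single_apply]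
  intro b hb h; exact absurd h hb

theorem QF_minusVec (k : ℕ) (ζ : F) (v : Fin (k + 1) ⊕ Fin (k + 1) → F) :
    QF (minusVec k ζ) v = Cfsg.quadFormMinus k F 1 (ζ * ζ) (v ∘ idx k) := by
  have hB : B F (k + 1) v (minusVec k ζ) = v (.inl (Fin.last k)) * ζ + v (.inr (Fin.last k)) := by
    rw [B_apply, Finset.sum_eq_single (Fin.last k)] <;> simp [minusVec, Pi.single_apply]
    all_goals intro b hb; simp [hb]
  rw [QF_apply, hB]
  simp only [Cfsg.quadFormPlus, Cfsg.quadFormMinus, Fin.sum_univ_castSucc, idx, Function.comp_apply, Sum.elim_inl,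
    Sum.elim_inr, Matrix.cons_val_zero, Matrix.cons_val_one]
  linear_combination (v (.inl (Fin.last k)) * ζ * v (.inr (Fin.last k))) * (CharTwo.two_eq_zero (R := F))

theorem anisotropic {ζ : F} (hζ : ζ ∉ P F) (x y : F) (h : x ^ 2 + 1 * x * y + ζ * ζ * y ^ 2 = 0) : x = 0 ∧ y = 0 := by
  by_cases hy : y = 0
  · subst hy
    exact ⟨pow_eq_zero_iff (n := 2) (by norm_num) |>.1 (by linear_combination h), rfl⟩
  · exfalso
    have h2 : ζ * ζ ∈ P F := mem_P.2 ⟨x / y, by
      field_simp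
      linear_combination h - (ζ * ζ * y ^ 2) * (CharTwo.two_eq_zero (R := F))⟩
    exact hζ (((add_mem_P_iff (c := ζ * ζ) (c' := ζ)).1 (sq_add_mem_P ζ)).1 h2)

theorem not_isPlus_minusVec (k : ℕ) {ζ : F} (hζ : ζ ∉ P F) :
    ¬ Cfsg.Geo.IsPlusTypeOn (⇑(QF (minusVec k ζ))) ⊤ := by
  rintro ⟨U, -, hU, hdim⟩
  set L : (Fin (k + 1) ⊕ Fin (k + 1) → F) →ₗ[F] ((Fin k ⊕ Fin k) ⊕ Fin 2 → F) := LinearMap.funLeft F F (idx k)
  have h1 := QuadFin.finrank_singular_minus_le 1 (ζ * ζ) (anisotropic hζ) (U.map L) (by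
    rintro _ ⟨u, hu, rfl⟩
    have := hU u hu
    rwa [QF_minusVec] at this)
  rw [← (Submodule.equivMapOfInjective L (LinearMap.funLeft_injective_of_surjective _ _ _ (idx_surjective k)) U).finrank_eq] at h1
  rw [finrank_top, Module.finrank_fintype_fun_eq_card, Fintype.card_sum, Fintype.card_fin] at hdim
  omega

theorem chi_iff_isPlus (hd : 0 < d) (a : Fin d ⊕ Fin d → F) : Chi a ↔ Cfsg.Geo.IsPlusTypeOn (⇑(QF a)) ⊤ := by
  constructor
  · intro h
    obtain ⟨g, -, hg⟩ := exists_isometry (a := (0 : Fin d ⊕ Fin d → F)) (b := a)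
      (iff_of_true (by simp [Chi, Cfsg.quadFormPlus]) h)
    exact plus_congr hg isPlus_zero
  · intro h
    by_contra hc
    obtain ⟨k, rfl⟩ : ∃ k, d = k + 1 := ⟨d - 1, by omega⟩
    obtain ⟨ζ, hζ⟩ := exists_notMem_P (F := F)
    obtain ⟨g, -, hg⟩ := exists_isometry (a := a) (b := minusVec k ζ)
      (iff_of_false hc (by rw [Chi, plus_minusVec]; exact hζ))
    exact not_isPlus_minusVec k hζ (plus_congr hg h)

/-- Additive semilinear functions are squares of linear functionals. -/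
theorem exists_sqrt_linear (D : (Fin d ⊕ Fin d → F) → F) (hadd : ∀ u v, D (u + v) = D u + D v)
    (hsmul : ∀ (c : F) v, D (c • v) = c * c * D v) : ∃ a, ∀ v, D v = B F d v a * B F d v a := by
  choose s hs using exists_sqrt (F := F)
  have hinj : ∀ x y : F, x * x = y * y → x = y := fun x y h => by
    rcases mul_self_eq_mul_self_iff.1 h with h | h
    · exact h
    · rw [h, CharTwo.neg_eq]
  let ℓ : (Fin d ⊕ Fin d → F) →ₗ[F] F :=
    { toFun := fun v => s (D v)
      map_add' := fun u v => hinj _ _ (by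
        rw [← hs, hadd]
        linear_combination hs (D u) + hs (D v) - (s (D u) * s (D v)) * (CharTwo.two_eq_zero (R := F)))
      map_smul' := fun c v => hinj _ _ (by
        rw [← hs, hsmul, RingHom.id_apply, smul_eq_mul]
        linear_combination (c * c) * hs (D v)) }
  obtain ⟨a, ha⟩ := (stdAlt d F).psi_surjective (toVec ℓ)
  refine ⟨a, fun v => ?_⟩
  have : B F d v a = s (D v) := by
    show (stdAlt d F).B v a = ℓ v
    rw [← AltForm.psi_dot, ha, toVec_dot]
  rw [this]
  exact hs (D v)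

theorem exists_rep (Q : (Fin d ⊕ Fin d → F) → F) (hsmul : ∀ (c : F) v, Q (c • v) = c * c * Q v)
    (hadd : ∀ u v, Q (u + v) = Q u + Q v + B F d u v) : ∃ a, ∀ v, Q v = QF a v := by
  obtain ⟨a, ha⟩ := exists_sqrt_linear (fun v => Q v + Cfsg.quadFormPlus d F v)
    (fun u v => by rw [hadd, plus_add]; linear_combination (B F d u v) * (CharTwo.two_eq_zero (R := F)))
    (fun c v => by rw [hsmul, plus_smul]; ring)
  refine ⟨a, fun v => ?_⟩
  rw [QF_apply, ← ha, add_comm (Q v), ← add_assoc, CharTwo.add_self_eq_zero, zero_add]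

theorem chi_congr (hd : 0 < d) {a b : Fin d ⊕ Fin d → F} {g : GL (Fin d ⊕ Fin d) F}
    (h : ∀ v, QF a ((g : Matrix _ _ F) *ᵥ v) = QF b v) : Chi a ↔ Chi b := by
  rw [chi_iff_isPlus hd, chi_iff_isPlus hd]
  refine ⟨plus_congr h, plus_congr (g := g⁻¹) fun v => ?_⟩
  rw [← h, Matrix.mulVec_mulVec, ← Units.val_mul, mul_inv_cancel, Units.val_one, Matrix.one_mulVec]

theorem exists_image (hd : 0 < d) (a : Fin d ⊕ Fin d → F) {g : GL (Fin d ⊕ Fin d) F} (hg : g ∈ Cfsg.spGL d F) :
    ∃ b, (Chi a ↔ Chi b) ∧ ∀ v, QF a ((g : Matrix (Fin d ⊕ Fin d) (Fin d ⊕ Fin d) F) *ᵥ v) = QF b v := by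
  obtain ⟨b, hb⟩ := exists_rep (fun v => QF a ((g : Matrix (Fin d ⊕ Fin d) (Fin d ⊕ Fin d) F) *ᵥ v))
    (fun c v => by rw [Matrix.mulVec_smul, QuadraticMap.map_smul, smul_eq_mul])
    (fun u v => by rw [Matrix.mulVec_add, QF_add, (mem_spGL_iff.1 hg) u v])
  exact ⟨b, chi_congr hd hb, hb⟩

end Cfsg.Agent.Lib.MaxSub.SympForms
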