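import Cfsg.Agent.S5979
import Cfsg.Agent.Lib.MaxSub.UnipotentOrth
import Cfsg.Agent.Lib.Classical.SympCard
import Cfsg.Agent.Lib.Classical.SympGroup
import Mathlib

/-!
Elements of prime order with small displacement in symplectic groups.
-/

set_option autoImplicit false

namespace Cfsg.Agent.Lib.MaxSub.SympPrimeElem

open Matrix Polynomial Module Cfsg.Agent.Lib.MaxSub
open scoped _root_.Classical

variable {F : Type*} [Field F] {d : ℕ}

theorem mem_spGL_iff_mat {x : GL (Fin d ⊕ Fin d) F} :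
    x ∈ Cfsg.spGL d F ↔ (x : Matrix (Fin d ⊕ Fin d) (Fin d ⊕ Fin d) F) ∈ Matrix.symplecticGroup (Fin d) F :=
  (Cfsg.Agent.Lib.Geometry.mem_symplecticGroup_iff_form).symm

theorem exists_gl_of_mem {X : Matrix (Fin d ⊕ Fin d) (Fin d ⊕ Fin d) F} (hX : X ∈ Matrix.symplecticGroup (Fin d) F) :
    ∃ x : GL (Fin d ⊕ Fin d) F, x ∈ Cfsg.spGL d F ∧ (x : Matrix (Fin d ⊕ Fin d) (Fin d ⊕ Fin d) F) = X := by
  have h := SymplecticGroup.symplectic_det (⟨X, hX⟩ : Matrix.symplecticGroup (Fin d) F).2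
  exact ⟨((Matrix.isUnit_iff_isUnit_det X).2 h).unit, mem_spGL_iff_mat.2 hX, rfl⟩

theorem aeval_fromBlocks {ι κ : Type} [Fintype ι] [DecidableEq ι] [Fintype κ] [DecidableEq κ]
    (A : Matrix ι ι F) (D : Matrix κ κ F) (f : F[X]) :
    aeval (Matrix.fromBlocks A 0 0 D) f = Matrix.fromBlocks (aeval A f) 0 0 (aeval D f) := by
  induction f using Polynomial.induction_on with
  | C c => rw [aeval_C, aeval_C, aeval_C, Algebra.algebraMap_eq_smul_one, Algebra.algebraMap_eq_smul_one,
      Algebra.algebraMap_eq_smul_one, ← Matrix.fromBlocks_one, Matrix.fromBlocks_smul, smul_zero, smul_zero]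
  | add f g hf hg => rw [map_add, map_add, map_add, hf, hg, Matrix.fromBlocks_add, add_zero, add_zero]
  | monomial j c ih =>
    rw [pow_succ, ← mul_assoc, map_mul, map_mul (aeval A), map_mul (aeval D), aeval_X, aeval_X, aeval_X, ih,
      Matrix.fromBlocks_multiply]
    simp

theorem rank_aeval_one {κ : Type} [Fintype κ] [DecidableEq κ] (f : F[X]) :
    (aeval (1 : Matrix κ κ F) f).rank = if f.eval 1 = 0 then 0 else Fintype.card κ := by
  rw [show (1 : Matrix κ κ F) = algebraMap F (Matrix κ κ F) 1 from (map_one _).symm, aeval_algebraMap_apply,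
    Algebra.algebraMap_eq_smul_one, coe_aeval_eq_eval]
  split_ifs with h
  · rw [h, zero_smul, Matrix.rank_zero]
  · rw [Matrix.rank_of_det_ne_zero (by rw [Matrix.det_smul, Matrix.det_one, mul_one]; exact pow_ne_zero _ h)]

/-- Symplectic maps of a smaller dimension, extended by the identity. -/
theorem exists_embed {e : ℕ} (hed : e ≤ d) {y : Matrix (Fin e ⊕ Fin e) (Fin e ⊕ Fin e) F}
    (hy : y ∈ Matrix.symplecticGroup (Fin e) F) :
    ∃ x : GL (Fin d ⊕ Fin d) F, x ∈ Cfsg.spGL d F ∧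
      (∀ r : ℕ, y ^ r = 1 → (x : Matrix (Fin d ⊕ Fin d) (Fin d ⊕ Fin d) F) ^ r = 1) ∧
      ∀ f : F[X], (aeval (x : Matrix (Fin d ⊕ Fin d) (Fin d ⊕ Fin d) F) f).rank =
        (aeval y f).rank + if f.eval 1 = 0 then 0 else 2 * (d - e) := by
  obtain ⟨k, rfl⟩ : ∃ k, d = e + k := ⟨d - e, by omega⟩
  let E : (Fin (e + k) ⊕ Fin (e + k)) ≃ (Fin e ⊕ Fin e) ⊕ (Fin k ⊕ Fin k) :=
    ((finSumFinEquiv.symm).sumCongr (finSumFinEquiv.symm)).trans (Equiv.sumSumSumComm _ _ _ _)
  let Re := Matrix.reindexAlgEquiv F F E.symm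
  have hJ : Matrix.J (Fin (e + k)) F = Re (Matrix.fromBlocks (Matrix.J (Fin e) F) 0 0 (Matrix.J (Fin k) F)) := by
    have h : ∀ a b, Matrix.J (Fin (e + k)) F (E.symm a) (E.symm b) =
        Matrix.fromBlocks (Matrix.J (Fin e) F) 0 0 (Matrix.J (Fin k) F) a b := by
      rintro ((i | i) | (i | i)) ((j | j) | (j | j)) <;>
        simp [E, Matrix.J, Matrix.one_apply, Fin.ext_iff] <;> (try omega)
    ext a b
    simpa [Re, Matrix.reindexAlgEquiv_apply] using h (E a) (E b)
  have hT : ∀ M, (Re M)ᵀ = Re Mᵀ := fun M => Matrix.transpose_reindex _ _ M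
  have hX : Re (Matrix.fromBlocks y 0 0 1) ∈ Matrix.symplecticGroup (Fin (e + k)) F := by
    rw [SymplecticGroup.mem_iff', hT, hJ, ← map_mul, ← map_mul, Matrix.fromBlocks_transpose,
      Matrix.fromBlocks_multiply, Matrix.fromBlocks_multiply]
    simp [SymplecticGroup.mem_iff'.1 hy]
  obtain ⟨x, hx, hxX⟩ := exists_gl_of_mem hX
  refine ⟨x, hx, fun r hr => ?_, fun f => ?_⟩
  · rw [hxX, ← map_pow, Matrix.fromBlocks_diagonal_pow, hr, one_pow, Matrix.fromBlocks_one, map_one]
  · rw [hxX, show aeval (Re (Matrix.fromBlocks y 0 0 1)) f = Re (aeval (Matrix.fromBlocks y 0 0 1) f) from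
      Polynomial.aeval_algHom_apply Re.toAlgHom _ f, aeval_fromBlocks]
    refine (Matrix.rank_reindex _ _ _).trans ?_
    rw [UnipotentOrth.rank_fromBlocks, rank_aeval_one, Fintype.card_sum, Fintype.card_fin,
      show k + k = 2 * (e + k - e) by omega]

section

variable [Fintype F] {p : ℕ} [Fact p.Prime] [CharP F p] {r : ℕ} [hr : Fact r.Prime]

/-- The order of `q` modulo `r` is bounded by the rank. -/
theorem order_le (hrp : r ≠ p) (hdvd : r ∣ Nat.card (Cfsg.spGL d F)) :
    orderOf ((Fintype.card F : ℕ) : ZMod r) ≤ 2 * d ∧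
      (Odd (orderOf ((Fintype.card F : ℕ) : ZMod r)) → orderOf ((Fintype.card F : ℕ) : ZMod r) ≤ d) := by
  rw [← Nat.card_congr (Cfsg.Agent.Lib.Classical.spEquivGL d F).toEquiv, Cfsg.Agent.Lib.Classical.card_sp] at hdvd
  obtain ⟨⟨n, hn⟩, -, hcard⟩ := FiniteField.card F p
  simp only [PNat.mk_coe] at hcard
  rcases (Nat.Prime.dvd_mul hr.out).1 hdvd with h | h
  · exfalso
    rw [hcard, ← pow_mul] at h
    exact hrp ((Nat.prime_dvd_prime_iff_eq hr.out Fact.out).1 (hr.out.dvd_of_dvd_pow h))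
  obtain ⟨i, hi, hdiv⟩ := (Prime.dvd_finsetProd_iff (Nat.prime_iff.1 hr.out) _).1 h
  rw [Finset.mem_range] at hi
  have hc : orderOf ((Fintype.card F : ℕ) : ZMod r) ∣ 2 * (i + 1) := by
    rw [orderOf_dvd_iff_pow_eq_one, ← sub_eq_zero, ← Nat.cast_pow, ← Nat.cast_one (R := ZMod r),
      ← Nat.cast_sub (Nat.one_le_pow _ _ Fintype.card_pos), ZMod.natCast_eq_zero_iff]
    exact hdiv
  refine ⟨(Nat.le_of_dvd (by omega) hc).trans (by omega), fun ho => ?_⟩
  exact (Nat.le_of_dvd (by omega) ((Nat.Coprime.dvd_mul_left (Nat.coprime_two_right.2 ho)).1 hc)).trans (by omega)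

omit [Fintype F] in
theorem finrank_range_matrix {ι : Type} [Fintype ι] [DecidableEq ι] (y : Matrix ι ι F) :
    (y - 1).rank + finrank F (LinearMap.ker (Matrix.toLin' y - 1)) = Fintype.card ι := by
  have h := (Matrix.toLin' (y - 1)).finrank_range_add_finrank_ker
  rw [Module.finrank_fintype_fun_eq_card] at h
  rw [show Matrix.toLin' y - 1 = Matrix.toLin' (y - 1) by rw [map_sub, Matrix.toLin'_one]; rfl]
  exact h

omit [Fintype F] in
theorem pow_toLin {ι : Type} [Fintype ι] [DecidableEq ι] {y : Matrix ι ι F} {j : ℕ} (h : y ^ j = 1) :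
    Matrix.toLin' y ^ j = 1 := by
  rw [← Matrix.toLin'_pow, h, Matrix.toLin'_one]
  rfl

/-- The displacement of a map of order `r` is a multiple of `c`. -/
theorem rank_sub_one {c : ℕ} (hc : orderOf ((Fintype.card F : ℕ) : ZMod r) = c) (hrp : r ≠ p) {ι : Type} [Fintype ι]
    [DecidableEq ι] {y : Matrix ι ι F} (hy : y ^ r = 1) : c ∣ (y - 1).rank := by
  obtain ⟨s, hs, -⟩ := PrimeElemFlags.split (PrimeElemFlags.cast_ne_zero hrp)
    (fun g hg hd' => (PrimeElemFlags.deg_eq rfl hrp g hg hd').trans hc) (pow_toLin hy)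
  rw [Module.finrank_fintype_fun_eq_card] at hs
  exact ⟨s, by have := finrank_range_matrix y; omega⟩

/-- An element of order `r` with displacement `c` when `c` is even. -/
theorem exists_even (hrp : r ≠ p) {c : ℕ} (hc : orderOf ((Fintype.card F : ℕ) : ZMod r) = c) (hev : Even c)
    (hcd : c ≤ 2 * d) :
    ∃ x : GL (Fin d ⊕ Fin d) F, x ∈ Cfsg.spGL d F ∧ (x : Matrix (Fin d ⊕ Fin d) (Fin d ⊕ Fin d) F) ^ r = 1 ∧
      ((x : Matrix (Fin d ⊕ Fin d) (Fin d ⊕ Fin d) F) - 1).rank = c := by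
  obtain ⟨e, rfl⟩ := hev
  have he : 0 < e := by
    have := PrimeElemFlags.order_pos (F := F) (r := r) (q := Fintype.card F) rfl hrp
    omega
  have hdvd : r ∣ Nat.card (Matrix.symplecticGroup (Fin e) F) := by
    rw [Cfsg.Agent.Lib.Classical.card_sp]
    refine dvd_mul_of_dvd_right (dvd_trans ?_ (Finset.dvd_prod_of_mem _ (Finset.mem_range.2 (show e - 1 < e by omega)))) _
    rw [← ZMod.natCast_eq_zero_iff, Nat.cast_sub (Nat.one_le_pow _ _ Fintype.card_pos), Nat.cast_pow, Nat.cast_one,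
      show 2 * (e - 1 + 1) = e + e by omega, ← hc, pow_orderOf_eq_one, sub_self]
  obtain ⟨y, hy⟩ := exists_prime_orderOf_dvd_card' r hdvd
  have hyr : (y : Matrix (Fin e ⊕ Fin e) (Fin e ⊕ Fin e) F) ^ r = 1 := by
    rw [← SubmonoidClass.coe_pow, ← hy, pow_orderOf_eq_one]
    rfl
  obtain ⟨x, hx, hxr, hrk⟩ := exists_embed (show e ≤ d by omega) y.2
  refine ⟨x, hx, hxr r hyr, ?_⟩
  have h1 := hrk (X - Polynomial.C 1)
  simp only [map_sub, aeval_X, aeval_C, map_one, eval_sub, eval_X, eval_one, sub_self, if_pos, add_zero] at h1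
  rw [h1]
  obtain ⟨s, hs⟩ := rank_sub_one hc hrp hyr
  have hle : ((y : Matrix (Fin e ⊕ Fin e) (Fin e ⊕ Fin e) F) - 1).rank ≤ e + e := by
    have h := Matrix.rank_le_card_width ((y : Matrix (Fin e ⊕ Fin e) (Fin e ⊕ Fin e) F) - 1)
    rwa [Fintype.card_sum, Fintype.card_fin] at h
  rcases Nat.eq_zero_or_pos s with rfl | hs0
  · exfalso
    rw [mul_zero, Matrix.rank, Submodule.finrank_eq_zero, LinearMap.range_eq_bot] at hs
    have h2 : (y : Matrix (Fin e ⊕ Fin e) (Fin e ⊕ Fin e) F) - 1 = 0 :=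
      Matrix.toLin'.injective (hs.trans (map_zero Matrix.toLin').symm)
    rw [show y = 1 from Subtype.ext (sub_eq_zero.1 h2), orderOf_one] at hy
    exact hr.out.one_lt.ne hy
  · have := Nat.le_mul_of_pos_right (e + e) hs0
    omega

/-- An element of order `r` with a block of odd degree `c` and its dual. -/
theorem exists_odd (hrp : r ≠ p) {c : ℕ} (hc : orderOf ((Fintype.card F : ℕ) : ZMod r) = c) (hodd : Odd c)
    (hc1 : c ≠ 1) (hcd : c ≤ d) :
    ∃ (x : GL (Fin d ⊕ Fin d) F) (g : F[X]), x ∈ Cfsg.spGL d F ∧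
      (x : Matrix (Fin d ⊕ Fin d) (Fin d ⊕ Fin d) F) ^ r = 1 ∧
      ((x : Matrix (Fin d ⊕ Fin d) (Fin d ⊕ Fin d) F) - 1).rank = 2 * c ∧ Irreducible g ∧ g.natDegree = c ∧
      g ∣ cyclotomic r F ∧ (aeval (x : Matrix (Fin d ⊕ Fin d) (Fin d ⊕ Fin d) F) g).rank = 2 * d - c := by
  obtain ⟨y, g, -, hyr, -, hy1, hg, hgc, hgd, hgr⟩ := Cfsg.Agent.S5979.bad_block (F := F) (p := p) (n := c) hrp hc hc1 le_rfl
  rw [one_smul] at hy1
  set A : Matrix (Fin c) (Fin c) F := (y : Matrix (Fin c) (Fin c) F) with hA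
  set A' : Matrix (Fin c) (Fin c) F := ((y⁻¹ : GL (Fin c) F) : Matrix (Fin c) (Fin c) F) with hA'
  have hAA : A' * A = 1 := Units.inv_mul y
  have hAA' : A * A' = 1 := Units.mul_inv y
  have hgA : aeval A g = 0 := by
    rw [Nat.sub_self, Matrix.rank, Submodule.finrank_eq_zero, LinearMap.range_eq_bot] at hgr
    exact Matrix.toLin'.injective (hgr.trans (map_zero Matrix.toLin').symm)
  have hgi : (aeval A' g).det ≠ 0 := by
    have : Fact (Irreducible g) := ⟨hg⟩
    have : FiniteDimensional F (AdjoinRoot g) := (AdjoinRoot.powerBasis hg.ne_zero).finite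
    have : Finite (AdjoinRoot g) := Module.finite_of_finite F
    have hfr : finrank F (AdjoinRoot g) = c := by
      rw [(AdjoinRoot.powerBasis hg.ne_zero).finrank, AdjoinRoot.powerBasis_dim, hgc]
    set α : AdjoinRoot g := AdjoinRoot.root g
    have hα : α ^ r = 1 := by
      have h := congrArg (aeval α) (cyclotomic_prime_mul_X_sub_one F r)
      obtain ⟨Q, hQ⟩ := hgd
      rw [map_mul, hQ, map_mul, AdjoinRoot.aeval_eq, AdjoinRoot.mk_self, zero_mul, zero_mul, map_sub, map_pow, aeval_X,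
        map_one] at h
      exact sub_eq_zero.1 h.symm
    have hφi : A ^ (r - 1) = A' := by
      refine (left_inv_eq_right_inv hAA ?_).symm
      rw [← pow_succ', Nat.sub_add_cancel hr.out.one_lt.le, hA]
      exact hyr
    have hne : aeval (α ^ (r - 1)) g ≠ 0 := by
      intro h0
      let σ : AdjoinRoot g →ₐ[F] AdjoinRoot g := AdjoinRoot.liftAlgHom g (Algebra.ofId F (AdjoinRoot g)) (α ^ (r - 1)) h0
      let s : AdjoinRoot g ≃ₐ[F] AdjoinRoot g := AlgEquiv.ofBijective σ
        ⟨σ.toRingHom.injective, Finite.injective_iff_surjective.1 σ.toRingHom.injective⟩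
      have hsα : s α = α ^ (r - 1) := AdjoinRoot.liftAlgHom_root g (Algebra.ofId F (AdjoinRoot g)) _ h0
      have hext : ∀ u : AdjoinRoot g ≃ₐ[F] AdjoinRoot g, u α = α → u = 1 := fun u hu => by
        have h' : u.toAlgHom = AlgHom.id F (AdjoinRoot g) := AdjoinRoot.algHom_ext hu
        exact AlgEquiv.ext fun x => AlgHom.congr_fun h' x
      have hrr : α ^ ((r - 1) * (r - 1)) = α := by
        obtain ⟨m, hm⟩ := Nat.exists_eq_add_of_le hr.out.two_le
        have e : (r - 1) * (r - 1) = r * m + 1 := by subst hm; rw [show 2 + m - 1 = m + 1 by omega]; ring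
        rw [e, pow_succ, pow_mul, hα, one_pow, one_mul]
      have hs2 : s ^ 2 = 1 := hext _ (by rw [pow_two, AlgEquiv.mul_apply, hsα, map_pow, hsα, ← pow_mul, hrr])
      have hs1 : s = 1 := by
        rw [← orderOf_eq_one_iff]
        refine Nat.eq_one_of_dvd_coprimes (Nat.coprime_two_left.2 hodd) (orderOf_dvd_of_pow_eq_one hs2) ?_
        rw [← hfr, ← IsGalois.card_aut_eq_finrank F (AdjoinRoot g)]
        exact orderOf_dvd_natCard s
      have hα2 : α ^ 2 = 1 := by
        rw [hs1, AlgEquiv.one_apply] at hsα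
        calc α ^ 2 = α * α ^ (r - 1) := by rw [← hsα, pow_two]
          _ = 1 := by rw [← pow_succ', Nat.sub_add_cancel hr.out.one_lt.le, hα]
      have hr2 : r ≠ 2 := fun e => by
        subst e
        apply hc1
        rw [← hc, orderOf_eq_one_iff]
        have h2 : Fintype.card F % 2 = 1 := by
          obtain ⟨⟨n, hn⟩, -, hcard⟩ := FiniteField.card F p
          simp only [PNat.mk_coe] at hcard
          rw [hcard]
          exact Nat.odd_iff.1 (((Nat.Prime.odd_of_ne_two Fact.out (fun e => hrp e.symm)).pow (n := n)))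
        rw [← ZMod.natCast_mod, h2, Nat.cast_one]
      have hα1 : α = 1 := by
        have := pow_gcd_eq_one.2 ⟨hα2, hα⟩
        rwa [(Nat.coprime_primes Nat.prime_two hr.out).2 (fun e => hr2 e.symm), pow_one] at this
      have hroot : IsRoot g 1 := by
        have h := AdjoinRoot.eval₂_root g
        rw [show AdjoinRoot.root g = algebraMap F (AdjoinRoot g) 1 by rw [map_one]; exact hα1,
          ← AdjoinRoot.algebraMap_eq, eval₂_at_apply] at h
        exact (map_eq_zero _).1 h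
      have h1 := natDegree_eq_of_degree_eq (degree_eq_degree_of_associated
        ((irreducible_X_sub_C (1 : F)).associated_of_dvd hg (dvd_iff_isRoot.2 hroot)))
      rw [natDegree_X_sub_C, hgc] at h1
      exact hc1 h1.symm
    obtain ⟨u, v, huv⟩ := hg.coprime_iff_not_dvd.2 (fun hd' : g ∣ g.comp (X ^ (r - 1)) => hne (by
      obtain ⟨Q, hQ⟩ := hd'
      have h := congrArg (aeval α) hQ
      rwa [aeval_comp, map_pow, aeval_X, map_mul, AdjoinRoot.aeval_eq, AdjoinRoot.mk_self, zero_mul] at h))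
    have h := congrArg (aeval A) huv
    rw [map_add, map_mul, map_mul, hgA, mul_zero, zero_add, aeval_comp, map_pow, aeval_X, hφi, map_one] at h
    exact fun h0 => one_ne_zero (α := F) (by
      have h' := congrArg Matrix.det h
      rwa [Matrix.det_mul, h0, mul_zero, Matrix.det_one, eq_comm] at h')
  let Y : Matrix (Fin c ⊕ Fin c) (Fin c ⊕ Fin c) F := Matrix.fromBlocks A 0 0 A'ᵀ
  have hY : Y ∈ Matrix.symplecticGroup (Fin c) F := by
    rw [SymplecticGroup.mem_iff', Matrix.fromBlocks_transpose, Matrix.J, Matrix.fromBlocks_multiply,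
      Matrix.fromBlocks_multiply]
    simp [← Matrix.transpose_mul, hAA]
  have hA'r : A' ^ r = 1 := by
    rw [hA', ← Units.val_pow_eq_pow_val, inv_pow, show y ^ r = 1 from Units.ext hyr, inv_one, Units.val_one]
  have hYr : Y ^ r = 1 := by
    rw [Matrix.fromBlocks_diagonal_pow, ← Matrix.transpose_pow, hA'r, hA, hyr, Matrix.transpose_one, Matrix.fromBlocks_one]
  obtain ⟨x, hx, hxr, hrk⟩ := exists_embed hcd hY
  refine ⟨x, g, hx, hxr r hYr, ?_, hg, hgc, hgd, ?_⟩
  · have h1 := hrk (X - Polynomial.C 1)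
    simp only [map_sub, aeval_X, aeval_C, map_one, eval_sub, eval_X, eval_one, sub_self, if_pos, add_zero] at h1
    have e : Y - 1 = Matrix.fromBlocks (A - 1) 0 0 (A'ᵀ - 1) := by
      ext (i | i) (j | j) <;> simp [Y, Matrix.one_apply, Matrix.fromBlocks]
    have h3 : (A' - 1).rank = c := by
      rw [show A' - 1 = -(A' * (A - 1)) by rw [mul_sub, hAA, mul_one, neg_sub], ← neg_mul,
        Matrix.rank_mul_eq_right_of_isUnit_det, hy1]
      rw [← Matrix.isUnit_iff_isUnit_det, IsUnit.neg_iff]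
      exact Units.isUnit _
    rw [h1, e, UnipotentOrth.rank_fromBlocks, hy1, show A'ᵀ - 1 = (A' - 1)ᵀ by rw [Matrix.transpose_sub, Matrix.transpose_one],
      Matrix.rank_transpose, h3, two_mul]
  · have hg1 : g.eval 1 ≠ 0 := fun h0 => by
      have h1 := natDegree_eq_of_degree_eq (degree_eq_degree_of_associated
        ((irreducible_X_sub_C (1 : F)).associated_of_dvd hg (dvd_iff_isRoot.2 h0)))
      rw [natDegree_X_sub_C, hgc] at h1
      exact hc1 h1.symm
    have hT : aeval A'ᵀ g = (aeval A' g)ᵀ := by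
      clear hgc hgd hgr hgA hgi hg1 hg hrk
      induction g using Polynomial.induction_on with
      | C a => rw [aeval_C, aeval_C, Algebra.algebraMap_eq_smul_one, Matrix.transpose_smul, Matrix.transpose_one]
      | add f g hf hg => rw [map_add, map_add, hf, hg, Matrix.transpose_add]
      | monomial j a ih =>
        rw [map_mul, map_mul, aeval_C, aeval_C, map_pow, map_pow, aeval_X, aeval_X, Algebra.algebraMap_eq_smul_one,
          smul_mul_assoc, one_mul, smul_mul_assoc, one_mul, Matrix.transpose_smul, Matrix.transpose_pow]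
    rw [hrk g, if_neg hg1, aeval_fromBlocks, UnipotentOrth.rank_fromBlocks, hgA, Matrix.rank_zero, hT, Matrix.rank_transpose,
      Matrix.rank_of_det_ne_zero hgi, Fintype.card_fin]
    omega

end

end Cfsg.Agent.Lib.MaxSub.SympPrimeElem
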