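import Cfsg.Agent.Lib.MaxSub.Symplectic
import Cfsg.Agent.Lib.MaxSub.Subfield

/-!
Symplectic transvections and short root elements relative to a rational structure over a subfield of prime index:
a subgroup containing the rational transvections and one irrational parameter contains all transvections.
-/

set_option autoImplicit false

namespace Cfsg.Agent.Lib.MaxSub

open Matrix
open scoped MatrixGroups Matrix

namespace AltForm

variable {ι : Type} [Fintype ι] [DecidableEq ι] {F : Type*} [Field F] (f : AltForm ι F)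

theorem Preserves.mul {f : AltForm ι F} {g g' : GL ι F} (hg : f.Preserves g) (hg' : f.Preserves g') :
    f.Preserves (g * g') := fun u v => by
  rw [Units.val_mul, ← Matrix.mulVec_mulVec, ← Matrix.mulVec_mulVec, hg, hg']

/-- The short root element `x ↦ x + c (B(x,u) v + B(x,v) u)`, for orthogonal `u` and `v`. -/
def sh (u v : ι → F) (c : F) : GL ι F := f.trans (u + v) c * f.trans u (-c) * f.trans v (-c)

theorem sh_preserves (u v : ι → F) (c : F) : f.Preserves (f.sh u v c) :=
  ((f.trans_preserves _ _).mul (f.trans_preserves _ _)).mul (f.trans_preserves _ _)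

theorem sh_mulVec {u v : ι → F} (h : f.B u v = 0) (c : F) (x : ι → F) :
    (f.sh u v c : Matrix ι ι F) *ᵥ x = x + (c * f.B x u) • v + (c * f.B x v) • u := by
  have h' : f.B v u = 0 := by rw [f.skew, h, neg_zero]
  rw [sh, Units.val_mul, Units.val_mul, ← Matrix.mulVec_mulVec, ← Matrix.mulVec_mulVec, trans_mulVec,
    trans_mulVec, trans_mulVec]
  simp only [map_add, map_smul, LinearMap.add_apply, LinearMap.smul_apply, h, h', f.alt, smul_eq_mul,
    mul_zero, add_zero]
  module

theorem conj_sh {g : GL ι F} (hg : f.Preserves g) (u v : ι → F) (c : F) :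
    g * f.sh u v c * g⁻¹ = f.sh ((g : Matrix ι ι F) *ᵥ u) ((g : Matrix ι ι F) *ᵥ v) c := by
  rw [sh, sh, ← Matrix.mulVec_add, ← f.conj_trans hg, ← f.conj_trans hg, ← f.conj_trans hg]
  simp only [mul_assoc, inv_mul_cancel_left]

theorem sh_inv {u v : ι → F} (h : f.B u v = 0) (c : F) : (f.sh u v c)⁻¹ = f.sh u v (-c) := by
  refine inv_eq_of_mul_eq_one_right (Units.ext (eq_of_mulVec_eq fun x => ?_))
  have h' : f.B v u = 0 := by rw [f.skew, h, neg_zero]
  rw [Units.val_mul, ← Matrix.mulVec_mulVec, f.sh_mulVec h, f.sh_mulVec h, Units.val_one, Matrix.one_mulVec]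
  simp only [map_add, map_smul, LinearMap.add_apply, LinearMap.smul_apply, h, h', f.alt, smul_eq_mul,
    mul_zero, add_zero]
  module

theorem trans_inv (w : ι → F) (c : F) : (f.trans w c)⁻¹ = f.trans w (-c) := by
  refine inv_eq_of_mul_eq_one_right (Units.ext (eq_of_mulVec_eq fun x => ?_))
  rw [Units.val_mul, ← Matrix.mulVec_mulVec, trans_mulVec, trans_mulVec, Units.val_one, Matrix.one_mulVec]
  simp only [map_add, map_smul, LinearMap.add_apply, LinearMap.smul_apply, f.alt, smul_eq_mul, mul_zero,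
    add_zero]
  module

/-- The basic product formula for two short root elements sharing a vector. -/
theorem sh_mul_sh {u u' v : ι → F} (hu : f.B u v = 0) (hu' : f.B u' v = 0) (c : F) :
    f.sh u v c * f.sh u' v (-c) = f.sh (u - u') v c * f.trans v (-(c * c * f.B u' u)) := by
  refine Units.ext (eq_of_mulVec_eq fun x => ?_)
  have hd : f.B (u - u') v = 0 := by rw [map_sub, LinearMap.sub_apply, hu, hu', sub_zero]
  have h1 : f.B v u = 0 := by rw [f.skew, hu, neg_zero]
  have h2 : f.B v u' = 0 := by rw [f.skew, hu', neg_zero]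
  rw [Units.val_mul, Units.val_mul, ← Matrix.mulVec_mulVec, ← Matrix.mulVec_mulVec, f.sh_mulVec hu,
    f.sh_mulVec hu', f.sh_mulVec hd, trans_mulVec]
  simp only [map_add, map_sub, map_smul, LinearMap.add_apply, LinearMap.sub_apply, LinearMap.smul_apply, hu, hu', h1, h2,
    f.alt, smul_eq_mul, mul_zero, add_zero, sub_zero, smul_sub, sub_smul, mul_sub]
  module

theorem sh_trans_mul {u v : ι → F} (hu : f.B u v = 0) (c κ : F) :
    f.sh u v c * f.trans v κ * (f.sh (-u) v c * f.trans v κ)⁻¹ = f.sh u v (2 * c) := by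
  have hn : f.B (-u) v = 0 := by rw [map_neg, LinearMap.neg_apply, hu, neg_zero]
  rw [mul_inv_eq_iff_eq_mul]
  refine Units.ext (eq_of_mulVec_eq fun x => ?_)
  have h1 : f.B v u = 0 := by rw [f.skew, hu, neg_zero]
  simp only [Units.val_mul, ← Matrix.mulVec_mulVec, f.sh_mulVec hu, f.sh_mulVec hn, trans_mulVec,
    map_add, map_neg, map_smul, LinearMap.add_apply, LinearMap.neg_apply, LinearMap.smul_apply, hu, h1,
    f.alt, smul_eq_mul, mul_zero, neg_zero, add_zero, smul_neg, mul_neg, neg_smul]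
  module

end AltForm

/-- A rational structure over a subfield. -/
structure RatSymp {ι : Type} [Fintype ι] [DecidableEq ι] {F : Type*} [Field F] (f : AltForm ι F) where
  F₀ : Subfield F
  P : GL ι F
  ζ : F
  hζ : ζ ≠ 0
  rat : ∀ x y, RatVec F₀ P x → RatVec F₀ P y → ζ * f.B x y ∈ F₀

namespace RatSymp

variable {ι : Type} [Fintype ι] [DecidableEq ι] {F : Type*} [Field F] {f : AltForm ι F} (R : RatSymp f)

/-- Rationality of a vector. -/
abbrev Rat (x : ι → F) : Prop := RatVec R.F₀ R.P x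

/-- The value of the normalised form. -/
def ell (x y : ι → F) : F := R.ζ * f.B x y

/-- The coordinatewise image of a vector under an `F₀`-linear functional of `F`. -/
def proj (φ : F →ₗ[R.F₀] R.F₀) (z : ι → F) : ι → F :=
  (R.P : Matrix ι ι F) *ᵥ fun i => (φ ((((R.P⁻¹ : GL ι F) : Matrix ι ι F) *ᵥ z) i) : F)

theorem proj_rat (φ : F →ₗ[R.F₀] R.F₀) (z : ι → F) : R.Rat (R.proj φ z) :=
  (ratVec_mulVec _).mpr fun i => (φ _).2

theorem ell_proj (φ : F →ₗ[R.F₀] R.F₀) {s : ι → F} (hs : R.Rat s) (z : ι → F) :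
    R.ell s (R.proj φ z) = (φ (R.ell s z) : F) := by
  set z' : ι → F := ((R.P⁻¹ : GL ι F) : Matrix ι ι F) *ᵥ z with hz'
  have hz : z = (R.P : Matrix ι ι F) *ᵥ z' := by
    rw [hz', Matrix.mulVec_mulVec, ← Units.val_mul, mul_inv_cancel, Units.val_one, Matrix.one_mulVec]
  have hexp : ∀ u : ι → F, R.ell s ((R.P : Matrix ι ι F) *ᵥ u) =
      ∑ i, u i * R.ell s ((R.P : Matrix ι ι F) *ᵥ Pi.single i 1) := fun u => by
    conv_lhs => rw [pi_eq_sum_univ' u]
    rw [Matrix.mulVec_sum, ell, map_sum, Finset.mul_sum]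
    refine Finset.sum_congr rfl fun i _ => ?_
    rw [Matrix.mulVec_smul, map_smul, smul_eq_mul, ell]
    ring
  have hc : ∀ i, R.ell s ((R.P : Matrix ι ι F) *ᵥ Pi.single i 1) ∈ R.F₀ := fun i =>
    R.rat _ _ hs ((ratVec_mulVec _).mpr fun k => by
      rw [Pi.single_apply]; split_ifs; exacts [R.F₀.one_mem, R.F₀.zero_mem])
  rw [proj, ← hz', hexp, hz, hexp, map_sum, AddSubmonoidClass.coe_finsetSum]
  refine Finset.sum_congr rfl fun i _ => ?_
  rw [show z' i * R.ell s ((R.P : Matrix ι ι F) *ᵥ Pi.single i 1) = (⟨_, hc i⟩ : R.F₀) • z' i from mul_comm _ _,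
    map_smul]
  exact mul_comm _ _

/-- Vectors orthogonal to a set of rational vectors are combinations of such rational vectors. -/
theorem mem_span_rat_perp [Finite F] (S : Set (ι → F)) (hS : ∀ s ∈ S, R.Rat s) {z : ι → F}
    (hz : ∀ s ∈ S, f.B s z = 0) : z ∈ Submodule.span F {r | R.Rat r ∧ ∀ s ∈ S, f.B s r = 0} := by
  set b := Module.finBasis R.F₀ F
  have hsum : z = ∑ j, b j • R.proj (b.coord j) z := by
    have h : ∀ x : F, x = ∑ j, b j * (b.coord j x : F) := fun x => by
      conv_lhs => rw [← b.sum_repr x]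
      exact Finset.sum_congr rfl fun j _ => mul_comm _ _
    have h2 : ((R.P⁻¹ : GL ι F) : Matrix ι ι F) *ᵥ z = ∑ j, b j • fun i => (b.coord j ((((R.P⁻¹ : GL ι F) : Matrix ι ι F) *ᵥ z) i) : F) :=
      funext fun i => by rw [Finset.sum_apply]; exact h _
    have h3 := congrArg ((R.P : Matrix ι ι F) *ᵥ ·) h2
    simp only [Matrix.mulVec_sum, Matrix.mulVec_smul, Matrix.mulVec_mulVec, ← Units.val_mul, mul_inv_cancel,
      Units.val_one, Matrix.one_mulVec] at h3
    exact h3
  rw [hsum]
  refine Submodule.sum_mem _ fun j _ => Submodule.smul_mem _ _ (Submodule.subset_span ⟨R.proj_rat _ _, fun s hs => ?_⟩)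
  have := R.ell_proj (b.coord j) (hS s hs) z
  rw [ell, ell, hz s hs, mul_zero, map_zero, ZeroMemClass.coe_zero] at this
  exact (mul_eq_zero.mp this).resolve_left R.hζ

/-- A rational vector outside `W` orthogonal to a small set of rational vectors. -/
theorem exists_rat_perp [Finite F] (s : Finset (ι → F)) (hs : ∀ x ∈ s, R.Rat x) (W : Submodule F (ι → F))
    (hW : Module.finrank F W + s.card < Fintype.card ι) :
    ∃ r, R.Rat r ∧ (∀ x ∈ s, f.B x r = 0) ∧ r ∉ W := by
  by_contra h
  push Not at h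
  let T : (ι → F) →ₗ[F] (s → F) := LinearMap.pi fun x => f.B x.1
  have hle : LinearMap.ker T ≤ W := fun z hz => by
    refine Submodule.span_le.mpr ?_ (R.mem_span_rat_perp (↑s) hs (z := z) fun x hx =>
      congrFun (LinearMap.mem_ker.mp hz) ⟨x, hx⟩)
    exact fun r hr => h r hr.1 hr.2
  have h1 := Submodule.finrank_mono hle
  have h2 := T.finrank_range_add_finrank_ker
  have h3 : Module.finrank F (LinearMap.range T) ≤ s.card := (Submodule.finrank_le _).trans (by simp)
  rw [Module.finrank_fintype_fun_eq_card] at h2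
  omega

/-- A rational dual vector. -/
theorem exists_rat_dual [Finite F] (s : Finset (ι → F)) (hs : ∀ x ∈ s, R.Rat x) {y : ι → F} (hy : R.Rat y)
    (hys : y ∉ Submodule.span F (s : Set (ι → F))) :
    ∃ r, R.Rat r ∧ (∀ x ∈ s, f.B x r = 0) ∧ R.ell y r = 1 := by
  obtain ⟨z, hz, hzy⟩ := f.exists_perp_eq_one _ hys
  have hspan := R.mem_span_rat_perp (↑s) hs (z := z) fun x hx => by
    rw [f.skew, f.mem_perp' hz (Submodule.subset_span hx), neg_zero]
  by_contra h
  push Not at h
  have hall : ∀ r ∈ {r | R.Rat r ∧ ∀ x ∈ (s : Set (ι → F)), f.B x r = 0}, f.B y r = 0 := by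
    rintro r ⟨hr, hrs⟩
    by_contra hne
    have hl : R.ell y r ≠ 0 := mul_ne_zero R.hζ hne
    refine h ((R.ell y r)⁻¹ • r) (hr.smul (R.F₀.inv_mem (R.rat y r hy hr))) (fun x hx => ?_) ?_
    · rw [map_smul, hrs x hx, smul_zero]
    · rw [ell, map_smul, smul_eq_mul, ← mul_assoc, mul_comm R.ζ, mul_assoc]
      exact inv_mul_cancel₀ hl
  have h0 : f.B y z = 0 := by
    have : Submodule.span F {r | R.Rat r ∧ ∀ x ∈ (s : Set (ι → F)), f.B x r = 0} ≤ LinearMap.ker (f.B y) :=
      Submodule.span_le.mpr hall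
    exact this hspan
  rw [h0] at hzy
  exact zero_ne_one hzy

/-- The rational transvection. -/
theorem trans_rat {v x : ι → F} {c : F} (hv : R.Rat v) (hc : c ∈ R.F₀) (hx : R.Rat x) :
    R.Rat ((f.trans v (R.ζ * c) : Matrix ι ι F) *ᵥ x) := by
  rw [AltForm.trans_mulVec]
  refine hx.add (hv.smul ?_)
  rw [show R.ζ * c * f.B x v = c * (R.ζ * f.B x v) by ring]
  exact R.F₀.mul_mem hc (R.rat x v hx hv)

variable (K : Subgroup (GL ι F))

/-- `K` contains the rational transvections. -/
def Base : Prop := ∀ v c, R.Rat v → c ∈ R.F₀ → f.trans v (R.ζ * c) ∈ K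

/-- Parameters of long root elements. -/
def LongP (l : F) : Prop := ∀ v, R.Rat v → f.trans v (R.ζ * l) ∈ K

/-- Parameters of short root elements. -/
def ShortP (s : F) : Prop :=
  ∀ u v, R.Rat u → R.Rat v → f.B u v = 0 → f.sh u v (R.ζ * s) ∈ K

variable {R K}

theorem Base.sh_mem (hK : R.Base K) {u v : ι → F} (hu : R.Rat u) (hv : R.Rat v) {c : F} (hc : c ∈ R.F₀) :
    f.sh u v (R.ζ * c) ∈ K := by
  rw [AltForm.sh, ← mul_neg]
  exact K.mul_mem (K.mul_mem (hK _ _ (hu.add hv) hc) (hK _ _ hu (R.F₀.neg_mem hc))) (hK _ _ hv (R.F₀.neg_mem hc))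

theorem conj_mem {g h : GL ι F} (hg : g ∈ K) (hh : h ∈ K) : g * h * g⁻¹ ∈ K :=
  K.mul_mem (K.mul_mem hg hh) (K.inv_mem hg)

variable [Finite F]

/-- Rational transvections move one orthogonal pair to any other. -/
theorem Base.pair_move (hK : R.Base K) {x y x' y' : ι → F} (hx : R.Rat x) (hy : R.Rat y) (hx' : R.Rat x')
    (hy' : R.Rat y') (hx0 : x ≠ 0) (hx0' : x' ≠ 0) (hyx : y ∉ F ∙ x) (hyx' : y' ∉ F ∙ x')
    (hxy : f.B x y = 0) (hxy' : f.B x' y' = 0) :
    ∃ g ∈ K, f.Preserves g ∧ (g : Matrix ι ι F) *ᵥ x = x' ∧ (g : Matrix ι ι F) *ᵥ y = y' := by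
  classical
  have step : ∀ a b, R.Rat a → R.Rat b → f.B a b ≠ 0 → ∃ g ∈ K, f.Preserves g ∧
      (∀ z, R.Rat z → R.Rat ((g : Matrix ι ι F) *ᵥ z)) ∧ (g : Matrix ι ι F) *ᵥ a = b ∧
      ∀ z, f.B z (b - a) = 0 → (g : Matrix ι ι F) *ᵥ z = z := by
    intro a b ha hb hab
    have hl : (R.ell a b)⁻¹ ∈ R.F₀ := R.F₀.inv_mem (R.rat a b ha hb)
    refine ⟨f.trans (b - a) (R.ζ * (R.ell a b)⁻¹), hK _ _ (hb.sub ha) hl, f.trans_preserves _ _,
      fun z hz => R.trans_rat (hb.sub ha) hl hz, ?_, fun z hz => ?_⟩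
    · rw [AltForm.trans_mulVec, map_sub, f.alt, sub_zero,
        show R.ζ * (R.ell a b)⁻¹ * f.B a b = 1 by rw [ell]; field_simp [R.hζ], one_smul, add_sub_cancel]
    · rw [AltForm.trans_mulVec, hz, mul_zero, zero_smul, add_zero]
  have hcommon : ∀ a b p q : ι → F, R.Rat p → R.Rat q → f.B a p ≠ 0 → f.B b q ≠ 0 →
      ∃ r, (r = p ∨ r = q ∨ r = p + q) ∧ R.Rat r ∧ f.B a r ≠ 0 ∧ f.B b r ≠ 0 := by
    intro a b p q hp hq hap hbq
    by_cases h1 : f.B b p = 0
    · by_cases h2 : f.B a q = 0
      · exact ⟨p + q, Or.inr (Or.inr rfl), hp.add hq, by rwa [map_add, h2, add_zero],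
          by rwa [map_add, h1, zero_add]⟩
      · exact ⟨q, Or.inr (Or.inl rfl), hq, h2, hbq⟩
    · exact ⟨p, Or.inl rfl, hp, hap, h1⟩
  have hne : ∀ {a b : ι → F}, R.ell a b = 1 → f.B a b ≠ 0 := fun {a b} h h0 => by
    rw [ell, h0, mul_zero] at h
    exact zero_ne_one h
  obtain ⟨g₁, hg₁K, hg₁, hg₁r, hg₁x⟩ : ∃ g ∈ K, f.Preserves g ∧
      (∀ z, R.Rat z → R.Rat ((g : Matrix ι ι F) *ᵥ z)) ∧ (g : Matrix ι ι F) *ᵥ x = x' := by
    by_cases h : f.B x x' = 0
    · obtain ⟨p, hp, -, hp1⟩ := R.exists_rat_dual ∅ (by simp) hx (by simpa using hx0)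
      obtain ⟨q, hq, -, hq1⟩ := R.exists_rat_dual ∅ (by simp) hx' (by simpa using hx0')
      obtain ⟨r, -, hr, h1, h2⟩ := hcommon x x' p q hp hq (hne hp1) (hne hq1)
      obtain ⟨a, haK, hap, har, hax, -⟩ := step x r hx hr h1
      obtain ⟨b, hbK, hbp, hbr, hbx, -⟩ := step r x' hr hx' (by rw [f.skew]; exact neg_ne_zero.mpr h2)
      refine ⟨b * a, K.mul_mem hbK haK, hbp.mul hap, fun z hz => ?_, ?_⟩ <;>
        rw [Units.val_mul, ← Matrix.mulVec_mulVec]
      · exact hbr _ (har z hz)
      · rw [hax, hbx]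
    · obtain ⟨a, haK, hap, har, hax, -⟩ := step x x' hx hx' h
      exact ⟨a, haK, hap, har, hax⟩
  set y₁ := (g₁ : Matrix ι ι F) *ᵥ y with hy₁
  have hy₁r : R.Rat y₁ := hg₁r y hy
  have hxy₁ : f.B x' y₁ = 0 := by rw [← hg₁x, hy₁, hg₁, hxy]
  have hyx₁ : y₁ ∉ F ∙ x' := fun h => by
    obtain ⟨c, hc⟩ := Submodule.mem_span_singleton.mp h
    refine hyx (Submodule.mem_span_singleton.mpr ⟨c, ?_⟩)
    have h' := congrArg (((g₁⁻¹ : GL ι F) : Matrix ι ι F) *ᵥ ·) hc
    rw [← hg₁x, hy₁] at h'
    simpa [Matrix.mulVec_smul, Matrix.mulVec_mulVec, ← Units.val_mul] using h'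
  obtain ⟨g₂, hg₂K, hg₂, hg₂x, hg₂y⟩ : ∃ g ∈ K, f.Preserves g ∧ (g : Matrix ι ι F) *ᵥ x' = x' ∧
      (g : Matrix ι ι F) *ᵥ y₁ = y' := by
    by_cases h : f.B y₁ y' = 0
    · obtain ⟨p, hp, hp0, hp1⟩ := R.exists_rat_dual {x'} (by simpa using hx') hy₁r (by simpa using hyx₁)
      obtain ⟨q, hq, hq0, hq1⟩ := R.exists_rat_dual {x'} (by simpa using hx') hy' (by simpa using hyx')
      obtain ⟨r, hr', hr, h1, h2⟩ := hcommon y₁ y' p q hp hq (hne hp1) (hne hq1)
      have hr0 : f.B x' r = 0 := by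
        rcases hr' with rfl | rfl | rfl
        exacts [hp0 x' (by simp), hq0 x' (by simp), by rw [map_add, hp0 x' (by simp), hq0 x' (by simp), add_zero]]
      obtain ⟨a, haK, hap, -, hay, hafix⟩ := step y₁ r hy₁r hr h1
      obtain ⟨b, hbK, hbp, -, hby, hbfix⟩ := step r y' hr hy' (by rw [f.skew]; exact neg_ne_zero.mpr h2)
      refine ⟨b * a, K.mul_mem hbK haK, hbp.mul hap, ?_, ?_⟩ <;> rw [Units.val_mul, ← Matrix.mulVec_mulVec]
      · rw [hafix _ (by rw [map_sub, hr0, hxy₁, sub_zero]), hbfix _ (by rw [map_sub, hxy', hr0, sub_zero])]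
      · rw [hay, hby]
    · obtain ⟨a, haK, hap, -, hay, hafix⟩ := step y₁ y' hy₁r hy' h
      exact ⟨a, haK, hap, hafix _ (by rw [map_sub, hxy', hxy₁, sub_zero]), hay⟩
  exact ⟨g₂ * g₁, K.mul_mem hg₂K hg₁K, hg₂.mul hg₁, by rw [Units.val_mul, ← Matrix.mulVec_mulVec, hg₁x, hg₂x],
    by rw [Units.val_mul, ← Matrix.mulVec_mulVec, ← hy₁, hg₂y]⟩

/-- Parameters of short root elements on independent pairs. -/
def ShortI (R : RatSymp f) (K : Subgroup (GL ι F)) (s : F) : Prop :=
  ∀ u v, R.Rat u → R.Rat v → u ≠ 0 → v ∉ F ∙ u → f.B u v = 0 → f.sh u v (R.ζ * s) ∈ K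

theorem Base.shortI_of_one (hK : R.Base K) {u v : ι → F} (hu : R.Rat u) (hv : R.Rat v) (hu0 : u ≠ 0)
    (hvu : v ∉ F ∙ u) (huv : f.B u v = 0) {s : F} (hs : f.sh u v (R.ζ * s) ∈ K) : ShortI R K s := by
  intro a b ha hb ha0 hba hab
  obtain ⟨g, hgK, hg, hga, hgb⟩ := hK.pair_move hu hv ha hb hu0 ha0 hvu hba huv hab
  rw [← hga, ← hgb, ← f.conj_sh hg]
  exact conj_mem hgK hs

omit [Finite F] in
theorem ShortI.add {s t : F} (hs : ShortI R K s) (ht : ShortI R K t) : ShortI R K (s + t) := by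
  intro u v hu hv hu0 hvu huv
  rw [show f.sh u v (R.ζ * (s + t)) = f.sh u v (R.ζ * s) * f.sh u v (R.ζ * t) from
    Units.ext (eq_of_mulVec_eq fun x => by
      rw [Units.val_mul, ← Matrix.mulVec_mulVec, f.sh_mulVec huv, f.sh_mulVec huv, f.sh_mulVec huv]
      simp only [map_add, map_smul, LinearMap.add_apply, LinearMap.smul_apply, huv,
        show f.B v u = 0 by rw [f.skew, huv, neg_zero], f.alt, smul_eq_mul, mul_zero, add_zero]
      module)]
  exact K.mul_mem (hs u v hu hv hu0 hvu huv) (ht u v hu hv hu0 hvu huv)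

omit [Finite F] in
theorem LongP.add {s t : F} (hs : R.LongP K s) (ht : R.LongP K t) : R.LongP K (s + t) := by
  intro v hv
  rw [show f.trans v (R.ζ * (s + t)) = f.trans v (R.ζ * s) * f.trans v (R.ζ * t) from
    Units.ext (eq_of_mulVec_eq fun x => by
      rw [Units.val_mul, ← Matrix.mulVec_mulVec, AltForm.trans_mulVec, AltForm.trans_mulVec, AltForm.trans_mulVec]
      simp only [map_add, map_smul, LinearMap.add_apply, LinearMap.smul_apply, f.alt, smul_eq_mul, mul_zero,
        add_zero]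
      module)]
  exact K.mul_mem (hs v hv) (ht v hv)

/-- The commutator relations between long and short parameters. -/
theorem Base.mul_params (hK : R.Base K) (hn : 6 ≤ Fintype.card ι) {l s : F} (hl : R.LongP K l)
    (hs : ShortI R K s) : ShortI R K (l * s) ∧ R.LongP K (l * s * s) := by
  classical
  haveI : Nonempty ι := Fintype.card_pos_iff.mp (by omega)
  have hspan : ∀ t : Finset (ι → F), Module.finrank F (Submodule.span F (t : Set (ι → F))) ≤ t.card :=
    finrank_span_finset_le_card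
  obtain ⟨e, he, -, he0⟩ := R.exists_rat_perp ∅ (by simp) ⊥ (by simp; omega)
  rw [Submodule.mem_bot] at he0
  obtain ⟨z, hz, hz', hze⟩ := R.exists_rat_perp {e} (by simpa using he) (F ∙ e) (by
    have h := (finrank_span_le_card (R := F) {e})
    simp only [Set.toFinset_singleton, Finset.card_singleton] at h ⊢
    omega)
  have hez : f.B e z = 0 := hz' e (by simp)
  have hze' : f.B z e = 0 := by rw [f.skew, hez, neg_zero]
  have hez0 : e ∉ Submodule.span F (({z} : Finset (ι → F)) : Set (ι → F)) := by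
    rw [Finset.coe_singleton]
    intro h
    obtain ⟨c, rfl⟩ := Submodule.mem_span_singleton.mp h
    have hc : c ≠ 0 := fun h0 => he0 (by rw [h0, zero_smul])
    exact hze (Submodule.mem_span_singleton.mpr ⟨c⁻¹, by rw [smul_smul, inv_mul_cancel₀ hc, one_smul]⟩)
  obtain ⟨p, hp, hp', hep⟩ := R.exists_rat_dual {z} (by simpa using hz) he hez0
  have hzp : f.B z p = 0 := hp' z (by simp)
  have hpz : f.B p z = 0 := by rw [f.skew, hzp, neg_zero]
  have hep0 : f.B e p ≠ 0 := fun h => by rw [ell, h, mul_zero] at hep; exact zero_ne_one hep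
  set c := R.ζ * s with hc
  -- T = conjugate of sh e z c by the transvection at p, times the inverse
  have ht : f.trans p (R.ζ * l) ∈ K := hl p hp
  have hge : (f.trans p (R.ζ * l) : Matrix ι ι F) *ᵥ e = e + l • p := by
    rw [AltForm.trans_mulVec, show R.ζ * l * f.B e p = l * R.ell e p by rw [ell]; ring, hep, mul_one]
  have hgz : (f.trans p (R.ζ * l) : Matrix ι ι F) *ᵥ z = z := by
    rw [AltForm.trans_mulVec, hzp, mul_zero, zero_smul, add_zero]
  have hel : f.B (e + l • p) z = 0 := by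
    rw [map_add, LinearMap.add_apply, hez, map_smul, LinearMap.smul_apply, hpz, smul_zero, add_zero]
  have hT : f.sh p z (l * c) * f.trans z (-(c * c * (l * f.B e p))) ∈ K := by
    have hm := K.mul_mem (conj_mem ht (hs e z he hz he0 hze hez)) (K.inv_mem (hs e z he hz he0 hze hez))
    rw [f.conj_sh (f.trans_preserves _ _), hge, hgz, f.sh_inv hez, f.sh_mul_sh hel hez,
      show e + l • p - e = l • p by abel] at hm
    rw [show f.sh p z (l * c) = f.sh (l • p) z c from Units.ext (eq_of_mulVec_eq fun x => by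
      rw [f.sh_mulVec hpz, f.sh_mulVec (by rw [map_smul, LinearMap.smul_apply, hpz, smul_zero])]
      simp only [map_smul, smul_eq_mul]
      module)]
    rwa [map_add, f.alt, zero_add, map_smul, smul_eq_mul] at hm
  -- move p to p + q
  obtain ⟨q, hq, hq', hqW⟩ := R.exists_rat_perp {z, p} (by simp [hz, hp]) (Submodule.span F ({z, p} : Finset (ι → F)))
    (by
      have h1 := hspan {z, p}
      have h2 : ({z, p} : Finset (ι → F)).card ≤ 2 := Finset.card_le_two
      omega)
  have hzq : f.B z q = 0 := hq' z (by simp)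
  have hpq : f.B p q = 0 := hq' p (by simp)
  have hqz : f.B q z = 0 := by rw [f.skew, hzq, neg_zero]
  have hp0 : p ∉ Submodule.span F (({z, q} : Finset (ι → F)) : Set (ι → F)) := fun h => by
    rw [Finset.coe_pair, Submodule.mem_span_pair] at h
    obtain ⟨a, b, hab⟩ := h
    rcases eq_or_ne b 0 with rfl | hb
    · rw [zero_smul, add_zero] at hab
      exact hep0 (by rw [← hab, map_smul, hez, smul_zero])
    · refine hqW ?_
      rw [Finset.coe_pair, Submodule.mem_span_pair]
      exact ⟨-(a / b), b⁻¹, by rw [← hab, smul_add, smul_smul, smul_smul, inv_mul_cancel₀ hb, one_smul, ← add_assoc,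
        ← add_smul, show -(a / b) + b⁻¹ * a = 0 by ring, zero_smul, zero_add]⟩
  obtain ⟨p₁, hp₁, hp₁', hpp₁⟩ := R.exists_rat_dual {z, q} (by simp [hz, hq]) hp hp0
  have hzp₁ : f.B z p₁ = 0 := hp₁' z (by simp)
  have hqp₁ : f.B q p₁ = 0 := hp₁' q (by simp)
  have hp₁q : f.B p₁ q = 0 := by rw [f.skew, hqp₁, neg_zero]
  have hk : f.sh p₁ q (R.ζ * 1) ∈ K := hK.sh_mem hp₁ hq R.F₀.one_mem
  have hkp : (f.sh p₁ q (R.ζ * 1) : Matrix ι ι F) *ᵥ p = p + q := by
    rw [f.sh_mulVec hp₁q, show R.ζ * 1 * f.B p p₁ = 1 by rw [mul_one]; exact hpp₁, hpq, mul_zero, zero_smul,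
      add_zero, one_smul]
  have hkz : (f.sh p₁ q (R.ζ * 1) : Matrix ι ι F) *ᵥ z = z := by
    rw [f.sh_mulVec hp₁q, hzp₁, hzq, mul_zero, zero_smul, zero_smul, add_zero, add_zero]
  have hpqz : f.B (p + q) z = 0 := by rw [map_add, LinearMap.add_apply, hpz, hqz, add_zero]
  have hpure : f.sh q z (l * c) ∈ K := by
    have hm := K.mul_mem (conj_mem hk hT) (K.inv_mem hT)
    rw [← conj_mul, f.conj_sh (f.sh_preserves _ _ _), f.conj_trans (f.sh_preserves _ _ _), hkp, hkz,
      _root_.mul_inv_rev, mul_assoc, mul_inv_cancel_left, f.sh_inv hpz, f.sh_mul_sh hpqz hpz,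
      show p + q - p = q by abel, map_add, f.alt, hpq, add_zero, mul_zero, neg_zero] at hm
    rwa [show f.trans z 0 = 1 from Units.ext (eq_of_mulVec_eq fun x => by simp [AltForm.trans_mulVec]), mul_one] at hm
  have hq0 : q ≠ 0 := fun h => hqW (h ▸ Submodule.zero_mem _)
  have hzq0 : z ∉ F ∙ q := fun h => by
    obtain ⟨d, hd⟩ := Submodule.mem_span_singleton.mp h
    rcases eq_or_ne d 0 with rfl | hd0
    · exact hze (by rw [← hd, zero_smul]; exact Submodule.zero_mem _)
    · refine hqW ?_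
      rw [Finset.coe_pair, Submodule.mem_span_pair]
      exact ⟨d⁻¹, 0, by rw [← hd, smul_smul, inv_mul_cancel₀ hd0, one_smul, zero_smul, add_zero]⟩
  have hls : ShortI R K (l * s) := hK.shortI_of_one hq hz hq0 hzq0 hqz
    (by rwa [show R.ζ * (l * s) = l * c by rw [hc]; ring])
  refine ⟨hls, ?_⟩
  have hz0 : z ≠ 0 := fun h => hze (h ▸ Submodule.zero_mem _)
  have hp00 : p ≠ 0 := fun h => hep0 (by rw [h, map_zero])
  have hzp0 : z ∉ F ∙ p := fun h => by
    obtain ⟨d, hd⟩ := Submodule.mem_span_singleton.mp h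
    rcases eq_or_ne d 0 with rfl | hd0
    · exact hz0 (by rw [← hd, zero_smul])
    · have : f.B e z = d * f.B e p := by rw [← hd, map_smul, smul_eq_mul]
      rw [hez] at this
      exact mul_ne_zero hd0 hep0 this.symm
  have hz2 : f.trans z (R.ζ * (l * s * s)) ∈ K := by
    have h1 := K.mul_mem (K.inv_mem (hls p z hp hz hp00 hzp0 hpz)) hT
    rw [show R.ζ * (l * s) = l * c by rw [hc]; ring, inv_mul_cancel_left] at h1
    have h2 := K.inv_mem h1
    rw [f.trans_inv, neg_neg] at h2
    rwa [show R.ζ * (l * s * s) = c * c * (l * f.B e p) by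
      rw [hc]
      have := hep
      rw [ell] at this
      linear_combination (-(R.ζ * l * s * s)) * this]
  intro v hv
  by_cases hv0 : v = 0
  · rw [hv0, show f.trans 0 (R.ζ * (l * s * s)) = 1 from
      Units.ext (eq_of_mulVec_eq fun x => by simp [AltForm.trans_mulVec])]
    exact K.one_mem
  obtain ⟨v', hv', hvv', hv'v⟩ := R.exists_rat_perp {v} (by simpa using hv) (F ∙ v) (by
    have h := (finrank_span_le_card (R := F) {v})
    simp only [Set.toFinset_singleton, Finset.card_singleton] at h ⊢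
    omega)
  obtain ⟨g, hgK, hg, hgz', -⟩ := hK.pair_move hz hq hv hv' hz0 hv0
    (fun h => hqW (Submodule.span_mono (by simp) h)) hv'v hzq (hvv' v (by simp))
  rw [← hgz', ← f.conj_trans hg]
  exact conj_mem hgK hz2

/-- An irrational short parameter gives every rational vector as a centre. -/
theorem Base.centre_of_shortI (hK : R.Base K) (hn : 6 ≤ Fintype.card ι) {r : ℕ} (hr : r.Prime)
    (hcard : Nat.card F = Nat.card R.F₀ ^ r) {s₀ : F} (hs₀ : s₀ ∉ R.F₀) (hs : ShortI R K s₀) :
    ∀ v, R.Rat v → f.Centre K v := by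
  classical
  have hF₀L : ∀ c ∈ R.F₀, R.LongP K c := fun c hc v hv => hK v c hv hc
  have hone : ShortI R K 1 := fun u v hu hv _ _ _ => hK.sh_mem hu hv R.F₀.one_mem
  have hzero : ShortI R K 0 := fun u v hu hv _ _ _ => hK.sh_mem hu hv R.F₀.zero_mem
  let Rg : Subring F :=
    { carrier := {t | ∀ s, ShortI R K s → ShortI R K (t * s)}
      one_mem' := fun s hs => by rwa [one_mul]
      mul_mem' := fun {a b} ha hb s hs => by rw [mul_assoc]; exact ha _ (hb s hs)
      zero_mem' := fun s _ => by rw [zero_mul]; exact hzero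
      add_mem' := fun {a b} ha hb s hs => by rw [add_mul]; exact (ha s hs).add (hb s hs)
      neg_mem' := fun {a} ha s hs => by
        have := ha _ (hK.mul_params hn (hF₀L (-1) (R.F₀.neg_mem R.F₀.one_mem)) hs).1
        rwa [show a * (-1 * s) = -a * s by ring] at this }
  haveI : Fintype F := Fintype.ofFinite F
  let Kf : Subfield F :=
    { Rg with
      inv_mem' := fun x hx => by
        rcases eq_or_ne x 0 with rfl | hx0
        · rw [_root_.inv_zero]; exact Rg.zero_mem
        · have hq : 2 ≤ Fintype.card F := Fintype.one_lt_card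
          rw [show x⁻¹ = x ^ (Fintype.card F - 2) from inv_eq_of_mul_eq_one_right (by
            rw [← pow_succ', show Fintype.card F - 2 + 1 = Fintype.card F - 1 by omega]
            exact FiniteField.pow_card_sub_one_eq_one x hx0)]
          exact Rg.pow_mem hx _ }
  have hle : R.F₀ ≤ Kf := fun c hc s hs => (hK.mul_params hn (hF₀L c hc) hs).1
  have hsq : ∀ s, ShortI R K s → s * s ∈ Kf := fun s hs t ht => by
    have h := (hK.mul_params hn (hF₀L 1 R.F₀.one_mem) hs).2
    rw [one_mul] at h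
    exact (hK.mul_params hn h ht).1
  have hout : ∃ t ∈ Kf, t ∉ R.F₀ := by
    by_contra h
    push Not at h
    have h1 := h _ (hsq _ hs)
    have h2 := h _ (hsq _ (hone.add hs))
    have h3 : 2 * s₀ ∈ R.F₀ := by
      have := R.F₀.sub_mem (R.F₀.sub_mem h2 h1) R.F₀.one_mem
      rwa [show (1 + s₀) * (1 + s₀) - s₀ * s₀ - 1 = 2 * s₀ by ring] at this
    by_cases h20 : (2 : F) = 0
    · haveI : CharP F 2 := CharTwo.of_one_ne_zero_of_two_eq_zero one_ne_zero h20
      haveI : CharP R.F₀ 2 := CharTwo.of_one_ne_zero_of_two_eq_zero one_ne_zero (Subtype.ext h20)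
      obtain ⟨y, hy⟩ := isSquare_of_charTwo' (R := R.F₀) ⟨s₀ * s₀, h1⟩
      have hy' : s₀ * s₀ = (y : F) * y := congrArg Subtype.val hy
      have : (s₀ - y) * (s₀ - y) = 0 := by linear_combination hy' + ((y : F) * y - s₀ * y) * h20
      exact hs₀ (by rw [sub_eq_zero.mp (mul_self_eq_zero.mp this)]; exact y.2)
    · refine hs₀ ?_
      have := R.F₀.div_mem h3 (R.F₀.add_mem R.F₀.one_mem R.F₀.one_mem)
      rwa [one_add_one_eq_two, mul_div_cancel_left₀ _ h20] at this
  have htop : ∀ t : F, t ∈ Kf := by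
    haveI : Fintype R.F₀ := Fintype.ofFinite _
    haveI : Fintype Kf := Fintype.ofFinite _
    letI : Algebra R.F₀ Kf := (Subfield.inclusion hle).toAlgebra
    haveI : IsScalarTower R.F₀ Kf F := IsScalarTower.of_algebraMap_eq fun _ => rfl
    have hmul := Module.finrank_mul_finrank R.F₀ Kf F
    have hr' : Module.finrank R.F₀ F = r := by
      have h := Module.natCard_eq_pow_finrank (K := R.F₀) (V := F)
      rw [hcard] at h
      exact (Nat.pow_right_injective (by rw [Nat.card_eq_fintype_card]; exact Fintype.one_lt_card) h).symm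
    rw [hr'] at hmul
    rcases hr.eq_one_or_self_of_dvd _ ⟨_, hmul.symm⟩ with h | h
    · exfalso
      obtain ⟨t, htK, ht⟩ := hout
      obtain ⟨c, hc⟩ := (finrank_eq_one_iff_of_nonzero' (1 : Kf) one_ne_zero).mp h ⟨t, htK⟩
      refine ht ?_
      have : (c : F) * 1 = t := congrArg Subtype.val hc
      rw [mul_one] at this
      exact this ▸ c.2
    · intro t
      rw [h] at hmul
      have h1 : Module.finrank Kf F = 1 := Nat.eq_of_mul_eq_mul_left hr.pos (hmul.trans (mul_one r).symm)
      obtain ⟨c, hc⟩ := (finrank_eq_one_iff_of_nonzero' (1 : F) one_ne_zero).mp h1 t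
      rw [← hc, show c • (1 : F) = (c : F) * 1 from rfl, mul_one]
      exact c.2
  have hall : ∀ s, ShortI R K s := fun s => by simpa using htop s 1 hone
  have hlsq : ∀ s, R.LongP K (s * s) := fun s => by
    simpa using (hK.mul_params hn (hF₀L 1 R.F₀.one_mem) (hall s)).2
  have hneg : ∀ s, R.LongP K (-(s * s)) := fun s => by
    simpa using (hK.mul_params hn (hF₀L (-1) (R.F₀.neg_mem R.F₀.one_mem)) (hall s)).2
  have hlong : ∀ l, R.LongP K l := fun l => by
    by_cases h20 : (2 : F) = 0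
    · haveI : CharP F 2 := CharTwo.of_one_ne_zero_of_two_eq_zero one_ne_zero h20
      obtain ⟨y, rfl⟩ := isSquare_of_charTwo' l
      exact hlsq y
    · have := (hlsq ((l + 1) / 2)).add (hneg ((l - 1) / 2))
      rwa [show (l + 1) / 2 * ((l + 1) / 2) + -((l - 1) / 2 * ((l - 1) / 2)) = l by field_simp; ring] at this
  intro v hv c
  have := hlong (c / R.ζ) v hv
  rwa [mul_div_cancel₀ _ R.hζ] at this

/-- Rational centres give all centres. -/
theorem all_centre (hrat : ∀ v, R.Rat v → f.Centre K v) (h4 : 4 ≤ Nat.card F) (w : ι → F) : f.Centre K w := by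
  classical
  have hzero : f.Centre K 0 := fun c => by
    rw [show f.trans 0 c = 1 from Units.ext (eq_of_mulVec_eq fun x => by simp [AltForm.trans_mulVec])]
    exact K.one_mem
  have key : ∀ (w v : ι → F) (t : F), f.Centre K w → R.Rat v → f.Centre K (w + t • v) := by
    intro w v t hw hv
    by_cases hv0 : v = 0
    · rwa [hv0, smul_zero, add_zero]
    by_cases hwv : f.B w v = 0
    swap
    · exact hw.add_smul (hrat v hv) hwv t
    by_cases hw0 : w = 0
    · rw [hw0, zero_add]; exact (hrat v hv).smul t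
    by_cases ht0 : t = 0
    · rwa [ht0, zero_smul, add_zero]
    by_cases hu0 : w + t • v = 0
    · rw [hu0]; exact hzero
    have hwit : ∀ x : ι → F, x ≠ 0 → ∃ q, R.Rat q ∧ f.B x q ≠ 0 := by
      intro x hx0
      by_contra hc
      push Not at hc
      obtain ⟨z, -, hz⟩ := f.exists_perp_eq_one ⊥ (x := x) (by simpa using hx0)
      have h0 : f.B x z = 0 := by
        have : Submodule.span F {r | R.Rat r ∧ ∀ s ∈ (∅ : Set (ι → F)), f.B s r = 0} ≤ LinearMap.ker (f.B x) :=
          Submodule.span_le.mpr fun r hr => hc r hr.1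
        exact this (R.mem_span_rat_perp ∅ (by simp) (by simp))
      rw [h0] at hz
      exact zero_ne_one hz
    obtain ⟨p, hp, hvp⟩ := hwit v hv0
    set u := w + t • v with hu
    have hupw : f.B u p = f.B w p + t * f.B v p := by
      rw [hu, map_add, LinearMap.add_apply, map_smul, LinearMap.smul_apply, smul_eq_mul]
    have hp0 : p ≠ 0 := fun h => hvp (by rw [h, map_zero])
    -- a rational partner of p
    obtain ⟨q, hq, hpq, hwq, huq⟩ : ∃ q, R.Rat q ∧ f.B p q ≠ 0 ∧ (f.B w p = 0 → f.B w q ≠ 0) ∧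
        (f.B u p = 0 → f.B u q ≠ 0) := by
      have two : ∀ x : ι → F, x ≠ 0 → ∃ q, R.Rat q ∧ f.B p q ≠ 0 ∧ f.B x q ≠ 0 := by
        intro x hx
        obtain ⟨a, ha, hpa⟩ := hwit p hp0
        obtain ⟨b, hb, hxb⟩ := hwit x hx
        by_cases h1 : f.B x a = 0
        · by_cases h2 : f.B p b = 0
          · exact ⟨a + b, ha.add hb, by rwa [map_add, h2, add_zero], by rwa [map_add, h1, zero_add]⟩
          · exact ⟨b, hb, h2, hxb⟩
        · exact ⟨a, ha, hpa, h1⟩
      by_cases h : f.B w p = 0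
      · obtain ⟨q, hq, h1, h2⟩ := two w hw0
        exact ⟨q, hq, h1, fun _ => h2, fun h' => absurd (by rw [hupw, h, zero_add] at h'; exact h')
          (mul_ne_zero ht0 hvp)⟩
      · obtain ⟨q, hq, h1, h2⟩ := two u hu0
        exact ⟨q, hq, h1, fun h' => absurd h' h, fun _ => h2⟩
    have bad : ∀ x : ι → F, (f.B x p = 0 → f.B x q ≠ 0) → ∃ a₀ : F, ∀ a : F, a ≠ a₀ → f.B x (p + a • q) ≠ 0 := by
      intro x hx
      refine ⟨-(f.B x p) / f.B x q, fun a ha h0 => ?_⟩
      rw [map_add, map_smul, smul_eq_mul] at h0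
      by_cases hxq : f.B x q = 0
      · rw [hxq, mul_zero, add_zero] at h0
        exact hx h0 hxq
      · exact ha (by field_simp; linear_combination h0)
    obtain ⟨a₁, ha₁⟩ := bad w hwq
    obtain ⟨a₂, ha₂⟩ := bad u huq
    obtain ⟨a₃, ha₃⟩ := bad v fun h => absurd h hvp
    obtain ⟨a, ha⟩ : ∃ a : F, a ∉ ({a₁, a₂, a₃} : Finset F) := by
      haveI : Fintype F := Fintype.ofFinite F
      rw [Nat.card_eq_fintype_card] at h4
      obtain ⟨a, -, ha⟩ := Finset.exists_mem_notMem_of_card_lt_card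
        (s := ({a₁, a₂, a₃} : Finset F)) (t := Finset.univ) (by
          have : ({a₁, a₂, a₃} : Finset F).card ≤ 3 := Finset.card_le_three
          rw [Finset.card_univ]; omega)
      exact ⟨a, ha⟩
    simp only [Finset.mem_insert, Finset.mem_singleton, not_or] at ha
    have hr : f.Centre K (p + a • q) := (hrat p hp).add_smul (hrat q hq) hpq a
    have hwr := ha₁ a ha.1
    have hur := ha₂ a ha.2.1
    have hvr := ha₃ a ha.2.2
    have h1 : f.Centre K (w + (p + a • q)) := hw.add hr hwr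
    have h2 := h1.add_smul (hrat v hv) (by
      rw [map_add, LinearMap.add_apply, hwv, zero_add, f.skew]; exact neg_ne_zero.mpr hvr) t
    have h3 := h2.add_smul hr (by
      rw [show w + (p + a • q) + t • v = u + (p + a • q) by rw [hu]; abel, map_add f.B, LinearMap.add_apply, f.alt,
        add_zero]
      exact hur) (-1)
    rwa [show w + (p + a • q) + t • v + (-1 : F) • (p + a • q) = u by rw [hu]; module] at h3
  have hsum : w = ∑ i, (((R.P⁻¹ : GL ι F) : Matrix ι ι F) *ᵥ w) i • ((R.P : Matrix ι ι F) *ᵥ Pi.single i 1) := by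
    simp only [← Matrix.mulVec_smul, ← Matrix.mulVec_sum]
    rw [← pi_eq_sum_univ', Matrix.mulVec_mulVec, ← Units.val_mul, mul_inv_cancel, Units.val_one, Matrix.one_mulVec]
  rw [hsum]
  suffices h : ∀ (c : ι → F) (s : Finset ι),
      f.Centre K (∑ i ∈ s, c i • ((R.P : Matrix ι ι F) *ᵥ Pi.single i 1)) from h _ _
  intro c s
  induction s using Finset.induction_on with
  | empty => rw [Finset.sum_empty]; exact hzero
  | insert i s his h =>
    rw [Finset.sum_insert his, add_comm]
    exact key _ _ _ h ((ratVec_mulVec _).mpr fun k => by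
      rw [Pi.single_apply]; split_ifs; exacts [R.F₀.one_mem, R.F₀.zero_mem])

end RatSymp

end Cfsg.Agent.Lib.MaxSub

namespace Cfsg.Agent.Lib.MaxSub

open Matrix
open scoped MatrixGroups Matrix

namespace RatSymp

variable {ι : Type} [Fintype ι] [DecidableEq ι] {F : Type*} [Field F] [Finite F] {f : AltForm ι F} {R : RatSymp f}
  {K : Subgroup (GL ι F)}

omit [Finite F] in
theorem sh_comm {u v : ι → F} (h : f.B u v = 0) (c : F) : f.sh u v c = f.sh v u c :=
  Units.ext (eq_of_mulVec_eq fun x => by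
    rw [f.sh_mulVec h, f.sh_mulVec (by rw [f.skew, h, neg_zero])]; abel)

omit [Finite F] in
theorem sh_smul {u v : ι → F} (h : f.B u v = 0) (a c : F) : f.sh (a • u) v c = f.sh u v (a * c) :=
  Units.ext (eq_of_mulVec_eq fun x => by
    rw [f.sh_mulVec (by rw [map_smul, LinearMap.smul_apply, h, smul_zero]), f.sh_mulVec h, map_smul, smul_eq_mul]
    module)

omit [Finite F] in
theorem sh_neg_neg {u v : ι → F} (h : f.B u v = 0) (c : F) : f.sh (-u) (-v) c = f.sh u v c :=
  Units.ext (eq_of_mulVec_eq fun x => by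
    rw [f.sh_mulVec (by simp [h]), f.sh_mulVec h, map_neg, map_neg]
    module)

/-- A transvection gives short parameters: odd characteristic. -/
theorem Base.shortI_odd (hK : R.Base K) (h2 : (2 : F) ≠ 0) {w : ι → F} (hwK : f.trans w R.ζ ∈ K)
    {e z : ι → F} (he : R.Rat e) (hz : R.Rat z) (he0 : e ≠ 0) (hze : z ∉ F ∙ e) (hez : f.B e z = 0) :
    ShortI R K (8 * R.ell w e * R.ell w z) := by
  classical
  have hze' : f.B z e = 0 := by rw [f.skew, hez, neg_zero]
  have hez0 : e ∉ Submodule.span F (({z} : Finset (ι → F)) : Set (ι → F)) := by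
    rw [Finset.coe_singleton]
    intro h
    obtain ⟨c, rfl⟩ := Submodule.mem_span_singleton.mp h
    have hc : c ≠ 0 := fun h0 => he0 (by rw [h0, zero_smul])
    exact hze (Submodule.mem_span_singleton.mpr ⟨c⁻¹, by rw [smul_smul, inv_mul_cancel₀ hc, one_smul]⟩)
  obtain ⟨d, hd, hd', hed⟩ := R.exists_rat_dual {z} (by simpa using hz) he hez0
  have hzd : f.B z d = 0 := hd' z (by simp)
  rw [ell] at hed
  set L := R.ell w e with hL
  set a := f.trans e (R.ζ * 1) with ha
  set b := f.trans d (R.ζ * 1) with hb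
  have haK : a ∈ K := hK e 1 he R.F₀.one_mem
  have hbK : b ∈ K := hK d 1 hd R.F₀.one_mem
  set t := a * b * a * (a * b * a) with ht
  have htK : t ∈ K := K.mul_mem (K.mul_mem (K.mul_mem haK hbK) haK) (K.mul_mem (K.mul_mem haK hbK) haK)
  have htp : f.Preserves t :=
    (((f.trans_preserves _ _).mul (f.trans_preserves _ _)).mul (f.trans_preserves _ _)).mul
      (((f.trans_preserves _ _).mul (f.trans_preserves _ _)).mul (f.trans_preserves _ _))
  have hde : R.ζ * f.B d e = -1 := by rw [f.skew]; linear_combination -hed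
  have hae : (a : Matrix ι ι F) *ᵥ e = e := by rw [ha, AltForm.trans_mulVec, f.alt, mul_zero, zero_smul, add_zero]
  have had : (a : Matrix ι ι F) *ᵥ d = d - e := by
    rw [ha, AltForm.trans_mulVec, mul_one, hde, neg_one_smul, sub_eq_add_neg]
  have hbd : (b : Matrix ι ι F) *ᵥ d = d := by rw [hb, AltForm.trans_mulVec, f.alt, mul_zero, zero_smul, add_zero]
  have hbe : (b : Matrix ι ι F) *ᵥ e = e + d := by rw [hb, AltForm.trans_mulVec, mul_one, hed, one_smul]
  have hte : (t : Matrix ι ι F) *ᵥ e = -e := by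
    simp only [ht, Units.val_mul, ← Matrix.mulVec_mulVec, hae, hbe, Matrix.mulVec_add, had, hbd, Matrix.mulVec_sub,
      Matrix.mulVec_neg]
    abel
  have htd : (t : Matrix ι ι F) *ᵥ d = -d := by
    simp only [ht, Units.val_mul, ← Matrix.mulVec_mulVec, hae, hbe, Matrix.mulVec_add, had, hbd, Matrix.mulVec_sub,
      Matrix.mulVec_neg]
    abel
  set π := R.ell w d • e - R.ell w e • d with hπ
  set r := w - π with hr
  clear_value π r
  have hwπ : w = π + r := by rw [hr]; abel
  have hre : f.B r e = 0 := by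
    have : f.B π e = f.B w e := by
      rw [hπ, map_sub, LinearMap.sub_apply, map_smul, map_smul, LinearMap.smul_apply, LinearMap.smul_apply, f.alt,
        smul_eq_mul, smul_eq_mul, ell, ell]
      linear_combination (-(f.B w e)) * hde
    rw [hr, map_sub, LinearMap.sub_apply, this, sub_self]
  have hrd : f.B r d = 0 := by
    have : f.B π d = f.B w d := by
      rw [hπ, map_sub, LinearMap.sub_apply, map_smul, map_smul, LinearMap.smul_apply, LinearMap.smul_apply, f.alt,
        smul_eq_mul, smul_eq_mul, ell, ell]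
      linear_combination (f.B w d) * hed
    rw [hr, map_sub, LinearMap.sub_apply, this, sub_self]
  have hπr : f.B π r = 0 := by
    rw [f.skew π r, hπ, map_sub, map_smul, map_smul, hre, hrd]
    simp
  have htr : (t : Matrix ι ι F) *ᵥ r = r := by
    have har : (a : Matrix ι ι F) *ᵥ r = r := by
      rw [ha, AltForm.trans_mulVec, hre, mul_zero, zero_smul, add_zero]
    have hbr : (b : Matrix ι ι F) *ᵥ r = r := by
      rw [hb, AltForm.trans_mulVec, hrd, mul_zero, zero_smul, add_zero]
    simp only [ht, Units.val_mul, ← Matrix.mulVec_mulVec, har, hbr]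
  have htπ : (t : Matrix ι ι F) *ᵥ π = -π := by
    rw [hπ, Matrix.mulVec_sub, Matrix.mulVec_smul, Matrix.mulVec_smul, hte, htd]; module
  have h1 : f.sh π r (2 * R.ζ) ∈ K := by
    have hm := K.mul_mem hwK (K.inv_mem (conj_mem htK hwK))
    rw [f.conj_trans htp, hwπ, Matrix.mulVec_add, htπ, htr, f.trans_inv] at hm
    convert hm using 1
    refine Units.ext (eq_of_mulVec_eq fun x => ?_)
    rw [f.sh_mulVec hπr, Units.val_mul, ← Matrix.mulVec_mulVec, AltForm.trans_mulVec, AltForm.trans_mulVec]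
    simp only [map_add, map_neg, map_smul, LinearMap.add_apply, LinearMap.neg_apply, LinearMap.smul_apply,
      smul_eq_mul, f.alt, hπr, f.skew r π, neg_zero, add_zero, mul_zero, smul_add, smul_neg]
    module
  set c := 2 * R.ζ with hc
  have hLπ : R.ζ * 1 * f.B π e = L := by
    have : f.B π e = f.B w e := by
      have := hre; rw [hr, map_sub, LinearMap.sub_apply, sub_eq_zero] at this; exact this.symm
    rw [this, mul_one, hL, ell]
  have haπ : (a : Matrix ι ι F) *ᵥ π = π + L • e := by rw [ha, AltForm.trans_mulVec, hLπ]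
  have har : (a : Matrix ι ι F) *ᵥ r = r := by
    rw [ha, AltForm.trans_mulVec, hre, mul_zero, zero_smul, add_zero]
  have her : f.B e r = 0 := by rw [f.skew, hre, neg_zero]
  set u := (-L) • e with hu
  have hur : f.B u r = 0 := by rw [hu, map_smul, LinearMap.smul_apply, her, smul_zero]
  obtain ⟨κ, hκ⟩ : ∃ κ, f.sh u r c * f.trans r κ ∈ K := by
    have hπ'r : f.B (π + L • e) r = 0 := by
      rw [map_add, LinearMap.add_apply, hπr, map_smul, LinearMap.smul_apply, her, smul_zero, add_zero]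
    have hm := K.mul_mem h1 (K.inv_mem (conj_mem haK h1))
    rw [ha, f.conj_sh (f.trans_preserves _ _), ← ha, haπ, har, f.sh_inv hπ'r, f.sh_mul_sh hπr hπ'r,
      show π - (π + L • e) = u by rw [hu]; module] at hm
    exact ⟨_, hm⟩
  have htu : (t : Matrix ι ι F) *ᵥ u = -u := by rw [hu, Matrix.mulVec_smul, hte, smul_neg]
  have h2' : f.sh u r (2 * c) ∈ K := by
    have hm := K.mul_mem hκ (K.inv_mem (conj_mem htK hκ))
    rwa [← conj_mul, f.conj_sh htp, f.conj_trans htp, htu, htr, f.sh_trans_mul hur] at hm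
  set k := f.trans z (R.ζ * 1) with hk
  have hkK : k ∈ K := hK z 1 hz R.F₀.one_mem
  have hku : (k : Matrix ι ι F) *ᵥ u = u := by
    rw [hk, AltForm.trans_mulVec, hu, map_smul, LinearMap.smul_apply, hez, smul_zero, mul_zero, zero_smul, add_zero]
  set L' := R.ell w z with hL'
  have hkr : (k : Matrix ι ι F) *ᵥ r = r + L' • z := by
    rw [hk, AltForm.trans_mulVec]
    congr 2
    rw [hr, hπ, hL', mul_one, ell]
    simp only [map_sub, map_smul, LinearMap.sub_apply, LinearMap.smul_apply, hez, f.skew d z, hzd]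
    simp [ell]
  have htz : (t : Matrix ι ι F) *ᵥ z = z := by
    have haz : (a : Matrix ι ι F) *ᵥ z = z := by
      rw [ha, AltForm.trans_mulVec, hze', mul_zero, zero_smul, add_zero]
    have hbz : (b : Matrix ι ι F) *ᵥ z = z := by
      rw [hb, AltForm.trans_mulVec, hzd, mul_zero, zero_smul, add_zero]
    simp only [ht, Units.val_mul, ← Matrix.mulVec_mulVec, haz, hbz]
  set v := (-L') • z with hv
  have huz : f.B u z = 0 := by rw [hu, map_smul, LinearMap.smul_apply, hez, smul_zero]
  have hvu : f.B v u = 0 := by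
    rw [f.skew, hv, map_smul, huz, smul_zero, neg_zero]
  obtain ⟨κ', hκ'⟩ : ∃ κ, f.sh v u (2 * c) * f.trans u κ ∈ K := by
    have hr'u : f.B (r + L' • z) u = 0 := by
      rw [f.skew, map_add, hur, map_smul, huz, smul_zero, add_zero, neg_zero]
    have hru : f.B r u = 0 := by rw [f.skew, hur, neg_zero]
    rw [sh_comm hur] at h2'
    have hm := K.mul_mem h2' (K.inv_mem (conj_mem hkK h2'))
    rw [hk, f.conj_sh (f.trans_preserves _ _), ← hk, hku, hkr, f.sh_inv hr'u, f.sh_mul_sh hru hr'u,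
      show r - (r + L' • z) = v by rw [hv]; module] at hm
    exact ⟨_, hm⟩
  have h3 : f.sh v u (2 * (2 * c)) ∈ K := by
    have htv : (t : Matrix ι ι F) *ᵥ v = v := by rw [hv, Matrix.mulVec_smul, htz]
    have hm := K.mul_mem hκ' (K.inv_mem (conj_mem htK hκ'))
    rw [← conj_mul, f.conj_sh htp, f.conj_trans htp, htv, htu] at hm
    rwa [show f.trans (-u) κ' = f.trans u κ' from Units.ext (eq_of_mulVec_eq fun x => by
        rw [AltForm.trans_mulVec, AltForm.trans_mulVec, map_neg, smul_neg, mul_neg, neg_smul, neg_neg]),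
      show f.sh v (-u) (2 * c) = f.sh (-v) u (2 * c) from Units.ext (eq_of_mulVec_eq fun x => by
        rw [f.sh_mulVec (by rw [map_neg, hvu, neg_zero]), f.sh_mulVec (by simp [hvu]), map_neg, map_neg]
        module), f.sh_trans_mul hvu] at hm
  have hzu : f.B z u = 0 := by rw [f.skew, huz, neg_zero]
  refine hK.shortI_of_one he hz he0 hze hez ?_
  rw [hv, sh_smul hzu, sh_comm hzu, hu, sh_smul hez] at h3
  rwa [show R.ζ * (8 * R.ell w e * R.ell w z) = -L * (-L' * (2 * (2 * c))) by rw [hc, hL, hL']; ring]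

set_option maxHeartbeats 800000 in
/-- A transvection gives short parameters: characteristic two. -/
theorem Base.shortI_even (hK : R.Base K) (hn : 7 ≤ Fintype.card ι) (h2 : (2 : F) = 0) {w : ι → F}
    (hwK : f.trans w R.ζ ∈ K) {x z : ι → F} (hx : R.Rat x) (hz : R.Rat z) (hx0 : x ≠ 0) (hzx : z ∉ F ∙ x)
    (hxz : f.B x z = 0) : ShortI R K (R.ell w x * R.ell w z) := by
  classical
  haveI : CharP F 2 := CharTwo.of_one_ne_zero_of_two_eq_zero one_ne_zero h2
  have hneg : ∀ c : F, -c = c := CharTwo.neg_eq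
  have hcomm : ∀ {p q : ι → F}, f.B p q = 0 → f.B q p = 0 := fun {p q} h => by rw [f.skew, h, neg_zero]
  have hcard : ∀ s : Finset (ι → F), s.card ≤ 3 →
      Module.finrank F (Submodule.span F (s : Set (ι → F))) + s.card < Fintype.card ι := fun s hs => by
    have : Module.finrank F (Submodule.span F (s : Set (ι → F))) ≤ s.card := finrank_span_finset_le_card s
    omega
  -- y orthogonal to x and z
  obtain ⟨y, hy, hy', hyW⟩ := R.exists_rat_perp {x, z} (by simp [hx, hz])
    (Submodule.span F (({x, z} : Finset (ι → F)) : Set (ι → F))) (hcard _ (Finset.card_le_two.trans (by omega)))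
  have hxy : f.B x y = 0 := hy' x (by simp)
  have hzy : f.B z y = 0 := hy' z (by simp)
  have hzW : z ∉ Submodule.span F (({x, y} : Finset (ι → F)) : Set (ι → F)) := fun h => by
    rw [Finset.coe_pair, Submodule.mem_span_pair] at h
    obtain ⟨a, b, hab⟩ := h
    rcases eq_or_ne b 0 with rfl | hb
    · exact hzx (Submodule.mem_span_singleton.mpr ⟨a, by rw [← hab, zero_smul, add_zero]⟩)
    · refine hyW ?_
      rw [Finset.coe_pair, Submodule.mem_span_pair]
      exact ⟨-(a / b), b⁻¹, by rw [← hab, smul_add, smul_smul, smul_smul, inv_mul_cancel₀ hb, one_smul, ← add_assoc,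
        ← add_smul, show -(a / b) + b⁻¹ * a = 0 by ring, zero_smul, zero_add]⟩
  set Lx := R.ell w x with hLx
  set Ly := R.ell w y with hLy
  set δ := Lx • y + Ly • x with hδ
  clear_value δ
  have hwδ : f.B w δ = 0 := by
    rw [hδ, map_add, map_smul, map_smul, smul_eq_mul, smul_eq_mul, hLx, hLy, ell, ell]
    linear_combination (R.ζ * f.B w x * f.B w y) * h2
  have hG : f.sh x y (R.ζ * 1) ∈ K := hK.sh_mem hx hy R.F₀.one_mem
  have h1 : f.sh w δ R.ζ * f.trans δ R.ζ ∈ K := by
    have hGw : (f.sh x y (R.ζ * 1) : Matrix ι ι F) *ᵥ w = w + δ := by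
      rw [f.sh_mulVec hxy, mul_one, hδ, hLx, hLy, ell, ell, add_assoc]
    have hm := K.mul_mem (conj_mem hG hwK) hwK
    rw [f.conj_trans (f.sh_preserves _ _ _), hGw] at hm
    convert hm using 1
    refine Units.ext (eq_of_mulVec_eq fun v => ?_)
    simp only [Units.val_mul, ← Matrix.mulVec_mulVec, f.sh_mulVec hwδ, AltForm.trans_mulVec, map_add, map_smul,
      LinearMap.add_apply, LinearMap.smul_apply, hwδ, hcomm hwδ, f.alt, smul_eq_mul, mul_zero, add_zero]
    match_scalars <;> ring_nf <;> simp [h2]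
  set Lz := R.ell w z with hLz
  set k := f.trans z (R.ζ * 1) with hk
  have hkK : k ∈ K := hK z 1 hz R.F₀.one_mem
  have hkw : (k : Matrix ι ι F) *ᵥ w = w + Lz • z := by rw [hk, AltForm.trans_mulVec, mul_one, hLz, ell]
  have hδz : f.B δ z = 0 := by
    rw [hδ, map_add, LinearMap.add_apply, map_smul, map_smul, LinearMap.smul_apply, LinearMap.smul_apply, hxz,
      hcomm hzy]
    simp
  have hkδ : (k : Matrix ι ι F) *ᵥ δ = δ := by rw [hk, AltForm.trans_mulVec, hδz, mul_zero, zero_smul, add_zero]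
  have hw'δ : f.B (w + Lz • z) δ = 0 := by
    rw [map_add, LinearMap.add_apply, hwδ, map_smul, LinearMap.smul_apply, hcomm hδz]
    simp
  obtain ⟨κ, h2'⟩ : ∃ κ, f.sh (Lz • z) δ R.ζ * f.trans δ κ ∈ K := by
    have hm := K.mul_mem h1 (conj_mem hkK h1)
    rw [← conj_mul, hk, f.conj_sh (f.trans_preserves _ _), f.conj_trans (f.trans_preserves _ _), ← hk, hkw, hkδ] at hm
    refine ⟨-(R.ζ * R.ζ * f.B (w + Lz • z) w), ?_⟩
    have hswap : f.trans δ R.ζ * (f.sh (w + Lz • z) δ R.ζ * f.trans δ R.ζ) = f.sh (w + Lz • z) δ (-R.ζ) := by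
      rw [hneg]
      refine Units.ext (eq_of_mulVec_eq fun v => ?_)
      simp only [Units.val_mul, ← Matrix.mulVec_mulVec, f.sh_mulVec hw'δ, AltForm.trans_mulVec, map_add, map_smul,
        LinearMap.add_apply, LinearMap.smul_apply, hw'δ, hwδ, hcomm hδz, hcomm hwδ, hcomm hw'δ, hδz,
        f.alt, smul_eq_mul, mul_zero, add_zero]
      match_scalars <;> ring_nf <;> simp [h2]
    rw [mul_assoc, hswap, f.sh_mul_sh hwδ hw'δ, show w - (w + Lz • z) = (-Lz) • z by module, hneg Lz] at hm
    exact hm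
  -- move z
  obtain ⟨q, hq, hq', hqW⟩ := R.exists_rat_perp {x, y, z} (by simp [hx, hy, hz])
    (Submodule.span F (({x, y, z} : Finset (ι → F)) : Set (ι → F))) (hcard _ Finset.card_le_three)
  have hxq : f.B x q = 0 := hq' x (by simp)
  have hyq : f.B y q = 0 := hq' y (by simp)
  have hzq : f.B z q = 0 := hq' z (by simp)
  have hzW2 : z ∉ Submodule.span F (({x, y, q} : Finset (ι → F)) : Set (ι → F)) := fun h => by
    rw [show (({x, y, q} : Finset (ι → F)) : Set (ι → F)) = insert q (({x, y} : Finset (ι → F)) : Set (ι → F)) by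
      ext v; simp; tauto, Submodule.mem_span_insert] at h
    obtain ⟨a, m, hm, hza⟩ := h
    rcases eq_or_ne a 0 with rfl | ha
    · exact hzW (by rw [hza, zero_smul, zero_add]; exact hm)
    · refine hqW ?_
      rw [show q = a⁻¹ • (z - m) by rw [hza, add_sub_cancel_right, smul_smul, inv_mul_cancel₀ ha, one_smul]]
      refine Submodule.smul_mem _ _ (Submodule.sub_mem _ (Submodule.subset_span (by simp)) ?_)
      exact Submodule.span_mono (by intro v; simp; tauto) hm
  obtain ⟨p, hp, hp', hzp⟩ := R.exists_rat_dual {x, y, q} (by simp [hx, hy, hq]) hz hzW2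
  have hpq : f.B p q = 0 := hcomm (hp' q (by simp))
  have hk3 : f.sh p q (R.ζ * 1) ∈ K := hK.sh_mem hp hq R.F₀.one_mem
  have hk3z : (f.sh p q (R.ζ * 1) : Matrix ι ι F) *ᵥ z = z + q := by
    rw [f.sh_mulVec hpq, show R.ζ * 1 * f.B z p = 1 by rw [mul_one]; exact hzp, hzq, mul_zero, zero_smul, add_zero,
      one_smul]
  have hδp : f.B δ p = 0 := by
    rw [hδ, map_add, LinearMap.add_apply, map_smul, map_smul, LinearMap.smul_apply, LinearMap.smul_apply,
      hp' x (by simp), hp' y (by simp)]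
    simp
  have hδq : f.B δ q = 0 := by
    rw [hδ, map_add, LinearMap.add_apply, map_smul, map_smul, LinearMap.smul_apply, LinearMap.smul_apply,
      hxq, hyq]
    simp
  have hk3δ : (f.sh p q (R.ζ * 1) : Matrix ι ι F) *ᵥ δ = δ := by
    rw [f.sh_mulVec hpq, hδp, hδq, mul_zero, zero_smul, zero_smul, add_zero, add_zero]
  have hzδ : f.B (Lz • z) δ = 0 := by rw [map_smul, LinearMap.smul_apply, hcomm hδz, smul_zero]
  have hzqδ : f.B (Lz • (z + q)) δ = 0 := by
    rw [map_smul, LinearMap.smul_apply, map_add, LinearMap.add_apply, hcomm hδz, hcomm hδq, add_zero, smul_zero]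
  have h3 : f.sh (Lz • q) δ R.ζ ∈ K := by
    have hm := K.mul_mem h2' (K.inv_mem (conj_mem hk3 h2'))
    rw [← conj_mul, f.conj_sh (f.sh_preserves _ _ _), f.conj_trans (f.sh_preserves _ _ _), hk3δ,
      Matrix.mulVec_smul, hk3z, _root_.mul_inv_rev, mul_assoc, mul_inv_cancel_left, f.sh_inv hzqδ,
      f.sh_mul_sh hzδ hzqδ, show Lz • z - Lz • (z + q) = (-Lz) • q by module, hneg Lz] at hm
    rwa [show f.B (Lz • (z + q)) (Lz • z) = 0 by simp [map_smul, map_add, f.alt, hcomm hzq], mul_zero, neg_zero,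
      show f.trans δ 0 = 1 from Units.ext (eq_of_mulVec_eq fun v => by simp [AltForm.trans_mulVec]), mul_one] at hm
  -- move y
  obtain ⟨y', hy1, hy1', hy1W⟩ := R.exists_rat_perp {x, y, q} (by simp [hx, hy, hq])
    (Submodule.span F (({x, y, q} : Finset (ι → F)) : Set (ι → F))) (hcard _ Finset.card_le_three)
  have hxy' : f.B x y' = 0 := hy1' x (by simp)
  have hyy' : f.B y y' = 0 := hy1' y (by simp)
  have hqy' : f.B q y' = 0 := hy1' q (by simp)
  have hyW2 : y ∉ Submodule.span F (({x, q, y'} : Finset (ι → F)) : Set (ι → F)) := fun h => by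
    rw [show (({x, q, y'} : Finset (ι → F)) : Set (ι → F)) = insert y' (({x, q} : Finset (ι → F)) : Set (ι → F)) by
      ext v; simp; tauto, Submodule.mem_span_insert] at h
    obtain ⟨a, m, hm, hya⟩ := h
    rcases eq_or_ne a 0 with rfl | ha
    · rw [zero_smul, zero_add] at hya
      subst hya
      rw [Finset.coe_pair, Submodule.mem_span_pair] at hm
      obtain ⟨s, t, hst⟩ := hm
      rcases eq_or_ne t 0 with rfl | ht
      · exact hyW (Submodule.span_mono (by intro v; simp; tauto) (show y ∈ F ∙ x from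
          Submodule.mem_span_singleton.mpr ⟨s, by rw [← hst, zero_smul, add_zero]⟩))
      · refine hqW ?_
        rw [show q = t⁻¹ • (y - s • x) by rw [← hst, add_sub_cancel_left, smul_smul, inv_mul_cancel₀ ht, one_smul]]
        exact Submodule.smul_mem _ _ (Submodule.sub_mem _ (Submodule.subset_span (by simp))
          (Submodule.smul_mem _ _ (Submodule.subset_span (by simp))))
    · refine hy1W ?_
      rw [show y' = a⁻¹ • (y - m) by rw [hya, add_sub_cancel_right, smul_smul, inv_mul_cancel₀ ha, one_smul]]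
      exact Submodule.smul_mem _ _ (Submodule.sub_mem _ (Submodule.subset_span (by simp))
        (Submodule.span_mono (by intro v; simp; tauto) hm))
  obtain ⟨p', hp1, hp1', hyp⟩ := R.exists_rat_dual {x, q, y'} (by simp [hx, hq, hy1]) hy hyW2
  have hp'y' : f.B p' y' = 0 := hcomm (hp1' y' (by simp))
  have hk4 : f.sh p' y' (R.ζ * 1) ∈ K := hK.sh_mem hp1 hy1 R.F₀.one_mem
  have hk4q : (f.sh p' y' (R.ζ * 1) : Matrix ι ι F) *ᵥ (Lz • q) = Lz • q := by
    rw [Matrix.mulVec_smul, f.sh_mulVec hp'y', hp1' q (by simp), hqy', mul_zero, zero_smul, zero_smul, add_zero,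
      add_zero]
  have hk4δ : (f.sh p' y' (R.ζ * 1) : Matrix ι ι F) *ᵥ δ = δ + Lx • y' := by
    rw [hδ, Matrix.mulVec_add, Matrix.mulVec_smul, Matrix.mulVec_smul, f.sh_mulVec hp'y', f.sh_mulVec hp'y',
      hp1' x (by simp), hxy', show R.ζ * 1 * f.B y p' = 1 by rw [mul_one]; exact hyp, hyy', mul_zero, zero_smul,
      zero_smul, add_zero, add_zero, add_zero, one_smul]
    module
  have hδu : f.B δ (Lz • q) = 0 := by rw [map_smul, hδq, smul_zero]
  have hδ'u : f.B (δ + Lx • y') (Lz • q) = 0 := by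
    rw [map_add, LinearMap.add_apply, hδu, zero_add]
    simp [map_smul, hcomm hqy']
  have h4 : f.sh (Lx • y') (Lz • q) R.ζ ∈ K := by
    rw [sh_comm (hcomm hδu)] at h3
    have hm := K.mul_mem h3 (K.inv_mem (conj_mem hk4 h3))
    rw [f.conj_sh (f.sh_preserves _ _ _), hk4q, hk4δ, f.sh_inv hδ'u, f.sh_mul_sh hδu hδ'u,
      show δ - (δ + Lx • y') = (-Lx) • y' by module, hneg Lx] at hm
    rwa [show f.B (δ + Lx • y') δ = 0 by simp [hδ, map_smul, map_add, f.alt, hcomm hxy', hcomm hyy', hxy, hcomm hxy],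
      mul_zero, neg_zero,
      show f.trans (Lz • q) 0 = 1 from Units.ext (eq_of_mulVec_eq fun v => by simp [AltForm.trans_mulVec]), mul_one]
      at hm
  have hy'q : f.B y' q = 0 := hcomm hqy'
  rw [sh_smul (by rw [map_smul, hy'q, smul_zero]), sh_comm (by rw [map_smul, hy'q, smul_zero]),
    sh_smul hqy', sh_comm hqy'] at h4
  refine hK.shortI_of_one hy1 hq (fun h => hy1W (h ▸ Submodule.zero_mem _)) (fun h => ?_) hy'q
    (by rwa [show R.ζ * (R.ell w x * R.ell w z) = Lz * (Lx * R.ζ) by rw [hLx, hLz]; ring])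
  obtain ⟨s, hs⟩ := Submodule.mem_span_singleton.mp h
  rcases eq_or_ne s 0 with rfl | hs0
  · exact hqW (by rw [← hs, zero_smul]; exact Submodule.zero_mem _)
  · refine hy1W ?_
    rw [show y' = s⁻¹ • q by rw [← hs, smul_smul, inv_mul_cancel₀ hs0, one_smul]]
    exact Submodule.smul_mem _ _ (Submodule.subset_span (by simp))

/-- Either a centre is rational up to a scalar or it yields an irrational parameter. -/
theorem Base.rat_or_param (hK : R.Base K) (hn : 7 ≤ Fintype.card ι) {w : ι → F} (hwK : f.trans w R.ζ ∈ K) :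
    (∃ (c : F) (y : ι → F), R.Rat y ∧ w = c • y) ∨ ∃ s ∉ R.F₀, ShortI R K s := by
  classical
  by_cases hall : ∀ x z, R.Rat x → R.Rat z → x ≠ 0 → z ∉ F ∙ x → f.B x z = 0 → R.ell w x * R.ell w z ∈ R.F₀
  swap
  · push Not at hall
    obtain ⟨x, z, hx, hz, hx0, hzx, hxz, hout⟩ := hall
    by_cases h2 : (2 : F) = 0
    · exact Or.inr ⟨_, hout, hK.shortI_even hn h2 hwK hx hz hx0 hzx hxz⟩
    · refine Or.inr ⟨_, fun h => hout ?_, hK.shortI_odd h2 hwK hx hz hx0 hzx hxz⟩
      have h8 : (8 : F) ∈ R.F₀ := by exact_mod_cast natCast_mem R.F₀ 8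
      have h80 : (8 : F) ≠ 0 := by rw [show (8 : F) = 2 * 2 * 2 by norm_num]; exact mul_ne_zero (mul_ne_zero h2 h2) h2
      have := R.F₀.div_mem h h8
      rwa [show 8 * R.ell w x * R.ell w z / 8 = R.ell w x * R.ell w z by field_simp] at this
  left
  have hspan : ∀ (s : Finset (ι → F)), Module.finrank F (Submodule.span F (s : Set (ι → F))) ≤ s.card :=
    finrank_span_finset_le_card
  by_cases h0 : ∀ x, R.Rat x → R.ell w x = 0
  · refine ⟨0, 0, RatVec.zero _ _, ?_⟩
    rw [smul_zero]
    by_contra hw0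
    obtain ⟨v, -, hv⟩ := f.exists_perp_eq_one ⊥ (x := w) (by simpa using hw0)
    have : f.B w v = 0 := by
      have hle : Submodule.span F {r | R.Rat r ∧ ∀ s ∈ (∅ : Set (ι → F)), f.B s r = 0} ≤ LinearMap.ker (f.B w) :=
        Submodule.span_le.mpr fun r hr => (mul_eq_zero.mp (h0 r hr.1)).resolve_left R.hζ
      exact hle (R.mem_span_rat_perp ∅ (by simp) (by simp))
    rw [this] at hv
    exact zero_ne_one hv
  push Not at h0
  obtain ⟨x, hx, hLx⟩ := h0
  have hx0 : x ≠ 0 := fun h => hLx (by rw [h, ell, map_zero, mul_zero])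
  obtain ⟨p, hp, hp', hpW⟩ := R.exists_rat_perp {x} (by simpa using hx) (F ∙ x) (by
    have h := (finrank_span_le_card (R := F) {x})
    simp only [Set.toFinset_singleton, Finset.card_singleton] at h ⊢
    omega)
  have hxp : f.B x p = 0 := hp' x (by simp)
  have hsqx : R.ell w x * R.ell w x ∈ R.F₀ := by
    have h1 := hall x p hx hp hx0 hpW hxp
    have h2 := hall x (x + p) hx (hx.add hp) hx0
      (fun h => hpW ((Submodule.add_mem_iff_right _ (Submodule.mem_span_singleton_self x)).mp h))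
      (by rw [map_add, f.alt, hxp, add_zero])
    have := R.F₀.sub_mem h2 h1
    rwa [ell, ell, ell, map_add, show ∀ a b c : F, a * b * (a * (b + c)) - a * b * (a * c) = a * b * (a * b) from
      fun a b c => by ring] at this
  have hratio : ∀ y, R.Rat y → R.ell w y / R.ell w x ∈ R.F₀ := by
    intro y hy
    by_cases hy0 : R.ell w y = 0
    · rw [hy0, zero_div]; exact R.F₀.zero_mem
    have hy00 : y ≠ 0 := fun h => hy0 (by rw [h, ell, map_zero, mul_zero])
    have fin : R.ell w x * R.ell w y ∈ R.F₀ → R.ell w y / R.ell w x ∈ R.F₀ := fun h => by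
      have := R.F₀.div_mem h hsqx
      rwa [mul_div_mul_left _ _ hLx] at this
    by_cases hyx : y ∈ F ∙ x
    · obtain ⟨c, rfl⟩ := Submodule.mem_span_singleton.mp hyx
      rw [ell, map_smul, smul_eq_mul, show R.ζ * (c * f.B w x) = c * R.ell w x by rw [ell]; ring,
        mul_div_cancel_right₀ _ hLx]
      exact hx.coeff_mem hx0 hy
    by_cases hxy : f.B x y = 0
    · exact fin (hall x y hx hy hx0 hyx hxy)
    obtain ⟨p, hp, hp', hpW⟩ := R.exists_rat_perp {x, y} (by simp [hx, hy])
      (Submodule.span F (({x, y} : Finset (ι → F)) : Set (ι → F))) (by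
        have h1 := hspan {x, y}
        have h2 : ({x, y} : Finset (ι → F)).card ≤ 2 := Finset.card_le_two
        omega)
    have hxp : f.B x p = 0 := hp' x (by simp)
    have hyp : f.B y p = 0 := hp' y (by simp)
    obtain ⟨r, hr, hr', hpr⟩ := R.exists_rat_dual {x, y} (by simp [hx, hy]) hp hpW
    have hxr : f.B x r = 0 := hr' x (by simp)
    have hyr : f.B y r = 0 := hr' y (by simp)
    have hpr0 : f.B p r ≠ 0 := fun h => by rw [ell, h, mul_zero] at hpr; exact zero_ne_one hpr
    have hzero : ∀ z, R.Rat z → f.B x z = 0 → f.B y z = 0 → z ∉ F ∙ x → z ∉ F ∙ y → R.ell w z ≠ 0 →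
        R.ell w y / R.ell w x ∈ R.F₀ := by
      intro z hz hxz hyz hzx hzy hLz
      have := R.F₀.div_mem (hall y z hy hz hy00 hzy hyz) (hall x z hx hz hx0 hzx hxz)
      rwa [mul_div_mul_right _ _ hLz] at this
    by_cases hLp : R.ell w p = 0
    swap
    · refine hzero p hp hxp hyp (fun h => hpW (Submodule.span_mono (by simp) h))
        (fun h => hpW (Submodule.span_mono (by simp) h)) hLp
    by_cases hLr : R.ell w r = 0
    swap
    · refine hzero r hr hxr hyr (fun h => ?_) (fun h => ?_) hLr <;>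
        obtain ⟨c, rfl⟩ := Submodule.mem_span_singleton.mp h <;> refine hpr0 ?_ <;>
        rw [map_smul, f.skew p]
      · rw [hxp]; simp
      · rw [hyp]; simp
    set p' := (-R.ell x y) • r with hp'def
    have hp'r : R.Rat p' := hr.smul (R.F₀.neg_mem (R.rat x y hx hy))
    have hB : f.B (x + p) (y + p') = 0 := by
      simp only [hp'def, map_add, map_smul, LinearMap.add_apply, LinearMap.smul_apply, hxr, f.skew p y, hyp,
        smul_eq_mul, neg_zero, add_zero, mul_zero, zero_add]
      rw [ell] at hpr ⊢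
      linear_combination (-(f.B x y)) * hpr
    have hxp0 : x + p ≠ 0 := fun h => hpW (by
      rw [eq_neg_of_add_eq_zero_right h]
      exact Submodule.neg_mem _ (Submodule.subset_span (by simp)))
    have hind : y + p' ∉ F ∙ (x + p) := fun h => by
      obtain ⟨c, hc⟩ := Submodule.mem_span_singleton.mp h
      have h1 := congrArg (fun v => f.B y v) hc
      simp only [hp'def, map_smul, map_add, f.alt, hyr, hyp, smul_eq_mul, mul_zero, add_zero] at h1
      have hc0 : c = 0 := (mul_eq_zero.mp h1).resolve_right fun h => hxy (by rw [f.skew, h, neg_zero])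
      rw [hc0, zero_smul] at hc
      refine hxy ?_
      have h2 := congrArg (fun v => f.B x v) hc
      simp only [hp'def, map_zero, map_add, map_smul, hxr, smul_eq_mul, mul_zero, add_zero] at h2
      exact h2.symm
    refine fin ?_
    have := hall (x + p) (y + p') (hx.add hp) (hy.add hp'r) hxp0 hind hB
    rwa [show R.ell w (x + p) = R.ell w x by rw [ell, map_add, mul_add]; show _ + R.ell w p = _; rw [hLp, add_zero]; rfl,
      show R.ell w (y + p') = R.ell w y by
        rw [ell, map_add, mul_add, hp'def, map_smul, smul_eq_mul, mul_left_comm]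
        show _ + _ * R.ell w r = _
        rw [hLr, mul_zero, add_zero]; rfl] at this
  set κ := R.ell w x with hκ
  set w' := κ⁻¹ • w with hw'
  refine ⟨κ, w', ?_, by rw [hw', smul_smul, mul_inv_cancel₀ hLx, one_smul]⟩
  have hval : ∀ s, R.Rat s → R.ell s w' ∈ R.F₀ := fun s hs => by
    rw [hw', ell, map_smul, smul_eq_mul, f.skew s w]
    have := R.F₀.neg_mem (hratio s hs)
    rwa [show R.ζ * (κ⁻¹ * -f.B w s) = -(R.ell w s / κ) by rw [ell]; ring]
  obtain ⟨φ, hφ⟩ : ∃ φ : F →ₗ[R.F₀] R.F₀, φ 1 = 1 := by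
    obtain ⟨φ, hφ1, -⟩ := Submodule.exists_le_ker_of_notMem (K := R.F₀) (p := (⊥ : Submodule R.F₀ F)) (v := (1 : F))
      (by simp)
    exact ⟨(φ 1)⁻¹ • φ, by rw [LinearMap.smul_apply, smul_eq_mul, inv_mul_cancel₀ hφ1]⟩
  have heq : R.proj φ w' = w' := by
    by_contra hne
    obtain ⟨v, -, hv⟩ := f.exists_perp_eq_one ⊥ (x := R.proj φ w' - w') (by simpa using sub_ne_zero.mpr hne)
    have : f.B (R.proj φ w' - w') v = 0 := by
      have hle : Submodule.span F {r | R.Rat r ∧ ∀ s ∈ (∅ : Set (ι → F)), f.B s r = 0} ≤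
          LinearMap.ker (f.B (R.proj φ w' - w')) := by
        refine Submodule.span_le.mpr fun s hs => ?_
        have h1 := R.ell_proj φ hs.1 w'
        have key : ∀ (a : F) (h : a ∈ R.F₀), φ a = ⟨a, h⟩ := fun a h => by
          have := φ.map_smul (⟨a, h⟩ : R.F₀) (1 : F)
          rw [hφ, smul_eq_mul, mul_one] at this
          rw [← this]
          exact congrArg φ (mul_one a).symm
        have h2 : φ (R.ell s w') = ⟨_, hval s hs.1⟩ := key _ _
        rw [h2] at h1
        show f.B (R.proj φ w' - w') s = 0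
        rw [f.skew, map_sub]
        have h3 := mul_left_cancel₀ R.hζ h1
        rw [h3, sub_self, neg_zero]
      exact hle (R.mem_span_rat_perp ∅ (by simp) (by simp))
    rw [this] at hv
    exact zero_ne_one hv
  exact heq ▸ R.proj_rat φ w'

end RatSymp

end Cfsg.Agent.Lib.MaxSub
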