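import Cfsg.Prelude.Def_GeometricClasses
import Mathlib

/-!
Tensor decompositions in which one factor has a distinguished frame.
-/

set_option autoImplicit false

namespace Cfsg.Agent.Lib.MaxSub.TensorFrame

open Matrix
open scoped MatrixGroups Matrix Kronecker

variable {ι : Type} [Fintype ι] [DecidableEq ι] {F : Type*} [Field F]

/-- A two argument form linear on the left and semilinear on the right is given by its Gram matrix. -/
theorem formOfGram_gram {κ : Type} [Fintype κ] [DecidableEq κ] (σ : F → F) {f : (κ → F) → (κ → F) → F}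
    (hal : ∀ x y v, f (x + y) v = f x v + f y v) (hsl : ∀ (a : F) x v, f (a • x) v = a * f x v)
    (har : ∀ v x y, f v (x + y) = f v x + f v y) (hsr : ∀ (a : F) v x, f v (a • x) = σ a * f v x) (x y : κ → F) :
    Cfsg.Geo.formOfGram σ (Cfsg.Geo.gramMatrix f) x y = f x y := by
  let L : ∀ v, (κ → F) →+ F := fun v => AddMonoidHom.mk' (fun x => f x v) fun x y => hal x y v
  let R : ∀ v, (κ → F) →+ F := fun v => AddMonoidHom.mk' (f v) (har v)
  have hL : ∀ v, f x v = ∑ a, x a * f (Pi.single a 1) v := fun v => by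
    conv_lhs => rw [pi_eq_sum_univ' x]
    exact (map_sum (L v) _ _).trans (Finset.sum_congr rfl fun a _ => hsl _ _ _)
  have hR : ∀ v, f v y = ∑ b, f v (Pi.single b 1) * σ (y b) := fun v => by
    conv_lhs => rw [pi_eq_sum_univ' y]
    exact (map_sum (R v) _ _).trans (Finset.sum_congr rfl fun b _ => (hsr _ _ _).trans (mul_comm _ _))
  rw [hL, Cfsg.Geo.formOfGram]
  refine Finset.sum_congr rfl fun a _ => ?_
  rw [hR, Finset.mul_sum]
  exact Finset.sum_congr rfl fun b _ => by rw [Cfsg.Geo.gramMatrix, mul_assoc]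

variable {n₁ n₂ : ℕ}

/-- The pure tensors. -/
def tau (e : ι ≃ Fin n₁ × Fin n₂) (P : GL ι F) (x : Fin n₁ → F) (u : Fin n₂ → F) : ι → F :=
  (P : Matrix ι ι F) *ᵥ ((fun p : Fin n₁ × Fin n₂ => x p.1 * u p.2) ∘ e)

theorem tau_add_left (e : ι ≃ Fin n₁ × Fin n₂) (P : GL ι F) (x y : Fin n₁ → F) (u : Fin n₂ → F) :
    tau e P (x + y) u = tau e P x u + tau e P y u := by
  rw [tau, tau, tau, ← Matrix.mulVec_add]
  congr 1
  funext i
  simp [add_mul]

theorem tau_smul_left (e : ι ≃ Fin n₁ × Fin n₂) (P : GL ι F) (c : F) (x : Fin n₁ → F) (u : Fin n₂ → F) :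
    tau e P (c • x) u = c • tau e P x u := by
  rw [tau, tau, ← Matrix.mulVec_smul]
  congr 1
  funext i
  simp [mul_assoc]

theorem tau_add_right (e : ι ≃ Fin n₁ × Fin n₂) (P : GL ι F) (x : Fin n₁ → F) (u w : Fin n₂ → F) :
    tau e P x (u + w) = tau e P x u + tau e P x w := by
  rw [tau, tau, tau, ← Matrix.mulVec_add]
  congr 1
  funext i
  simp [mul_add]

theorem tau_smul_right (e : ι ≃ Fin n₁ × Fin n₂) (P : GL ι F) (c : F) (x : Fin n₁ → F) (u : Fin n₂ → F) :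
    tau e P x (c • u) = c • tau e P x u := by
  rw [tau, tau, ← Matrix.mulVec_smul]
  congr 1
  funext i
  simp [mul_left_comm]

/-- Tensors with fixed first factor, as a linear map. -/
def block (e : ι ≃ Fin n₁ × Fin n₂) (P : GL ι F) (x : Fin n₁ → F) : (Fin n₂ → F) →ₗ[F] (ι → F) where
  toFun := tau e P x
  map_add' := tau_add_right e P x
  map_smul' c u := tau_smul_right e P c x u

/-- Tensors with fixed second factor, as a linear map. -/
def blockLeft (e : ι ≃ Fin n₁ × Fin n₂) (P : GL ι F) (u : Fin n₂ → F) : (Fin n₁ → F) →ₗ[F] (ι → F) where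
  toFun x := tau e P x u
  map_add' x y := tau_add_left e P x y u
  map_smul' c x := tau_smul_left e P c x u

/-- The value of the form on pure tensors. -/
theorem form_tau {e : ι ≃ Fin n₁ × Fin n₂} {P : GL ι F} {σ : F → F} (hσ : ∀ a b, σ (a * b) = σ a * σ b)
    {f : (ι → F) → (ι → F) → F} {f₁ : (Fin n₁ → F) → (Fin n₁ → F) → F} {f₂ : (Fin n₂ → F) → (Fin n₂ → F) → F}
    {c : F}
    (hc : ∀ x y : Fin n₁ × Fin n₂ → F, f ((P : Matrix ι ι F) *ᵥ (x ∘ e)) ((P : Matrix ι ι F) *ᵥ (y ∘ e)) =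
      c * Cfsg.Geo.formOfGram σ (Cfsg.Geo.gramMatrix f₁ ⊗ₖ Cfsg.Geo.gramMatrix f₂) x y)
    (x y : Fin n₁ → F) (u w : Fin n₂ → F) :
    f (tau e P x u) (tau e P y w) = c * (Cfsg.Geo.formOfGram σ (Cfsg.Geo.gramMatrix f₁) x y *
      Cfsg.Geo.formOfGram σ (Cfsg.Geo.gramMatrix f₂) u w) := by
  rw [tau, tau, hc]
  congr 1
  simp only [Cfsg.Geo.formOfGram, Fintype.sum_prod_type, Finset.sum_mul_sum]
  refine Finset.sum_congr rfl fun a _ => Finset.sum_congr rfl fun b _ =>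
    Finset.sum_congr rfl fun i _ => Finset.sum_congr rfl fun j _ => ?_
  simp only [Matrix.kroneckerMap_apply, hσ]
  ring

/-- The elements of the tensor subgroup on pure tensors. -/
theorem exists_factors {e : ι ≃ Fin n₁ × Fin n₂} {P : GL ι F} {g : GL ι F}
    (hg : g ∈ Cfsg.Geo.tensorProductSubgroup n₁ n₂ e P) :
    ∃ (a : GL (Fin n₁) F) (b : GL (Fin n₂) F), ∀ x u, (g : Matrix ι ι F) *ᵥ tau e P x u =
      tau e P ((a : Matrix (Fin n₁) (Fin n₁) F) *ᵥ x) ((b : Matrix (Fin n₂) (Fin n₂) F) *ᵥ u) := by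
  obtain ⟨_, ⟨h, ⟨a, b, hab⟩, rfl⟩, rfl⟩ := hg
  refine ⟨a, b, fun x u => ?_⟩
  rw [tau, tau, MulEquiv.coe_toMonoidHom, MulAut.conj_apply, Matrix.mulVec_mulVec, ← Units.val_mul,
    inv_mul_cancel_right, Units.val_mul, ← Matrix.mulVec_mulVec]
  congr 1
  show Matrix.reindex e.symm e.symm (h : Matrix (Fin n₁ × Fin n₂) (Fin n₁ × Fin n₂) F) *ᵥ _ = _
  rw [Matrix.reindex_apply, Equiv.symm_symm, Matrix.submatrix_mulVec_equiv, Function.comp_assoc,
    Equiv.self_comp_symm, Function.comp_id, hab]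
  congr 1
  funext p
  simp only [Matrix.mulVec, dotProduct, Fintype.sum_prod_type, Matrix.kroneckerMap_apply, Finset.sum_mul_sum]
  exact Finset.sum_congr rfl fun i _ => Finset.sum_congr rfl fun j _ => by ring

/-- Blocks which the stabiliser `T` permutes monomially while its members act alike on all of them. -/
theorem between {t k : ℕ} (f : (ι → F) → (ι → F) → F) (L : Fin t → (Fin k → F) →ₗ[F] (ι → F))
    (hzero : ∀ v, f 0 v = 0) (hinj : ∀ i u, u ≠ 0 → ∃ w, f (L i u) (L i w) ≠ 0)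
    (horth : ∀ i j u w, i ≠ j → f (L i u) (L j w) = 0) {T G : Subgroup (GL ι F)}
    (hT : ∀ g ∈ T ⊓ G, ∃ (π : Equiv.Perm (Fin t)) (μ : Fin t → F) (b : GL (Fin k) F), (∀ i, μ i ≠ 0) ∧
      ∀ i u, (g : Matrix ι ι F) *ᵥ L i u = μ i • L (π i) ((b : Matrix (Fin k) (Fin k) F) *ᵥ u))
    {g₁ : GL ι F} (hg₁ : g₁ ∈ G) (hstab : ∀ i u, ∃ w, (g₁ : Matrix ι ι F) *ᵥ L i u = L i w) {i₀ i₁ : Fin t}
    (hfix : ∀ u, (g₁ : Matrix ι ι F) *ᵥ L i₁ u = L i₁ u) {u₀ u₁ : Fin k → F} (hu₀ : u₀ ≠ 0)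
    (hfix₀ : (g₁ : Matrix ι ι F) *ᵥ L i₀ u₀ = L i₀ u₀) (hmove : (g₁ : Matrix ι ι F) *ᵥ L i₀ u₁ ≠ L i₀ u₁)
    {g₂ : GL ι F} (hg₂ : g₂ ∈ G) {i : Fin t} {u : Fin k → F} {j j' : Fin t} (hjj : j ≠ j') {w w' : Fin k → F}
    (h₂ : f ((g₂ : Matrix ι ι F) *ᵥ L i u) (L j w) ≠ 0)
    (h₂' : f ((g₂ : Matrix ι ι F) *ᵥ L i u) (L j' w') ≠ 0) :
    ∃ K : Subgroup (GL ι F), T ⊓ G < K ∧ K < G := by
  classical
  let D : Fin t → Submodule F (ι → F) := fun i => LinearMap.range (L i)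
  have hLinj : ∀ i u w, L i u = L i w → u = w := fun i u w h => by
    by_contra hne
    obtain ⟨z, hz⟩ := hinj i (u - w) (sub_ne_zero.mpr hne)
    rw [map_sub, h, sub_self, hzero] at hz
    exact hz rfl
  refine ⟨Cfsg.Geo.decompositionStabilizer D ⊓ G, lt_of_le_of_ne ?_ ?_, lt_of_le_of_ne inf_le_right ?_⟩
  · rintro g hg
    obtain ⟨π, μ, b, hμ, hg'⟩ := hT g hg
    refine ⟨⟨π, fun i => le_antisymm ?_ ?_⟩, hg.2⟩
    · rintro _ ⟨_, ⟨z, rfl⟩, rfl⟩
      exact ⟨μ i • ((b : Matrix (Fin k) (Fin k) F) *ᵥ z), by rw [Matrix.toLin'_apply, hg', map_smul]⟩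
    · rintro _ ⟨z, rfl⟩
      refine ⟨L i ((μ i)⁻¹ • (((b⁻¹ : GL (Fin k) F) : Matrix (Fin k) (Fin k) F) *ᵥ z)), ⟨_, rfl⟩, ?_⟩
      rw [Matrix.toLin'_apply, hg', Matrix.mulVec_smul, map_smul, smul_smul, mul_inv_cancel₀ (hμ i), one_smul,
        Matrix.mulVec_mulVec, ← Units.val_mul, mul_inv_cancel, Units.val_one, Matrix.one_mulVec]
  · intro h
    have hmem : g₁ ∈ Cfsg.Geo.decompositionStabilizer D ⊓ G := by
      refine ⟨⟨1, fun i => ?_⟩, hg₁⟩
      have hle : (D i).map (Matrix.toLin' (g₁ : Matrix ι ι F)) ≤ D i := by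
        rintro _ ⟨_, ⟨z, rfl⟩, rfl⟩
        obtain ⟨w, hw⟩ := hstab i z
        exact ⟨w, by rw [Matrix.toLin'_apply, hw]⟩
      exact Submodule.eq_of_le_of_finrank_eq hle (Submodule.equivMapOfInjective _
        (Matrix.mulVec_injective_iff_isUnit.mpr g₁.isUnit) (D i)).finrank_eq.symm
    rw [← h] at hmem
    obtain ⟨π, μ, b, hμ, hg⟩ := hT g₁ hmem
    have hπ : ∀ i z, (g₁ : Matrix ι ι F) *ᵥ L i z = L i z → z ≠ 0 → π i = i := by
      intro i z hz hz0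
      by_contra hne
      obtain ⟨y, hy⟩ := hinj i z hz0
      rw [← hz, hg, ← map_smul, horth _ _ _ _ hne] at hy
      exact hy rfl
    have hb : ∀ z, μ i₁ • ((b : Matrix (Fin k) (Fin k) F) *ᵥ z) = z := fun z => by
      by_cases hz : z = 0
      · simp [hz]
      · have h1 := hfix z
        rw [hg, hπ i₁ z (hfix z) hz, ← map_smul] at h1
        exact hLinj _ _ _ h1
    have hb' : ∀ z, (g₁ : Matrix ι ι F) *ᵥ L i₀ z = (μ i₀ * (μ i₁)⁻¹) • L i₀ z := fun z => by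
      conv_rhs => rw [← hb z, map_smul, smul_smul, mul_assoc, inv_mul_cancel₀ (hμ i₁), mul_one]
      rw [hg, hπ i₀ u₀ hfix₀ hu₀]
    have h1 : μ i₀ * (μ i₁)⁻¹ = 1 := by
      have h1 := hb' u₀
      rw [hfix₀, ← map_smul] at h1
      have h2 := hLinj _ _ _ h1
      exact smul_left_injective F hu₀ (by simpa using h2.symm)
    exact hmove (by rw [hb' u₁, h1, one_smul])
  · intro h
    have h1 := hg₂
    rw [← h] at h1
    obtain ⟨σ, hσ⟩ := h1.1
    obtain ⟨z, hz⟩ : (g₂ : Matrix ι ι F) *ᵥ L i u ∈ D (σ i) := hσ i ▸ ⟨_, ⟨u, rfl⟩, Matrix.toLin'_apply _ _⟩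
    rw [← hz] at h₂ h₂'
    exact hjj ((by_contra fun hne => h₂ (horth _ _ _ _ hne) : σ i = j).symm.trans
      (by_contra fun hne => h₂' (horth _ _ _ _ hne)))

end Cfsg.Agent.Lib.MaxSub.TensorFrame
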