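import Cfsg.Agent.Lib.MaxSub.TensorFrame

/-!
Distinguished frames in three dimensional orthogonal spaces over three elements and two dimensional unitary spaces
over four elements.
-/

set_option autoImplicit false

namespace Cfsg.Agent.Lib.MaxSub.TensorFrame

open Matrix
open scoped MatrixGroups Matrix

variable {F : Type*} [Field F]

/-- The first factor of an element preserving a tensor product form is a similitude. -/
theorem similitude {n₁ n₂ : ℕ} {f₁ : (Fin n₁ → F) → (Fin n₁ → F) → F} {f₂ : (Fin n₂ → F) → (Fin n₂ → F) → F}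
    {a : GL (Fin n₁) F} {b : GL (Fin n₂) F}
    (h : ∀ x y u w, f₁ ((a : Matrix (Fin n₁) (Fin n₁) F) *ᵥ x) ((a : Matrix (Fin n₁) (Fin n₁) F) *ᵥ y) *
      f₂ ((b : Matrix (Fin n₂) (Fin n₂) F) *ᵥ u) ((b : Matrix (Fin n₂) (Fin n₂) F) *ᵥ w) = f₁ x y * f₂ u w)
    {x₀ y₀ : Fin n₁ → F} (h₁ : f₁ x₀ y₀ ≠ 0) {u₀ w₀ : Fin n₂ → F} (h₂ : f₂ u₀ w₀ ≠ 0) :
    ∃ k : F, k ≠ 0 ∧
      ∀ x y, f₁ ((a : Matrix (Fin n₁) (Fin n₁) F) *ᵥ x) ((a : Matrix (Fin n₁) (Fin n₁) F) *ᵥ y) = k * f₁ x y := by
  set z := f₂ ((b : Matrix (Fin n₂) (Fin n₂) F) *ᵥ u₀) ((b : Matrix (Fin n₂) (Fin n₂) F) *ᵥ w₀) with hz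
  have hz0 : z ≠ 0 := fun e => by
    have := h x₀ y₀ u₀ w₀
    rw [← hz, e, mul_zero] at this
    exact mul_ne_zero h₁ h₂ this.symm
  refine ⟨f₂ u₀ w₀ / z, div_ne_zero h₂ hz0, fun x y => ?_⟩
  have := h x y u₀ w₀
  rw [← hz] at this
  field_simp
  linear_combination this

theorem permEquiv {t : ℕ} (g : Fin t → Fin t) (hg : Function.Injective g) :
    ∃ π : Equiv.Perm (Fin t), ∀ i, π i = g i :=
  ⟨Equiv.ofBijective g (Finite.injective_iff_bijective.mp hg), fun _ => rfl⟩

set_option maxHeartbeats 800000 in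
/-- The frame of a three dimensional symmetric form over three elements. -/
theorem exists_frame_symm [Fintype F] (hq : Fintype.card F = 3) {f : (Fin 3 → F) → (Fin 3 → F) → F}
    (hf : Cfsg.Geo.IsSymmetricForm f) :
    ∃ (v : Fin 3 → Fin 3 → F) (d : F), d ≠ 0 ∧ (∀ i j, f (v i) (v j) = if i = j then d else 0) ∧
      ∀ (a : GL (Fin 3) F) (k : F), k ≠ 0 →
        (∀ x y, f ((a : Matrix (Fin 3) (Fin 3) F) *ᵥ x) ((a : Matrix (Fin 3) (Fin 3) F) *ᵥ y) = k * f x y) →
        ∃ (π : Equiv.Perm (Fin 3)) (μ : Fin 3 → F), (∀ i, μ i ≠ 0) ∧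
          ∀ i, (a : Matrix (Fin 3) (Fin 3) F) *ᵥ v i = μ i • v (π i) := by
  classical
  have h3 : ∀ z : F, z ≠ 0 → z * z = 1 := fun z hz => by
    have := FiniteField.pow_card_sub_one_eq_one z hz
    rwa [hq, pow_two] at this
  have h30 : (3 : F) = 0 := by
    have := FiniteField.cast_card_eq_zero F
    rw [hq] at this
    exact_mod_cast this
  have h2 : (2 : F) ≠ 0 := fun h => one_ne_zero (α := F) (by linear_combination h30 - h)
  haveI : Invertible (2 : F) := invertibleOfNonzero h2
  let B : LinearMap.BilinForm F (Fin 3 → F) := LinearMap.mk₂ F f hf.bilinear.add_left hf.bilinear.smul_left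
    hf.bilinear.add_right hf.bilinear.smul_right
  obtain ⟨b, hb⟩ := LinearMap.BilinForm.exists_orthogonal_basis (B := B) ⟨fun x y => hf.symm x y⟩
  have hr : Module.finrank F (Fin 3 → F) = 3 := by simp
  let w : Fin 3 → Fin 3 → F := fun i => b (Fin.cast hr.symm i)
  have hw : ∀ i j, i ≠ j → f (w i) (w j) = 0 := fun i j h => hb (fun e => h (Fin.cast_injective _ e))
  have hw0 : ∀ i, f (w i) (w i) ≠ 0 := fun i h0 => by
    obtain ⟨x, hx⟩ := (hf.nondegenerate (w i) (b.ne_zero _)).1
    refine hx ?_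
    show B x (w i) = 0
    rw [← b.sum_repr x, map_sum, LinearMap.sum_apply]
    refine Finset.sum_eq_zero fun j _ => ?_
    rw [map_smul, LinearMap.smul_apply]
    by_cases hj : j = Fin.cast hr.symm i
    · subst hj; exact smul_eq_zero.mpr (Or.inr h0)
    · exact smul_eq_zero.mpr (Or.inr (hb hj))
  -- an orthogonal family with equal values
  obtain ⟨v, d, hd, hv⟩ : ∃ (v : Fin 3 → Fin 3 → F) (d : F), d ≠ 0 ∧ ∀ i j, f (v i) (v j) = if i = j then d else 0 := by
    have key : ∀ p q r, f p q = 0 → f p r = 0 → f q r = 0 → f p p = f q q → f r r ≠ 0 → f p p ≠ 0 →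
        ∃ (v : Fin 3 → Fin 3 → F) (d : F), d ≠ 0 ∧ ∀ i j, f (v i) (v j) = if i = j then d else 0 := by
      intro p q r hpq hpr hqr he hr0 hp0
      have hB : ∀ x y, f x y = B x y := fun _ _ => rfl
      by_cases hre : f r r = f p p
      · refine ⟨![p, q, r], f p p, hp0, fun i j => ?_⟩
        fin_cases i <;> fin_cases j <;> simp [hpq, hpr, hqr, hf.symm q p, hf.symm r p, hf.symm r q, he, hre]
      · have hrr : f r r = -f p p := by
          rcases mul_self_eq_one_iff.mp (h3 _ hr0) with h | h <;>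
            rcases mul_self_eq_one_iff.mp (h3 _ hp0) with h' | h' <;> rw [h, h'] at hre ⊢ <;>
            first | exact absurd rfl hre | simp
        refine ⟨![r, p + q, p - q], f r r, hr0, fun i j => ?_⟩
        simp only [hB] at hpq hpr hqr he hrr ⊢
        have hqp : B q p = 0 := (hf.symm q p).trans hpq
        have hrp : B r p = 0 := (hf.symm r p).trans hpr
        have hrq : B r q = 0 := (hf.symm r q).trans hqr
        fin_cases i <;> fin_cases j <;>
          simp [hpq, hpr, hqr, hqp, hrp, hrq, ← he, hrr] <;> linear_combination (B p p) * h30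
    have e1 := h3 _ (hw0 0)
    have e2 := h3 _ (hw0 1)
    have e3 := h3 _ (hw0 2)
    rcases mul_self_eq_one_iff.mp e1 with a | a <;> rcases mul_self_eq_one_iff.mp e2 with b' | b' <;>
      rcases mul_self_eq_one_iff.mp e3 with c | c
    all_goals first
      | exact key (w 0) (w 1) (w 2) (hw _ _ (by decide)) (hw _ _ (by decide)) (hw _ _ (by decide)) (a.trans b'.symm)
          (hw0 _) (hw0 _)
      | exact key (w 0) (w 2) (w 1) (hw _ _ (by decide)) (hw _ _ (by decide)) (hw _ _ (by decide)) (a.trans c.symm)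
          (hw0 _) (hw0 _)
      | exact key (w 1) (w 2) (w 0) (hw _ _ (by decide)) (hw _ _ (by decide)) (hw _ _ (by decide)) (b'.trans c.symm)
          (hw0 _) (hw0 _)
  refine ⟨v, d, hd, hv, fun a k hk ha => ?_⟩
  have hBv : ∀ i j, B (v i) (v j) = if i = j then d else 0 := hv
  have hli : LinearIndependent F v := Fintype.linearIndependent_iff.mpr fun g hg i => by
    have h1 := congrArg (fun z => B z (v i)) hg
    simp [map_sum, LinearMap.sum_apply, hBv, hd] at h1
    exact h1
  let bv := basisOfLinearIndependentOfCardEqFinrank hli (by simp)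
  let M : Matrix (Fin 3) (Fin 3) F := Matrix.of fun i j => bv.repr ((a : Matrix (Fin 3) (Fin 3) F) *ᵥ v i) j
  have hMv : ∀ i, (a : Matrix (Fin 3) (Fin 3) F) *ᵥ v i = ∑ j, M i j • v j := fun i => by
    conv_lhs => rw [← bv.sum_repr ((a : Matrix (Fin 3) (Fin 3) F) *ᵥ v i)]
    simp [M, bv]
  have hMM : M * Mᵀ = k • (1 : Matrix (Fin 3) (Fin 3) F) := by
    ext i l
    have h1 : B ((a : Matrix (Fin 3) (Fin 3) F) *ᵥ v i) ((a : Matrix (Fin 3) (Fin 3) F) *ᵥ v l) = k * B (v i) (v l) :=
      ha _ _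
    rw [hMv, hMv, hBv] at h1
    simp [map_sum, LinearMap.sum_apply, hBv] at h1
    simp only [Matrix.mul_apply, Matrix.transpose_apply, Matrix.smul_apply, Matrix.one_apply, smul_eq_mul]
    split_ifs with h
    · subst h
      simp at h1
      refine mul_right_cancel₀ hd ?_
      rw [Finset.sum_mul, mul_one]
      exact (Finset.sum_congr rfl fun j _ => by ring).trans h1
    · rw [if_neg h] at h1
      refine mul_right_cancel₀ hd ?_
      rw [Finset.sum_mul, mul_zero, zero_mul]
      exact (Finset.sum_congr rfl fun j _ => by ring).trans h1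
  have hk1 : k = 1 := by
    rcases mul_self_eq_one_iff.mp (h3 k hk) with h | h
    · exact h
    exfalso
    have h1 := congrArg Matrix.det hMM
    rw [Matrix.det_mul, Matrix.det_transpose, Matrix.det_smul, Matrix.det_one, h] at h1
    norm_num at h1
    by_cases hM : M.det = 0
    · rw [hM] at h1; simp at h1
    · rw [h3 _ hM] at h1; exact h2 (by linear_combination h1)
  subst hk1
  have hrow : ∀ i, ∃ j, M i j ≠ 0 ∧ ∀ l, l ≠ j → M i l = 0 := by
    intro i
    have h1 := congrFun (congrFun hMM i) i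
    simp only [Matrix.mul_apply, Matrix.transpose_apply, Fin.sum_univ_three, Matrix.smul_apply, Matrix.one_apply_eq,
      smul_eq_mul, mul_one] at h1
    by_cases a0 : M i 0 = 0 <;> by_cases a1 : M i 1 = 0 <;> by_cases a2 : M i 2 = 0
    all_goals simp only [a0, a1, a2, h3 _, ne_eq, not_false_eq_true, mul_zero, add_zero, zero_add] at h1
    all_goals first
      | exact absurd h1 zero_ne_one
      | (exfalso; exact one_ne_zero (α := F) (by linear_combination h1))
      | (exfalso; exact h2 (by linear_combination h30 - h1))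
      | (exfalso; exact h2 (by linear_combination h1))
      | (refine ⟨0, a0, fun l hl => ?_⟩; fin_cases l <;> simp_all; done)
      | (refine ⟨1, a1, fun l hl => ?_⟩; fin_cases l <;> simp_all; done)
      | (refine ⟨2, a2, fun l hl => ?_⟩; fin_cases l <;> simp_all; done)
  choose g hg0 hg using hrow
  have hav : ∀ i, (a : Matrix (Fin 3) (Fin 3) F) *ᵥ v i = M i (g i) • v (g i) := fun i => by
    rw [hMv]
    exact Finset.sum_eq_single _ (fun l _ hl => by rw [hg i l hl, zero_smul]) (fun h => absurd (Finset.mem_univ _) h)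
  have hinj : Function.Injective g := fun i l he => by
    by_contra hne
    have h1 := congrFun (congrFun hMM i) l
    rw [Matrix.mul_apply, Finset.sum_eq_single (g i) (fun j _ hj => by rw [hg i j hj, zero_mul])
      (fun h => absurd (Finset.mem_univ _) h)] at h1
    simp [Matrix.one_apply, hne] at h1
    rcases h1 with h1 | h1
    · exact hg0 i h1
    · exact hg0 l (he ▸ h1)
  obtain ⟨π, hπ⟩ := permEquiv g hinj
  exact ⟨π, fun i => M i (g i), hg0, fun i => by rw [hπ, hav]⟩

end Cfsg.Agent.Lib.MaxSub.TensorFrame
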