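import Cfsg.Agent.Lib.MaxSub.OrthSplitMain
import Cfsg.Agent.Lib.MaxSub.TensorFrameData

/-!
Tensor products with a three dimensional orthogonal factor over three elements inside orthogonal groups.
-/

set_option autoImplicit false

namespace Cfsg.Agent.Lib.MaxSub.TensorFrame

open Matrix QuadraticMap
open Cfsg.Agent.Lib.Geometry (quad_add quad_smul quad_polar_comm)
open scoped MatrixGroups Matrix Kronecker

attribute [-simp] QuadraticMap.polarBilin_apply_apply

variable {ι : Type} [Fintype ι] [DecidableEq ι] {F : Type*} [Field F]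

set_option maxHeartbeats 800000 in
/-- The first factor of dimension three. -/
theorem symm_between [Fintype F] (hq : Fintype.card F = 3) (Q : QuadraticForm F (ι → F))
    (hN : (polarBilin Q).Nondegenerate) (h7 : 7 ≤ Fintype.card ι) {n₂ : ℕ} (h4 : 4 ≤ n₂) (e : ι ≃ Fin 3 × Fin n₂)
    (P : GL ι F) (f₁ : (Fin 3 → F) → (Fin 3 → F) → F) (f₂ : (Fin n₂ → F) → (Fin n₂ → F) → F)
    (hf₁ : Cfsg.Geo.IsSymmetricForm f₁) (hf₂ : Cfsg.Geo.IsSymmetricForm f₂)
    (hT : Cfsg.Geo.IsTensorFormStructure id (QuadraticMap.polar ⇑Q) f₁ f₂ e P) :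
    ∃ K : Subgroup (GL ι F), Cfsg.Geo.tensorProductSubgroup 3 n₂ e P ⊓ Cfsg.Geo.omegaGL ⇑Q < K ∧
      K < Cfsg.Geo.omegaGL ⇑Q := by
  classical
  obtain ⟨c, hc0, hc⟩ := hT
  have e1 : ∀ x y, Cfsg.Geo.formOfGram id (Cfsg.Geo.gramMatrix f₁) x y = f₁ x y := fun x y =>
    formOfGram_gram id hf₁.bilinear.add_left hf₁.bilinear.smul_left hf₁.bilinear.add_right hf₁.bilinear.smul_right x y
  have e2 : ∀ x y, Cfsg.Geo.formOfGram id (Cfsg.Geo.gramMatrix f₂) x y = f₂ x y := fun x y =>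
    formOfGram_gram id hf₂.bilinear.add_left hf₂.bilinear.smul_left hf₂.bilinear.add_right hf₂.bilinear.smul_right x y
  have hB : ∀ x y u w, polarBilin Q (tau e P x u) (tau e P y w) = c * (f₁ x y * f₂ u w) := fun x y u w => by
    rw [polarBilin_apply_apply, form_tau (σ := id) (fun _ _ => rfl) hc, e1, e2]
  obtain ⟨v, d, hd, hv, hperm⟩ := exists_frame_symm hq hf₁
  let L : Fin 3 → (Fin n₂ → F) →ₗ[F] (ι → F) := fun i => block e P (v i)
  have hL : ∀ i j u w, polarBilin Q (L i u) (L j w) = if i = j then c * (d * f₂ u w) else 0 := fun i j u w => by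
    show polarBilin Q (tau e P (v i) u) (tau e P (v j) w) = _
    rw [hB, hv]
    split_ifs <;> simp
  have hinj : ∀ i u, u ≠ 0 → ∃ w, polarBilin Q (L i u) (L i w) ≠ 0 := fun i u hu => by
    obtain ⟨w, hw⟩ := (hf₂.nondegenerate u hu).2
    exact ⟨w, by rw [hL, if_pos rfl]; exact mul_ne_zero hc0 (mul_ne_zero hd hw)⟩
  have horth : ∀ i j u w, i ≠ j → polarBilin Q (L i u) (L j w) = 0 := fun i j u w h => by rw [hL, if_neg h]
  have hLker : ∀ i, Function.Injective (L i) := fun i u w h => by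
    by_contra hne
    obtain ⟨z, hz⟩ := hinj i (u - w) (sub_ne_zero.mpr hne)
    rw [map_sub, h, sub_self, map_zero] at hz
    exact hz rfl
  have hrank : ∀ i, Module.finrank F (LinearMap.range (L i)) = n₂ := fun i => by
    rw [LinearMap.finrank_range_of_inj (hLker i), Module.finrank_fintype_fun_eq_card, Fintype.card_fin]
  -- a singular vector in each block
  have hsing : ∀ i, ∃ z, z ≠ 0 ∧ Q (L i z) = 0 := fun i => by
    obtain ⟨_, ⟨z, rfl⟩, hz0, hz⟩ := Orth.exists_singular (Q := Q) (LinearMap.range (L i)) (by rw [hrank]; omega)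
    exact ⟨z, fun h => hz0 (by rw [h, map_zero]), hz⟩
  obtain ⟨z₀, hz₀, hu⟩ := hsing 0
  obtain ⟨_, ⟨⟨z', rfl⟩, hux⟩, hxu⟩ := OrthSplit.exists_outside (F ∙ L 0 z₀)
    (X := LinearMap.range (L 0) ⊓ LinearMap.ker (polarBilin Q (L 0 z₀))) (by
      have h1 := OrthSplit.finrank_inf_ker (LinearMap.range (L 0)) (polarBilin Q (L 0 z₀))
      have h2 := finrank_span_le_card (R := F) ({L 0 z₀} : Set (ι → F))
      rw [hrank] at h1
      simp only [Set.toFinset_singleton, Finset.card_singleton] at h2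
      omega)
  have hux : polarBilin Q (L 0 z₀) (L 0 z') = 0 := hux
  obtain ⟨y₀, hy₀⟩ := hinj 0 z₀ hz₀
  obtain ⟨z₁, hz₁, hu₁⟩ := hsing 1
  obtain ⟨w₀, hw₀⟩ := hinj 0 z₀ hz₀
  obtain ⟨w₁, hw₁⟩ := hinj 1 z₁ hz₁
  obtain ⟨x₂, hx₂u, hx₂a⟩ := Orth.exists_dual hN (F ∙ L 1 z₁) (x := L 0 z₀) fun h => by
    obtain ⟨k, hk⟩ := Submodule.mem_span_singleton.mp h
    rw [← hk, map_smul, LinearMap.smul_apply, horth 1 0 z₁ w₀ (by decide), smul_zero] at hw₀
    exact hw₀ rfl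
  have hux₂ : polarBilin Q (L 1 z₁) x₂ = 0 := by
    rw [quad_polar_comm]; exact hx₂u _ (Submodule.mem_span_singleton_self _)
  refine between (fun a b => polarBilin Q a b) L (fun a => by simp) hinj horth (fun g hg => ?_)
    (g₁ := Orth.eichGL Q (L 0 z₀) (L 0 z') hu hux) (Orth.eichGL_mem_omega hN h7 hu hux) (fun i z => ?_)
    (i₀ := 0) (i₁ := 1) (fun z => ?_) (u₀ := z₀) (u₁ := y₀) hz₀ ?_ (fun h => ?_)
    (g₂ := Orth.eichGL Q (L 1 z₁) x₂ hu₁ hux₂) (Orth.eichGL_mem_omega hN h7 hu₁ hux₂) (i := 0) (u := z₀)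
    (j := 0) (j' := 1) (by decide) (w := w₀) (w' := w₁) ?_ ?_
  · obtain ⟨a, b, hab⟩ := exists_factors hg.1
    have hiso := Orth.omegaGL_le_isometry hg.2
    obtain ⟨x₀, hx₀⟩ := (hf₁.nondegenerate (v 0) fun h => by
      have := hv 0 0
      rw [if_pos rfl, h, ← zero_smul F (0 : Fin 3 → F), hf₁.bilinear.smul_left, zero_mul] at this
      exact hd this.symm).2
    obtain ⟨w, hw⟩ := (hf₂.nondegenerate z₀ hz₀).2
    obtain ⟨k, hk, hak⟩ := similitude (f₁ := f₁) (f₂ := f₂) (a := a) (b := b) (fun x y u w => by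
      have h1 := Orth.iso_polar hiso (tau e P x u) (tau e P y w)
      rw [hab, hab, hB, hB] at h1
      exact mul_left_cancel₀ hc0 h1) hx₀ hw
    obtain ⟨π, μ, hμ, hav⟩ := hperm a k hk hak
    refine ⟨π, μ, b, hμ, fun i u => ?_⟩
    show (g : Matrix ι ι F) *ᵥ tau e P (v i) u = μ i • tau e P (v (π i)) _
    rw [hab, hav, tau_smul_left]
  · by_cases hi : i = 0
    · subst hi
      exact ⟨_, by rw [Orth.eichGL_mulVec, ← map_smul, ← map_smul, ← map_add, ← map_sub]⟩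
    · exact ⟨z, by rw [Orth.eichGL_mulVec, horth _ _ _ _ hi, horth _ _ _ _ hi]; simp⟩
  · rw [Orth.eichGL_mulVec, horth _ _ _ _ (by decide), horth _ _ _ _ (by decide)]; simp
  · rw [Orth.eichGL_mulVec, Orth.polar_self_of_sing Q hu, hux]; simp
  · rw [Orth.eichGL_mulVec, add_sub_assoc, add_eq_left, sub_eq_zero] at h
    refine hxu (Submodule.mem_span_singleton.mpr ⟨(polarBilin Q (L 0 y₀) (L 0 z₀))⁻¹ *
      (polarBilin Q (L 0 y₀) (L 0 z') + Q (L 0 z') * polarBilin Q (L 0 y₀) (L 0 z₀)), ?_⟩)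
    rw [← smul_smul, ← h, smul_smul, inv_mul_cancel₀ (by rw [quad_polar_comm]; exact hy₀), one_smul]
  all_goals
    show polarBilin Q _ _ ≠ 0
    rw [Orth.eichGL_mulVec, horth 0 1 _ _ (by decide), zero_smul, add_zero, mul_zero, add_zero,
      quad_polar_comm Q (L 0 z₀) x₂, hx₂a, one_smul, map_sub, LinearMap.sub_apply]
  · rw [horth 1 0 _ _ (by decide), sub_zero]; exact hw₀
  · rw [horth 0 1 _ _ (by decide), zero_sub]; exact neg_ne_zero.mpr hw₁

end Cfsg.Agent.Lib.MaxSub.TensorFrame
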