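import Cfsg.Agent.Lib.Similar.Basic
import Mathlib

/-!
A nilpotent map splits according to any sub-collection of its blocks.
-/

set_option autoImplicit false
set_option maxHeartbeats 1000000

namespace Cfsg.Agent.Lib.MaxSub.UnipotentPairs

open Module Polynomial Cfsg.Agent.Lib.Similar

theorem exists_subset {ι : Type*} [DecidableEq ι] (f : ι → ℕ) : ∀ (s : Finset ι) (ν : Multiset ℕ), ν ≤ s.val.map f →
    ∃ S ⊆ s, S.val.map f = ν := by
  intro s
  induction s using Finset.induction with
  | empty =>
    intro ν hν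
    exact ⟨∅, le_rfl, (Multiset.le_zero.1 (by simpa using hν)).symm⟩
  | insert a s ha ih =>
    intro ν hν
    rw [Finset.insert_val_of_notMem ha, Multiset.map_cons] at hν
    by_cases hmem : f a ∈ ν
    · obtain ⟨S, hS, hSν⟩ := ih (ν.erase (f a)) (Multiset.erase_le_iff_le_cons.2 hν)
      refine ⟨insert a S, Finset.insert_subset_insert a hS, ?_⟩
      rw [Finset.insert_val_of_notMem fun h => ha (hS h), Multiset.map_cons, hSν, Multiset.cons_erase hmem]
    · obtain ⟨S, hS, hSν⟩ := ih ν ((Multiset.le_cons_of_notMem hmem).1 hν)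
      exact ⟨S, hS.trans (Finset.subset_insert a s), hSν⟩

variable {F : Type*} [Field F] {V : Type*} [AddCommGroup V] [Module F V] [FiniteDimensional F V]

theorem exists_parts {N : End F V} {p : ℕ} (hp : 0 < p) (hN : N ^ p = 0) :
    ∃ μ : Multiset ℕ, (∀ a ∈ μ, 0 < a ∧ a ≤ p) ∧ μ.sum = finrank F V ∧
      ∀ ν ≤ μ, ∃ U W : Submodule F V, IsCompl U W ∧ finrank F U = ν.sum ∧ U.map N ≤ U ∧ W.map N ≤ W := by
  classical
  obtain ⟨D⟩ := nonempty_decomp N
  have hX : ∀ i, D.p i = X := by
    intro i
    by_contra hne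
    have hco : IsCoprime (D.p i ^ D.e i) ((X : F[X]) ^ p) := by
      refine IsCoprime.pow ((D.irr i).coprime_iff_not_dvd.2 fun h => hne ?_)
      exact eq_of_monic_of_associated (D.monic i) monic_X ((D.irr i).associated_of_dvd irreducible_X h)
    have h0 : kerDim N (D.p i ^ D.e i) = 0 := by
      rw [kerDim]
      have h1 := disjoint_ker_aeval_of_isCoprime N hco
      rw [map_pow (aeval N) X p, aeval_X, hN, LinearMap.ker_zero, disjoint_top] at h1
      rw [h1, finrank_bot]
    rw [kerDim_pow D (D.irr i) (D.monic i)] at h0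
    rcases Nat.mul_eq_zero.1 h0 with h | h
    · exact (D.irr i).natDegree_pos.ne' h
    · have h2 := Finset.sum_eq_zero_iff.1 h i (Finset.mem_univ i)
      rw [if_pos rfl, min_self] at h2
      exact absurd h2 (Nat.one_le_iff_ne_zero.1 (D.pos i))
  have hbig : ∀ k, p ≤ k → ∑ i, min (D.e i) k = finrank F V := by
    intro k hk
    have h := kerDim_pow D irreducible_X monic_X k
    rw [natDegree_X, one_mul, kerDim, map_pow, aeval_X, pow_eq_zero_of_le hk hN, LinearMap.ker_zero, finrank_top] at h
    rw [h]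
    exact Finset.sum_congr rfl fun i _ => by rw [if_pos (hX i)]
  have hle : ∀ i, D.e i ≤ p := by
    intro i
    by_contra hne
    have h : ∑ j, min (D.e j) p < ∑ j, min (D.e j) (p + D.e i) :=
      Finset.sum_lt_sum (fun j _ => by omega) ⟨i, Finset.mem_univ i, by omega⟩
    rw [hbig p le_rfl, hbig _ (by omega)] at h
    exact lt_irrefl _ h
  refine ⟨Finset.univ.val.map D.e, ?_, ?_, ?_⟩
  · intro a ha
    obtain ⟨i, -, rfl⟩ := Multiset.mem_map.1 ha
    exact ⟨D.pos i, hle i⟩
  · rw [← hbig p le_rfl]
    exact Finset.sum_congr rfl fun i _ => (min_eq_left (hle i)).symm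
  intro ν hν
  obtain ⟨S, -, hS⟩ := exists_subset D.e Finset.univ ν hν
  let φ : V ≃ₗ[F] ((i : D.ι) → F[X] ⧸ Ideal.span {D.p i ^ D.e i}) :=
    (AEval'.of N).trans (D.equiv.restrictScalars F)
  have hφ : ∀ v, φ (N v) = (X : F[X]) • φ v := fun v => by
    simp only [φ, LinearEquiv.trans_apply, LinearEquiv.restrictScalars_apply]
    rw [← map_smul, AEval'.X_smul_of]
  let P : Finset D.ι → Submodule F V := fun T =>
    { carrier := {v | ∀ i, i ∉ T → φ v i = 0}
      add_mem' := fun {u v} hu hv i hi => by rw [map_add, Pi.add_apply, hu i hi, hv i hi, add_zero]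
      zero_mem' := fun i _ => by rw [map_zero, Pi.zero_apply]
      smul_mem' := fun c v hv i hi => by rw [map_smul, Pi.smul_apply, hv i hi, smul_zero] }
  have hinv : ∀ T, (P T).map N ≤ P T := by
    rintro T _ ⟨v, hv, rfl⟩ i hi
    rw [hφ, Pi.smul_apply, hv i hi, smul_zero]
  refine ⟨P S, P Sᶜ, IsCompl.of_eq ?_ ?_, ?_, hinv S, hinv Sᶜ⟩
  · rw [eq_bot_iff]
    intro v hv
    rw [Submodule.mem_bot]
    apply φ.injective
    rw [map_zero]
    funext i
    by_cases hi : i ∈ S
    · exact hv.2 i (by simpa using hi)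
    · exact hv.1 i hi
  · rw [eq_top_iff]
    intro v _
    let f : (i : D.ι) → F[X] ⧸ Ideal.span {D.p i ^ D.e i} := fun i => if i ∈ S then φ v i else 0
    have h1 : φ.symm f ∈ P S := fun i hi => by rw [LinearEquiv.apply_symm_apply]; exact if_neg hi
    have h2 : v - φ.symm f ∈ P Sᶜ := fun i hi => by
      rw [map_sub, Pi.sub_apply, LinearEquiv.apply_symm_apply]
      simp only [Finset.mem_compl, not_not] at hi
      simp [f, hi]
    simpa using Submodule.add_mem_sup h1 h2
  · have : ∀ i, Module.Finite F (F[X] ⧸ Ideal.span {D.p i ^ D.e i}) := fun i =>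
      (AdjoinRoot.powerBasis (pow_ne_zero _ (D.irr i).ne_zero)).finite
    let e : P S ≃ₗ[F] ((i : S) → F[X] ⧸ Ideal.span {D.p i ^ D.e i}) :=
      { toFun := fun v i => φ v.1 i
        map_add' := fun u v => by funext i; simp
        map_smul' := fun c v => by funext i; simp
        invFun := fun z => ⟨φ.symm fun i => if h : i ∈ S then z ⟨i, h⟩ else 0, fun i hi => by
          rw [LinearEquiv.apply_symm_apply]; exact dif_neg hi⟩
        left_inv := fun v => Subtype.ext (by
          apply φ.injective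
          rw [LinearEquiv.apply_symm_apply]
          funext i
          by_cases hi : i ∈ S
          · exact dif_pos hi
          · rw [dif_neg hi]; exact (v.2 i hi).symm)
        right_inv := fun z => funext fun i => by
          show φ (φ.symm _) i.1 = z i
          rw [LinearEquiv.apply_symm_apply]; exact dif_pos i.2 }
    rw [e.finrank_eq, Module.finrank_pi_fintype, ← hS]
    refine Eq.trans (Finset.sum_congr rfl fun i _ => ?_) (Finset.sum_attach S D.e)
    show finrank F (AdjoinRoot (D.p i.1 ^ D.e i.1)) = _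
    rw [(AdjoinRoot.powerBasis (pow_ne_zero _ (D.irr i).ne_zero)).finrank.trans (AdjoinRoot.powerBasis_dim _),
      natDegree_pow, hX, natDegree_X, mul_one]

end Cfsg.Agent.Lib.MaxSub.UnipotentPairs
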