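import Cfsg.Agent.Lib.MaxSub.UnitaryOrthSubfield
import Mathlib

/-!
The stabiliser of a real structure of a Hermitian form and an element outside it generate all transvections.
-/

set_option autoImplicit false
set_option maxHeartbeats 800000
set_option linter.unusedSectionVars false

namespace Cfsg.Agent.Lib.MaxSub.UnitaryOrth

open Matrix SiegelOp

variable {ι : Type} [Fintype ι] [DecidableEq ι] {F : Type*} [Field F] [Finite F] {f : HermF ι F} {D : OData f}
  {K : Subgroup (GL ι F)}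

theorem conj_op {N N' : Module.End F (ι → F)} (h : Op K N) {g : GL ι F} (hg : g ∈ K)
    (hN : ∀ x, N' ((g : Matrix ι ι F) *ᵥ x) = (g : Matrix ι ι F) *ᵥ N x) : Op K N' := by
  obtain ⟨t, ht, htx⟩ := h
  refine ⟨g * t * g⁻¹, K.mul_mem (K.mul_mem hg ht) (K.inv_mem hg), fun x => ?_⟩
  have hx : x = (g : Matrix ι ι F) *ᵥ (((g⁻¹ : GL ι F) : Matrix ι ι F) *ᵥ x) := by
    rw [Matrix.mulVec_mulVec, ← Units.val_mul, mul_inv_cancel, Units.val_one, Matrix.one_mulVec]
  rw [Units.val_mul, Units.val_mul, ← Matrix.mulVec_mulVec, ← Matrix.mulVec_mulVec, htx, Matrix.mulVec_add, ← hx,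
    ← hN, ← hx]

/-- Two Siegel elements with a common vector whose moved vectors pair irrationally. -/
theorem long_of_siegel (hn : 13 ≤ Fintype.card ι) (hKf : ∀ g ∈ K, f.Preserves g) (hb : Base D K) {τ : F}
    (hτ0 : τ ≠ 0) (hτ : τ + f.σ τ = 0) {w z : ι → F} {s : F} (hw0 : w ≠ 0) (hwi : f.Iso w) (hzi : f.Iso z)
    (hwz : f.B w z = 0) (hs : s ≠ 0) (hop : Op K (sN f w z s)) {w₁ w₂ z₁ z₂ : ι → F} (hw₁ : D.Rat w₁)
    (hw₂ : D.Rat w₂) (hz₁ : D.Rat z₁) (hz₂ : D.Rat z₂) (hw : w = w₁ + τ • w₂) (hz : z = z₁ + τ • z₂)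
    (h2 : z₂ ∉ Submodule.span F ({w₁, w₂} : Set (ι → F)))
    (h1 : z₁ ∉ Submodule.span F ({w₁, w₂, z₂} : Set (ι → F))) : LongAt D K := by
  classical
  replace h2 : z₂ ∉ Submodule.span F (({w₁, w₂} : Finset (ι → F)) : Set (ι → F)) := by simpa using h2
  replace h1 : z₁ ∉ Submodule.span F (({w₁, w₂, z₂} : Finset (ι → F)) : Set (ι → F)) := by simpa using h1
  set S := Submodule.span F (({w₁, w₂, z₂} : Finset (ι → F)) : Set (ι → F))
  have hcard3 : ({w₁, w₂, z₂} : Finset (ι → F)).card ≤ 3 := Finset.card_le_three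
  obtain ⟨u, hu, hui, hus, hzu, huS⟩ : ∃ u, D.Rat u ∧ f.Iso u ∧
      (∀ x ∈ ({w₁, w₂, z₂} : Finset (ι → F)), f.B x u = 0) ∧ f.B z₁ u = 1 ∧ u ∉ S := by
    obtain ⟨u₀, hu₀, hu₀i, hu₀s, hzu₀⟩ := D.exists_dual {w₁, w₂, z₂} (by simp [hw₁, hw₂, hz₂]) (by omega) hz₁ h1
    by_cases hmem : u₀ ∈ S
    swap
    · exact ⟨u₀, hu₀, hu₀i, hu₀s, hzu₀, hmem⟩
    obtain ⟨q, hq, hqi, hqs, hqn⟩ := D.exists_iso_notMem {w₁, w₂, z₁, z₂, u₀}
      (by simp [hw₁, hw₂, hz₁, hz₂, hu₀])
      (by have : ({w₁, w₂, z₁, z₂, u₀} : Finset (ι → F)).card ≤ 5 := Finset.card_le_five; omega)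
    refine ⟨u₀ + q, hu₀.add hq, ?_, fun x hx => ?_, ?_, fun h => hqn ?_⟩
    · have := iso_add hqi hu₀i (f.eq_zero_comm (hqs u₀ (by simp))) 1
      rwa [one_smul] at this
    · rw [map_add, hu₀s x hx, hqs x (by simp only [Finset.mem_insert, Finset.mem_singleton] at hx ⊢; tauto), add_zero]
    · rw [map_add, hzu₀, hqs z₁ (by simp), add_zero]
    · have := S.sub_mem h hmem
      rw [add_sub_cancel_left] at this
      exact Submodule.span_mono (by intro x; simp; tauto) this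
  have hz₂u : z₂ ∉ Submodule.span F (({w₁, w₂, u} : Finset (ι → F)) : Set (ι → F)) := fun h => by
    rw [show (({w₁, w₂, u} : Finset (ι → F)) : Set (ι → F)) = insert u (({w₁, w₂} : Finset (ι → F)) : Set (ι → F)) by
      ext x; simp; tauto, Submodule.mem_span_insert] at h
    obtain ⟨c, m, hm, hzc⟩ := h
    rcases eq_or_ne c 0 with rfl | hc
    · exact h2 (by rw [hzc, zero_smul, zero_add]; exact hm)
    · refine huS ?_
      rw [show u = c⁻¹ • (z₂ - m) by rw [hzc, add_sub_cancel_right, smul_smul, inv_mul_cancel₀ hc, one_smul]]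
      exact S.smul_mem _ (S.sub_mem (Submodule.subset_span (by simp))
        (Submodule.span_mono (by intro x; simp; tauto) hm))
  obtain ⟨v, hv, hvi, hvs, hzv⟩ := D.exists_dual {w₁, w₂, u} (by simp [hw₁, hw₂, hu])
    (by have : ({w₁, w₂, u} : Finset (ι → F)).card ≤ 3 := Finset.card_le_three; omega) hz₂ hz₂u
  have huv : f.B u v = 0 := hvs u (by simp)
  have huw : f.B u w = 0 := by
    rw [hw, map_add, map_smul, f.eq_zero_comm (hus w₁ (by simp)), f.eq_zero_comm (hus w₂ (by simp))]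
    simp
  have hvw : f.B v w = 0 := by
    rw [hw, map_add, map_smul, f.eq_zero_comm (hvs w₁ (by simp)), f.eq_zero_comm (hvs w₂ (by simp))]
    simp
  have huz : f.B u z = 1 := by
    rw [hz, map_add, map_smul, ← f.herm z₁ u, hzu, map_one, f.eq_zero_comm (hus z₂ (by simp))]
    simp
  set β := f.B v z₁ with hβ
  have hvz : f.B v z = β + τ := by
    rw [hz, map_add, map_smul, ← f.herm z₂ v, hzv, map_one, ← hβ, smul_eq_mul, mul_one]
  obtain ⟨g, hg, hgx⟩ := hb u v hu hui hv hvi huv 1 D.F₀.one_mem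
  have hgw : (g : Matrix ι ι F) *ᵥ w = w := by
    rw [hgx, sN_apply, hvw, huw]; simp
  have hgz : (g : Matrix ι ι F) *ᵥ z = z + (β + τ) • u - v := by
    rw [hgx, sN_apply, hvz, huz, map_one, one_mul, one_mul, one_smul, add_sub_assoc]
  set z' := (g : Matrix ι ι F) *ᵥ z with hz'def
  have hz'i : f.Iso z' := (f.iso_mulVec (hKf g hg)).mpr hzi
  have hwz' : f.B w z' = 0 := by
    have := hKf g hg w z
    rwa [hgw, hwz] at this
  have hop' : Op K (sN f w z' s) := by
    have := conj_sN hop hg (hKf g hg)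
    rwa [hgw] at this
  have hB : f.B z z' = τ + τ := by
    rw [hgz, map_sub, map_add, map_smul, show f.B z z = 0 from hzi, ← f.herm u z, huz, map_one, ← f.herm v z, hvz,
      map_add, D.σ_fix (D.rat v z₁ hv hz₁), show f.σ τ = -τ by linear_combination hτ, smul_eq_mul]
    ring
  have hB' : f.B z' z = -(τ + τ) := by
    rw [← f.herm z z', hB, map_add, show f.σ τ = -τ by linear_combination hτ]; ring
  have hw' : f.B w w = 0 := hwi
  have hNM := sN_mul s s hwi hwz hwz'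
  have hMN := sN_mul s s hwi hwz' hwz
  have := hop.comm hop' (sN_mul_sN _ _ hwi hzi hwz) (sN_mul_sN _ _ hwi hz'i hwz')
    (by rw [hNM, tN_mul_sN _ _ hw' hwz]) (by rw [hMN, tN_mul_sN _ _ hw' hwz'])
  rw [hNM, hMN, hB, hB', sub_eq_add_neg, ← tN_neg, ← tN_add] at this
  have hs' : f.σ s ≠ 0 := fun h => hs (f.σ_eq_zero.mp h)
  refine long_of_trans hn hKf hb hw0 hwi ?_ ?_ this
  · rw [show -(s * f.σ s * (τ + τ)) + -(-(s * f.σ s * -(τ + τ))) = -(2 * 2 * (s * f.σ s * τ)) by ring]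
    exact neg_ne_zero.mpr (mul_ne_zero (mul_ne_zero D.two D.two) (mul_ne_zero (mul_ne_zero hs hs') hτ0))
  · simp only [map_add, map_neg, map_mul, f.invol, show f.σ τ = -τ by linear_combination hτ]
    ring

/-- A sum of two transvections, one with a rational centre away from the other. -/
theorem long_of_diag (hn : 13 ≤ Fintype.card ι) (hKf : ∀ g ∈ K, f.Preserves g) (hb : Base D K) {τ : F}
    {r m m₁ m₂ : ι → F} {k k' : F} (hk0 : k ≠ 0) (hk : k + f.σ k = 0) (hr : D.Rat r) (hri : f.Iso r)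
    (hmi : f.Iso m) (hrm : f.B r m = 0) (hm₁ : D.Rat m₁) (hm₂ : D.Rat m₂) (hm : m = m₁ + τ • m₂)
    (hrS : r ∉ Submodule.span F ({m₁, m₂} : Set (ι → F)))
    (hop : Op K (tN f m k' + tN f r k)) : LongAt D K := by
  classical
  replace hrS : r ∉ Submodule.span F (({m₁, m₂} : Finset (ι → F)) : Set (ι → F)) := by simpa using hrS
  obtain ⟨u, hu, hui, hus, hru⟩ := D.exists_dual {m₁, m₂} (by simp [hm₁, hm₂])
    (by have : ({m₁, m₂} : Finset (ι → F)).card ≤ 2 := Finset.card_le_two; omega) hr hrS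
  obtain ⟨v, hv, hvi, hvs, hvn⟩ := D.exists_iso_notMem {m₁, m₂, r, u} (by simp [hm₁, hm₂, hr, hu])
    (by have : ({m₁, m₂, r, u} : Finset (ι → F)).card ≤ 4 := Finset.card_le_four; omega)
  have hv0 : v ≠ 0 := fun h => hvn (by rw [h]; exact Submodule.zero_mem _)
  have hr' : f.B r r = 0 := hri
  have hv' : f.B v v = 0 := hvi
  have hm' : f.B m m = 0 := hmi
  have hrv : f.B r v = 0 := hvs r (by simp)
  have hvr := f.eq_zero_comm hrv
  have hvm : f.B v m = 0 := by
    rw [hm, map_add, map_smul, f.eq_zero_comm (hvs m₁ (by simp)), f.eq_zero_comm (hvs m₂ (by simp))]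
    simp
  have hum : f.B u m = 0 := by
    rw [hm, map_add, map_smul, f.eq_zero_comm (hus m₁ (by simp)), f.eq_zero_comm (hus m₂ (by simp))]
    simp
  have hmv := f.eq_zero_comm hvm
  have hmr := f.eq_zero_comm hrm
  have hD : ∀ b ∈ D.F₀, Op K (tN f v (k * (b * b)) + sN f v r (k * b)) := fun b hbF => by
    obtain ⟨g, hg, hgx⟩ := hb u v hu hui hv hvi (hvs u (by simp)) (-b) (D.F₀.neg_mem hbF)
    have hgr : (g : Matrix ι ι F) *ᵥ r = r + b • v := by
      rw [hgx, sN_apply, hvr, ← f.herm r u, hru, map_one, map_neg, D.σ_fix hbF]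
      simp
    have hgm : (g : Matrix ι ι F) *ᵥ m = m := by
      rw [hgx, sN_apply, hvm, hum]; simp
    have hop' : Op K (tN f m k' + tN f (r + b • v) k) := conj_op hop hg fun x => by
      simp only [LinearMap.add_apply, tN_apply, Matrix.mulVec_add, Matrix.mulVec_smul, ← hgr]
      conv_lhs => rw [← hgm, hKf g hg, hKf g hg, hgm]
      rw [hgm]
    have h := hop'.sub hop
      (by
        rw [add_mul, mul_add, mul_add, tN_mul_tN _ _ hm', tN_mul_tN _ _ hmr, tN_mul_tN _ _ hrm,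
          tN_mul_tN _ _ hr']
        abel)
      (by
        rw [add_mul, mul_add, mul_add, tN_mul_tN _ _ hm', tN_mul_tN _ _ hmr, tN_mul_tN _ _ (by simp [hrm, hvm]),
          tN_mul_tN _ _ (by simp [hr', hvr])]
        abel)
    convert h using 1
    rw [tN_expand f hk v r, D.σ_fix hbF]
    have e : tN f v (k * (b * b)) + sN f v r (k * b) = (tN f r k + tN f v (k * (b * b)) + sN f v r (k * b)) - tN f r k := by
      abel
    rw [e]; abel
  have h1 := hD 1 D.F₀.one_mem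
  have h2 := hD (-1) (D.F₀.neg_mem D.F₀.one_mem)
  have h3 := h1.add h2 (by
    rw [add_mul, mul_add, mul_add, tN_mul_tN _ _ hv', tN_mul_sN _ _ hv' hvr, sN_mul_tN _ _ hv' hrv,
      sN_mul_sN _ _ hvi hri hvr]
    abel)
  refine ⟨v, k + k, hv, hvi, hv0, by rw [map_add]; linear_combination (2 : F) * hk, ?_, ?_⟩
  · rw [← two_mul]; exact mul_ne_zero D.two hk0
  · convert h3 using 1
    rw [show (-1 : F) * -1 = 1 by ring, mul_neg_one, sN_neg, one_mul, mul_one, tN_add]
    abel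

/-- The plane of a Siegel element is rational unless there is a transvection. -/
theorem plane_rat (hn : 13 ≤ Fintype.card ι) (hKf : ∀ g ∈ K, f.Preserves g) (hb : Base D K) (hL : ¬ LongAt D K)
    {w z : ι → F} (hw0 : w ≠ 0) (hwi : f.Iso w) (hzi : f.Iso z) (hwz : f.B w z = 0) (hop : Op K (sN f w z 1)) :
    ∃ q₁ q₂, D.Rat q₁ ∧ D.Rat q₂ ∧ w ∈ Submodule.span F ({q₁, q₂} : Set (ι → F)) ∧
      z ∈ Submodule.span F ({q₁, q₂} : Set (ι → F)) := by
  classical
  obtain ⟨τ, hτ0, hτ, hτF⟩ := D.exists_τ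
  obtain ⟨w₁, w₂, hw₁, hw₂, hw⟩ := D.exists_split hτ0 hτ w
  obtain ⟨z₁, z₂, hz₁, hz₂, hz⟩ := D.exists_split hτ0 hτ z
  obtain ⟨q, hq, hzq⟩ : ∃ q, D.Rat q ∧ ∃ c₁ c₂ lam : F, z = c₁ • w₁ + c₂ • w₂ + lam • q := by
    by_cases h2 : z₂ ∈ Submodule.span F ({w₁, w₂} : Set (ι → F))
    · rw [Submodule.mem_span_pair] at h2
      obtain ⟨a, b, hab⟩ := h2
      exact ⟨z₁, hz₁, τ * a, τ * b, 1, by rw [hz, ← hab]; module⟩
    by_cases h1 : z₁ ∈ Submodule.span F ({w₁, w₂, z₂} : Set (ι → F))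
    · rw [Submodule.mem_span_triple] at h1
      obtain ⟨a, b, c, habc⟩ := h1
      exact ⟨z₂, hz₂, a, b, c + τ, by rw [hz, ← habc]; module⟩
    exact absurd (long_of_siegel hn hKf hb hτ0 hτ hw0 hwi hzi hwz one_ne_zero hop hw₁ hw₂ hz₁ hz₂ hw hz h2 h1) hL
  obtain ⟨c₁, c₂, lam, hzc⟩ := hzq
  by_cases hdep : w₂ = 0 ∨ w₁ ∈ F ∙ w₂
  · rcases hdep with h | h
    · refine ⟨w₁, q, hw₁, hq, ?_, ?_⟩ <;> rw [Submodule.mem_span_pair]
      · exact ⟨1, 0, by rw [hw, h]; simp⟩
      · exact ⟨c₁, lam, by rw [hzc, h]; simp⟩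
    · obtain ⟨a, ha⟩ := Submodule.mem_span_singleton.mp h
      refine ⟨w₂, q, hw₂, hq, ?_, ?_⟩ <;> rw [Submodule.mem_span_pair]
      · exact ⟨a + τ, 0, by rw [hw, ← ha]; module⟩
      · exact ⟨c₁ * a + c₂, lam, by rw [hzc, ← ha]; module⟩
  push Not at hdep
  obtain ⟨hw₂0, hw₁2⟩ := hdep
  set S := Submodule.span F ({w₁, w₂} : Set (ι → F)) with hS
  have hwS : w ∈ S := by rw [hS, Submodule.mem_span_pair]; exact ⟨1, τ, by rw [hw, one_smul]⟩
  by_cases hzS : z ∈ S
  · exact ⟨w₁, w₂, hw₁, hw₂, hwS, hzS⟩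
  exfalso
  have hlam : lam ≠ 0 := fun h => hzS (by
    rw [hS, Submodule.mem_span_pair]; exact ⟨c₁, c₂, by rw [hzc, h, zero_smul, add_zero]⟩)
  have hqS : q ∉ S := fun h => hzS (by
    rw [hzc]; exact S.add_mem (by rw [hS, Submodule.mem_span_pair]; exact ⟨c₁, c₂, rfl⟩) (S.smul_mem _ h))
  obtain ⟨e10, he10, e11, he11, he1⟩ := D.exists_coord hτ0 hτ (c₁ / lam)
  obtain ⟨e20, he20, e21, he21, he2⟩ := D.exists_coord hτ0 hτ (c₂ / lam)
  have hττ : τ * τ ∈ D.F₀ := (D.fix _).mpr (by rw [map_mul, show f.σ τ = -τ by linear_combination hτ]; ring)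
  set r := (e10 - e21) • w₁ + (e20 - τ * τ * e11) • w₂ + q with hrdef
  have hr : D.Rat r := ((hw₁.smul (D.F₀.sub_mem he10 he21)).add
    (hw₂.smul (D.F₀.sub_mem he20 (D.F₀.mul_mem hττ he11)))).add hq
  have hrS : r ∉ S := fun h => hqS (by
    have h' : (e10 - e21) • w₁ + (e20 - τ * τ * e11) • w₂ ∈ S := by
      rw [hS, Submodule.mem_span_pair]; exact ⟨_, _, rfl⟩
    exact (Submodule.add_mem_iff_right _ h').mp h)
  set a := -e21 - τ * e11 with ha
  have hrz : r = lam⁻¹ • z + a • w := by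
    rw [hzc, hrdef, hw, smul_add, smul_add, smul_smul, smul_smul, smul_smul, inv_mul_cancel₀ hlam, one_smul,
      inv_mul_eq_div, inv_mul_eq_div, he1, he2, ha]
    module
  have hz' : z = lam • r + (-(lam * a)) • w := by
    rw [hrz, smul_add, smul_smul, mul_inv_cancel₀ hlam, one_smul]; module
  have hri : f.Iso r := by
    rw [hrz]
    exact iso_add hwi (HermF.Iso.smul hzi _) (by rw [map_smul, hwz, smul_zero]) a
  have hwr : f.B w r = 0 := by simp [hrz, hwz, show f.B w w = 0 from hwi]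
  have hw₁r : w₁ ∉ Submodule.span F ({r, 0, w₂} : Set (ι → F)) := fun h => by
    rw [Submodule.mem_span_triple] at h
    obtain ⟨x, y, c, hxc⟩ := h
    rcases eq_or_ne x 0 with rfl | hx
    · exact hw₁2 (Submodule.mem_span_singleton.mpr ⟨c, by rw [← hxc]; simp⟩)
    · refine hrS ?_
      rw [show r = x⁻¹ • (w₁ - c • w₂) by rw [← hxc]; simp [smul_smul, hx]]
      exact S.smul_mem _ (S.sub_mem (Submodule.subset_span (by simp)) (S.smul_mem _ (Submodule.subset_span (by simp))))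
  have hw₂r : w₂ ∉ Submodule.span F ({r, 0} : Set (ι → F)) := fun h => by
    rw [Submodule.mem_span_pair] at h
    obtain ⟨x, y, hxy⟩ := h
    rcases eq_or_ne x 0 with rfl | hx
    · exact hw₂0 (by rw [← hxy]; simp)
    · refine hrS ?_
      rw [show r = x⁻¹ • w₂ by rw [← hxy]; simp [smul_smul, hx]]
      exact S.smul_mem _ (Submodule.subset_span (by simp))
  have hr0 : r ≠ 0 := fun h => hrS (by rw [h]; exact S.zero_mem)
  rw [hz', sN_add_right, sN_self, sN_smul_right, one_mul, one_mul, map_one, one_mul] at hop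
  set k₀ := f.σ (-(lam * a)) - -(lam * a) with hk₀
  by_cases hk : k₀ = 0
  · rw [hk, tN_zero, add_zero, sN_swap, f.invol] at hop
    exact hL (long_of_siegel hn hKf hb hτ0 hτ hr0 hri hwi (f.eq_zero_comm hwr) (neg_ne_zero.mpr hlam) hop hr
      (RatVec.zero _ _) hw₁ hw₂ (by simp) hw hw₂r hw₁r)
  have hk₀t : k₀ + f.σ k₀ = 0 := by rw [hk₀, map_sub, f.invol]; ring
  set b := -lam / k₀ with hb₀
  have hkb : k₀ * b = -lam := by rw [hb₀, mul_div_cancel₀ _ hk]
  obtain ⟨b0, hb0, b1, hb1, hb01⟩ := D.exists_coord hτ0 hτ b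
  have hbne : b ≠ 0 := by rw [hb₀]; exact div_ne_zero (neg_ne_zero.mpr hlam) hk
  have hop' : Op K (tN f (w + b • r) k₀ + tN f r (-(k₀ * (f.σ b * b)))) := by
    convert hop using 1
    rw [tN_expand f hk₀t, hkb, tN_neg, sN_swap w r (f.σ lam), f.invol]
    abel
  refine hL (long_of_diag hn hKf hb (neg_ne_zero.mpr (mul_ne_zero hk
    (mul_ne_zero (fun h => hbne (f.σ_eq_zero.mp h)) hbne))) ?_ hr hri (iso_add hri hwi (f.eq_zero_comm hwr) b)
    (by simp [f.eq_zero_comm hwr, show f.B r r = 0 from hri]) (hw₁.add (hr.smul hb0)) (hw₂.add (hr.smul hb1))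
    (τ := τ) (by rw [hw, hb01]; module) ?_ hop')
  · rw [map_neg]; linear_combination -trace_mul hk₀t b
  · intro h
    rw [Submodule.mem_span_pair] at h
    obtain ⟨A, B, hAB⟩ := h
    have h' : (1 - A * b0 - B * b1) • r = A • w₁ + B • w₂ := by
      calc (1 - A * b0 - B * b1) • r = r - (A * b0 + B * b1) • r := by module
        _ = A • w₁ + B • w₂ := by nth_rewrite 1 [← hAB]; module
    rcases eq_or_ne (1 - A * b0 - B * b1) 0 with h0 | h0
    · rw [h0, zero_smul] at h'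
      rcases eq_or_ne A 0 with rfl | hA
      · rw [zero_smul, zero_add, eq_comm, smul_eq_zero] at h'
        rcases h' with rfl | h'
        · norm_num at h0
        · exact hw₂0 h'
      · refine hw₁2 (Submodule.mem_span_singleton.mpr ⟨-(A⁻¹ * B), ?_⟩)
        rw [eq_comm, ← eq_neg_iff_add_eq_zero] at h'
        have := congrArg (A⁻¹ • ·) h'
        simp only [smul_smul, inv_mul_cancel₀ hA, one_smul, smul_neg] at this
        rw [this]; module
    · refine hrS ?_
      rw [show r = (1 - A * b0 - B * b1)⁻¹ • (A • w₁ + B • w₂) by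
        rw [← h', smul_smul, inv_mul_cancel₀ h0, one_smul]]
      exact S.smul_mem _ (by rw [hS, Submodule.mem_span_pair]; exact ⟨_, _, rfl⟩)

/-- An element outside the subfield group yields a transvection. -/
theorem long_of_notMem (hn : 13 ≤ Fintype.card ι) (hKf : ∀ g ∈ K, f.Preserves g) (hb : Base D K) {g : GL ι F}
    (hg : g ∈ K) (hgN : g ∉ Cfsg.Geo.subfieldSubgroup D.F₀ D.P) : LongAt D K := by
  classical
  haveI : Nonempty ι := Fintype.card_pos_iff.mp (by omega)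
  obtain ⟨τ, hτ0, hτ, hτF⟩ := D.exists_τ
  set G : (ι → F) → (ι → F) := fun x => (g : Matrix ι ι F) *ᵥ x with hG
  by_contra hL
  have hinj : Function.Injective G := Matrix.mulVec_injective_iff_isUnit.mpr g.isUnit
  have hG0 : G 0 = 0 := by simp [hG]
  have hline : ∀ v, D.Rat v → f.Iso v → ∃ (lam : F) (y : ι → F), D.Rat y ∧ G v = lam • y := by
    intro u hu hui
    rcases eq_or_ne u 0 with rfl | hu0
    · exact ⟨0, 0, RatVec.zero _ _, by rw [hG0, smul_zero]⟩
    obtain ⟨y, hy, hyi, hys, hyn⟩ := D.exists_iso_notMem {u} (by simpa using hu) (by simp; omega)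
    obtain ⟨y', hy', hy'i, hy's, hy'n⟩ := D.exists_iso_notMem {u, y} (by simp [hu, hy])
      (by have : ({u, y} : Finset (ι → F)).card ≤ 2 := Finset.card_le_two; omega)
    have hplane : ∀ y, D.Rat y → f.Iso y → f.B u y = 0 → y ∉ F ∙ u → ∃ q₁ q₂, D.Rat q₁ ∧ D.Rat q₂ ∧
        Submodule.span F ({q₁, q₂} : Set (ι → F)) = Submodule.span F ({G u, G y} : Set (ι → F)) := by
      intro y hy hyi huy hyu
      obtain ⟨q₁, q₂, hq₁, hq₂, h1, h2⟩ := plane_rat hn hKf hb hL
        (fun h => hu0 (hinj (h.trans hG0.symm))) ((f.iso_mulVec (hKf g hg)).mpr hui)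
        ((f.iso_mulVec (hKf g hg)).mpr hyi) (by rw [hKf g hg, huy])
        (conj_sN (hb u y hu hui hy hyi huy 1 D.F₀.one_mem) hg (hKf g hg))
      refine ⟨q₁, q₂, hq₁, hq₂, (Submodule.eq_of_le_of_finrank_le (Submodule.span_le.mpr ?_) ?_).symm⟩
      · intro x hx
        rcases hx with rfl | rfl
        exacts [h1, h2]
      · have hli : LinearIndependent F ![G u, G y] := by
          rw [LinearIndependent.pair_iff]
          intro a b hab
          have h0 : a • u + b • y = 0 := hinj (by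
            rw [hG0, ← hab]; simp [hG, Matrix.mulVec_add, Matrix.mulVec_smul])
          rcases eq_or_ne b 0 with rfl | hb0
          · rw [zero_smul, add_zero, smul_eq_zero] at h0
            exact ⟨h0.resolve_right hu0, rfl⟩
          · refine absurd (Submodule.mem_span_singleton.mpr ⟨-(b⁻¹ * a), ?_⟩) hyu
            rw [add_comm, ← eq_neg_iff_add_eq_zero] at h0
            have := congrArg (b⁻¹ • ·) h0
            simp only [smul_smul, inv_mul_cancel₀ hb0, one_smul, smul_neg] at this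
            rw [this]; module
        have h3 := finrank_span_eq_card hli
        rw [Matrix.range_cons_cons_empty, Fintype.card_fin] at h3
        rw [h3]
        refine (finrank_span_le_card _).trans ?_
        simp only [Set.toFinset_insert, Set.toFinset_singleton]
        exact Finset.card_le_two
    obtain ⟨q₁, q₂, hq₁, hq₂, hQ⟩ := hplane y hy hyi (hys u (by simp)) (by simpa using hyn)
    obtain ⟨p₁, p₂, hp₁, hp₂, hP⟩ := hplane y' hy' hy'i (hy's u (by simp))
      (fun h => hy'n (Submodule.span_mono (by simp) h))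
    obtain ⟨w₁, w₂, hw₁, hw₂, hw⟩ := D.exists_split hτ0 hτ (G u)
    have parts : ∀ {q₁ q₂ : ι → F}, D.Rat q₁ → D.Rat q₂ → G u ∈ Submodule.span F ({q₁, q₂} : Set (ι → F)) →
        w₁ ∈ Submodule.span F ({q₁, q₂} : Set (ι → F)) ∧ w₂ ∈ Submodule.span F ({q₁, q₂} : Set (ι → F)) := by
      intro q₁ q₂ hq₁ hq₂ hmem
      obtain ⟨a, b, hab⟩ := Submodule.mem_span_pair.mp hmem
      obtain ⟨a0, ha0, a1, ha1, ha⟩ := D.exists_coord hτ0 hτ a
      obtain ⟨b0, hb0, b1, hb1, hb'⟩ := D.exists_coord hτ0 hτ b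
      obtain ⟨h1, h2⟩ := D.split_unique hτF ((hw₁.sub (hq₁.smul ha0)).sub (hq₂.smul hb0))
        ((hw₂.sub (hq₁.smul ha1)).sub (hq₂.smul hb1)) (by
          have h0 : w₁ + τ • w₂ - (a • q₁ + b • q₂) = 0 := by rw [hab, ← hw, sub_self]
          rw [ha, hb'] at h0
          rw [← h0]; module)
      rw [sub_sub, sub_eq_zero] at h1 h2
      exact ⟨Submodule.mem_span_pair.mpr ⟨a0, b0, h1.symm⟩, Submodule.mem_span_pair.mpr ⟨a1, b1, h2.symm⟩⟩
    by_cases hdep : w₂ = 0 ∨ w₁ ∈ F ∙ w₂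
    · rcases hdep with h | h
      · exact ⟨1, w₁, hw₁, by rw [hw, h]; simp⟩
      · obtain ⟨a, ha⟩ := Submodule.mem_span_singleton.mp h
        exact ⟨a + τ, w₂, hw₂, by rw [hw, ← ha]; module⟩
    exfalso
    push Not at hdep
    obtain ⟨hw₂0, hw₁2⟩ := hdep
    have hli : LinearIndependent F ![w₂, w₁] := by
      rw [LinearIndependent.pair_iff' hw₂0]
      exact fun a h => hw₁2 (Submodule.mem_span_singleton.mpr ⟨a, h⟩)
    have hdim := finrank_span_eq_card hli
    rw [Matrix.range_cons_cons_empty, Fintype.card_fin] at hdim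
    have key : ∀ {q₁ q₂ : ι → F}, D.Rat q₁ → D.Rat q₂ → G u ∈ Submodule.span F ({q₁, q₂} : Set (ι → F)) →
        Submodule.span F ({w₂, w₁} : Set (ι → F)) = Submodule.span F ({q₁, q₂} : Set (ι → F)) := by
      intro q₁ q₂ hq₁ hq₂ hmem
      obtain ⟨h1, h2⟩ := parts hq₁ hq₂ hmem
      refine Submodule.eq_of_le_of_finrank_le (Submodule.span_le.mpr ?_) ?_
      · intro x hx
        rcases hx with rfl | rfl
        exacts [h2, h1]
      · rw [hdim]
        refine (finrank_span_le_card _).trans ?_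
        simp only [Set.toFinset_insert, Set.toFinset_singleton]
        exact Finset.card_le_two
    have e1 := key hq₁ hq₂ (hQ ▸ Submodule.subset_span (by simp))
    have e2 := key hp₁ hp₂ (hP ▸ Submodule.subset_span (by simp))
    have hmem : G y' ∈ Submodule.span F ({G u, G y} : Set (ι → F)) := by
      rw [← hQ, ← e1, e2, hP]
      exact Submodule.subset_span (by simp)
    obtain ⟨a, b, hab⟩ := Submodule.mem_span_pair.mp hmem
    refine hy'n ?_
    rw [Finset.coe_pair, Submodule.mem_span_pair]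
    exact ⟨a, b, hinj (by rw [← hab]; simp [hG, Matrix.mulVec_add, Matrix.mulVec_smul])⟩
  -- a common scalar
  obtain ⟨v₀, hv₀, hv₀i, -, hv₀n⟩ := D.exists_iso_notMem ∅ (by simp) (by simp; omega)
  have hv₀0 : v₀ ≠ 0 := fun h => hv₀n (by rw [h]; exact Submodule.zero_mem _)
  obtain ⟨lam₀, y₀, hy₀, hgv₀⟩ := hline v₀ hv₀ hv₀i
  have hN₀ : f.σ lam₀ * lam₀ ∈ D.F₀ := (D.fix _).mpr (by rw [map_mul, f.invol, mul_comm])
  let P : (ι → F) → Prop := fun x => ∃ y, D.Rat y ∧ G x = lam₀ • y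
  have step : ∀ v v', D.Rat v → f.Iso v → D.Rat v' → f.Iso v' → f.B v v' ≠ 0 → P v → P v' := by
    rintro v v' hv hvi hv' hv'i hne ⟨y, hy, hgy⟩
    obtain ⟨lam', y', hy', hgy'⟩ := hline v' hv' hv'i
    have heq : f.σ lam₀ * lam' * f.B y y' = f.B v v' := by
      rw [← hKf g hg v v']
      show _ = f.B (G v) (G v')
      rw [hgy, hgy']
      simp [mul_assoc, mul_left_comm]
    have hyy : f.B y y' ≠ 0 := fun h => hne (by rw [← heq, h, mul_zero])
    have hlam₀ : lam₀ ≠ 0 := fun h => hv₀0 (hinj (by rw [hG0, hgv₀, h, zero_smul]))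
    have hσ0 : f.σ lam₀ ≠ 0 := fun h => hlam₀ (f.σ_eq_zero.mp h)
    refine ⟨(f.B v v' / f.B y y' / (f.σ lam₀ * lam₀)) • y', hy'.smul (D.F₀.div_mem
      (D.F₀.div_mem (D.rat v v' hv hv') (D.rat y y' hy hy')) hN₀), ?_⟩
    rw [hgy', smul_smul, ← heq]
    congr 1
    field_simp
  have hPiso : ∀ v, D.Rat v → f.Iso v → P v := by
    intro v hv hvi
    have h0 : P v₀ := ⟨y₀, hy₀, hgv₀⟩
    rcases eq_or_ne v 0 with rfl | hv0
    · exact ⟨0, RatVec.zero _ _, by rw [hG0, smul_zero]⟩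
    by_cases h1 : f.B v₀ v = 0
    swap
    · exact step v₀ v hv₀ hv₀i hv hvi h1 h0
    obtain ⟨p, hp, hpi, hup⟩ := D.exists_partner' (by omega) hv₀ hv₀0
    have hup0 : f.B v₀ p ≠ 0 := by rw [hup]; exact one_ne_zero
    by_cases h2 : f.B p v = 0
    swap
    · exact step p v hp hpi hv hvi h2 (step v₀ p hv₀ hv₀i hp hpi hup0 h0)
    have hpp : f.B p p = 0 := hpi
    have hu' : f.B v₀ v₀ = 0 := hv₀i
    have hpu : f.B p v₀ = 1 := by rw [← f.herm v₀ p, hup, map_one]
    have hvs : v ∉ Submodule.span F (({v₀, p} : Finset (ι → F)) : Set (ι → F)) := fun h => by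
      rw [Finset.coe_pair, Submodule.mem_span_pair] at h
      obtain ⟨a, b, rfl⟩ := h
      simp [hu', hup] at h1
      simp [hpp, hpu] at h2
      exact hv0 (by rw [h1, h2, zero_smul, zero_smul, add_zero])
    obtain ⟨q, hq, hqi, hqs, hvq⟩ := D.exists_dual {v₀, p} (by simp [hv₀, hp])
      (by have : ({v₀, p} : Finset (ι → F)).card ≤ 2 := Finset.card_le_two; omega) hv hvs
    have huq : f.B v₀ q = 0 := hqs v₀ (by simp)
    have hpq : f.B p q = 0 := hqs p (by simp)
    have hzi : f.Iso (p + q) := by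
      show f.B _ _ = 0
      simp [hpp, show f.B q q = 0 from hqi, hpq, f.eq_zero_comm hpq]
    refine step _ v (hp.add hq) hzi hv hvi (fun h => ?_)
      (step v₀ _ hv₀ hv₀i (hp.add hq) hzi (by rw [map_add, hup, huq, add_zero]; exact one_ne_zero) h0)
    have := f.eq_zero_comm h
    rw [map_add, f.eq_zero_comm h2, zero_add, hvq] at this
    exact one_ne_zero this
  refine hgN (mem_subfieldSubgroup_of_lines fun x hx => ?_)
  obtain ⟨y, hy, hgy⟩ : P x := D.of_iso ∅ (by simp) (by simp; omega) P ⟨0, RatVec.zero _ _, by rw [hG0, smul_zero]⟩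
    (fun a b ⟨ya, ha, hga⟩ ⟨yb, hb', hgb⟩ => ⟨ya + yb, ha.add hb', by
      simp only [hG] at hga hgb ⊢; rw [Matrix.mulVec_add, hga, hgb, smul_add]⟩)
    (fun a ha b ⟨yb, hb', hgb⟩ => ⟨a • yb, hb'.smul ha, by
      simp only [hG] at hgb ⊢; rw [Matrix.mulVec_smul, hgb, smul_comm]⟩)
    (fun v hv hvi _ => hPiso v hv hvi) hx (by simp)
  exact ⟨lam₀, y, hy, hgy⟩

/-- The subgroup contains every transvection. -/
theorem ctr_of_notMem (hn : 13 ≤ Fintype.card ι) (hKf : ∀ g ∈ K, f.Preserves g) (hb : Base D K) {g : GL ι F}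
    (hg : g ∈ K) (hgN : g ∉ Cfsg.Geo.subfieldSubgroup D.F₀ D.P) {w : ι → F} (hw : f.Iso w) : f.Ctr K w := by
  refine ⟨hw, fun c hc => ?_⟩
  obtain ⟨h, hh, hhx⟩ := ctr_of_long hn hKf hb (long_of_notMem hn hKf hb hg hgN) hw hc
  rwa [show f.trans w hw c = h from Units.ext (eq_of_mulVec_eq fun x => by
    rw [f.trans_mulVec, hhx, tN_apply])]

/-- The rational Siegel elements in a group containing all transvections lie in the subfield group. -/
theorem base_inf {S : Subgroup (GL ι F)}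
    (hS : ∀ w (hw : f.Iso w) c, c + f.σ c = 0 → f.trans w hw c ∈ S) :
    Base D (Cfsg.Geo.subfieldSubgroup D.F₀ D.P ⊓ S) := by
  intro u y hu hui hy hyi huy a ha
  obtain ⟨τ, hτ0, hτ, -⟩ := D.exists_τ
  have hT : ∀ w (hw : f.Iso w) c, c + f.σ c = 0 → Op S (tN f w c) := fun w hw c hc =>
    ⟨_, hS w hw c hc, fun x => by rw [f.trans_mulVec, tN_apply]⟩
  have hu' : f.B u u = 0 := hui
  have hy' : f.B y y = 0 := hyi
  have e : tN f (y + (a / τ) • u) τ - tN f y τ - tN f u (τ * (f.σ (a / τ) * (a / τ))) = sN f u y a := by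
    rw [tN_expand f hτ, mul_div_cancel₀ _ hτ0]; abel
  have h : Op S (sN f u y a) := by
    rw [← e]
    refine ((hT _ (iso_add hui hyi huy _) τ hτ).sub (hT y hyi τ hτ) (tN_mul_tN _ _ hy')
      (tN_mul_tN _ _ (by simp [hy', huy]))).sub (hT u hui _ (trace_mul hτ _)) (tN_mul_tN _ _ hu') ?_
    rw [sub_mul, tN_mul_tN τ _ (by simp [hu', f.eq_zero_comm huy]), tN_mul_tN τ _ (f.eq_zero_comm huy), sub_zero]
  obtain ⟨g, hg, hgx⟩ := h
  refine ⟨g, ⟨mem_subfieldSubgroup fun x hx => ?_, hg⟩, hgx⟩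
  rw [hgx, sN_apply, D.σ_fix ha]
  exact hx.add ((hu.smul (D.F₀.mul_mem ha (D.rat y x hy hx))).sub (hy.smul (D.F₀.mul_mem ha (D.rat u x hu hx))))

/-- Some transvection is outside the subfield group. -/
theorem exists_trans_notMem (hn : 3 ≤ Fintype.card ι) :
    ∃ (u : ι → F) (hu : f.Iso u) (c : F), c + f.σ c = 0 ∧
      f.trans u hu c ∉ Cfsg.Geo.subfieldSubgroup D.F₀ D.P := by
  obtain ⟨τ, hτ0, hτ, hτF⟩ := D.exists_τ
  obtain ⟨u, hu, hui, -, hun⟩ := D.exists_iso_notMem ∅ (by simp) (by simpa using hn)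
  have hu0 : u ≠ 0 := fun h => hun (by rw [h]; exact Submodule.zero_mem _)
  obtain ⟨p, hp, -, hup⟩ := D.exists_partner' hn hu hu0
  refine ⟨u, hui, τ, hτ, fun hmem => hτF ?_⟩
  obtain ⟨c, hc, hlines⟩ := subfieldSubgroup_apply hmem
  obtain ⟨y, hy, hgy⟩ := hlines p hp
  rw [f.trans_mulVec, hup, mul_one] at hgy
  have h1 := congrArg (f.B u) hgy
  rw [map_add, map_smul, map_smul, show f.B u u = 0 from hui, hup, smul_zero, add_zero, smul_eq_mul] at h1
  have hcF : c ∈ D.F₀ := by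
    have := D.F₀.inv_mem (D.rat u y hu hy)
    rwa [← eq_inv_of_mul_eq_one_left h1.symm] at this
  refine hu.coeff_mem hu0 ?_
  have := (hy.smul hcF).sub hp
  rwa [← hgy, add_sub_cancel_left] at this

end Cfsg.Agent.Lib.MaxSub.UnitaryOrth
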