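import Cfsg.Agent.Lib.MaxSub.UnitaryStd
import Cfsg.Agent.Lib.MaxSub.Subfield
import Cfsg.Agent.Lib.MaxSub.Orth
import Mathlib

/-!
A Hermitian form with a rational structure over the fixed field of the involution: the rational symmetric form and
its consequences for rational isotropic vectors, in odd characteristic.
-/

set_option autoImplicit false
set_option maxHeartbeats 800000
set_option linter.unusedSectionVars false

namespace Cfsg.Agent.Lib.MaxSub

open Matrix

variable {ι : Type} [Fintype ι] [DecidableEq ι] {F : Type*} [Field F]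

/-- A Hermitian form with a rational structure over the fixed field of the involution. -/
structure OData (f : HermF ι F) where
  F₀ : Subfield F
  P : GL ι F
  fix : ∀ a, a ∈ F₀ ↔ f.σ a = a
  rat : ∀ x y, RatVec F₀ P x → RatVec F₀ P y → f.B x y ∈ F₀
  two : (2 : F) ≠ 0

namespace OData

variable {f : HermF ι F} (D : OData f)

/-- Rationality. -/
abbrev Rat (x : ι → F) : Prop := RatVec D.F₀ D.P x

theorem σ_fix {a : F} (ha : a ∈ D.F₀) : f.σ a = a := (D.fix a).mp ha

theorem symm' {x y : ι → F} (hx : D.Rat x) (hy : D.Rat y) : f.B y x = f.B x y := by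
  rw [← f.herm x y, D.σ_fix (D.rat x y hx hy)]

theorem exists_τ : ∃ τ : F, τ ≠ 0 ∧ τ + f.σ τ = 0 ∧ τ ∉ D.F₀ := by
  obtain ⟨τ, h0, h⟩ := f.exists_trace_zero
  refine ⟨τ, h0, h, fun hm => ?_⟩
  rw [D.σ_fix hm, ← two_mul] at h
  exact h0 ((mul_eq_zero.mp h).resolve_left D.two)

/-- The coordinates with respect to the fixed field. -/
theorem exists_coord {τ : F} (hτ0 : τ ≠ 0) (hτ : τ + f.σ τ = 0) (c : F) :
    ∃ a ∈ D.F₀, ∃ b ∈ D.F₀, c = a + τ * b := by
  have hσ : f.σ τ = -τ := by linear_combination hτ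
  have h2 := D.two
  refine ⟨(c + f.σ c) / 2, (D.fix _).mpr ?_, (c - f.σ c) / (2 * τ), (D.fix _).mpr ?_, ?_⟩
  · rw [map_div₀, map_add, f.invol, map_ofNat, add_comm]
  · rw [map_div₀, map_mul, map_sub, f.invol, hσ, map_ofNat, mul_neg, div_neg, ← neg_div, neg_sub]
  · field_simp; ring

theorem coord_zero {τ : F} (hτ : τ ∉ D.F₀) {a b : F} (ha : a ∈ D.F₀) (hb : b ∈ D.F₀) (h : a + τ * b = 0) :
    a = 0 ∧ b = 0 := by
  have hb0 : b = 0 := by
    by_contra hb0
    refine hτ ?_
    have := D.F₀.div_mem (D.F₀.neg_mem ha) hb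
    rwa [show -a / b = τ by field_simp; linear_combination -h] at this
  exact ⟨by rw [hb0, mul_zero, add_zero] at h; exact h, hb0⟩

/-- Every vector is a rational vector plus a multiple of one. -/
theorem exists_split {τ : F} (hτ0 : τ ≠ 0) (hτ : τ + f.σ τ = 0) (x : ι → F) :
    ∃ a b, D.Rat a ∧ D.Rat b ∧ x = a + τ • b := by
  choose a ha b hb hab using fun i => D.exists_coord hτ0 hτ ((((D.P⁻¹ : GL ι F) : Matrix ι ι F) *ᵥ x) i)
  refine ⟨(D.P : Matrix ι ι F) *ᵥ a, (D.P : Matrix ι ι F) *ᵥ b, (ratVec_mulVec a).mpr ha, (ratVec_mulVec b).mpr hb, ?_⟩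
  rw [← Matrix.mulVec_smul, ← Matrix.mulVec_add, show a + τ • b = ((D.P⁻¹ : GL ι F) : Matrix ι ι F) *ᵥ x from
    funext fun i => (hab i).symm, Matrix.mulVec_mulVec, ← Units.val_mul, mul_inv_cancel, Units.val_one,
    Matrix.one_mulVec]

/-- Rational vectors span. -/
theorem ext_zero {x : ι → F} (h : ∀ z, D.Rat z → f.B z x = 0) : x = 0 := by
  obtain ⟨τ, hτ0, hτ, -⟩ := D.exists_τ
  refine f.nondeg.2 x fun z => ?_
  obtain ⟨a, b, ha, hb, rfl⟩ := D.exists_split hτ0 hτ z
  simp [h a ha, h b hb]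

theorem split_unique {τ : F} (hτ : τ ∉ D.F₀) {a b : ι → F} (ha : D.Rat a) (hb : D.Rat b) (h : a + τ • b = 0) :
    a = 0 ∧ b = 0 := by
  have key : ∀ z, D.Rat z → f.B z a = 0 ∧ f.B z b = 0 := fun z hz => by
    have h' := congrArg (f.B z) h
    rw [map_add, map_smul, map_zero, smul_eq_mul] at h'
    exact D.coord_zero hτ (D.rat z a hz ha) (D.rat z b hz hb) h'
  exact ⟨D.ext_zero fun z hz => (key z hz).1, D.ext_zero fun z hz => (key z hz).2⟩

/-- A vector with rational values on rational vectors is rational. -/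
theorem rat_of_vals {x : ι → F} (h : ∀ z, D.Rat z → f.B z x ∈ D.F₀) : D.Rat x := by
  obtain ⟨τ, hτ0, hτ, hτF⟩ := D.exists_τ
  obtain ⟨a, b, ha, hb, rfl⟩ := D.exists_split hτ0 hτ x
  have hb0 : b = 0 := D.ext_zero fun z hz => by
    have := h z hz
    rw [map_add, map_smul, smul_eq_mul] at this
    exact (D.coord_zero hτF (D.F₀.sub_mem (D.rat z a hz ha) this) (D.rat z b hz hb) (by ring)).2
  rwa [hb0, smul_zero, add_zero]

/-- The rational vector with given coordinates. -/
def rv (u : ι → D.F₀) : ι → F := (D.P : Matrix ι ι F) *ᵥ fun i => (u i : F)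

theorem rv_rat (u : ι → D.F₀) : D.Rat (D.rv u) := (ratVec_mulVec _).mpr fun i => (u i).2

theorem exists_rv {x : ι → F} (hx : D.Rat x) : ∃ u, D.rv u = x := by
  obtain ⟨u, hu, rfl⟩ := hx.eq_mulVec
  exact ⟨fun i => ⟨u i, hu i⟩, rfl⟩

theorem rv_add (u v : ι → D.F₀) : D.rv (u + v) = D.rv u + D.rv v := by
  simp only [rv, ← Matrix.mulVec_add]; rfl

theorem rv_smul (c : D.F₀) (u : ι → D.F₀) : D.rv (c • u) = (c : F) • D.rv u := by
  simp only [rv, ← Matrix.mulVec_smul]; rfl

theorem rv_zero : D.rv 0 = 0 := by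
  simp only [rv, Pi.zero_apply, ZeroMemClass.coe_zero]
  exact Matrix.mulVec_zero _

theorem rv_eq_zero {u : ι → D.F₀} : D.rv u = 0 ↔ u = 0 := by
  refine ⟨fun h => ?_, fun h => h ▸ D.rv_zero⟩
  have := Matrix.mulVec_injective_iff_isUnit.mpr D.P.isUnit (h.trans D.rv_zero.symm)
  exact funext fun i => Subtype.ext (congrFun this i)

/-- The rational symmetric form. -/
def B₀ : LinearMap.BilinForm D.F₀ (ι → D.F₀) :=
  LinearMap.mk₂ D.F₀ (fun u v => ⟨f.B (D.rv u) (D.rv v), D.rat _ _ (D.rv_rat u) (D.rv_rat v)⟩)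
    (fun u u' v => Subtype.ext (by simp [rv_add]))
    (fun c u v => Subtype.ext (by simp [rv_smul, D.σ_fix c.2]))
    (fun u v v' => Subtype.ext (by simp [rv_add]))
    (fun c u v => Subtype.ext (by simp [rv_smul]))

theorem coe_B₀ (u v : ι → D.F₀) : (D.B₀ u v : F) = f.B (D.rv u) (D.rv v) := rfl

theorem B₀_eq_zero {u v : ι → D.F₀} : D.B₀ u v = 0 ↔ f.B (D.rv u) (D.rv v) = 0 := by
  rw [← coe_B₀]; exact Subtype.coe_injective.eq_iff.symm.trans (by simp)

theorem B₀_symm (u v : ι → D.F₀) : D.B₀ u v = D.B₀ v u :=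
  Subtype.ext (D.symm' (D.rv_rat v) (D.rv_rat u))

theorem B₀_nondeg : D.B₀.Nondegenerate := by
  have hr : ∀ v, (∀ u, D.B₀ u v = 0) → v = 0 := fun v h => D.rv_eq_zero.mp (D.ext_zero fun z hz => by
    obtain ⟨u, rfl⟩ := D.exists_rv hz
    exact D.B₀_eq_zero.mp (h u))
  exact ⟨fun u h => hr u fun v => (D.B₀_symm v u).trans (h v), hr⟩

theorem B₀_refl : D.B₀.IsRefl := fun u v h => by rw [D.B₀_symm]; exact h

variable [Finite F]

/-- The orthogonal space of a small subspace is spanned by its isotropic vectors. -/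
theorem perp_le_span_iso (S : Submodule D.F₀ (ι → D.F₀))
    (hS : 2 * Module.finrank D.F₀ S + 3 ≤ Fintype.card ι) :
    LinearMap.BilinForm.orthogonal D.B₀ S ≤
      Submodule.span D.F₀ {w | w ∈ LinearMap.BilinForm.orthogonal D.B₀ S ∧ D.B₀ w w = 0} := by
  set X := LinearMap.BilinForm.orthogonal D.B₀ S with hX
  set R := X ⊓ LinearMap.BilinForm.orthogonal D.B₀ X with hR
  obtain ⟨C, hC⟩ := Submodule.exists_isCompl R
  set Y := X ⊓ C with hY
  have hXY : X ≤ R ⊔ Y := by
    rw [hY, inf_comm, ← sup_inf_assoc_of_le C (inf_le_left : R ≤ X), hC.sup_eq_top, top_inf_eq]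
  have hR' : Module.finrank D.F₀ R ≤ Module.finrank D.F₀ S := by
    refine Submodule.finrank_mono (inf_le_right.trans ?_)
    rw [hX, LinearMap.BilinForm.orthogonal_orthogonal D.B₀_nondeg D.B₀_refl]
  have hXdim : Fintype.card ι ≤ Module.finrank D.F₀ X + Module.finrank D.F₀ S := by
    rw [hX, LinearMap.BilinForm.finrank_orthogonal D.B₀_nondeg, Module.finrank_fintype_fun_eq_card]
    omega
  have hYdim : 3 ≤ Module.finrank D.F₀ Y := by
    have h1 := Submodule.finrank_mono hXY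
    have h2 := Submodule.finrank_sup_add_finrank_inf_eq R Y
    omega
  obtain ⟨e, heY, he0, hQe⟩ := Orth.exists_singular (Q := D.B₀.toQuadraticMap) Y hYdim
  have he : D.B₀ e e = 0 := hQe
  obtain ⟨z, hz, hez⟩ : ∃ z ∈ X, D.B₀ e z ≠ 0 := by
    by_contra h
    push Not at h
    refine he0 ?_
    have : e ∈ R := ⟨heY.1, fun x hx => (D.B₀_symm x e).trans (h x hx)⟩
    exact (Submodule.mem_bot D.F₀).mp (hC.inf_eq_bot ▸ (⟨this, heY.2⟩ : e ∈ R ⊓ C))
  have h2 : (2 : D.F₀) ≠ 0 := fun h => D.two (by have := congrArg D.F₀.subtype h; rwa [map_ofNat, map_zero] at this)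
  set z' := (D.B₀ e z)⁻¹ • z with hz'
  have hez' : D.B₀ e z' = 1 := by rw [hz', map_smul, smul_eq_mul, inv_mul_cancel₀ hez]
  have hz'X : z' ∈ X := X.smul_mem _ hz
  clear_value z'
  set e' := z' - (D.B₀ z' z' / 2) • e with he'def
  have he'X : e' ∈ X := X.sub_mem hz'X (X.smul_mem _ heY.1)
  have hee' : D.B₀ e e' = 1 := by rw [he'def, map_sub, map_smul, he, hez', smul_zero, sub_zero]
  have he'e : D.B₀ e' e = 1 := by rw [D.B₀_symm, hee']
  have he'e' : D.B₀ e' e' = 0 := by
    simp only [he'def, map_sub, map_smul, LinearMap.sub_apply, LinearMap.smul_apply, smul_eq_mul, he, hez',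
      D.B₀_symm z' e]
    field_simp
    ring
  intro x hx
  set y := x - D.B₀ e' x • e - D.B₀ e x • e' with hy
  have hyX : y ∈ X := sub_mem (sub_mem hx (Submodule.smul_mem _ _ heY.1)) (Submodule.smul_mem _ _ he'X)
  have hye : D.B₀ e y = 0 := by simp [hy, map_sub, he, hee']
  have hye' : D.B₀ e' y = 0 := by simp [hy, map_sub, he'e', he'e]
  set d := -(D.B₀ y y) / 2 with hd
  have hiso : D.B₀ (y + d • e + e') (y + d • e + e') = 0 := by
    simp only [map_add, LinearMap.add_apply, map_smul, LinearMap.smul_apply, smul_eq_mul,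
      he, hee', he'e, he'e', hye, hye', D.B₀_symm y e, D.B₀_symm y e']
    rw [hd]; field_simp; ring
  have hdecomp : x = (y + d • e + e') + ((D.B₀ e' x - d) • e + (D.B₀ e x - 1) • e') := by
    rw [hy]; module
  rw [hdecomp]
  exact add_mem (Submodule.subset_span ⟨X.add_mem (X.add_mem hyX (X.smul_mem _ heY.1)) he'X, hiso⟩)
    (add_mem (Submodule.smul_mem _ _ (Submodule.subset_span ⟨heY.1, he⟩))
      (Submodule.smul_mem _ _ (Submodule.subset_span ⟨he'X, he'e'⟩)))

/-- What holds for rational isotropic vectors orthogonal to a small rational set holds for all rational ones. -/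
theorem of_iso (s : Finset (ι → F)) (hs : ∀ x ∈ s, D.Rat x) (hcard : 2 * s.card + 3 ≤ Fintype.card ι)
    (p : (ι → F) → Prop) (h0 : p 0) (hadd : ∀ x y, p x → p y → p (x + y)) (hsm : ∀ a ∈ D.F₀, ∀ x, p x → p (a • x))
    (hiso : ∀ v, D.Rat v → f.Iso v → (∀ x ∈ s, f.B x v = 0) → p v)
    {v : ι → F} (hv : D.Rat v) (hperp : ∀ x ∈ s, f.B x v = 0) : p v := by
  classical
  choose g hg using fun x : s => D.exists_rv (hs x x.2)
  set S := Submodule.span D.F₀ (Set.range g)
  obtain ⟨u, rfl⟩ := D.exists_rv hv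
  have hu : u ∈ LinearMap.BilinForm.orthogonal D.B₀ S := by
    intro w hw
    show D.B₀ w u = 0
    induction hw using Submodule.span_induction with
    | mem w hw =>
      obtain ⟨x, rfl⟩ := hw
      rw [B₀_eq_zero, hg]
      exact hperp x x.2
    | zero => simp
    | add a b _ _ ha hb => rw [map_add, LinearMap.add_apply, ha, hb, add_zero]
    | smul c a _ ha => rw [map_smul, LinearMap.smul_apply, ha, smul_zero]
  have hdim : Module.finrank D.F₀ S ≤ s.card :=
    (finrank_range_le_card g).trans (le_of_eq (Fintype.card_coe s))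
  have hmem := D.perp_le_span_iso S (by omega) hu
  clear hperp hu hv
  induction hmem using Submodule.span_induction with
  | mem w hw =>
    exact hiso _ (D.rv_rat _) (D.B₀_eq_zero.mp hw.2) fun x hx => by
      have e : D.rv (g ⟨x, hx⟩) = x := hg ⟨x, hx⟩
      rw [← e, ← B₀_eq_zero]
      exact hw.1 _ (Submodule.subset_span ⟨_, rfl⟩)
  | zero => rw [D.rv_zero]; exact h0
  | add a b _ _ ha hb => rw [D.rv_add]; exact hadd _ _ ha hb
  | smul c a _ ha => rw [D.rv_smul]; exact hsm _ c.2 _ ha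

/-- A rational isotropic vector not killed by `w`. -/
theorem exists_iso_ne (s : Finset (ι → F)) (hs : ∀ x ∈ s, D.Rat x) (hcard : 2 * s.card + 3 ≤ Fintype.card ι)
    {w : ι → F} {z : ι → F} (hz : D.Rat z) (hperp : ∀ x ∈ s, f.B x z = 0) (hne : f.B z w ≠ 0) :
    ∃ v, D.Rat v ∧ f.Iso v ∧ (∀ x ∈ s, f.B x v = 0) ∧ f.B v w ≠ 0 := by
  by_contra hc
  push Not at hc
  exact hne (D.of_iso s hs hcard (fun v => f.B v w = 0) (by simp)
    (fun x y hx hy => by rw [map_add, LinearMap.add_apply, hx, hy, add_zero])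
    (fun a _ x hx => by rw [LinearMap.map_smulₛₗ, LinearMap.smul_apply, hx, smul_zero]) hc hz hperp)

/-- A rational isotropic vector dual to `u` inside the orthogonal space of a small set. -/
theorem exists_dual (s : Finset (ι → F)) (hs : ∀ x ∈ s, D.Rat x) (hcard : 2 * s.card + 3 ≤ Fintype.card ι)
    {u : ι → F} (hu : D.Rat u) (hspan : u ∉ Submodule.span F (s : Set (ι → F))) :
    ∃ v, D.Rat v ∧ f.Iso v ∧ (∀ x ∈ s, f.B x v = 0) ∧ f.B u v = 1 := by
  classical
  obtain ⟨τ, hτ0, hτ, hτF⟩ := D.exists_τ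
  obtain ⟨z, hz, hz1⟩ := f.exists_perp_eq_one _ hspan
  obtain ⟨a, b, ha, hb, rfl⟩ := D.exists_split hτ0 hτ z
  have hparts : ∀ x ∈ s, f.B x a = 0 ∧ f.B x b = 0 := fun x hx => by
    have h := f.eq_zero_comm (hz x (Submodule.subset_span hx))
    rw [map_add, map_smul, smul_eq_mul] at h
    exact D.coord_zero hτF (D.rat x a (hs x hx) ha) (D.rat x b (hs x hx) hb) h
  have hau : f.B a u ≠ 0 := fun h => by
    simp only [map_add, LinearMap.add_apply, LinearMap.map_smulₛₗ, LinearMap.smul_apply, smul_eq_mul, h,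
      show f.σ τ = -τ by linear_combination hτ] at hz1
    obtain ⟨h1, -⟩ := D.coord_zero hτF (D.F₀.neg_mem D.F₀.one_mem) (D.F₀.neg_mem (D.rat b u hb hu))
      (by linear_combination hz1)
    exact one_ne_zero (neg_eq_zero.mp h1)
  obtain ⟨v, hv, hvi, hvs, hvu⟩ := D.exists_iso_ne s hs hcard (w := u) ha (fun x hx => (hparts x hx).1) hau
  have huv : f.B u v ≠ 0 := fun h => hvu (f.eq_zero_comm h)
  exact ⟨(f.B u v)⁻¹ • v, hv.smul (D.F₀.inv_mem (D.rat _ _ hu hv)), HermF.Iso.smul hvi _,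
    fun x hx => by rw [map_smul, hvs x hx, smul_zero], by rw [map_smul, smul_eq_mul, inv_mul_cancel₀ huv]⟩

/-- The partner of a rational isotropic vector. -/
theorem exists_partner' (hn : 3 ≤ Fintype.card ι) {u : ι → F} (hu : D.Rat u) (hu0 : u ≠ 0) :
    ∃ v, D.Rat v ∧ f.Iso v ∧ f.B u v = 1 := by
  obtain ⟨v, h1, h2, -, h3⟩ := D.exists_dual ∅ (by simp) (by simp; omega) hu (by simpa using hu0)
  exact ⟨v, h1, h2, h3⟩

/-- A rational isotropic vector orthogonal to a small set and outside its span. -/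
theorem exists_iso_notMem (s : Finset (ι → F)) (hs : ∀ x ∈ s, D.Rat x) (hcard : 2 * s.card + 3 ≤ Fintype.card ι) :
    ∃ v, D.Rat v ∧ f.Iso v ∧ (∀ x ∈ s, f.B x v = 0) ∧ v ∉ Submodule.span F (s : Set (ι → F)) := by
  classical
  by_contra hc
  push Not at hc
  obtain ⟨τ, hτ0, hτ, hτF⟩ := D.exists_τ
  set W := Submodule.span F (s : Set (ι → F))
  have hle : f.perp W ≤ W := fun z hz => by
    obtain ⟨a, b, ha, hb, rfl⟩ := D.exists_split hτ0 hτ z
    have hparts : ∀ x ∈ s, f.B x a = 0 ∧ f.B x b = 0 := fun x hx => by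
      have h := hz x (Submodule.subset_span hx)
      rw [map_add, map_smul, smul_eq_mul] at h
      exact D.coord_zero hτF (D.rat x a (hs x hx) ha) (D.rat x b (hs x hx) hb) h
    have key : ∀ x, D.Rat x → (∀ y ∈ s, f.B y x = 0) → x ∈ W := fun x hx hxs =>
      D.of_iso s hs hcard (fun x => x ∈ W) W.zero_mem (fun _ _ => W.add_mem) (fun a _ x hx => W.smul_mem a hx)
        hc hx hxs
    exact W.add_mem (key a ha fun y hy => (hparts y hy).1) (W.smul_mem _ (key b hb fun y hy => (hparts y hy).2))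
  have h1 := Submodule.finrank_mono hle
  have h2 := f.finrank_perp_ge W
  have h3 : Module.finrank F W ≤ s.card := finrank_span_finset_le_card s
  omega

end OData

end Cfsg.Agent.Lib.MaxSub
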