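import Cfsg.Agent.Lib.MaxSub.UnitarySiegelOp
import Cfsg.Agent.Lib.MaxSub.UnitaryOrthRat
import Mathlib

/-!
Siegel elements relative to a real structure of a Hermitian form: one transvection together with the rational Siegel
elements gives all transvections.
-/

set_option autoImplicit false
set_option maxHeartbeats 800000
set_option linter.unusedSectionVars false

namespace Cfsg.Agent.Lib.MaxSub.UnitaryOrth

open Matrix SiegelOp

variable {ι : Type} [Fintype ι] [DecidableEq ι] {F : Type*} [Field F] {f : HermF ι F}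

theorem sN_smul_left (u y : ι → F) (a s : F) : sN f (a • u) y s = sN f u y (s * a) := LinearMap.ext fun x => by
  simp only [sN_apply, LinearMap.map_smulₛₗ, LinearMap.smul_apply, smul_eq_mul, map_mul]
  module

theorem sN_swap (u y : ι → F) (s : F) : sN f u y s = sN f y u (-(f.σ s)) := LinearMap.ext fun x => by
  simp only [sN_apply, map_neg, f.invol]
  module

theorem conj_sN {K : Subgroup (GL ι F)} {w z : ι → F} {s : F} (h : Op K (sN f w z s)) {g : GL ι F} (hg : g ∈ K)
    (hp : f.Preserves g) : Op K (sN f ((g : Matrix ι ι F) *ᵥ w) ((g : Matrix ι ι F) *ᵥ z) s) := by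
  obtain ⟨t, ht, htx⟩ := h
  refine ⟨g * t * g⁻¹, K.mul_mem (K.mul_mem hg ht) (K.inv_mem hg), fun x => ?_⟩
  have hx : x = (g : Matrix ι ι F) *ᵥ (((g⁻¹ : GL ι F) : Matrix ι ι F) *ᵥ x) := by
    rw [Matrix.mulVec_mulVec, ← Units.val_mul, mul_inv_cancel, Units.val_one, Matrix.one_mulVec]
  rw [Units.val_mul, Units.val_mul, ← Matrix.mulVec_mulVec, ← Matrix.mulVec_mulVec, htx, Matrix.mulVec_add, ← hx,
    sN_apply, sN_apply, Matrix.mulVec_sub, Matrix.mulVec_smul, Matrix.mulVec_smul]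
  conv_rhs => arg 2; rw [hx, hp, hp]

variable [Finite F] (D : OData f)

/-- The rational Siegel elements act inside the group. -/
def Base (K : Subgroup (GL ι F)) : Prop :=
  ∀ u y, D.Rat u → f.Iso u → D.Rat y → f.Iso y → f.B u y = 0 → ∀ a ∈ D.F₀, Op K (sN f u y a)

/-- A transvection with a rational centre. -/
def LongAt (K : Subgroup (GL ι F)) : Prop :=
  ∃ u κ, D.Rat u ∧ f.Iso u ∧ u ≠ 0 ∧ κ + f.σ κ = 0 ∧ κ ≠ 0 ∧ Op K (tN f u κ)

variable {D} {K : Subgroup (GL ι F)}

theorem iso_add {u y : ι → F} (hu : f.Iso u) (hy : f.Iso y) (h : f.B u y = 0) (b : F) : f.Iso (y + b • u) := by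
  show f.B _ _ = 0
  simp [show f.B u u = 0 from hu, show f.B y y = 0 from hy, h, f.eq_zero_comm h]

theorem trace_mul {c : F} (hc : c + f.σ c = 0) (a : F) :
    c * (f.σ a * a) + f.σ (c * (f.σ a * a)) = 0 := by
  rw [map_mul, map_mul, f.invol]
  linear_combination (f.σ a * a) * hc

/-- Any transvection yields one with a rational centre. -/
theorem long_of_trans (hn : 13 ≤ Fintype.card ι) (hKf : ∀ g ∈ K, f.Preserves g) (hb : Base D K) {w : ι → F}
    (hw0 : w ≠ 0) (hwi : f.Iso w) {c : F} (hc0 : c ≠ 0) (hc : c + f.σ c = 0) (hw : Op K (tN f w c)) :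
    LongAt D K := by
  classical
  have hw' : f.B w w = 0 := hwi
  obtain ⟨τ, hτ0, hτ, hτF⟩ := D.exists_τ
  obtain ⟨w₁, w₂, hw₁, hw₂, hsplit⟩ := D.exists_split hτ0 hτ w
  -- a rational isotropic vector orthogonal to the centre
  obtain ⟨u, hu, hui, hus, hu0⟩ := D.exists_iso_notMem {w₁, w₂} (by simp [hw₁, hw₂])
    (by have : ({w₁, w₂} : Finset (ι → F)).card ≤ 2 := Finset.card_le_two; omega)
  have hu0' : u ≠ 0 := fun h => hu0 (by rw [h]; exact Submodule.zero_mem _)
  have huw : f.B u w = 0 := by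
    rw [hsplit, map_add, map_smul, f.eq_zero_comm (hus w₁ (by simp)), f.eq_zero_comm (hus w₂ (by simp))]
    simp
  by_cases hline : w ∈ F ∙ u
  · obtain ⟨lam, hlam⟩ := Submodule.mem_span_singleton.mp hline
    have hlam0 : lam ≠ 0 := fun h => hw0 (by rw [← hlam, h, zero_smul])
    rw [← hlam] at hw
    exact ⟨u, _, hu, hui, hu0', trace_mul hc lam,
      mul_ne_zero hc0 (mul_ne_zero (fun h => hlam0 (f.σ_eq_zero.mp h)) hlam0), hw.smul_tN⟩
  have hu' : f.B u u = 0 := hui
  obtain ⟨p, hp, -, hup⟩ := D.exists_partner' (by omega) hu hu0'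
  obtain ⟨z, hz, huz, hzw⟩ : ∃ z, D.Rat z ∧ f.B u z = 0 ∧ f.B z w ≠ 0 := by
    by_contra hcon
    push Not at hcon
    refine hline (Submodule.mem_span_singleton.mpr ⟨f.B p w, ?_⟩)
    symm
    refine sub_eq_zero.mp (D.ext_zero fun z hz => ?_)
    have h1 := hcon (z - f.B u z • p) (hz.sub (hp.smul (D.rat _ _ hu hz)))
      (by rw [map_sub, map_smul, hup, smul_eq_mul, mul_one, sub_self])
    simp only [map_sub, LinearMap.sub_apply, LinearMap.map_smulₛₗ, LinearMap.smul_apply, smul_eq_mul,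
      map_smul, f.herm] at h1 ⊢
    simpa [mul_comm] using h1
  obtain ⟨v, hv, hvi, hvs, hvw⟩ := D.exists_iso_ne {u} (by simpa using hu) (by simp; omega) hz (by simpa using huz) hzw
  have huv : f.B u v = 0 := hvs u (Finset.mem_singleton_self u)
  set γ := f.B v w with hγ
  have hΦ : ∀ a ∈ D.F₀, Op K (tN f u (c * (f.σ γ * γ) * (a * a)) + sN f u w (a * (c * γ))) := fun a ha => by
    obtain ⟨g, hg, hgx⟩ := hb u v hu hui hv hvi huv a ha
    have h1 := hw.conj_tN hg (hKf g hg)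
    rw [hgx, sN_apply, huw, mul_zero, zero_smul, sub_zero, ← hγ, tN_expand f hc] at h1
    have h2 := h1.sub hw (tN_mul_tN _ _ hw')
      (by rw [add_mul, add_mul, tN_mul_tN _ _ hw', tN_mul_tN _ _ huw, sN_mul_tN _ _ huw hw']; abel)
    convert h2 using 1
    rw [show c * (f.σ (a * γ) * (a * γ)) = c * (f.σ γ * γ) * (a * a) by rw [map_mul, D.σ_fix ha]; ring,
      show c * (a * γ) = a * (c * γ) by ring]
    abel
  have h1 := hΦ 1 D.F₀.one_mem
  have h2 := hΦ (-1) (D.F₀.neg_mem D.F₀.one_mem)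
  have hwu := f.eq_zero_comm huw
  have h3 := h1.add h2 (by
    rw [add_mul, mul_add, mul_add, tN_mul_tN _ _ hu', tN_mul_sN _ _ hu' huw, sN_mul_tN _ _ hu' hwu,
      sN_mul_sN _ _ hui hwi huw]
    abel)
  have hγ0 : γ ≠ 0 := hvw
  refine ⟨u, c * (f.σ γ * γ) + c * (f.σ γ * γ), hu, hui, hu0', ?_, ?_, ?_⟩
  · rw [map_add]; linear_combination (2 : F) * trace_mul hc γ
  · rw [← two_mul]
    exact mul_ne_zero D.two (mul_ne_zero hc0 (mul_ne_zero (fun h => hγ0 (f.σ_eq_zero.mp h)) hγ0))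
  · convert h3 using 1
    rw [show (-1 : F) * -1 = 1 by ring, show (-1 : F) * (c * γ) = -(c * γ) by ring, sN_neg, one_mul, one_mul, mul_one, tN_add]
    abel

/-- Rational Siegel elements move one rational isotropic vector to any other. -/
theorem exists_move (hn : 13 ≤ Fintype.card ι) (hKf : ∀ g ∈ K, f.Preserves g) (hb : Base D K) {u v : ι → F}
    (hu : D.Rat u) (hui : f.Iso u) (hu0 : u ≠ 0) (hv : D.Rat v) (hvi : f.Iso v) (hv0 : v ≠ 0) :
    ∃ g ∈ K, (g : Matrix ι ι F) *ᵥ u = v := by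
  classical
  have step : ∀ a b, D.Rat a → f.Iso a → D.Rat b → f.Iso b → f.B a b = 0 → b ∉ F ∙ a → a ∉ F ∙ b →
      ∃ g ∈ K, (g : Matrix ι ι F) *ᵥ a = b := by
    intro a b ha hai hb' hbi hab hba hab'
    have hd : f.Iso (b - a) := by
      have := iso_add hai hbi hab (-1)
      rwa [neg_one_smul, ← sub_eq_add_neg] at this
    have hda : f.B (b - a) a = 0 := by
      rw [map_sub, LinearMap.sub_apply, f.eq_zero_comm hab, show f.B a a = 0 from hai, sub_zero]
    obtain ⟨y, hy, hyi, hys, hay⟩ := D.exists_dual {b - a} (by simpa using hb'.sub ha) (by simp; omega) ha (by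
      intro h
      rw [Finset.coe_singleton] at h
      obtain ⟨c, hc⟩ := Submodule.mem_span_singleton.mp h
      rcases eq_or_ne c 0 with rfl | hc0
      · rw [zero_smul] at hc; exact hab' (hc ▸ Submodule.zero_mem _)
      · refine hba (Submodule.mem_span_singleton.mpr ⟨(c + 1) / c, ?_⟩)
        conv_lhs => rw [← hc]
        rw [smul_smul, div_mul_cancel₀ _ hc0, add_smul, one_smul, smul_sub]
        rw [smul_sub, sub_eq_iff_eq_add] at hc
        rw [hc]; abel)
    obtain ⟨g, hg, hgx⟩ := hb (b - a) y (hb'.sub ha) hd hy hyi (hys _ (Finset.mem_singleton_self _)) 1 D.F₀.one_mem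
    refine ⟨g, hg, ?_⟩
    rw [hgx, sN_apply, hda, ← f.herm a y, hay, map_one]
    simp
  obtain ⟨w, hw, hwi, hws, hwn⟩ := D.exists_iso_notMem {u, v} (by simp [hu, hv])
    (by have : ({u, v} : Finset (ι → F)).card ≤ 2 := Finset.card_le_two; omega)
  have hsub : ∀ x ∈ ({u, v} : Finset (ι → F)), x ≠ 0 → w ∉ F ∙ x ∧ x ∉ F ∙ w := fun x hx hx0 => by
    refine ⟨fun h => hwn (Submodule.span_mono (by simpa using hx) h), fun h => ?_⟩
    obtain ⟨c, hc⟩ := Submodule.mem_span_singleton.mp h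
    rcases eq_or_ne c 0 with rfl | hc0
    · rw [zero_smul] at hc; exact hx0 hc.symm
    · refine hwn ?_
      have h1 := Submodule.smul_mem (Submodule.span F (({u, v} : Finset (ι → F)) : Set (ι → F))) c⁻¹
        (Submodule.subset_span hx)
      rwa [← hc, smul_smul, inv_mul_cancel₀ hc0, one_smul] at h1
  obtain ⟨g, hg, hgu⟩ := step u w hu hui hw hwi (hws u (by simp)) (hsub u (by simp) hu0).1 (hsub u (by simp) hu0).2
  obtain ⟨h, hh, hhw⟩ := step w v hw hwi hv hvi (f.eq_zero_comm (hws v (by simp))) (hsub v (by simp) hv0).2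
    (hsub v (by simp) hv0).1
  exact ⟨h * g, K.mul_mem hh hg, by rw [Units.val_mul, ← Matrix.mulVec_mulVec, hgu, hhw]⟩

/-- All transvections with rational centres. -/
theorem long_all (hn : 13 ≤ Fintype.card ι) (hKf : ∀ g ∈ K, f.Preserves g) (hb : Base D K) (hL : LongAt D K)
    {c : F} (hc : c + f.σ c = 0) {v : ι → F} (hv : D.Rat v) (hvi : f.Iso v) : Op K (tN f v c) := by
  obtain ⟨u, κ, hu, hui, hu0, hκt, hκ0, hop⟩ := hL
  rcases eq_or_ne v 0 with rfl | hv0
  · rw [show tN f (0 : ι → F) c = 0 from LinearMap.ext fun x => by simp [tN_apply]]; exact Op.zero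
  have hsq : ∀ a ∈ D.F₀, Op K (tN f v (κ * (a * a))) := fun a ha => by
    rcases eq_or_ne a 0 with rfl | ha0
    · simp only [mul_zero, tN_zero]; exact Op.zero
    obtain ⟨g, hg, hgu⟩ := exists_move hn hKf hb hu hui hu0 (hv.smul ha) (HermF.Iso.smul hvi a)
      (smul_ne_zero ha0 hv0)
    have := hop.conj_tN hg (hKf g hg)
    rw [hgu] at this
    have := this.smul_tN
    rwa [D.σ_fix ha] at this
  set e := c / κ with he
  have heF : e ∈ D.F₀ := (D.fix e).mpr (by
    rw [he, map_div₀, show f.σ c = -c by linear_combination hc, show f.σ κ = -κ by linear_combination hκt,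
      neg_div_neg_eq])
  have h2F : (2 : F) ∈ D.F₀ := by exact_mod_cast natCast_mem D.F₀ 2
  have h2 := D.two
  have e1 := hsq ((e + 1) / 2) (D.F₀.div_mem (D.F₀.add_mem heF D.F₀.one_mem) h2F)
  have e2 := hsq ((e - 1) / 2) (D.F₀.div_mem (D.F₀.sub_mem heF D.F₀.one_mem) h2F)
  have := e1.sub e2 (tN_mul_tN _ _ hvi) (tN_mul_tN _ _ hvi)
  rwa [sub_eq_add_neg, ← tN_neg, ← tN_add,
    show κ * ((e + 1) / 2 * ((e + 1) / 2)) + -(κ * ((e - 1) / 2 * ((e - 1) / 2))) = κ * e by field_simp; ring,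
    he, mul_div_cancel₀ _ hκ0] at this

/-- All short root elements at rational orthogonal pairs. -/
theorem short_all (hn : 13 ≤ Fintype.card ι) (hKf : ∀ g ∈ K, f.Preserves g) (hb : Base D K) (hL : LongAt D K)
    {u y : ι → F} (hu : D.Rat u) (hui : f.Iso u) (hy : D.Rat y) (hyi : f.Iso y) (huy : f.B u y = 0) (s : F) :
    Op K (sN f u y s) := by
  obtain ⟨τ, hτ0, hτ, -⟩ := D.exists_τ
  obtain ⟨a, ha, b, hb', rfl⟩ := D.exists_coord hτ0 hτ s
  set c := τ * b with hc
  have hct : c + f.σ c = 0 := by rw [hc, map_mul, D.σ_fix hb']; linear_combination b * hτ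
  have hcN : c * (f.σ 1 * 1) + f.σ (c * (f.σ 1 * 1)) = 0 := trace_mul hct 1
  have hu' : f.B u u = 0 := hui
  have hy' : f.B y y = 0 := hyi
  have hyu := f.eq_zero_comm huy
  have e : tN f (y + (1 : F) • u) c - tN f y c - tN f u (c * (f.σ 1 * 1)) = sN f u y (c * 1) := by
    rw [tN_expand f hct]; abel
  have h1 : Op K (sN f u y c) := by
    rw [← mul_one c, ← e]
    refine ((long_all hn hKf hb hL hct (hy.add (hu.smul D.F₀.one_mem)) (iso_add hui hyi huy 1)).sub
      (long_all hn hKf hb hL hct hy hyi) (tN_mul_tN _ _ hy') (tN_mul_tN _ _ (by simp [hy', huy]))).sub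
      (long_all hn hKf hb hL hcN hu hui) (tN_mul_tN _ _ hu') ?_
    rw [sub_mul, tN_mul_tN c _ (by simp [hu', hyu]), tN_mul_tN c _ hyu, sub_zero]
  rw [sN_add]
  exact (hb u y hu hui hy hyi huy a ha).add h1 (sN_mul_sN _ _ hui hyi huy)

/-- All transvections. -/
theorem ctr_of_long (hn : 13 ≤ Fintype.card ι) (hKf : ∀ g ∈ K, f.Preserves g) (hb : Base D K) (hL : LongAt D K)
    {w : ι → F} (hwi : f.Iso w) {c : F} (hc : c + f.σ c = 0) : Op K (tN f w c) := by
  classical
  rcases eq_or_ne w 0 with rfl | hw0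
  · rw [show tN f (0 : ι → F) c = 0 from LinearMap.ext fun x => by simp [tN_apply]]; exact Op.zero
  obtain ⟨z, hz, hzw⟩ : ∃ z, D.Rat z ∧ f.B z w ≠ 0 := by
    by_contra hcon
    push Not at hcon
    exact hw0 (D.ext_zero hcon)
  obtain ⟨e, he, hei, -, hew⟩ := D.exists_iso_ne ∅ (by simp) (by simp; omega) hz (by simp) hzw
  have he0 : e ≠ 0 := fun h => hew (by rw [h, map_zero, LinearMap.zero_apply])
  obtain ⟨p, hp, hpi, hep⟩ := D.exists_partner' (by omega) he he0
  have hee : f.B e e = 0 := hei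
  have hpp : f.B p p = 0 := hpi
  have hpe : f.B p e = 1 := by rw [← f.herm e p, hep, map_one]
  let P : (ι → F) → Prop := fun y => f.B e y = 0 ∧ ∃ g ∈ K, (g : Matrix ι ι F) *ᵥ e = e ∧
    (∀ x, f.B e x = 0 → (g : Matrix ι ι F) *ᵥ x - x ∈ F ∙ e) ∧ (g : Matrix ι ι F) *ᵥ p - p - y ∈ F ∙ e
  have P0 : P 0 := ⟨map_zero _, 1, K.one_mem, by simp, fun x _ => by simp, by simp⟩
  have Padd : ∀ y y', P y → P y' → P (y + y') := by
    rintro y y' ⟨hy, g, hg, hge, hgx, hgp⟩ ⟨hy', g', hg', hge', hgx', hgp'⟩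
    have hfix : ∀ z ∈ F ∙ e, (g : Matrix ι ι F) *ᵥ z = z := fun z hz => by
      obtain ⟨d, rfl⟩ := Submodule.mem_span_singleton.mp hz
      rw [Matrix.mulVec_smul, hge]
    refine ⟨by rw [map_add, hy, hy', add_zero], g * g', K.mul_mem hg hg', ?_, fun x hx => ?_, ?_⟩
    · rw [Units.val_mul, ← Matrix.mulVec_mulVec, hge', hge]
    · rw [Units.val_mul, ← Matrix.mulVec_mulVec]
      have h1 := hfix _ (hgx' x hx)
      rw [Matrix.mulVec_sub] at h1
      rw [show (g : Matrix ι ι F) *ᵥ ((g' : Matrix ι ι F) *ᵥ x) - x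
        = ((g' : Matrix ι ι F) *ᵥ x - x) + ((g : Matrix ι ι F) *ᵥ x - x) by rw [← h1]; abel]
      exact add_mem (hgx' x hx) (hgx x hx)
    · rw [Units.val_mul, ← Matrix.mulVec_mulVec]
      have h1 := hfix _ hgp'
      rw [Matrix.mulVec_sub, Matrix.mulVec_sub] at h1
      rw [show (g : Matrix ι ι F) *ᵥ ((g' : Matrix ι ι F) *ᵥ p) - p - (y + y')
        = ((g' : Matrix ι ι F) *ᵥ p - p - y') + ((g : Matrix ι ι F) *ᵥ p - p - y) + ((g : Matrix ι ι F) *ᵥ y' - y')
        by rw [← h1]; abel]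
      exact add_mem (add_mem hgp' hgp) (hgx y' hy')
  have hspan : ∀ y, D.Rat y → f.B e y = 0 → f.B p y = 0 → ∀ d : F, P (d • y) := fun y hy h1 h2 =>
    D.of_iso {e, p} (by simp [he, hp])
      (by have : ({e, p} : Finset (ι → F)).card ≤ 2 := Finset.card_le_two; omega) (fun y => ∀ d : F, P (d • y))
      (fun d => by rw [smul_zero]; exact P0) (fun x y hx hy d => by rw [smul_add]; exact Padd _ _ (hx d) (hy d))
      (fun a _ x hx d => by rw [smul_smul]; exact hx _)
      (fun v hv hvi hvs d => by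
        have hev : f.B e v = 0 := hvs e (by simp)
        have hvp : f.B v p = 0 := f.eq_zero_comm (hvs p (by simp))
        obtain ⟨g, hg, hgx⟩ := short_all hn hKf hb hL he hei hv hvi hev (-(f.σ d))
        refine ⟨by rw [map_smul, hev, smul_zero], g, hg, ?_, fun x hx => ?_, ?_⟩
        · rw [hgx, sN_apply, f.eq_zero_comm hev, hee]; simp
        · rw [hgx, sN_apply, hx, mul_zero, zero_smul, sub_zero, add_sub_cancel_left]
          exact Submodule.smul_mem _ _ (Submodule.mem_span_singleton_self e)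
        · rw [hgx, sN_apply, hvp, hep]
          simp [f.invol])
      hy (by simp [h1, h2])
  set β := f.B e w with hβ
  set w' := β⁻¹ • w with hw'
  have hew' : f.B e w' = 1 := by rw [hw', map_smul, smul_eq_mul, inv_mul_cancel₀ hew]
  set y := w' - p - f.B p w' • e with hy
  have hey : f.B e y = 0 := by simp [hy, hew', hep, hee]
  have hpy : f.B p y = 0 := by simp [hy, hpp, hpe]
  have hPy : P y := by
    obtain ⟨τ, hτ0, hτ, hτF⟩ := D.exists_τ
    obtain ⟨a, b, ha, hb', hab⟩ := D.exists_split hτ0 hτ y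
    have hparts : ∀ x, D.Rat x → f.B x y = 0 → f.B x a = 0 ∧ f.B x b = 0 := fun x hx h => by
      rw [hab, map_add, map_smul, smul_eq_mul] at h
      exact D.coord_zero hτF (D.rat x a hx ha) (D.rat x b hx hb') h
    rw [hab]
    refine Padd _ _ ?_ (hspan b hb' (hparts e he hey).2 (hparts p hp hpy).2 τ)
    simpa using hspan a ha (hparts e he hey).1 (hparts p hp hpy).1 1
  obtain ⟨-, g, hg, hge, -, hgp⟩ := hPy
  obtain ⟨a, ha⟩ := Submodule.mem_span_singleton.mp hgp
  set p' := (g : Matrix ι ι F) *ᵥ p with hp'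
  set d := f.B p w' - a with hd
  have hwp : w' = p' + d • e := by rw [hd, sub_smul, ha, hy]; abel
  have hp'i : f.Iso p' := (f.iso_mulVec (hKf g hg)).mpr hpi
  have hep' : f.B e p' = 1 := by
    have := hKf g hg e p
    rwa [hge, hep] at this
  have hdt : d + f.σ d = 0 := by
    have h : f.B w' w' = 0 := HermF.Iso.smul hwi _
    simp only [hwp, map_add, LinearMap.add_apply, LinearMap.map_smulₛₗ, LinearMap.smul_apply, map_smul, smul_eq_mul,
      show f.B p' p' = 0 from hp'i, hep', hee, show f.B p' e = 1 by rw [← f.herm e p', hep', map_one]] at h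
    linear_combination h
  obtain ⟨h, hh, hhx⟩ := long_all hn hKf hb hL hdt he hei
  have hhp : (h : Matrix ι ι F) *ᵥ p' = w' := by rw [hhx, tN_apply, hep', mul_one, hwp]
  have hfin := (long_all hn hKf hb hL (trace_mul hc β) hp hpi).conj_tN (K.mul_mem hh hg) (hKf _ (K.mul_mem hh hg))
  rw [Units.val_mul, ← Matrix.mulVec_mulVec, ← hp', hhp] at hfin
  have := hfin.smul_tN
  rw [show c * (f.σ β * β) * (f.σ β⁻¹ * β⁻¹) = c by
    rw [map_inv₀]
    have : f.σ β ≠ 0 := fun h => hew (f.σ_eq_zero.mp h)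
    field_simp] at this
  exact this

end Cfsg.Agent.Lib.MaxSub.UnitaryOrth
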