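import Cfsg.Agent.Lib.MaxSub.UnitaryStd
import Cfsg.Agent.Lib.MaxSub.Subfield
import Mathlib

/-!
A Hermitian form with a rational structure over a subfield on which the involution is non-trivial: the rational
Hermitian form and its consequences for rational isotropic vectors.
-/

set_option autoImplicit false
set_option maxHeartbeats 800000
set_option linter.unusedSectionVars false

namespace Cfsg.Agent.Lib.MaxSub

open Matrix

variable {ι : Type} [Fintype ι] [DecidableEq ι] {F : Type*} [Field F]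

/-- A Hermitian form with a rational structure over a subfield moved by the involution. -/
structure UData (f : HermF ι F) where
  F₀ : Subfield F
  P : GL ι F
  mem_σ : ∀ a ∈ F₀, f.σ a ∈ F₀
  moved : ∃ a ∈ F₀, f.σ a ≠ a
  rat : ∀ x y, RatVec F₀ P x → RatVec F₀ P y → f.B x y ∈ F₀

namespace UData

variable {f : HermF ι F} (D : UData f)

/-- Rationality. -/
abbrev Rat (x : ι → F) : Prop := RatVec D.F₀ D.P x

/-- The rational vector with given coordinates. -/
def rv (u : ι → D.F₀) : ι → F := (D.P : Matrix ι ι F) *ᵥ fun i => (u i : F)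

theorem rv_rat (u : ι → D.F₀) : D.Rat (D.rv u) := (ratVec_mulVec _).mpr fun i => (u i).2

theorem exists_rv {x : ι → F} (hx : D.Rat x) : ∃ u, D.rv u = x := by
  obtain ⟨u, hu, rfl⟩ := hx.eq_mulVec
  exact ⟨fun i => ⟨u i, hu i⟩, rfl⟩

theorem rv_add (u v : ι → D.F₀) : D.rv (u + v) = D.rv u + D.rv v := by
  simp only [rv, ← Matrix.mulVec_add]; rfl

theorem rv_smul (c : D.F₀) (u : ι → D.F₀) : D.rv (c • u) = (c : F) • D.rv u := by
  simp only [rv, ← Matrix.mulVec_smul]; rfl

theorem rv_zero : D.rv 0 = 0 := by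
  simp only [rv, Pi.zero_apply, ZeroMemClass.coe_zero]
  exact Matrix.mulVec_zero _

theorem rv_inj : Function.Injective D.rv := fun u v h => by
  have := Matrix.mulVec_injective_iff_isUnit.mpr D.P.isUnit h
  exact funext fun i => Subtype.ext (congrFun this i)

theorem rv_eq_zero {u : ι → D.F₀} : D.rv u = 0 ↔ u = 0 :=
  ⟨fun h => D.rv_inj (h.trans D.rv_zero.symm), fun h => h ▸ D.rv_zero⟩

/-- The involution on the subfield. -/
def σ₀ : D.F₀ →+* D.F₀ := (f.σ.comp D.F₀.subtype).codRestrict D.F₀ fun a => D.mem_σ a a.2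

theorem coe_σ₀ (a : D.F₀) : (D.σ₀ a : F) = f.σ (a : F) := rfl

/-- The bilinear map of the rational form. -/
def B₀ : (ι → D.F₀) →ₛₗ[D.σ₀] (ι → D.F₀) →ₗ[D.F₀] D.F₀ :=
  LinearMap.mk₂'ₛₗ D.σ₀ (RingHom.id D.F₀) (fun u v => ⟨f.B (D.rv u) (D.rv v), D.rat _ _ (D.rv_rat u) (D.rv_rat v)⟩)
    (fun u u' v => Subtype.ext (by simp [rv_add]))
    (fun c u v => Subtype.ext (by simp [rv_smul, coe_σ₀]))
    (fun u v v' => Subtype.ext (by simp [rv_add]))
    (fun c u v => Subtype.ext (by simp [rv_smul]))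

theorem coe_B₀ (u v : ι → D.F₀) : (D.B₀ u v : F) = f.B (D.rv u) (D.rv v) := rfl

theorem exists_expand (z : ι → F) : z = ∑ i, (((D.P⁻¹ : GL ι F) : Matrix ι ι F) *ᵥ z) i • D.rv (Pi.single i 1) := by
  set u := ((D.P⁻¹ : GL ι F) : Matrix ι ι F) *ᵥ z with hu
  have hz : z = (D.P : Matrix ι ι F) *ᵥ u := by
    rw [hu, Matrix.mulVec_mulVec, ← Units.val_mul, mul_inv_cancel, Units.val_one, Matrix.one_mulVec]
  conv_lhs => rw [hz, pi_eq_sum_univ' u, Matrix.mulVec_sum]
  refine Finset.sum_congr rfl fun i _ => ?_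
  rw [rv, ← Matrix.mulVec_smul]
  congr 1
  funext k
  by_cases h : k = i <;> simp [Pi.single_apply, h]

/-- Rational vectors span. -/
theorem ext_zero {x : ι → F} (h : ∀ z, D.Rat z → f.B z x = 0) : x = 0 := by
  refine f.nondeg.2 x fun z => ?_
  rw [D.exists_expand z, map_sum, LinearMap.sum_apply]
  refine Finset.sum_eq_zero fun i _ => ?_
  rw [LinearMap.map_smulₛₗ, LinearMap.smul_apply, h _ (D.rv_rat _), smul_zero]

/-- The rational Hermitian form. -/
def f₀ : HermF ι D.F₀ where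
  σ := D.σ₀
  σ_ne h := by
    obtain ⟨a, ha, hne⟩ := D.moved
    exact hne (congrArg (fun φ : D.F₀ →+* D.F₀ => ((φ ⟨a, ha⟩ : D.F₀) : F)) h)
  invol a := Subtype.ext (by rw [coe_σ₀, coe_σ₀]; exact f.invol _)
  B := D.B₀
  symm := ⟨fun u v => Subtype.ext (by rw [coe_σ₀, coe_B₀, coe_B₀]; exact f.herm _ _)⟩
  nondeg := by
    have hr : ∀ v, (∀ u, D.B₀ u v = 0) → v = 0 := fun v h => D.rv_eq_zero.mp (D.ext_zero fun z hz => by
      obtain ⟨u, rfl⟩ := D.exists_rv hz
      rw [← coe_B₀, h u]; rfl)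
    refine ⟨fun u h => hr u fun v => Subtype.ext ?_, hr⟩
    rw [coe_B₀]
    exact f.eq_zero_comm (by rw [← coe_B₀, h v]; rfl)

theorem coe_f₀ (u v : ι → D.F₀) : (D.f₀.B u v : F) = f.B (D.rv u) (D.rv v) := rfl

theorem f₀_eq_zero {u v : ι → D.F₀} : D.f₀.B u v = 0 ↔ f.B (D.rv u) (D.rv v) = 0 := by
  rw [← coe_f₀]; exact Subtype.coe_injective.eq_iff.symm.trans (by simp)

theorem iso_iff {u : ι → D.F₀} : D.f₀.Iso u ↔ f.Iso (D.rv u) := D.f₀_eq_zero

theorem exists_t : ∃ t ∈ D.F₀, t ≠ 0 ∧ t + f.σ t = 0 := by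
  obtain ⟨c, hc0, hc⟩ := D.f₀.exists_trace_zero
  exact ⟨c, c.2, fun h => hc0 (Subtype.ext h), congrArg Subtype.val hc⟩

variable [Finite F]

theorem exists_trace_one : ∃ b ∈ D.F₀, b + f.σ b = 1 := by
  obtain ⟨b, hb⟩ := D.f₀.exists_trace (map_one D.f₀.σ)
  exact ⟨b, b.2, congrArg Subtype.val hb⟩

/-- What holds for rational isotropic vectors orthogonal to a small rational set holds for all rational ones. -/
theorem of_iso (s : Finset (ι → F)) (hs : ∀ x ∈ s, D.Rat x) (hcard : 2 * s.card + 2 ≤ Fintype.card ι)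
    (p : (ι → F) → Prop) (h0 : p 0) (hadd : ∀ x y, p x → p y → p (x + y)) (hsm : ∀ a ∈ D.F₀, ∀ x, p x → p (a • x))
    (hiso : ∀ v, D.Rat v → f.Iso v → (∀ x ∈ s, f.B x v = 0) → p v)
    {v : ι → F} (hv : D.Rat v) (hperp : ∀ x ∈ s, f.B x v = 0) : p v := by
  classical
  choose g hg using fun x : s => D.exists_rv (hs x x.2)
  set S := Submodule.span D.F₀ (Set.range g)
  obtain ⟨u, rfl⟩ := D.exists_rv hv
  have hu : u ∈ D.f₀.perp S := by
    intro w hw
    induction hw using Submodule.span_induction with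
    | mem w hw =>
      obtain ⟨x, rfl⟩ := hw
      rw [f₀_eq_zero, hg]
      exact hperp x x.2
    | zero => simp
    | add a b _ _ ha hb => rw [map_add, LinearMap.add_apply, ha, hb, add_zero]
    | smul c a _ ha => rw [LinearMap.map_smulₛₗ, LinearMap.smul_apply, ha, smul_zero]
  have hdim : Module.finrank D.F₀ S ≤ s.card :=
    (finrank_range_le_card g).trans (le_of_eq (Fintype.card_coe s))
  have hmem := D.f₀.perp_le_span_iso S (by omega) hu
  clear hperp hu hv
  induction hmem using Submodule.span_induction with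
  | mem w hw =>
    exact hiso _ (D.rv_rat _) (D.iso_iff.mp hw.2) fun x hx => by
      have e : D.rv (g ⟨x, hx⟩) = x := hg ⟨x, hx⟩
      rw [← e, ← f₀_eq_zero]
      exact hw.1 _ (Submodule.subset_span ⟨_, rfl⟩)
  | zero => rw [D.rv_zero]; exact h0
  | add a b _ _ ha hb => rw [D.rv_add]; exact hadd _ _ ha hb
  | smul c a _ ha => rw [D.rv_smul]; exact hsm _ c.2 _ ha

/-- A rational isotropic vector not killed by `w`. -/
theorem exists_iso_ne (s : Finset (ι → F)) (hs : ∀ x ∈ s, D.Rat x) (hcard : 2 * s.card + 2 ≤ Fintype.card ι)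
    {w : ι → F} {z : ι → F} (hz : D.Rat z) (hperp : ∀ x ∈ s, f.B x z = 0) (hne : f.B z w ≠ 0) :
    ∃ v, D.Rat v ∧ f.Iso v ∧ (∀ x ∈ s, f.B x v = 0) ∧ f.B v w ≠ 0 := by
  by_contra hc
  push Not at hc
  exact hne (D.of_iso s hs hcard (fun v => f.B v w = 0) (by simp)
    (fun x y hx hy => by rw [map_add, LinearMap.add_apply, hx, hy, add_zero])
    (fun a _ x hx => by rw [LinearMap.map_smulₛₗ, LinearMap.smul_apply, hx, smul_zero]) hc hz hperp)

/-- A rational isotropic vector outside the orthogonal space of `u` but inside that of a small set. -/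
theorem exists_dual (s : Finset (ι → F)) (hs : ∀ x ∈ s, D.Rat x) (hcard : 2 * s.card + 2 ≤ Fintype.card ι)
    {u : ι → F} (hu : D.Rat u) (hspan : u ∉ Submodule.span F (s : Set (ι → F))) :
    ∃ v, D.Rat v ∧ f.Iso v ∧ (∀ x ∈ s, f.B x v = 0) ∧ f.B u v = 1 := by
  classical
  choose g hg using fun x : s => D.exists_rv (hs x x.2)
  obtain ⟨u₀, rfl⟩ := D.exists_rv hu
  have hu₀ : u₀ ∉ Submodule.span D.F₀ (Set.range g) := fun h => by
    refine hspan ?_
    clear hspan hu
    induction h using Submodule.span_induction with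
    | mem w hw => obtain ⟨x, rfl⟩ := hw; rw [hg]; exact Submodule.subset_span x.2
    | zero => rw [D.rv_zero]; exact Submodule.zero_mem _
    | add a b _ _ ha hb => rw [D.rv_add]; exact add_mem ha hb
    | smul c a _ ha => rw [D.rv_smul]; exact Submodule.smul_mem _ _ ha
  obtain ⟨z, hz, hz1⟩ := D.f₀.exists_perp_eq_one _ hu₀
  obtain ⟨v, hv, hvi, hvs, hvu⟩ := D.exists_iso_ne s hs hcard (D.rv_rat z) (w := D.rv u₀) (fun x hx => by
    have e : D.rv (g ⟨x, hx⟩) = x := hg ⟨x, hx⟩
    rw [← e]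
    exact f.eq_zero_comm (D.f₀_eq_zero.mp (hz _ (Submodule.subset_span ⟨_, rfl⟩))))
    (by rw [← coe_f₀, hz1]; exact one_ne_zero)
  have huv : f.B (D.rv u₀) v ≠ 0 := fun h => hvu (f.eq_zero_comm h)
  refine ⟨(f.B (D.rv u₀) v)⁻¹ • v, hv.smul (D.F₀.inv_mem (D.rat _ _ (D.rv_rat u₀) hv)), HermF.Iso.smul hvi _,
    fun x hx => by rw [map_smul, hvs x hx, smul_zero], by rw [map_smul, smul_eq_mul, inv_mul_cancel₀ huv]⟩

/-- The partner of a rational isotropic vector. -/
theorem exists_partner' (hn : 4 ≤ Fintype.card ι) {u : ι → F} (hu : D.Rat u) (hu0 : u ≠ 0) :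
    ∃ v, D.Rat v ∧ f.Iso v ∧ f.B u v = 1 := by
  obtain ⟨v, h1, h2, -, h3⟩ := D.exists_dual ∅ (by simp) (by simp; omega) hu (by simpa using hu0)
  exact ⟨v, h1, h2, h3⟩

/-- A vector with rational values on rational vectors is rational. -/
theorem rat_of_vals {x : ι → F} (h : ∀ z, D.Rat z → f.B z x ∈ D.F₀) : D.Rat x := by
  let a : ι → D.F₀ := fun i => ⟨f.σ (f.B (D.rv (Pi.single i 1)) x), D.mem_σ _ (h _ (D.rv_rat _))⟩
  obtain ⟨v, hv⟩ := D.f₀.psi_surjective a
  have hval : ∀ i, f.B (D.rv v) (D.rv (Pi.single i 1)) = f.B x (D.rv (Pi.single i 1)) := fun i => by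
    rw [← coe_f₀, ← D.f₀.psi_dot, hv, dotProduct_single_one, ← f.herm (D.rv (Pi.single i 1)) x]
  have : x = D.rv v := by
    rw [← sub_eq_zero]
    refine D.ext_zero fun z hz => ?_
    obtain ⟨u, rfl⟩ := D.exists_rv hz
    refine f.eq_zero_comm ?_
    rw [D.exists_expand (D.rv u), map_sum]
    refine Finset.sum_eq_zero fun i _ => ?_
    rw [map_smul, map_sub, LinearMap.sub_apply, hval, sub_self, smul_zero]
  exact this ▸ D.rv_rat v

/-- A rational vector in the span of rational vectors is a rational combination of them. -/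
theorem mem_span_rv {S : Submodule D.F₀ (ι → D.F₀)} {r : ι → D.F₀}
    (h : D.rv r ∈ Submodule.span F (D.rv '' (S : Set (ι → D.F₀)))) : r ∈ S := by
  obtain ⟨φ₀, hφ₀⟩ := (Algebra.linearMap D.F₀ F).exists_leftInverse_of_injective
    (LinearMap.ker_eq_bot.mpr fun a b e => Subtype.ext e)
  have hφ : ∀ a : D.F₀, φ₀ (a : F) = a := fun a => LinearMap.congr_fun hφ₀ a
  have key : ∀ z, z ∈ Submodule.span F (D.rv '' (S : Set (ι → D.F₀))) → ∀ c : F,
      (fun i => φ₀ ((((D.P⁻¹ : GL ι F) : Matrix ι ι F) *ᵥ (c • z)) i)) ∈ S := by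
    intro z hz
    induction hz using Submodule.span_induction with
    | mem w hw =>
      obtain ⟨u, hu, rfl⟩ := hw
      intro c
      convert S.smul_mem (φ₀ c) hu using 1
      funext i
      rw [Matrix.mulVec_smul, rv, Matrix.mulVec_mulVec, ← Units.val_mul, inv_mul_cancel, Units.val_one,
        Matrix.one_mulVec, Pi.smul_apply, Pi.smul_apply, smul_eq_mul, mul_comm c,
        show (u i : F) * c = u i • c from rfl, map_smul, smul_eq_mul, smul_eq_mul, mul_comm]
    | zero =>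
      intro c
      convert S.zero_mem using 1
      funext i
      simp
    | add a b _ _ ha hb =>
      intro c
      convert S.add_mem (ha c) (hb c) using 1
      funext i
      simp [Matrix.mulVec_add]
    | smul a z _ hz =>
      intro c
      rw [smul_smul]
      exact hz _
  convert key _ h 1 using 1
  funext i
  rw [one_smul, rv, Matrix.mulVec_mulVec, ← Units.val_mul, inv_mul_cancel, Units.val_one, Matrix.one_mulVec, hφ]

end UData

end Cfsg.Agent.Lib.MaxSub
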