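import Cfsg.Agent.Lib.MaxSub.UnitaryStd
import Mathlib

/-!
Unipotent elements of a subgroup described by their nilpotent parts: transvections and Siegel elements of a Hermitian
form, with the relations between them.
-/

set_option autoImplicit false
set_option maxHeartbeats 800000
set_option linter.unusedSectionVars false

namespace Cfsg.Agent.Lib.MaxSub.SiegelOp

open Matrix

variable {ι : Type} [Fintype ι] [DecidableEq ι] {F : Type*} [Field F]

local notation "𝕍" => ι → F

/-- The subgroup contains an element acting as `1 + N`. -/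
def Op (K : Subgroup (GL ι F)) (N : Module.End F (ι → F)) : Prop :=
  ∃ g ∈ K, ∀ x, (g : Matrix ι ι F) *ᵥ x = x + N x

variable {K : Subgroup (GL ι F)} {N M : Module.End F (ι → F)}

theorem Op.zero : Op K (0 : Module.End F (ι → F)) := ⟨1, K.one_mem, fun x => by simp⟩

theorem Op.mul (hN : Op K N) (hM : Op K M) : Op K (N + M + N * M) := by
  obtain ⟨g, hg, hgx⟩ := hN
  obtain ⟨h, hh, hhx⟩ := hM
  refine ⟨g * h, K.mul_mem hg hh, fun x => ?_⟩
  rw [Units.val_mul, ← Matrix.mulVec_mulVec, hhx, hgx]
  simp only [map_add, LinearMap.add_apply, Module.End.mul_apply]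
  abel

theorem Op.add (hN : Op K N) (hM : Op K M) (h : N * M = 0) : Op K (N + M) := by
  simpa [h] using hN.mul hM

theorem Op.neg (hN : Op K N) (h : N * N = 0) : Op K (-N) := by
  obtain ⟨g, hg, hgx⟩ := hN
  refine ⟨g⁻¹, K.inv_mem hg, fun x => ?_⟩
  apply Matrix.mulVec_injective_iff_isUnit.mpr g.isUnit
  rw [Matrix.mulVec_mulVec, ← Units.val_mul, mul_inv_cancel, Units.val_one, Matrix.one_mulVec, hgx,
    LinearMap.neg_apply, map_add, map_neg, show N (N x) = 0 from LinearMap.congr_fun h x]
  abel

theorem Op.sub (hN : Op K N) (hM : Op K M) (hMM : M * M = 0) (h : N * M = 0) : Op K (N - M) := by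
  rw [sub_eq_add_neg]
  exact hN.add (hM.neg hMM) (LinearMap.ext fun x => by
    have := LinearMap.congr_fun h x
    simp only [Module.End.mul_apply, LinearMap.neg_apply, map_neg] at this ⊢
    rw [this]; simp)

theorem Op.comm (hN : Op K N) (hM : Op K M) (hNN : N * N = 0) (hMM : M * M = 0) (h1 : N * M * N = 0)
    (h2 : M * N * M = 0) : Op K (N * M - M * N) := by
  have h := (hN.mul hM).mul ((hN.neg hNN).mul (hM.neg hMM))
  convert h using 1
  refine LinearMap.ext fun x => ?_
  have e1 : ∀ x, N (N x) = 0 := LinearMap.congr_fun hNN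
  have e2 : ∀ x, M (M x) = 0 := LinearMap.congr_fun hMM
  have e3 : ∀ x, N (M (N x)) = 0 := LinearMap.congr_fun h1
  have e4 : ∀ x, M (N (M x)) = 0 := LinearMap.congr_fun h2
  simp only [LinearMap.add_apply, LinearMap.sub_apply, LinearMap.neg_apply, Module.End.mul_apply, map_add, map_neg,
    e1, e2, e3, e4, map_zero]
  abel

variable (f : HermF ι F)

/-- The nilpotent part of a transvection. -/
noncomputable def tN (u : ι → F) (c : F) : Module.End F (ι → F) := (c • f.B u).smulRight u

/-- The nilpotent part of a Siegel element. -/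
noncomputable def sN (u y : ι → F) (s : F) : Module.End F (ι → F) :=
  (s • f.B y).smulRight u - (f.σ s • f.B u).smulRight y

theorem tN_apply (u : ι → F) (c : F) (x : ι → F) : tN f u c x = (c * f.B u x) • u := rfl

theorem sN_apply (u y : ι → F) (s : F) (x : ι → F) :
    sN f u y s x = (s * f.B y x) • u - (f.σ s * f.B u x) • y := rfl

theorem tN_zero (u : ι → F) : tN f u 0 = 0 := LinearMap.ext fun x => by simp [tN_apply]

theorem tN_add (u : ι → F) (c d : F) : tN f u (c + d) = tN f u c + tN f u d :=
  LinearMap.ext fun x => by simp [tN_apply, add_mul, add_smul]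

theorem tN_neg (u : ι → F) (c : F) : tN f u (-c) = -tN f u c :=
  LinearMap.ext fun x => by simp [tN_apply]

theorem tN_smul (u : ι → F) (a c : F) : tN f (a • u) c = tN f u (c * (f.σ a * a)) := LinearMap.ext fun x => by
  simp only [tN_apply, LinearMap.map_smulₛₗ, LinearMap.smul_apply, smul_eq_mul]
  module

theorem sN_add (u y : ι → F) (s t : F) : sN f u y (s + t) = sN f u y s + sN f u y t := LinearMap.ext fun x => by
  simp only [sN_apply, LinearMap.add_apply, map_add]
  module

theorem sN_neg (u y : ι → F) (s : F) : sN f u y (-s) = -sN f u y s := LinearMap.ext fun x => by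
  simp only [sN_apply, LinearMap.neg_apply, map_neg]
  module

theorem sN_zero (u y : ι → F) : sN f u y 0 = 0 := LinearMap.ext fun x => by simp [sN_apply]

theorem sN_smul_right (u y : ι → F) (b s : F) : sN f u (b • y) s = sN f u y (s * f.σ b) := LinearMap.ext fun x => by
  simp only [sN_apply, LinearMap.map_smulₛₗ, LinearMap.smul_apply, smul_eq_mul, map_mul, f.invol]
  module

theorem sN_add_right (u y y' : ι → F) (s : F) : sN f u (y + y') s = sN f u y s + sN f u y' s :=
  LinearMap.ext fun x => by
    simp only [sN_apply, map_add, LinearMap.add_apply]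
    module

theorem sN_self (u : ι → F) (ρ s : F) : sN f u (ρ • u) s = tN f u (s * f.σ ρ - f.σ s * ρ) := LinearMap.ext fun x => by
  simp only [sN_apply, tN_apply, LinearMap.map_smulₛₗ, LinearMap.smul_apply, smul_eq_mul]
  module

/-- The transvection at a vector of a totally isotropic line pair. -/
theorem tN_expand {c : F} (hc : c + f.σ c = 0) (u y : ι → F) (a : F) :
    tN f (y + a • u) c = tN f y c + tN f u (c * (f.σ a * a)) + sN f u y (c * a) := LinearMap.ext fun x => by
  simp only [sN_apply, tN_apply, map_add, LinearMap.add_apply, LinearMap.map_smulₛₗ, LinearMap.smul_apply,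
    smul_eq_mul, map_mul, show f.σ c = -c by linear_combination hc]
  module

variable {f}

theorem tN_mul_tN {u v : ι → F} (c d : F) (h : f.B u v = 0) : tN f u c * tN f v d = 0 := LinearMap.ext fun x => by
  simp [tN_apply, h]

theorem tN_mul_sN {w u y : ι → F} (c s : F) (h1 : f.B w u = 0) (h2 : f.B w y = 0) : tN f w c * sN f u y s = 0 :=
  LinearMap.ext fun x => by simp [tN_apply, sN_apply, h1, h2]

theorem sN_mul_tN {w u y : ι → F} (s c : F) (h1 : f.B u w = 0) (h2 : f.B y w = 0) : sN f u y s * tN f w c = 0 :=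
  LinearMap.ext fun x => by simp [tN_apply, sN_apply, h1, h2]

theorem sN_mul_sN {u y : ι → F} (s t : F) (hu : f.Iso u) (hy : f.Iso y) (h : f.B u y = 0) :
    sN f u y s * sN f u y t = 0 := LinearMap.ext fun x => by
  simp [sN_apply, show f.B u u = 0 from hu, show f.B y y = 0 from hy, h, f.eq_zero_comm h]

/-- The product of two Siegel parts at the same vector. -/
theorem sN_mul {u y z : ι → F} (s t : F) (hu : f.Iso u) (hy : f.B u y = 0) (hz : f.B u z = 0) :
    sN f u y s * sN f u z t = tN f u (-(s * f.σ t * f.B y z)) := LinearMap.ext fun x => by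
  simp [sN_apply, tN_apply, show f.B u u = 0 from hu, hz, f.eq_zero_comm hy]
  module

/-- Conjugation. -/
theorem Op.conj_tN {w : ι → F} {c : F} (h : Op K (tN f w c)) {g : GL ι F} (hg : g ∈ K) (hp : f.Preserves g) :
    Op K (tN f ((g : Matrix ι ι F) *ᵥ w) c) := by
  obtain ⟨t, ht, htx⟩ := h
  refine ⟨g * t * g⁻¹, K.mul_mem (K.mul_mem hg ht) (K.inv_mem hg), fun x => ?_⟩
  have hx : x = (g : Matrix ι ι F) *ᵥ (((g⁻¹ : GL ι F) : Matrix ι ι F) *ᵥ x) := by
    rw [Matrix.mulVec_mulVec, ← Units.val_mul, mul_inv_cancel, Units.val_one, Matrix.one_mulVec]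
  rw [Units.val_mul, Units.val_mul, ← Matrix.mulVec_mulVec, ← Matrix.mulVec_mulVec, htx, Matrix.mulVec_add, ← hx,
    tN_apply, tN_apply, Matrix.mulVec_smul]
  conv_rhs => arg 2; rw [hx, hp]

theorem Op.smul_tN {u : ι → F} {a c : F} (h : Op K (tN f (a • u) c)) : Op K (tN f u (c * (f.σ a * a))) := by
  rwa [← tN_smul]

theorem Op.of_smul_tN {u : ι → F} {a c : F} (h : Op K (tN f u (c * (f.σ a * a)))) : Op K (tN f (a • u) c) := by
  rwa [tN_smul]

end Cfsg.Agent.Lib.MaxSub.SiegelOp
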