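import Cfsg.Agent.Lib.MaxSub.UnitarySiegelOp
import Cfsg.Agent.Lib.MaxSub.UnitaryRatForm
import Mathlib

/-!
Siegel elements relative to a rational Hermitian structure: a transvection with an irrational centre orthogonal to a
rational isotropic vector yields an irrational long root parameter.
-/

set_option autoImplicit false
set_option maxHeartbeats 800000
set_option linter.unusedSectionVars false

namespace Cfsg.Agent.Lib.MaxSub.UnitarySub

open Matrix SiegelOp

variable {ι : Type} [Fintype ι] [DecidableEq ι] {F : Type*} [Field F] [Finite F] {f : HermF ι F} (D : UData f)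

/-- The rational transvections act inside the group. -/
def Base (K : Subgroup (GL ι F)) : Prop :=
  ∀ u c, D.Rat u → f.Iso u → c ∈ D.F₀ → c + f.σ c = 0 → Op K (tN f u c)

/-- A long root element with a rational centre and an irrational parameter. -/
def LongAt (K : Subgroup (GL ι F)) : Prop :=
  ∃ u κ, D.Rat u ∧ f.Iso u ∧ u ≠ 0 ∧ κ + f.σ κ = 0 ∧ κ ∉ D.F₀ ∧ Op K (tN f u κ)

/-- The line through the vector contains no non-zero rational vector. -/
def Irr (w : ι → F) : Prop := ∀ (c : F) (y : ι → F), D.Rat y → w ≠ c • y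

variable {D} {K : Subgroup (GL ι F)}

theorem iso_add {u y : ι → F} (hu : f.Iso u) (hy : f.Iso y) (h : f.B u y = 0) (b : F) : f.Iso (y + b • u) := by
  show f.B _ _ = 0
  simp [show f.B u u = 0 from hu, show f.B y y = 0 from hy, h, f.eq_zero_comm h]

theorem trace_mul {c : F} (hc : c + f.σ c = 0) (a : F) :
    c * (f.σ a * a) + f.σ (c * (f.σ a * a)) = 0 := by
  rw [map_mul, map_mul, f.invol]
  linear_combination (f.σ a * a) * hc

/-- The short root element attached to an orthogonal pair. -/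
theorem sN_of_long {c : F} (hc : c + f.σ c = 0) {u y : ι → F} (hu : f.Iso u) (hy : f.Iso y) (huy : f.B u y = 0)
    {a : F} (h1 : Op K (tN f (y + a • u) c)) (h2 : Op K (tN f y c)) (h3 : Op K (tN f u (c * (f.σ a * a)))) :
    Op K (sN f u y (c * a)) := by
  have hu' : f.B u u = 0 := hu
  have hy' : f.B y y = 0 := hy
  have hyu := f.eq_zero_comm huy
  have e : tN f (y + a • u) c - tN f y c - tN f u (c * (f.σ a * a)) = sN f u y (c * a) := by
    rw [tN_expand f hc]; abel
  rw [← e]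
  refine (h1.sub h2 (tN_mul_tN _ _ hy') (tN_mul_tN _ _ (by simp [hy', huy]))).sub h3 (tN_mul_tN _ _ hu') ?_
  rw [sub_mul, tN_mul_tN c _ (by simp [hu', hyu]), tN_mul_tN c _ hyu, sub_zero]

theorem Base.short (hb : Base D K) {u y : ι → F} (hu : D.Rat u) (hui : f.Iso u) (hy : D.Rat y) (hyi : f.Iso y)
    (huy : f.B u y = 0) {a : F} (ha : a ∈ D.F₀) : Op K (sN f u y a) := by
  obtain ⟨t, htF, ht0, ht⟩ := D.exists_t
  have hb' : a / t ∈ D.F₀ := D.F₀.div_mem ha htF
  have := sN_of_long (a := a / t) ht hui hyi huy (hb _ _ (hy.add (hu.smul hb')) (iso_add hui hyi huy _) htF ht)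
    (hb _ _ hy hyi htF ht)
    (hb _ _ hu hui (D.F₀.mul_mem htF (D.F₀.mul_mem (D.mem_σ _ hb') hb')) (trace_mul ht _))
  rwa [mul_div_cancel₀ _ ht0] at this

theorem sN_mul_sN' {u w : ι → F} (s t : F) (hu : f.Iso u) (hw : f.Iso w) (h : f.B u w = 0) :
    sN f u w s * sN f u w t = 0 := sN_mul_sN s t hu hw h

/-- Separating the long from the short part. -/
theorem separate {u w : ι → F} (hu : f.Iso u) (hw : f.Iso w) (huw : f.B u w = 0) {k s : F}
    (h : ∀ a ∈ D.F₀, Op K (tN f u (k * (f.σ a * a)) + sN f u w (a * s))) :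
    (∀ e ∈ D.F₀, f.σ e = e → Op K (tN f u (k * e))) ∧ ∀ a ∈ D.F₀, Op K (sN f u w (a * s)) := by
  have hu' : f.B u u = 0 := hu
  have hwu := f.eq_zero_comm huw
  have z : ∀ (c c' p p' : F), (tN f u c + sN f u w p) * (tN f u c' + sN f u w p') = 0 := fun c c' p p' => by
    rw [add_mul, mul_add, mul_add, tN_mul_tN _ _ hu', tN_mul_sN _ _ hu' huw, sN_mul_tN _ _ hu' hwu,
      sN_mul_sN _ _ hu hw huw]
    abel
  have pol : ∀ x ∈ D.F₀, ∀ y ∈ D.F₀, Op K (tN f u (-(k * (f.σ x * y + f.σ y * x)))) := fun x hx y hy => by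
    have e : tN f u (k * (f.σ x * x)) + sN f u w (x * s) + (tN f u (k * (f.σ y * y)) + sN f u w (y * s))
        - (tN f u (k * (f.σ (x + y) * (x + y))) + sN f u w ((x + y) * s))
        = tN f u (-(k * (f.σ x * y + f.σ y * x))) := by
      rw [add_mul x y s, sN_add, show k * (f.σ (x + y) * (x + y))
        = k * (f.σ x * x) + k * (f.σ y * y) + k * (f.σ x * y + f.σ y * x) by rw [map_add]; ring,
        tN_add, tN_add, tN_neg]
      abel
    rw [← e]
    refine ((h x hx).add (h y hy) (z _ _ _ _)).sub (h _ (D.F₀.add_mem hx hy)) (z _ _ _ _) ?_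
    rw [add_mul, z, z, add_zero]
  obtain ⟨b, hbF, hb⟩ := D.exists_trace_one
  have h1 : ∀ e ∈ D.F₀, f.σ e = e → Op K (tN f u (k * e)) := fun e he hfix => by
    have := pol 1 D.F₀.one_mem (-(b * e)) (D.F₀.neg_mem (D.F₀.mul_mem hbF he))
    rwa [map_one, one_mul, map_neg, map_mul, hfix, mul_one,
      show -(k * (-(b * e) + -(f.σ b * e))) = k * e by linear_combination (k * e) * hb] at this
  refine ⟨h1, fun a ha => ?_⟩
  have hN := h1 _ (D.F₀.mul_mem (D.mem_σ _ ha) ha) (by rw [map_mul, f.invol, mul_comm] : f.σ (f.σ a * a) = f.σ a * a)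
  have := (h a ha).sub hN (tN_mul_tN _ _ hu')
    (by rw [add_mul, tN_mul_tN _ _ hu', sN_mul_tN _ _ hu' hwu, add_zero])
  rwa [add_sub_cancel_left] at this

/-- A skew combination is rational only for rational elements. -/
theorem exists_skew {β : F} (hβ : β ∉ D.F₀) : ∃ a ∈ D.F₀, a * f.σ β - f.σ a * β ∉ D.F₀ := by
  by_contra hc
  push Not at hc
  obtain ⟨τ, hτF, hτ⟩ := D.moved
  have h1 := hc 1 D.F₀.one_mem
  rw [map_one, one_mul, one_mul] at h1
  have h2 := hc τ hτF
  refine hβ ?_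
  have h3 := D.F₀.div_mem (D.F₀.sub_mem h2 (D.F₀.mul_mem hτF h1)) (D.F₀.sub_mem hτF (D.mem_σ _ hτF))
  rwa [show τ * f.σ β - f.σ τ * β - τ * (f.σ β - β) = (τ - f.σ τ) * β by ring,
    mul_div_cancel_left₀ _ (sub_ne_zero.mpr (Ne.symm hτ))] at h3

theorem Irr.smul {w : ι → F} (hw : Irr D w) {c : F} (hc : c ≠ 0) : Irr D (c • w) := fun d y hy h =>
  hw (c⁻¹ * d) y hy (by rw [← smul_smul, ← h, smul_smul, inv_mul_cancel₀ hc, one_smul])

theorem Irr.ne_zero {w : ι → F} (hw : Irr D w) : w ≠ 0 := fun h =>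
  hw 0 0 (RatVec.zero _ _) (by rw [h, smul_zero])

/-- An irrational centre orthogonal to a rational isotropic vector. -/
theorem long_of_perp (hn : 6 ≤ Fintype.card ι) (hKf : ∀ g ∈ K, f.Preserves g) (hb : Base D K) {w : ι → F}
    (hwi : f.Iso w) (hirr : Irr D w) {c : F} (hcF : c ∈ D.F₀) (hc0 : c ≠ 0) (hc : c + f.σ c = 0)
    (hw : Op K (tN f w c)) {u : ι → F} (hu : D.Rat u) (hui : f.Iso u) (hu0 : u ≠ 0) (huw : f.B u w = 0) :
    LongAt D K := by
  classical
  have hu' : f.B u u = 0 := hui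
  have hw' : f.B w w = 0 := hwi
  obtain ⟨p, hp, -, hup⟩ := D.exists_partner' (by omega) hu hu0
  have hsu : ∀ x ∈ ({u} : Finset (ι → F)), D.Rat x := by simpa using hu
  have hcard : 2 * ({u} : Finset (ι → F)).card + 2 ≤ Fintype.card ι := by simp; omega
  obtain ⟨z, hz, huz, hzw⟩ : ∃ z, D.Rat z ∧ f.B u z = 0 ∧ f.B z w ≠ 0 := by
    by_contra hcon
    push Not at hcon
    refine hirr (f.B p w) u hu (sub_eq_zero.mp (D.ext_zero fun z hz => ?_))
    have h1 := hcon (z - f.B u z • p) (hz.sub (hp.smul (D.rat _ _ hu hz)))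
      (by rw [map_sub, map_smul, hup, smul_eq_mul, mul_one, sub_self])
    simp only [map_sub, LinearMap.sub_apply, LinearMap.map_smulₛₗ, LinearMap.smul_apply, smul_eq_mul,
      map_smul, f.herm] at h1 ⊢
    simpa [mul_comm] using h1
  obtain ⟨v, hv, hvi, hvs, hvw⟩ := D.exists_iso_ne {u} hsu hcard hz (by simpa using huz) hzw
  have huv : f.B u v = 0 := hvs u (Finset.mem_singleton_self u)
  set γ := f.B v w with hγ
  -- conjugates of the given element
  have hΦ : ∀ a ∈ D.F₀, Op K (tN f u (c * (f.σ γ * γ) * (f.σ a * a)) + sN f u w (a * (c * γ))) := fun a ha => by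
    obtain ⟨g, hg, hgx⟩ := hb.short hu hui hv hvi huv ha
    have h1 := hw.conj_tN hg (hKf g hg)
    rw [hgx, sN_apply, huw, mul_zero, zero_smul, sub_zero, ← hγ, tN_expand f hc] at h1
    have h2 := h1.sub hw (tN_mul_tN _ _ hw')
      (by rw [add_mul, add_mul, tN_mul_tN _ _ hw', tN_mul_tN _ _ huw, sN_mul_tN _ _ huw hw']; abel)
    convert h2 using 1
    rw [show c * (f.σ (a * γ) * (a * γ)) = c * (f.σ γ * γ) * (f.σ a * a) by rw [map_mul]; ring,
      show c * (a * γ) = a * (c * γ) by ring]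
    abel
  obtain ⟨hlong, hshort⟩ := separate hui hwi huw hΦ
  by_cases hNγ : c * (f.σ γ * γ) ∈ D.F₀
  swap
  · refine ⟨u, _, hu, hui, hu0, trace_mul hc γ, hNγ, ?_⟩
    simpa using hlong 1 D.F₀.one_mem (map_one _)
  set w' := f.σ γ • w with hw'def
  have hw'i : f.Iso w' := HermF.Iso.smul hwi _
  have huw' : f.B u w' = 0 := by rw [hw'def, map_smul, huw, smul_zero]
  have hirr' : Irr D w' := hirr.smul (fun h => hvw (f.σ_eq_zero.mp h))
  have hS : ∀ a ∈ D.F₀, Op K (sN f u w' a) := fun a ha => by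
    have := hshort (a / c) (D.F₀.div_mem ha hcF)
    rw [hw'def, sN_smul_right, f.invol]
    rwa [show a / c * (c * γ) = a * γ by field_simp] at this
  have hcomm : ∀ v', D.Rat v' → f.Iso v' → f.B u v' = 0 → ∀ a ∈ D.F₀,
      Op K (tN f u (f.σ a * f.B v' w' - a * f.σ (f.B v' w'))) := fun v' hv' hv'i huv' a ha => by
    have h1 := hS a ha
    have h2 := hb.short hu hui hv' hv'i huv' D.F₀.one_mem
    have hNM := sN_mul a 1 hui huw' huv'
    have hMN := sN_mul 1 a hui huv' huw'
    have := h1.comm h2 (sN_mul_sN _ _ hui hw'i huw') (sN_mul_sN _ _ hui hv'i huv')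
      (by rw [hNM, tN_mul_sN _ _ hu' huw']) (by rw [hMN, tN_mul_sN _ _ hu' huv'])
    rw [hNM, hMN, sub_eq_add_neg, ← tN_neg, ← tN_add, map_one, mul_one, one_mul, ← f.herm v' w'] at this
    rwa [show f.σ a * f.B v' w' - a * f.σ (f.B v' w') = -(a * f.σ (f.B v' w')) + -(-(f.σ a * f.B v' w')) by ring]
  by_cases hall : ∀ v', D.Rat v' → f.Iso v' → f.B u v' = 0 → f.B v' w' ∈ D.F₀
  swap
  · push Not at hall
    obtain ⟨v', hv', hv'i, huv', hout⟩ := hall
    obtain ⟨a, ha, haout⟩ := exists_skew hout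
    refine ⟨u, _, hu, hui, hu0, ?_, ?_, hcomm v' hv' hv'i huv' a ha⟩
    · rw [map_sub, map_mul, map_mul, f.invol, f.invol]; ring
    · intro h
      exact haout (by simpa [neg_sub] using D.F₀.neg_mem h)
  clear_value w'
  set ρ := f.B p w' with hρdef
  have hperp : ∀ x, D.Rat x → f.B u x = 0 → f.B x w' ∈ D.F₀ := fun x hx hux =>
    D.of_iso {u} hsu hcard (fun x => f.B x w' ∈ D.F₀) (by simp)
      (fun x y hx hy => by rw [map_add, LinearMap.add_apply]; exact D.F₀.add_mem hx hy)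
      (fun a ha x hx => by
        rw [LinearMap.map_smulₛₗ, LinearMap.smul_apply, smul_eq_mul]; exact D.F₀.mul_mem (D.mem_σ _ ha) hx)
      (fun x hx hxi hxs => hall x hx hxi (hxs u (Finset.mem_singleton_self u))) hx (by simpa using hux)
  set r := w' - ρ • u with hrdef
  have hr : D.Rat r := D.rat_of_vals fun x hx => by
    have h1 := hperp (x - f.B u x • p) (hx.sub (hp.smul (D.rat _ _ hu hx)))
      (by rw [map_sub, map_smul, hup, smul_eq_mul, mul_one, sub_self])
    rw [map_sub, map_smul, smul_eq_mul]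
    rw [map_sub, LinearMap.sub_apply, LinearMap.map_smulₛₗ, LinearMap.smul_apply, smul_eq_mul, f.herm,
      ← hρdef, mul_comm] at h1
    exact h1
  have hρ : ρ ∉ D.F₀ := fun h => hirr' 1 (r + ρ • u) (hr.add (hu.smul h)) (by rw [one_smul, hrdef, sub_add_cancel])
  have hri : f.Iso r := by
    show f.B _ _ = 0
    simp [hrdef, show f.B w' w' = 0 from hw'i, hu', huw', f.eq_zero_comm huw']
  have hur : f.B u r = 0 := by simp [hrdef, huw', hu']
  obtain ⟨a, ha, haout⟩ := exists_skew hρ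
  refine ⟨u, _, hu, hui, hu0, ?_, haout, ?_⟩
  · rw [map_sub, map_mul, map_mul, f.invol, f.invol]; ring
  have h1 := hS a ha
  rw [show w' = r + ρ • u by rw [hrdef, sub_add_cancel], sN_add_right, sN_self] at h1
  have h2 := h1.sub (hb.short hu hui hr hri hur ha) (sN_mul_sN _ _ hui hri hur)
    (by rw [add_mul, sN_mul_sN _ _ hui hri hur, tN_mul_sN _ _ hu' hur, add_zero])
  rwa [add_sub_cancel_left] at h2

end Cfsg.Agent.Lib.MaxSub.UnitarySub
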