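import Cfsg.Agent.Lib.MaxSub.UnitarySubfieldPlane
import Mathlib

/-!
The rational stabiliser and an element outside it generate all transvections.
-/

set_option autoImplicit false
set_option maxHeartbeats 800000
set_option linter.unusedSectionVars false

namespace Cfsg.Agent.Lib.MaxSub.UnitarySub

open Matrix SiegelOp

variable {ι : Type} [Fintype ι] [DecidableEq ι] {F : Type*} [Field F] [Finite F] {f : HermF ι F} {D : UData f}
  {K : Subgroup (GL ι F)}

/-- Rational transvections lie in the subfield group. -/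
theorem trans_mem_subfield {u : ι → F} (hu : D.Rat u) (hui : f.Iso u) {c : F} (hc : c ∈ D.F₀) :
    f.trans u hui c ∈ Cfsg.Geo.subfieldSubgroup D.F₀ D.P := mem_subfieldSubgroup fun x hx => by
  rw [f.trans_mulVec]
  exact hx.add (hu.smul (D.F₀.mul_mem hc (D.rat u x hu hx)))

/-- An element outside the subfield group yields an irrational long root parameter. -/
theorem long_of_notMem (hn : 13 ≤ Fintype.card ι) (hKf : ∀ g ∈ K, f.Preserves g) (hb : Base D K) {r : ℕ}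
    (hr : r.Prime) (hcard : Nat.card F = Nat.card D.F₀ ^ r) {g : GL ι F} (hg : g ∈ K)
    (hgN : g ∉ Cfsg.Geo.subfieldSubgroup D.F₀ D.P) : LongAt D K := by
  classical
  haveI : Nonempty ι := Fintype.card_pos_iff.mp (by omega)
  obtain ⟨t, htF, ht0, ht⟩ := D.exists_t
  set G : (ι → F) → (ι → F) := fun x => (g : Matrix ι ι F) *ᵥ x with hG
  by_contra hL
  have hinj : ∀ x, G x = 0 → x = 0 := fun x h =>
    Matrix.mulVec_injective_iff_isUnit.mpr g.isUnit (show G x = G 0 by rw [h, hG]; simp)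
  have hline : ∀ v, D.Rat v → f.Iso v → ∃ lam y, D.Rat y ∧ G v = lam • y ∧ f.σ lam * lam ∈ D.F₀ := by
    intro v hv hvi
    rcases eq_or_ne v 0 with rfl | hv0
    · exact ⟨0, 0, RatVec.zero _ _, by simp [hG], by rw [mul_zero]; exact D.F₀.zero_mem⟩
    have hwi : f.Iso (G v) := (f.iso_mulVec (hKf g hg)).mpr hvi
    have hop : Op K (tN f (G v) t) := (hb v t hv hvi htF ht).conj_tN hg (hKf g hg)
    by_cases hirr : Irr D (G v)
    · exact absurd (long_of_irr hn hKf hb hr hcard hwi hirr htF ht0 ht hop) hL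
    unfold Irr at hirr
    push Not at hirr
    obtain ⟨lam, y, hy, hxy⟩ := hirr
    by_cases hN : f.σ lam * lam ∈ D.F₀
    · exact ⟨lam, y, hy, hxy, hN⟩
    exfalso
    have hy0 : y ≠ 0 := fun h => hv0 (hinj v (by rw [hxy, h, smul_zero]))
    have hlam : lam ≠ 0 := fun h => hv0 (hinj v (by rw [hxy, h, zero_smul]))
    rw [hxy] at hwi hop
    have hyi : f.Iso y := by
      have := HermF.Iso.smul hwi lam⁻¹
      rwa [smul_smul, inv_mul_cancel₀ hlam, one_smul] at this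
    exact hL ⟨y, _, hy, hyi, hy0, trace_mul ht lam, fun h => hN (by
      have := D.F₀.div_mem h htF
      rwa [mul_div_cancel_left₀ _ ht0] at this), hop.smul_tN⟩
  -- a common scalar
  obtain ⟨z, hz, hz0⟩ : ∃ z, D.Rat z ∧ z ≠ 0 := by
    obtain ⟨i⟩ := ‹Nonempty ι›
    exact ⟨D.rv (Pi.single i 1), D.rv_rat _, fun h => one_ne_zero (α := D.F₀)
      (by simpa using congrFun (D.rv_eq_zero.mp h) i)⟩
  obtain ⟨v₀, hv₀, hv₀i, hzv₀⟩ := D.exists_partner' (by omega) hz hz0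
  have hv₀0 : v₀ ≠ 0 := fun h => by rw [h, map_zero] at hzv₀; exact zero_ne_one hzv₀
  obtain ⟨lam₀, y₀, hy₀, hgv₀, hN₀⟩ := hline v₀ hv₀ hv₀i
  let P : (ι → F) → Prop := fun x => ∃ y, D.Rat y ∧ G x = lam₀ • y
  have step : ∀ v v', D.Rat v → f.Iso v → D.Rat v' → f.Iso v' → f.B v v' ≠ 0 → P v → P v' := by
    rintro v v' hv hvi hv' hv'i hne ⟨y, hy, hgy⟩
    obtain ⟨lam', y', hy', hgy', -⟩ := hline v' hv' hv'i
    have heq : f.σ lam₀ * lam' * f.B y y' = f.B v v' := by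
      rw [← hKf g hg v v']
      show _ = f.B (G v) (G v')
      rw [hgy, hgy']
      simp [mul_assoc, mul_left_comm]
    have hyy : f.B y y' ≠ 0 := fun h => hne (by rw [← heq, h, mul_zero])
    have hlam₀ : lam₀ ≠ 0 := fun h => hv₀0 (hinj v₀ (by rw [hgv₀, h, zero_smul]))
    have hσ0 : f.σ lam₀ ≠ 0 := fun h => hlam₀ (f.σ_eq_zero.mp h)
    refine ⟨(f.B v v' / f.B y y' / (f.σ lam₀ * lam₀)) • y', hy'.smul (D.F₀.div_mem
      (D.F₀.div_mem (D.rat v v' hv hv') (D.rat y y' hy hy')) hN₀), ?_⟩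
    rw [hgy', smul_smul, ← heq]
    congr 1
    field_simp
  have hPiso : ∀ v, D.Rat v → f.Iso v → P v := by
    intro v hv hvi
    have h0 : P v₀ := ⟨y₀, hy₀, hgv₀⟩
    rcases eq_or_ne v 0 with rfl | hv0
    · exact ⟨0, RatVec.zero _ _, by simp [hG]⟩
    by_cases h1 : f.B v₀ v = 0
    swap
    · exact step v₀ v hv₀ hv₀i hv hvi h1 h0
    obtain ⟨p, hp, hpi, hup⟩ := D.exists_partner' (by omega) hv₀ hv₀0
    have hup0 : f.B v₀ p ≠ 0 := by rw [hup]; exact one_ne_zero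
    by_cases h2 : f.B p v = 0
    swap
    · exact step p v hp hpi hv hvi h2 (step v₀ p hv₀ hv₀i hp hpi hup0 h0)
    have hpp : f.B p p = 0 := hpi
    have hu' : f.B v₀ v₀ = 0 := hv₀i
    have hpu : f.B p v₀ = 1 := by rw [← f.herm v₀ p, hup, map_one]
    have hvs : v ∉ Submodule.span F (({v₀, p} : Finset (ι → F)) : Set (ι → F)) := fun h => by
      rw [Finset.coe_pair, Submodule.mem_span_pair] at h
      obtain ⟨a, b, rfl⟩ := h
      simp [hu', hup] at h1
      simp [hpp, hpu] at h2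
      exact hv0 (by rw [h1, h2, zero_smul, zero_smul, add_zero])
    obtain ⟨q, hq, hqi, hqs, hvq⟩ := D.exists_dual {v₀, p} (by simp [hv₀, hp])
      (by have : ({v₀, p} : Finset (ι → F)).card ≤ 2 := Finset.card_le_two; omega) hv hvs
    have huq : f.B v₀ q = 0 := hqs v₀ (by simp)
    have hpq : f.B p q = 0 := hqs p (by simp)
    have hzi : f.Iso (p + q) := by
      show f.B _ _ = 0
      simp [hpp, show f.B q q = 0 from hqi, hpq, f.eq_zero_comm hpq]
    refine step _ v (hp.add hq) hzi hv hvi (fun h => ?_)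
      (step v₀ _ hv₀ hv₀i (hp.add hq) hzi (by rw [map_add, hup, huq, add_zero]; exact one_ne_zero) h0)
    have := f.eq_zero_comm h
    rw [map_add, f.eq_zero_comm h2, zero_add, hvq] at this
    exact one_ne_zero this
  refine hgN (mem_subfieldSubgroup_of_lines fun x hx => ?_)
  obtain ⟨y, hy, hgy⟩ : P x := D.of_iso ∅ (by simp) (by simp; omega) P ⟨0, RatVec.zero _ _, by simp [hG]⟩
    (fun a b ⟨ya, ha, hga⟩ ⟨yb, hb', hgb⟩ => ⟨ya + yb, ha.add hb', by
      simp only [hG] at hga hgb ⊢; rw [Matrix.mulVec_add, hga, hgb, smul_add]⟩)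
    (fun a ha b ⟨yb, hb', hgb⟩ => ⟨a • yb, hb'.smul ha, by
      simp only [hG] at hgb ⊢; rw [Matrix.mulVec_smul, hgb, smul_comm]⟩)
    (fun v hv hvi _ => hPiso v hv hvi) hx (by simp)
  exact ⟨lam₀, y, hy, hgy⟩

/-- The subgroup contains every transvection. -/
theorem ctr_of_notMem (hn : 13 ≤ Fintype.card ι) (hKf : ∀ g ∈ K, f.Preserves g) (hb : Base D K) {r : ℕ}
    (hr : r.Prime) (hcard : Nat.card F = Nat.card D.F₀ ^ r) {g : GL ι F} (hg : g ∈ K)
    (hgN : g ∉ Cfsg.Geo.subfieldSubgroup D.F₀ D.P) {w : ι → F} (hw : f.Iso w) : f.Ctr K w := by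
  refine ⟨hw, fun c hc => ?_⟩
  obtain ⟨h, hh, hhx⟩ := ctr_of_long (by omega) hKf hb hr hcard (long_of_notMem hn hKf hb hr hcard hg hgN) hw hc
  rwa [show f.trans w hw c = h from Units.ext (eq_of_mulVec_eq fun x => by
    rw [f.trans_mulVec, hhx, tN_apply])]

/-- Some transvection is outside the subfield group. -/
theorem exists_trans_notMem (hn : 4 ≤ Fintype.card ι) (hne : D.F₀ ≠ ⊤) :
    ∃ (u : ι → F) (hu : f.Iso u) (c : F), c + f.σ c = 0 ∧
      f.trans u hu c ∉ Cfsg.Geo.subfieldSubgroup D.F₀ D.P := by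
  obtain ⟨t, htF, ht0, ht⟩ := D.exists_t
  have hσt : f.σ t = -t := by linear_combination ht
  obtain ⟨κ, hκ, hκF⟩ : ∃ κ, κ + f.σ κ = 0 ∧ κ ∉ D.F₀ := by
    by_contra h
    push Not at h
    refine hne (eq_top_iff.mpr fun x _ => ?_)
    obtain ⟨τ, hτF, hτ⟩ := D.moved
    have hd : τ - f.σ τ ∈ D.F₀ := D.F₀.sub_mem hτF (D.mem_σ _ hτF)
    have hd0 : τ - f.σ τ ≠ 0 := sub_ne_zero.mpr (Ne.symm hτ)
    have h1 : x - f.σ x ∈ D.F₀ := h _ (by rw [map_sub, f.invol]; ring)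
    have h2 : τ * x - f.σ (τ * x) ∈ D.F₀ := h _ (by rw [map_sub, f.invol]; ring)
    have h3 := D.F₀.div_mem (D.F₀.sub_mem h2 (D.F₀.mul_mem (D.mem_σ _ hτF) h1)) hd
    rwa [show τ * x - f.σ (τ * x) - f.σ τ * (x - f.σ x) = x * (τ - f.σ τ) by rw [map_mul]; ring,
      mul_div_cancel_right₀ _ hd0] at h3
  obtain ⟨i⟩ : Nonempty ι := Fintype.card_pos_iff.mp (by omega)
  set z := D.rv (Pi.single i 1) with hzdef
  have hz0 : z ≠ 0 := fun h => one_ne_zero (α := D.F₀) (by simpa using congrFun (D.rv_eq_zero.mp h) i)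
  obtain ⟨u, hu, hui, hzu⟩ := D.exists_partner' hn (D.rv_rat _ : D.Rat z) hz0
  have hu0 : u ≠ 0 := fun h => by rw [h, map_zero] at hzu; exact zero_ne_one hzu
  obtain ⟨p, hp, hpi, hup⟩ := D.exists_partner' hn hu hu0
  refine ⟨u, hui, κ, hκ, fun hmem => hκF ?_⟩
  obtain ⟨c, hc, hlines⟩ := subfieldSubgroup_apply hmem
  obtain ⟨y, hy, hgy⟩ := hlines p hp
  rw [f.trans_mulVec, hup, mul_one] at hgy
  have h1 := congrArg (f.B u) hgy
  rw [map_add, map_smul, map_smul, show f.B u u = 0 from hui, hup, smul_zero, add_zero, smul_eq_mul] at h1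
  have hcF : c ∈ D.F₀ := by
    have := D.F₀.inv_mem (D.rat u y hu hy)
    rwa [← eq_inv_of_mul_eq_one_left h1.symm] at this
  refine hu.coeff_mem hu0 ?_
  have := (hy.smul hcF).sub hp
  rwa [← hgy, add_sub_cancel_left] at this

end Cfsg.Agent.Lib.MaxSub.UnitarySub
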