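import Cfsg.Agent.Lib.MaxSub.UnitarySubfieldSpread
import Cfsg.Agent.Lib.MaxSub.LinSubfield
import Mathlib

/-!
A transvection whose centre is orthogonal to no rational isotropic vector yields an irrational long root parameter.
-/

set_option autoImplicit false
set_option maxHeartbeats 1600000
set_option linter.unusedSectionVars false

namespace Cfsg.Agent.Lib.MaxSub.UnitarySub

open Matrix SiegelOp

/-- A finite field with an involution has the square of the order of its fixed field. -/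
theorem natCard_eq_sq {k : Type*} [Field k] (σ : k →+* k) (hσ : σ ≠ RingHom.id k) (hinv : ∀ a, σ (σ a) = a) :
    Nat.card k = Nat.card (σ.eqLocusField (RingHom.id k)) ^ 2 := by
  set E := σ.eqLocusField (RingHom.id k)
  obtain ⟨τ, hτ⟩ : ∃ τ, σ τ ≠ τ := by
    by_contra h
    push Not at h
    exact hσ (RingHom.ext h)
  have hτ' : τ - σ τ ≠ 0 := sub_ne_zero.mpr (Ne.symm hτ)
  rw [sq, ← Nat.card_prod]
  refine (Nat.card_eq_of_bijective (fun z : E × E => (z.1 : k) + z.2 * τ) ⟨fun a b h => ?_, fun x => ?_⟩).symm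
  · have ha1 : σ (a.1 : k) = a.1 := a.1.2
    have ha2 : σ (a.2 : k) = a.2 := a.2.2
    have hb1 : σ (b.1 : k) = b.1 := b.1.2
    have hb2 : σ (b.2 : k) = b.2 := b.2.2
    have h' := congrArg σ h
    simp only [map_add, map_mul, ha1, ha2, hb1, hb2] at h'
    have h2 : (a.2 : k) = b.2 := by
      refine mul_right_cancel₀ hτ' ?_
      linear_combination h - h'
    have h1 : (a.1 : k) = b.1 := by
      have h3 : (a.1 : k) + a.2 * τ = b.1 + b.2 * τ := h
      rw [h2] at h3
      exact add_right_cancel h3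
    exact Prod.ext (Subtype.ext h1) (Subtype.ext h2)
  · set b := (x - σ x) / (τ - σ τ) with hb
    have hbfix : σ b = b := by
      rw [hb, map_div₀, map_sub, map_sub, hinv, hinv, ← neg_sub x, ← neg_sub τ, neg_div_neg_eq]
    refine ⟨⟨⟨x - b * τ, ?_⟩, ⟨b, hbfix⟩⟩, by simp⟩
    show σ (x - b * τ) = x - b * τ
    rw [map_sub, map_mul, hbfix]
    have : b * (τ - σ τ) = x - σ x := div_mul_cancel₀ _ hτ'
    linear_combination this

section

variable {ι : Type} [Fintype ι] [DecidableEq ι] {F : Type*} [Field F] [Finite F]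

/-- Totally isotropic subspaces of small dimension. -/
theorem exists_totallyIso (f : HermF ι F) : ∀ k, 2 * k ≤ Fintype.card ι →
    ∃ W : Submodule F (ι → F), Module.finrank F W = k ∧ ∀ u ∈ W, ∀ v ∈ W, f.B u v = 0 := by
  intro k
  induction k with
  | zero => exact fun _ => ⟨⊥, finrank_bot F _, fun u hu v _ => by rw [(Submodule.mem_bot F).mp hu]; simp⟩
  | succ k ih =>
    intro hk
    obtain ⟨W, hW, hts⟩ := ih (by omega)
    obtain ⟨x, hx, hxi, hxW⟩ : ∃ x ∈ f.perp W, f.Iso x ∧ x ∉ W := by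
      by_contra h
      push Not at h
      have h1 := Submodule.finrank_mono ((f.perp_le_span_iso W (by omega)).trans
        (Submodule.span_le.mpr fun v hv => h v hv.1 hv.2 : _ ≤ W))
      have h2 := f.finrank_perp_ge W
      omega
    refine ⟨W ⊔ F ∙ x, ?_, ?_⟩
    · have h0 : W ⊓ F ∙ x = ⊥ := by
        refine eq_bot_iff.mpr fun z ⟨hz1, hz2⟩ => ?_
        obtain ⟨a, rfl⟩ := Submodule.mem_span_singleton.mp hz2
        rcases eq_or_ne a 0 with rfl | ha
        · simp
        · exact absurd (by simpa [smul_smul, ha] using W.smul_mem a⁻¹ hz1) hxW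
      have := Submodule.finrank_sup_add_finrank_inf_eq W (F ∙ x)
      rw [h0, finrank_bot, finrank_span_singleton (show x ≠ 0 from fun h0' => hxW (by rw [h0']; exact W.zero_mem))] at this
      omega
    · intro u hu v hv
      obtain ⟨u₁, hu₁, u₂, hu₂, rfl⟩ := Submodule.mem_sup.mp hu
      obtain ⟨v₁, hv₁, v₂, hv₂, rfl⟩ := Submodule.mem_sup.mp hv
      obtain ⟨a, rfl⟩ := Submodule.mem_span_singleton.mp hu₂
      obtain ⟨b, rfl⟩ := Submodule.mem_span_singleton.mp hv₂
      simp [hts u₁ hu₁ v₁ hv₁, hx u₁ hu₁, f.eq_zero_comm (hx v₁ hv₁), show f.B x x = 0 from hxi]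

/-- The elements acting on a plane modulo a fixed subspace. -/
def planeOver (K : Subgroup (GL ι F)) (Z : Submodule F (ι → F)) (e w : ι → F) :
    Subgroup (Matrix.SpecialLinearGroup (Fin 2) F) where
  carrier := {M | ∃ g ∈ K, (∀ z ∈ Z, (g : Matrix ι ι F) *ᵥ z = z) ∧
    (g : Matrix ι ι F) *ᵥ e - (M 0 0 • e + M 1 0 • w) ∈ Z ∧ (g : Matrix ι ι F) *ᵥ w - (M 0 1 • e + M 1 1 • w) ∈ Z}
  mul_mem' := by
    rintro M N ⟨g, hg, hgz, hge, hgw⟩ ⟨h, hh, hhz, hhe, hhw⟩
    have key : ∀ (x : ι → F) (a b : F), (h : Matrix ι ι F) *ᵥ x - (a • e + b • w) ∈ Z →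
        ((g * h : GL ι F) : Matrix ι ι F) *ᵥ x
          - ((a * M 0 0 + b * M 0 1) • e + (a * M 1 0 + b * M 1 1) • w) ∈ Z := fun x a b hx => by
      have h1 := hgz _ hx
      rw [Matrix.mulVec_sub, Matrix.mulVec_add, Matrix.mulVec_smul, Matrix.mulVec_smul, sub_eq_iff_eq_add] at h1
      rw [Units.val_mul, ← Matrix.mulVec_mulVec, h1]
      convert add_mem hx (add_mem (Z.smul_mem a hge) (Z.smul_mem b hgw)) using 1
      module
    refine ⟨g * h, K.mul_mem hg hh, fun z hz => by rw [Units.val_mul, ← Matrix.mulVec_mulVec, hhz z hz, hgz z hz],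
      ?_, ?_⟩
    · convert key e _ _ hhe using 2
      simp [Matrix.SpecialLinearGroup.coe_mul, Matrix.mul_apply, Fin.sum_univ_two, mul_comm]
    · convert key w _ _ hhw using 2
      simp [Matrix.SpecialLinearGroup.coe_mul, Matrix.mul_apply, Fin.sum_univ_two, mul_comm]
  one_mem' := ⟨1, K.one_mem, fun z _ => by simp, by simp, by simp⟩
  inv_mem' := by
    rintro M ⟨g, hg, hgz, hge, hgw⟩
    have hd : (M 0 0 : F) * M 1 1 - M 0 1 * M 1 0 = 1 := by rw [← Matrix.det_fin_two]; exact M.2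
    have hcan : ∀ x, ((g⁻¹ : GL ι F) : Matrix ι ι F) *ᵥ ((g : Matrix ι ι F) *ᵥ x) = x := fun x => by
      rw [Matrix.mulVec_mulVec, ← Units.val_mul, inv_mul_cancel, Units.val_one, Matrix.one_mulVec]
    have hfix : ∀ z ∈ Z, ((g⁻¹ : GL ι F) : Matrix ι ι F) *ᵥ z = z := fun z hz => by
      conv_lhs => rw [← hgz z hz, hcan]
    have key : ∀ a b : F, (a • e + b • w) - ((g⁻¹ : GL ι F) : Matrix ι ι F) *ᵥ
        ((a * M 0 0 + b * M 0 1) • e + (a * M 1 0 + b * M 1 1) • w) ∈ Z := fun a b => by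
      have hm := add_mem (Z.smul_mem a hge) (Z.smul_mem b hgw)
      have h2 := hfix _ hm
      simp only [Matrix.mulVec_add, Matrix.mulVec_smul, Matrix.mulVec_sub, hcan] at h2
      rw [← h2] at hm
      convert hm using 1
      simp only [Matrix.mulVec_add, Matrix.mulVec_smul]
      module
    refine ⟨g⁻¹, K.inv_mem hg, hfix, ?_, ?_⟩
    · have := key (M 1 1) (-M 1 0)
      rw [show M 1 1 * M 0 0 + -M 1 0 * M 0 1 = (1 : F) by linear_combination hd,
        show M 1 1 * M 1 0 + -M 1 0 * M 1 1 = (0 : F) by ring, one_smul, zero_smul, add_zero] at this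
      convert Z.neg_mem this using 1
      simp [Matrix.SpecialLinearGroup.coe_inv, Matrix.adjugate_fin_two]
    · have := key (-M 0 1) (M 0 0)
      rw [show -M 0 1 * M 0 0 + M 0 0 * M 0 1 = (0 : F) by ring,
        show -M 0 1 * M 1 0 + M 0 0 * M 1 1 = (1 : F) by linear_combination hd, one_smul, zero_smul, zero_add] at this
      convert Z.neg_mem this using 1
      simp [Matrix.SpecialLinearGroup.coe_inv, Matrix.adjugate_fin_two]

variable {f : HermF ι F} {D : UData f} {K : Subgroup (GL ι F)}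

open Cfsg.Agent.Lib.Geometry.Dickson in
/-- A centre orthogonal to no rational isotropic vector. -/
theorem long_of_general (hn : 13 ≤ Fintype.card ι) (hKf : ∀ g ∈ K, f.Preserves g) (hb : Base D K) {r : ℕ}
    (hr : r.Prime) (hcard : Nat.card F = Nat.card D.F₀ ^ r) {w : ι → F} (hwi : f.Iso w) {t : F} (htF : t ∈ D.F₀)
    (ht0 : t ≠ 0) (ht : t + f.σ t = 0) (hw : Op K (tN f w t))
    (hgen : ∀ u, D.Rat u → f.Iso u → f.B u w = 0 → u = 0) : LongAt D K := by
  classical
  have hσt : f.σ t = -t := by linear_combination ht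
  have hw' : f.B w w = 0 := hwi
  let ℓ : (ι → D.F₀) →ₗ[D.F₀] F :=
    { toFun := fun u => f.B w (D.rv u)
      map_add' := fun u v => by simp [D.rv_add]
      map_smul' := fun c u => by simp only [D.rv_smul, map_smul, RingHom.id_apply]; rfl }
  have hℓ : ∀ u, ℓ u = f.B w (D.rv u) := fun u => rfl
  have hker : ∀ u, D.f₀.Iso u → ℓ u = 0 → u = 0 := fun u hu h0 =>
    D.rv_eq_zero.mp (hgen _ (D.rv_rat u) (D.iso_iff.mp hu) (f.eq_zero_comm h0))
  -- the degree
  have h2F₀ : 2 ≤ Nat.card D.F₀ := Finite.one_lt_card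
  have hr13 : 13 ≤ r := by
    have hfr : Module.finrank D.F₀ F = r := by
      have h1 : Nat.card F = Nat.card D.F₀ ^ Module.finrank D.F₀ F := Module.natCard_eq_pow_finrank
      exact Nat.pow_right_injective h2F₀ (h1.symm.trans hcard)
    have hk1 : Module.finrank D.F₀ (LinearMap.ker ℓ) ≤ 1 := by
      by_contra hk
      obtain ⟨x, hx, hx0⟩ := (Submodule.ne_bot_iff (LinearMap.ker ℓ)).mp fun h => by
        rw [h, finrank_bot] at hk; omega
      have hxi : ¬ D.f₀.Iso x := fun h => hx0 (hker x h hx)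
      obtain ⟨y, hy, hy0⟩ := (Submodule.ne_bot_iff (LinearMap.ker ℓ ⊓ D.f₀.perp (D.F₀ ∙ x))).mp fun h => by
        have h1 := Submodule.finrank_sup_add_finrank_inf_eq (LinearMap.ker ℓ) (D.f₀.perp (D.F₀ ∙ x))
        rw [h, finrank_bot] at h1
        have h2 := D.f₀.finrank_perp_ge (D.F₀ ∙ x)
        rw [finrank_span_singleton hx0] at h2
        have h3 := Submodule.finrank_le (LinearMap.ker ℓ ⊔ D.f₀.perp (D.F₀ ∙ x))
        rw [Module.finrank_fintype_fun_eq_card] at h3
        omega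
      have hxy : D.f₀.B x y = 0 := D.f₀.mem_perp_span.mp hy.2
      have hyi : ¬ D.f₀.Iso y := fun h => hy0 (hker y h hy.1)
      obtain ⟨a, -, hia⟩ := D.f₀.exists_iso_combination hxi hyi hxy
      have h0 := hker _ hia (by rw [map_add, map_smul, LinearMap.mem_ker.mp hx, LinearMap.mem_ker.mp hy.1]; simp)
      have h' := congrArg (D.f₀.B x) h0
      rw [map_add, map_smul, hxy, smul_zero, add_zero, map_zero] at h'
      exact hxi h'
    have h1 := ℓ.finrank_range_add_finrank_ker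
    have h2 := Submodule.finrank_le (LinearMap.range ℓ)
    rw [Module.finrank_fintype_fun_eq_card] at h1
    rw [hfr] at h2
    have : r ≠ 12 := fun h => by rw [h] at hr; norm_num at hr
    omega
  -- a totally isotropic rational space
  obtain ⟨W, hW, hts⟩ := exists_totallyIso D.f₀ 6 (by omega)
  have hℓW : ∀ u ∈ W, ℓ u = 0 → u = 0 := fun u hu => hker u (hts u hu u hu)
  obtain ⟨u₁, hu₁, hu₁0⟩ := (Submodule.ne_bot_iff W).mp fun h => by rw [h, finrank_bot] at hW; omega
  set e := D.rv u₁ with he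
  set β := ℓ u₁ with hβ
  have hβ0 : β ≠ 0 := fun h => hu₁0 (hℓW u₁ hu₁ h)
  set X := Submodule.span F (D.rv '' (W : Set (ι → D.F₀)))
  have hX : ∀ u ∈ W, D.rv u ∈ X := fun u hu => Submodule.subset_span ⟨u, hu, rfl⟩
  have hXX : ∀ u ∈ W, ∀ x ∈ X, f.B (D.rv u) x = 0 := by
    intro u hu x hx
    induction hx using Submodule.span_induction with
    | mem x hx => obtain ⟨v, hv, rfl⟩ := hx; exact D.f₀_eq_zero.mp (hts u hu v hv)
    | zero => exact map_zero _
    | add a b _ _ ha hb => rw [map_add, ha, hb, add_zero]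
    | smul c a _ ha => rw [map_smul, ha, smul_zero]
  set Z := X ⊓ LinearMap.ker (f.B w) with hZdef
  have hei : f.Iso e := D.iso_iff.mp (hts u₁ hu₁ u₁ hu₁)
  have he0 : e ≠ 0 := fun h => hu₁0 (D.rv_eq_zero.mp h)
  set δ := (t * β)⁻¹ with hδ
  have hδ0 : δ ≠ 0 := inv_ne_zero (mul_ne_zero ht0 hβ0)
  set e' := δ • e with he'
  -- the plane group over the fixed field
  set E := f.σ.eqLocusField (RingHom.id F) with hE
  set G := (planeOver K Z e' w).comap (Matrix.SpecialLinearGroup.map E.subtype) with hG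
  have hlow : lower 1 ∈ G := by
    obtain ⟨g, hg, hgx⟩ := hw
    refine ⟨g, hg, fun z hz => ?_, ?_, ?_⟩
    · rw [hgx, tN_apply, show f.B w z = 0 from hz.2, mul_zero, zero_smul, add_zero]
    · rw [hgx, tN_apply, he', map_smul, he, ← hℓ, ← hβ, smul_eq_mul,
        show t * (δ * β) = 1 by rw [hδ]; field_simp]
      simp [coe_lower]
    · rw [hgx, tN_apply, hw', mul_zero, zero_smul, add_zero]
      simp [coe_lower]
  have hup : ∀ u ∈ W, ∀ a : E, (a : F) ∈ D.F₀ → ∀ p : E, (p : F) = a * (f.σ (ℓ u) * ℓ u) → upper p ∈ G := by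
    intro u hu a haF p hp
    have hafix : f.σ (a : F) = a := a.2
    have hui : f.Iso (D.rv u) := D.iso_iff.mp (hts u hu u hu)
    have hc : (a : F) / t + f.σ ((a : F) / t) = 0 := by rw [map_div₀, hafix, hσt, div_neg, add_neg_cancel]
    obtain ⟨g, hg, hgx⟩ := hb _ _ (D.rv_rat u) hui (D.F₀.div_mem haF htF) hc
    have hz₀ : D.rv u - (ℓ u / β) • e ∈ Z := by
      refine ⟨sub_mem (hX u hu) (X.smul_mem _ (hX u₁ hu₁)), ?_⟩
      show f.B w _ = 0
      rw [map_sub, map_smul, he, ← hℓ, ← hℓ, ← hβ, smul_eq_mul, div_mul_cancel₀ _ hβ0, sub_self]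
    refine ⟨g, hg, fun z hz => ?_, ?_, ?_⟩
    · rw [hgx, tN_apply, hXX u hu z hz.1, mul_zero, zero_smul, add_zero]
    · rw [hgx, tN_apply, he', map_smul, hXX u hu e (hX u₁ hu₁), smul_zero, mul_zero, zero_smul, add_zero]
      simp [coe_upper]
    · rw [hgx, tN_apply, ← f.herm w (D.rv u), ← hℓ]
      convert Z.smul_mem ((a : F) / t * f.σ (ℓ u)) hz₀ using 1
      have : (p : F) • e' = ((a : F) / t * f.σ (ℓ u)) • ((ℓ u / β) • e) := by
        rw [he', smul_smul, smul_smul, hp, hδ]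
        congr 1
        field_simp
      simp [coe_upper, this, smul_sub]
      abel
  set G' := G ⊔ Subgroup.center (Matrix.SpecialLinearGroup (Fin 2) E) with hG'
  -- the parameters
  let NE : F → E := fun x => ⟨f.σ x * x, by
    show f.σ (f.σ x * x) = f.σ x * x
    rw [map_mul, f.invol, mul_comm]⟩
  let TE : F → E := fun x => ⟨x + f.σ x, by
    show f.σ (x + f.σ x) = x + f.σ x
    rw [map_add, f.invol, add_comm]⟩
  have hpar : ∀ u ∈ W, NE (ℓ u) ∈ upperParams G' := fun u hu =>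
    Subgroup.mem_sup_left (hup u hu 1 D.F₀.one_mem _ (by simp [NE]))
  have htr : ∀ u ∈ W, ∀ a : D.F₀, TE ((a : F) * f.σ β * ℓ u) ∈ upperParams G' := by
    intro u hu a
    obtain ⟨v, hv, hva⟩ : ∃ v ∈ W, ℓ v = f.σ (a : F) * β :=
      ⟨D.σ₀ a • u₁, W.smul_mem _ hu₁, by rw [map_smul, ← hβ]; rfl⟩
    have := sub_mem (sub_mem (hpar (v + u) (W.add_mem hv hu)) (hpar v hv)) (hpar u hu)
    rwa [show NE (ℓ (v + u)) - NE (ℓ v) - NE (ℓ u) = TE ((a : F) * f.σ β * ℓ u) from Subtype.ext (by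
      show f.σ (ℓ (v + u)) * ℓ (v + u) - f.σ (ℓ v) * ℓ v - f.σ (ℓ u) * ℓ u = _
      simp only [map_add, hva, map_mul, f.invol, TE]
      ring)] at this
  obtain ⟨τ, hτF, hτ⟩ := D.moved
  have hτ0 : τ ≠ 0 := fun h => hτ (by rw [h, map_zero])
  have hWcard : Nat.card W = Nat.card D.F₀ ^ 6 := by
    rw [Module.natCard_eq_pow_finrank (K := D.F₀), hW]
  have hA2 : Nat.card W ≤ Nat.card (upperParams G') * Nat.card (upperParams G') := by
    rw [← Nat.card_prod]
    refine Nat.card_le_card_of_injective (fun u => (⟨_, htr u.1 u.2 1⟩, ⟨_, htr u.1 u.2 ⟨τ, hτF⟩⟩)) ?_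
    intro u v h
    simp only [Prod.mk.injEq, Subtype.mk.injEq] at h
    obtain ⟨h1, h2⟩ := h
    have h1' := congrArg Subtype.val h1
    have h2' := congrArg Subtype.val h2
    simp only [TE, OneMemClass.coe_one, one_mul, map_mul, f.invol] at h1' h2'
    have h3 : (τ - f.σ τ) * (f.σ β * (ℓ u.1 - ℓ v.1)) = 0 := by linear_combination h2' - f.σ τ * h1'
    rw [mul_eq_zero, mul_eq_zero, sub_eq_zero, sub_eq_zero, f.σ_eq_zero] at h3
    rcases h3 with h3 | h3 | h3
    · exact absurd h3.symm hτ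
    · exact absurd h3 hβ0
    · exact Subtype.ext (sub_eq_zero.mp (hℓW _ (W.sub_mem u.2 v.2) (by rw [map_sub, h3, sub_self])))
  -- orders
  set E₀ : Subfield E := D.F₀.comap E.subtype with hE₀
  set q := Nat.card E₀ with hq
  have hF₀q : Nat.card D.F₀ = q ^ 2 := by
    rw [natCard_eq_sq D.f₀.σ D.f₀.σ_ne D.f₀.invol]
    congr 1
    refine Nat.card_congr
      { toFun := fun x => ⟨⟨((x.1 : D.F₀) : F), congrArg Subtype.val (x.2 : D.f₀.σ x.1 = x.1)⟩, x.1.2⟩
        invFun := fun x => ⟨⟨((x.1 : E) : F), x.2⟩, Subtype.ext (x.1.2 : f.σ _ = _)⟩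
        left_inv := fun x => rfl
        right_inv := fun x => rfl }
  have hEq : Nat.card E = q ^ r := by
    have h1 := natCard_eq_sq f.σ f.σ_ne f.invol
    rw [hcard, hF₀q, ← pow_mul, mul_comm 2 r, pow_mul] at h1
    exact (Nat.pow_left_injective two_ne_zero h1).symm
  have hq2 : 2 ≤ q := Finite.one_lt_card
  rw [hF₀q, ← pow_mul] at hWcard
  have hA : q ^ 6 ≤ Nat.card (upperParams G') := by
    refine (Nat.pow_le_pow_iff_left two_ne_zero).mp ?_
    rw [← pow_mul, sq]
    exact hWcard ▸ hA2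
  haveI : Fintype E := Fintype.ofFinite E
  have hA60 : 60 * Nat.card (Subgroup.center (Matrix.SpecialLinearGroup (Fin 2) E)) < Nat.card (upperParams G') := by
    refine lt_of_lt_of_le ?_ hA
    rcases (show q = 2 ∨ 3 ≤ q by omega) with h | h
    · have h2E : (2 : E₀) = 0 := by
        haveI : Fintype E₀ := Fintype.ofFinite E₀
        have h0 := FiniteField.cast_card_eq_zero E₀
        rw [← Nat.card_eq_fintype_card, ← hq, h] at h0
        exact_mod_cast h0
      have h2E' : (2 : E) = 0 := by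
        have := congrArg E₀.subtype h2E
        rwa [map_ofNat, map_zero] at this
      have hneg : (-1 : Matrix.SpecialLinearGroup (Fin 2) E) = 1 := by
        refine Matrix.SpecialLinearGroup.ext (A := -1) (B := 1) fun i j => ?_
        rw [Matrix.SpecialLinearGroup.coe_neg, Matrix.SpecialLinearGroup.coe_one, Matrix.neg_apply]
        linear_combination (-(1 : Matrix (Fin 2) (Fin 2) E) i j) * h2E'
      haveI : Subsingleton (Subgroup.center (Matrix.SpecialLinearGroup (Fin 2) E)) := ⟨fun a b => Subtype.ext (by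
        rcases Cfsg.Agent.Lib.SL2Trace.mem_center_iff.mp a.2 with ha | ha <;>
          rcases Cfsg.Agent.Lib.SL2Trace.mem_center_iff.mp b.2 with hb | hb <;> simp [ha, hb, hneg])⟩
      rw [Nat.card_unique, h]; norm_num
    · have := LinSubfield.center_card_le_two (F := E)
      have := Nat.pow_le_pow_left h 6
      omega
  obtain ⟨S, hSu, hSl⟩ := LinSubfield.exists_subfield' G' le_sup_right (Subgroup.mem_sup_left hlow) hA60
  have hNβ : NE β ∈ S := (hSu _).mp (hpar u₁ hu₁)
  have hNβ0 : NE β ≠ 0 := fun h => by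
    have h' : f.σ β * β = 0 := congrArg Subtype.val h
    exact mul_ne_zero (fun h => hβ0 (f.σ_eq_zero.mp h)) hβ0 h'
  have hle : E₀ ≤ S := fun a ha => by
    have h1 : a * NE β ∈ S := (hSu _).mp (Subgroup.mem_sup_left (hup u₁ hu₁ a ha _ (by simp [NE, hβ])))
    have := S.div_mem h1 hNβ
    rwa [mul_div_cancel_right₀ _ hNβ0] at this
  have htop : S = ⊤ := by
    obtain ⟨c, hc, hc0⟩ : ∃ c ∈ S, c ∉ E₀ := by
      by_contra hc
      push Not at hc
      have h1 : Nat.card (upperParams G') ≤ q :=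
        Nat.card_le_card_of_injective (fun z => (⟨z.1, hc _ ((hSu _).mp z.2)⟩ : E₀))
          fun a b h => Subtype.ext (congrArg Subtype.val h :)
      have h2 := hA.trans h1
      have h3 : q ^ 1 < q ^ 6 := Nat.pow_lt_pow_right hq2 (by norm_num)
      rw [pow_one] at h3
      omega
    exact LinSubfield.eq_top_of_lt hr hEq S hle hc hc0
  have hG'top : G' = ⊤ := eq_top_of_upper_lower (fun y => (hSu y).mpr (htop ▸ Subfield.mem_top y))
    (fun y => (hSl y).mpr (htop ▸ Subfield.mem_top y))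
  -- an element scaling the rational centre
  haveI : Fintype F := Fintype.ofFinite F
  set T : Finset F := Finset.univ.image fun u : W => f.σ (ℓ u.1) * ℓ u.1 with hT
  obtain ⟨d, hd⟩ : ∃ d : E, (d : F) * d * (f.σ β * β) ∉ T := by
    by_contra hcon
    push Not at hcon
    have hTlt : T.card < q ^ 12 := by
      set a₀ : D.F₀ := ⟨f.σ τ / τ, D.F₀.div_mem (D.mem_σ _ hτF) hτF⟩ with ha₀
      have hne : (⟨a₀ • u₁, W.smul_mem _ hu₁⟩ : W) ≠ ⟨u₁, hu₁⟩ := fun h => by
        have h1 : ℓ (a₀ • u₁) = ℓ u₁ := congrArg ℓ (congrArg Subtype.val h)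
        rw [map_smul, ← hβ] at h1
        have h2 : f.σ τ / τ * β = β := h1
        exact hτ ((div_eq_one_iff_eq hτ0).mp (mul_eq_right₀ hβ0 |>.mp h2))
      have hsub : T ⊆ (Finset.univ.erase (⟨a₀ • u₁, W.smul_mem _ hu₁⟩ : W)).image
          fun u : W => f.σ (ℓ u.1) * ℓ u.1 := by
        intro x hx
        obtain ⟨u, -, rfl⟩ := Finset.mem_image.mp hx
        by_cases hu : u = ⟨a₀ • u₁, W.smul_mem _ hu₁⟩
        · refine Finset.mem_image.mpr ⟨⟨u₁, hu₁⟩, Finset.mem_erase.mpr ⟨hne.symm, Finset.mem_univ _⟩, ?_⟩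
          subst hu
          rw [map_smul, ← hβ]
          show f.σ β * β = f.σ (f.σ τ / τ * β) * (f.σ τ / τ * β)
          rw [map_mul, map_div₀, f.invol]
          have : f.σ τ ≠ 0 := fun h => hτ0 (f.σ_eq_zero.mp h)
          field_simp
        · exact Finset.mem_image.mpr ⟨u, Finset.mem_erase.mpr ⟨hu, Finset.mem_univ _⟩, rfl⟩
      refine lt_of_le_of_lt ((Finset.card_le_card hsub).trans Finset.card_image_le) ?_
      rw [Finset.card_erase_of_mem (Finset.mem_univ _), Finset.card_univ, ← Nat.card_eq_fintype_card, hWcard]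
      have : 0 < q ^ 12 := pow_pos (by omega) _
      rw [show 2 * 6 = 12 from rfl]
      omega
    have hcount : Nat.card E ≤ 2 * T.card := by
      rw [Nat.card_eq_fintype_card, ← Finset.card_univ]
      refine (Finset.card_le_mul_card_image_of_maps_to (f := fun d : E => (d : F) * d * (f.σ β * β))
        (fun d _ => hcon d) 2 fun b _ => ?_)
      by_cases hb : ∃ d₀ : E, (d₀ : F) * d₀ * (f.σ β * β) = b
      · obtain ⟨d₀, rfl⟩ := hb
        refine (Finset.card_le_card (t := {d₀, -d₀}) fun d hd => ?_).trans Finset.card_le_two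
        have h0 := mul_right_cancel₀ (mul_ne_zero (fun h => hβ0 (f.σ_eq_zero.mp h)) hβ0) (Finset.mem_filter.mp hd).2
        rcases mul_self_eq_mul_self_iff.mp h0 with h | h
        · simp [Subtype.ext h]
        · rw [Subtype.ext (show (d : F) = ((-d₀ : E) : F) by simpa using h)]
          simp
      · rw [Finset.card_eq_zero.mpr (Finset.filter_eq_empty_iff.mpr fun d _ h => hb ⟨d, h⟩)]
        omega
    rw [hEq] at hcount
    have h13 : q ^ 13 ≤ q ^ r := Nat.pow_le_pow_right (by omega) hr13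
    have h12 : 2 * q ^ 12 ≤ q ^ 13 := by rw [pow_succ q 12, mul_comm 2]; exact Nat.mul_le_mul_left _ hq2
    omega
  have hd0 : d ≠ 0 := fun h => hd (Finset.mem_image.mpr ⟨0, Finset.mem_univ _, by simp [h]⟩)
  let M : Matrix.SpecialLinearGroup (Fin 2) E := ⟨!![d, 0; 0, d⁻¹], by simp [Matrix.det_fin_two, hd0]⟩
  have hM : M ∈ G' := by rw [hG'top]; trivial
  rw [hG'] at hM
  obtain ⟨M', hM', z, hz, hMz⟩ := (Subgroup.mem_sup_of_normal_right).mp hM
  obtain ⟨ε, hε, hfixε, hMD⟩ : ∃ ε : E, ε * ε = 1 ∧ f.σ (ε : F) = ε ∧ ∀ i j, M' i j = ε * M i j := by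
    rcases Cfsg.Agent.Lib.SL2Trace.mem_center_iff.mp hz with rfl | rfl
    · exact ⟨1, one_mul 1, map_one _, fun i j => by rw [← hMz, mul_one, one_mul]⟩
    · exact ⟨-1, by ring, by simp, fun i j => by
        rw [← hMz, mul_neg, mul_one, Matrix.SpecialLinearGroup.coe_neg]; simp⟩
  obtain ⟨g, hg, -, hge, -⟩ := hM'
  have h00 : Matrix.SpecialLinearGroup.map E.subtype M' 0 0 = ((ε * d : E) : F) := by
    show ((M' 0 0 : E) : F) = _
    rw [hMD]; simp [M]
  have h10 : Matrix.SpecialLinearGroup.map E.subtype M' 1 0 = 0 := by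
    show ((M' 1 0 : E) : F) = 0
    rw [hMD]; simp [M]
  rw [h00, h10, zero_smul, add_zero, he', Matrix.mulVec_smul, smul_comm, ← smul_sub] at hge
  have hxZ : (g : Matrix ι ι F) *ᵥ e - ((ε * d : E) : F) • e ∈ Z := by
    simpa [smul_smul, hδ0] using Z.smul_mem δ⁻¹ hge
  set x := (g : Matrix ι ι F) *ᵥ e with hx
  have hxX : x ∈ X := by
    have := X.add_mem hxZ.1 (X.smul_mem ((ε * d : E) : F) (hX u₁ hu₁))
    rwa [← he, sub_add_cancel] at this
  have hwx : f.B w x = ((ε * d : E) : F) * β := by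
    have h : f.B w (x - ((ε * d : E) : F) • e) = 0 := hxZ.2
    rwa [map_sub, map_smul, smul_eq_mul, he, ← hℓ, ← hβ, sub_eq_zero] at h
  have hεd : ((ε * d : E) : F) ≠ 0 := fun h => mul_ne_zero (left_ne_zero_of_mul_eq_one hε) hd0 (Subtype.ext h)
  have hx0 : x ≠ 0 := fun h => mul_ne_zero hεd hβ0 (by rw [← hwx, h, map_zero])
  have hxi : f.Iso x := (f.iso_mulVec (hKf g hg)).mpr hei
  have hxop : Op K (tN f x t) := (hb e t (D.rv_rat u₁) hei htF ht).conj_tN hg (hKf g hg)
  by_cases hirr : Irr D x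
  · exact long_of_perp (by omega) hKf hb hxi hirr htF ht0 ht hxop (D.rv_rat u₁) hei he0 (hXX u₁ hu₁ x hxX)
  unfold Irr at hirr
  push Not at hirr
  obtain ⟨lam, y, hy, hxy⟩ := hirr
  have hlam : lam ≠ 0 := fun h => hx0 (by rw [hxy, h, zero_smul])
  obtain ⟨v, rfl⟩ := D.exists_rv hy
  have hv : v ∈ W := D.mem_span_rv (by
    have := X.smul_mem lam⁻¹ hxX
    rwa [hxy, smul_smul, inv_mul_cancel₀ hlam, one_smul] at this)
  have hvi : f.Iso (D.rv v) := D.iso_iff.mp (hts v hv v hv)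
  have hv0 : D.rv v ≠ 0 := fun h => hx0 (by rw [hxy, h, smul_zero])
  rw [hxy] at hxop
  by_cases hNl : f.σ lam * lam ∈ D.F₀
  swap
  · exact ⟨_, _, D.rv_rat v, hvi, hv0, trace_mul ht lam, fun h => hNl (by
      have := D.F₀.div_mem h htF
      rwa [mul_div_cancel_left₀ _ ht0] at this), hxop.smul_tN⟩
  exfalso
  obtain ⟨a, ha⟩ := Geometry.exists_mul_conj_eq D.f₀.σ_ne D.f₀.invol (s := ⟨_, hNl⟩) (Subtype.ext (by
    show f.σ (f.σ lam * lam) = f.σ lam * lam
    rw [map_mul, f.invol, mul_comm]))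
  have ha' : f.σ (a : F) * a = f.σ lam * lam := congrArg Subtype.val ha
  refine hd (Finset.mem_image.mpr ⟨⟨a • v, W.smul_mem _ hv⟩, Finset.mem_univ _, ?_⟩)
  rw [map_smul]
  show f.σ ((a : F) * ℓ v) * ((a : F) * ℓ v) = _
  have hlv : lam * ℓ v = ((ε * d : E) : F) * β := by rw [← hwx, hxy, map_smul, smul_eq_mul, hℓ]
  have hσd : f.σ (d : F) = d := d.2
  have hlv' := congrArg f.σ hlv
  rw [map_mul, map_mul, (ε * d).2.out] at hlv'
  have hε' : (ε : F) * ε = 1 := congrArg Subtype.val hε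
  simp only [map_mul, MulMemClass.coe_mul] at hlv hlv' ⊢
  linear_combination (f.σ (ℓ v) * ℓ v) * ha' + (lam * ℓ v) * hlv' + ((ε : F) * d * f.σ β) * hlv
    + ((d : F) * d * (f.σ β * β)) * hε'

/-- A transvection with irrational centre yields an irrational long root parameter. -/
theorem long_of_irr (hn : 13 ≤ Fintype.card ι) (hKf : ∀ g ∈ K, f.Preserves g) (hb : Base D K) {r : ℕ}
    (hr : r.Prime) (hcard : Nat.card F = Nat.card D.F₀ ^ r) {w : ι → F} (hwi : f.Iso w) (hirr : Irr D w) {t : F}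
    (htF : t ∈ D.F₀) (ht0 : t ≠ 0) (ht : t + f.σ t = 0) (hw : Op K (tN f w t)) : LongAt D K := by
  by_cases h : ∀ u, D.Rat u → f.Iso u → f.B u w = 0 → u = 0
  · exact long_of_general hn hKf hb hr hcard hwi htF ht0 ht hw h
  · push Not at h
    obtain ⟨u, hu, hui, huw, hu0⟩ := h
    exact long_of_perp (by omega) hKf hb hwi hirr htF ht0 ht hw hu hui hu0 huw

end

end Cfsg.Agent.Lib.MaxSub.UnitarySub
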