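import Cfsg.Agent.Lib.MaxSub.UnitarySubfield
import Cfsg.Agent.Lib.MaxSub.LinSubfield
import Mathlib

/-!
One irrational long root parameter gives all parameters at rational centres, and hence all transvections.
-/

set_option autoImplicit false
set_option maxHeartbeats 800000
set_option linter.unusedSectionVars false

namespace Cfsg.Agent.Lib.MaxSub.UnitarySub

open Matrix SiegelOp

variable {ι : Type} [Fintype ι] [DecidableEq ι] {F : Type*} [Field F] [Finite F] {f : HermF ι F} {D : UData f}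
  {K : Subgroup (GL ι F)}

variable (D K) in
/-- Parameters of long root elements at all rational centres. -/
def LP (c : F) : Prop :=
  c + f.σ c = 0 ∧ ∀ v, D.Rat v → f.Iso v → Op K (tN f v c)

variable (D K) in
/-- Parameters of short root elements at all independent rational pairs. -/
def SP (s : F) : Prop :=
  ∀ u y, D.Rat u → f.Iso u → D.Rat y → f.Iso y → f.B u y = 0 → y ∉ F ∙ u →
    ∀ a ∈ D.F₀, Op K (sN f u y (a * s))

theorem Op.add_tN {v : ι → F} (hv : f.Iso v) {c d : F} (hc : Op K (tN f v c)) (hd : Op K (tN f v d)) :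
    Op K (tN f v (c + d)) := by
  rw [tN_add]
  exact hc.add hd (tN_mul_tN _ _ hv)

theorem Op.neg_tN {v : ι → F} (hv : f.Iso v) {c : F} (hc : Op K (tN f v c)) : Op K (tN f v (-c)) := by
  rw [tN_neg]
  exact hc.neg (tN_mul_tN _ _ hv)

/-- A long root parameter moves to a non-orthogonal rational centre. -/
theorem spread_step (hKf : ∀ g ∈ K, f.Preserves g) (hb : Base D K) {u v : ι → F} (hu : D.Rat u) (hui : f.Iso u)
    (hv : D.Rat v) (hvi : f.Iso v) (huv : f.B u v ≠ 0) {κ : F} (hκ : Op K (tN f u κ)) :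
    ∀ e ∈ D.F₀, f.σ e = e → Op K (tN f v (κ * e)) := by
  obtain ⟨t, htF, ht0, ht⟩ := D.exists_t
  set β := f.B u v with hβ
  have hβF : β ∈ D.F₀ := D.rat u v hu hv
  have hvu : f.B v u = f.σ β := (f.herm u v).symm
  set m := -(t * t) * (f.σ β * β) with hm
  have hm0 : m ≠ 0 := mul_ne_zero (neg_ne_zero.mpr (mul_ne_zero ht0 ht0))
    (mul_ne_zero (fun h => huv (f.σ_eq_zero.mp h)) huv)
  have hσt : f.σ t = -t := by linear_combination ht
  have hmfix : f.σ m = m := by
    rw [hm, map_mul, map_neg, map_mul, map_mul, f.invol, hσt]; ring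
  have hmF : m ∈ D.F₀ :=
    D.F₀.mul_mem (D.F₀.neg_mem (D.F₀.mul_mem htF htF)) (D.F₀.mul_mem (D.mem_σ _ hβF) hβF)
  -- squares
  have hsq : ∀ e ∈ D.F₀, f.σ e = e → Op K (tN f v (κ * (m * (e * e)))) := by
    intro e heF he
    rcases eq_or_ne e 0 with rfl | he0
    · simp only [mul_zero, tN_zero]; exact Op.zero
    set c := t * e with hc
    have hc0 : c ≠ 0 := mul_ne_zero ht0 he0
    have hct : c + f.σ c = 0 := by rw [hc, map_mul, he, hσt]; ring
    have hcF : c ∈ D.F₀ := D.F₀.mul_mem htF heF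
    have hcb : c * f.σ β ≠ 0 := mul_ne_zero hc0 fun h => huv (f.σ_eq_zero.mp h)
    set α := -(c * f.σ β)⁻¹ with hα
    have hαF : α ∈ D.F₀ := D.F₀.neg_mem (D.F₀.inv_mem (D.F₀.mul_mem hcF (D.mem_σ _ hβF)))
    have hzi : f.Iso (v + α • u) := by
      show f.B _ _ = 0
      simp only [map_add, LinearMap.add_apply, LinearMap.map_smulₛₗ, LinearMap.smul_apply, map_smul, smul_eq_mul,
        show f.B u u = 0 from hui, show f.B v v = 0 from hvi, ← hβ, hvu]
      rw [hα, map_neg, map_inv₀, map_mul, f.invol, show f.σ c = -c by linear_combination hct]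
      have hβ0 : β ≠ 0 := huv
      have hσβ0 : f.σ β ≠ 0 := fun h => huv (f.σ_eq_zero.mp h)
      field_simp
      ring
    obtain ⟨g, hg, hgx⟩ := hb _ c (hv.add (hu.smul hαF)) hzi hcF hct
    have h1 := hκ.conj_tN hg (hKf g hg)
    have hgu : (g : Matrix ι ι F) *ᵥ u = (c * f.σ β) • v := by
      rw [hgx, tN_apply, map_add, LinearMap.add_apply, LinearMap.map_smulₛₗ, LinearMap.smul_apply,
        show f.B u u = 0 from hui, hvu, smul_zero, add_zero, smul_add, smul_smul,
        show c * f.σ β * α = -1 by rw [hα, mul_neg, mul_inv_cancel₀ hcb]]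
      module
    rw [hgu] at h1
    have h2 := h1.smul_tN
    rwa [show κ * (f.σ (c * f.σ β) * (c * f.σ β)) = κ * (m * (e * e)) by
      rw [hm, hc, map_mul, map_mul, f.invol, he, hσt]; ring] at h2
  intro e heF he
  set y := e / m with hy
  have hyF : y ∈ D.F₀ := D.F₀.div_mem heF hmF
  have hyfix : f.σ y = y := by rw [hy, map_div₀, he, hmfix]
  by_cases h2 : (2 : F) = 0
  · have h20 : (2 : D.F₀) = 0 := Subtype.ext (show D.F₀.subtype 2 = D.F₀.subtype 0 by rw [map_ofNat, map_zero]; exact h2)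
    haveI : CharP D.F₀ 2 := CharTwo.of_one_ne_zero_of_two_eq_zero one_ne_zero h20
    obtain ⟨d, hd⟩ := isSquare_of_charTwo' (⟨y, hyF⟩ : D.F₀)
    have hd' : y = (d : F) * d := congrArg Subtype.val hd
    have hdd : f.σ (d : F) = d := by
      have h1 := congrArg f.σ hd'
      rw [hyfix, map_mul, hd'] at h1
      have h3 : (f.σ (d : F) - d) * (f.σ (d : F) - d) = 0 := by
        linear_combination (-h1) + ((d : F) * d - (d : F) * f.σ (d : F)) * h2
      exact sub_eq_zero.mp (mul_self_eq_zero.mp h3)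
    have := hsq _ d.2 hdd
    rwa [← hd', hy, mul_div_cancel₀ _ hm0] at this
  · have h2F : (2 : F) ∈ D.F₀ := by exact_mod_cast natCast_mem D.F₀ 2
    have e1 := hsq ((y + 1) / 2) (D.F₀.div_mem (D.F₀.add_mem hyF D.F₀.one_mem) h2F)
      (by rw [map_div₀, map_add, hyfix, map_one, map_ofNat])
    have e2 := hsq ((y - 1) / 2) (D.F₀.div_mem (D.F₀.sub_mem hyF D.F₀.one_mem) h2F)
      (by rw [map_div₀, map_sub, hyfix, map_one, map_ofNat])
    have := Op.add_tN hvi e1 (Op.neg_tN hvi e2)
    rwa [show κ * (m * ((y + 1) / 2 * ((y + 1) / 2))) + -(κ * (m * ((y - 1) / 2 * ((y - 1) / 2))))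
      = κ * e by rw [hy]; field_simp; ring] at this

/-- A long root parameter at one centre works at all centres. -/
theorem LP.of_long (hn : 6 ≤ Fintype.card ι) (hKf : ∀ g ∈ K, f.Preserves g) (hb : Base D K) {u : ι → F}
    (hu : D.Rat u) (hui : f.Iso u) (hu0 : u ≠ 0) {κ : F} (hκt : κ + f.σ κ = 0) (hκ : Op K (tN f u κ)) :
    LP D K κ := by
  classical
  have step : ∀ {u v : ι → F}, D.Rat u → f.Iso u → D.Rat v → f.Iso v → f.B u v ≠ 0 →
      Op K (tN f u κ) → Op K (tN f v κ) := fun {u v} hu hui hv hvi h hκ => by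
    simpa using spread_step hKf hb hu hui hv hvi h hκ 1 D.F₀.one_mem (map_one _)
  refine ⟨hκt, fun v hv hvi => ?_⟩
  rcases eq_or_ne v 0 with rfl | hv0
  · rw [show tN f (0 : ι → F) κ = 0 from LinearMap.ext fun x => by simp [tN_apply]]; exact Op.zero
  by_cases h1 : f.B u v = 0
  swap
  · exact step hu hui hv hvi h1 hκ
  obtain ⟨p, hp, hpi, hup⟩ := D.exists_partner' (by omega) hu hu0
  have hup0 : f.B u p ≠ 0 := by rw [hup]; exact one_ne_zero
  by_cases h2 : f.B p v = 0
  swap
  · exact step hp hpi hv hvi h2 (step hu hui hp hpi hup0 hκ)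
  have hpp : f.B p p = 0 := hpi
  have hu' : f.B u u = 0 := hui
  have hpu : f.B p u = 1 := by rw [← f.herm u p, hup, map_one]
  have hvs : v ∉ Submodule.span F (({u, p} : Finset (ι → F)) : Set (ι → F)) := fun h => by
    rw [Finset.coe_pair, Submodule.mem_span_pair] at h
    obtain ⟨a, b, rfl⟩ := h
    simp [hu', hup] at h1
    simp [hpp, hpu] at h2
    exact hv0 (by rw [h1, h2, zero_smul, zero_smul, add_zero])
  obtain ⟨q, hq, hqi, hqs, hvq⟩ := D.exists_dual {u, p} (by simp [hu, hp])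
    (by have : ({u, p} : Finset (ι → F)).card ≤ 2 := Finset.card_le_two; omega) hv hvs
  have huq : f.B u q = 0 := hqs u (by simp)
  have hpq : f.B p q = 0 := hqs p (by simp)
  have hzi : f.Iso (p + q) := by
    show f.B _ _ = 0
    simp [hpp, show f.B q q = 0 from hqi, hpq, f.eq_zero_comm hpq]
  refine step (hp.add hq) hzi hv hvi (fun h => ?_)
    (step hu hui (hp.add hq) hzi (by rw [map_add, hup, huq, add_zero]; exact one_ne_zero) hκ)
  have := f.eq_zero_comm h
  rw [map_add, f.eq_zero_comm h2, zero_add, hvq] at this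
  exact one_ne_zero this

theorem LP.scale (hn : 6 ≤ Fintype.card ι) (hKf : ∀ g ∈ K, f.Preserves g) (hb : Base D K) {c e : F} (hc : LP D K c)
    (he : e ∈ D.F₀) (hfix : f.σ e = e) : LP D K (c * e) := by
  refine ⟨by rw [map_mul, hfix]; linear_combination e * hc.1, fun v hv hvi => ?_⟩
  rcases eq_or_ne v 0 with rfl | hv0
  · rw [show tN f (0 : ι → F) _ = 0 from LinearMap.ext fun x => by simp [tN_apply]]; exact Op.zero
  obtain ⟨u, hu, hui, hvu⟩ := D.exists_partner' (by omega) hv hv0
  refine spread_step hKf hb hu hui hv hvi (fun h => ?_) (hc.2 u hu hui) e he hfix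
  rw [f.eq_zero_comm h] at hvu
  exact zero_ne_one hvu

theorem SP.of_LP {c : F} (hn : 6 ≤ Fintype.card ι) (hKf : ∀ g ∈ K, f.Preserves g) (hb : Base D K) (hc : LP D K c) :
    SP D K c := fun u y hu hui hy hyi huy _ a ha => by
  rw [mul_comm]
  refine sN_of_long hc.1 hui hyi huy (hc.2 _ (hy.add (hu.smul ha)) (iso_add hui hyi huy a)) (hc.2 y hy hyi) ?_
  exact (hc.scale hn hKf hb (D.F₀.mul_mem (D.mem_σ _ ha) ha) (by rw [map_mul, f.invol, mul_comm])).2 u hu hui

theorem Base.SP_mem (hb : Base D K) {s : F} (hs : s ∈ D.F₀) : SP D K s :=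
  fun _ _ hu hui hy hyi huy _ _ ha => hb.short hu hui hy hyi huy (D.F₀.mul_mem ha hs)

theorem SP.add {s s' : F} (h : SP D K s) (h' : SP D K s') : SP D K (s + s') :=
  fun u y hu hui hy hyi huy hn a ha => by
    rw [mul_add, sN_add]
    exact (h u y hu hui hy hyi huy hn a ha).add (h' u y hu hui hy hyi huy hn a ha) (sN_mul_sN _ _ hui hyi huy)

theorem SP.neg {s : F} (h : SP D K s) : SP D K (-s) := fun u y hu hui hy hyi huy hn a ha => by
  rw [mul_neg, sN_neg]
  exact (h u y hu hui hy hyi huy hn a ha).neg (sN_mul_sN _ _ hui hyi huy)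

theorem SP.smul {s d : F} (h : SP D K s) (hd : d ∈ D.F₀) : SP D K (d * s) :=
  fun u y hu hui hy hyi huy hn a ha => by
    rw [← mul_assoc]
    exact h u y hu hui hy hyi huy hn _ (D.F₀.mul_mem ha hd)

/-- A long parameter multiplies the short ones. -/
theorem LP.mul_SP (hn : 6 ≤ Fintype.card ι) (hKf : ∀ g ∈ K, f.Preserves g) {c s : F} (hc : LP D K c)
    (hs : SP D K s) : SP D K (c * s) ∧ LP D K (c * (f.σ s * s)) := by
  classical
  have main : ∀ u y, D.Rat u → f.Iso u → D.Rat y → f.Iso y → f.B u y = 0 → y ∉ F ∙ u →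
      Op K (tN f u (c * (f.σ s * s))) ∧ ∀ a ∈ D.F₀, Op K (sN f u y (a * (c * s))) := by
    intro u y hu hui hy hyi huy hyu
    have hu' : f.B u u = 0 := hui
    have hy' : f.B y y = 0 := hyi
    obtain ⟨v, hv, hvi, hvs, hyv⟩ := D.exists_dual {u} (by simpa using hu) (by simp; omega) hy (by simpa using hyu)
    have huv : f.B u v = 0 := hvs u (Finset.mem_singleton_self u)
    have hvy : f.B v y = 1 := by rw [← f.herm y v, hyv, map_one]
    have hvu : v ∉ F ∙ u := fun h => by
      obtain ⟨d, rfl⟩ := Submodule.mem_span_singleton.mp h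
      rw [map_smul, f.eq_zero_comm huy, smul_zero] at hyv
      exact zero_ne_one hyv
    have hΦ : ∀ a ∈ D.F₀, Op K (tN f u (c * (f.σ s * s) * (f.σ a * a)) + sN f u y (a * (c * s))) := fun a ha => by
      obtain ⟨g, hg, hgx⟩ := hs u v hu hui hv hvi huv hvu a ha
      have h1 := (hc.2 y hy hyi).conj_tN hg (hKf g hg)
      rw [hgx, sN_apply, huy, mul_zero, zero_smul, sub_zero, hvy, mul_one, tN_expand f hc.1] at h1
      have h2 := h1.sub (hc.2 y hy hyi) (tN_mul_tN _ _ hy')
        (by rw [add_mul, add_mul, tN_mul_tN _ _ hy', tN_mul_tN _ _ huy, sN_mul_tN _ _ huy hy']; abel)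
      convert h2 using 1
      rw [show c * (f.σ (a * s) * (a * s)) = c * (f.σ s * s) * (f.σ a * a) by rw [map_mul]; ring,
        show c * (a * s) = a * (c * s) by ring]
      abel
    obtain ⟨hlong, hshort⟩ := separate hui hyi huy hΦ
    exact ⟨by simpa using hlong 1 D.F₀.one_mem (map_one _), hshort⟩
  refine ⟨fun u y hu hui hy hyi huy hyu a ha => (main u y hu hui hy hyi huy hyu).2 a ha,
    trace_mul hc.1 s, fun u hu hui => ?_⟩
  rcases eq_or_ne u 0 with rfl | hu0
  · rw [show tN f (0 : ι → F) _ = 0 from LinearMap.ext fun x => by simp [tN_apply]]; exact Op.zero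
  obtain ⟨p, hp, hpi, hup⟩ := D.exists_partner' (by omega) hu hu0
  obtain ⟨z, hz, hzs⟩ : ∃ z, D.Rat z ∧ z ∉ Submodule.span F (({u, p} : Finset (ι → F)) : Set (ι → F)) := by
    by_contra hcon
    push Not at hcon
    have htop : Submodule.span F (({u, p} : Finset (ι → F)) : Set (ι → F)) = ⊤ := eq_top_iff.mpr fun x _ => by
      rw [D.exists_expand x]
      exact Submodule.sum_mem _ fun i _ => Submodule.smul_mem _ _ (hcon _ (D.rv_rat _))
    have h1 := finrank_span_finset_le_card (R := F) ({u, p} : Finset (ι → F))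
    rw [Set.finrank, htop, finrank_top, Module.finrank_fintype_fun_eq_card] at h1
    have : ({u, p} : Finset (ι → F)).card ≤ 2 := Finset.card_le_two
    omega
  obtain ⟨y, hy, hyi, hys, hzy⟩ := D.exists_dual {u, p} (by simp [hu, hp])
    (by have : ({u, p} : Finset (ι → F)).card ≤ 2 := Finset.card_le_two; omega) hz hzs
  refine (main u y hu hui hy hyi (hys u (by simp)) fun h => ?_).1
  obtain ⟨d, rfl⟩ := Submodule.mem_span_singleton.mp h
  have := hys p (by simp)
  rw [map_smul, smul_eq_mul, ← f.herm u p, hup, map_one, mul_one] at this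
  rw [this, zero_smul, map_zero] at hzy
  exact zero_ne_one hzy

/-- All transvections at rational centres and all short root elements. -/
theorem LP.all (hn : 6 ≤ Fintype.card ι) (hKf : ∀ g ∈ K, f.Preserves g) (hb : Base D K) {r : ℕ} (hr : r.Prime)
    (hcard : Nat.card F = Nat.card D.F₀ ^ r) (hL : LongAt D K) :
    (∀ c, c + f.σ c = 0 → LP D K c) ∧ ∀ s, SP D K s := by
  obtain ⟨u, κ, hu, hui, hu0, hκt, hκ, hop⟩ := hL
  have hκA := LP.of_long hn hKf hb hu hui hu0 hκt hop
  let R : Subsemiring F :=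
    { carrier := {m | ∀ s, SP D K s → SP D K (m * s)}
      mul_mem' := fun {a b} ha hb' s hs => by rw [mul_assoc]; exact ha _ (hb' _ hs)
      one_mem' := fun s hs => by rwa [one_mul]
      add_mem' := fun {a b} ha hb' s hs => by rw [add_mul]; exact (ha s hs).add (hb' s hs)
      zero_mem' := fun s hs => by simpa using hs.add hs.neg }
  let S : Subfield F :=
    { R with
      neg_mem' := fun {a} ha s hs => by rw [neg_mul]; exact (ha s hs).neg
      inv_mem' := fun a ha => by
        haveI : Fintype F := Fintype.ofFinite F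
        rcases eq_or_ne a 0 with rfl | h0
        · rw [_root_.inv_zero]; exact R.zero_mem
        · rw [show a⁻¹ = a ^ (Fintype.card F - 2) by
            refine (eq_inv_of_mul_eq_one_left ?_).symm
            rw [← pow_succ, show Fintype.card F - 2 + 1 = Fintype.card F - 1 by
              have := Fintype.one_lt_card (α := F); omega]
            exact FiniteField.pow_card_sub_one_eq_one a h0]
          exact R.pow_mem ha _ }
  have hle : D.F₀ ≤ S := fun d hd s hs => hs.smul hd
  have hmem : κ ∈ S := fun s hs => (hκA.mul_SP hn hKf hs).1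
  have htop := LinSubfield.eq_top_of_lt hr hcard S hle hmem hκ
  have hSP : ∀ s, SP D K s := fun s => by
    have := (show s ∈ S from htop ▸ Subfield.mem_top s) 1 (hb.SP_mem D.F₀.one_mem)
    rwa [mul_one] at this
  refine ⟨fun c hc => ?_, hSP⟩
  obtain ⟨t, htF, ht0, ht⟩ := D.exists_t
  obtain ⟨s, hs⟩ := Geometry.exists_mul_conj_eq f.σ_ne f.invol (s := c / t) (by
    rw [map_div₀, show f.σ c = -c by linear_combination hc, show f.σ t = -t by linear_combination ht, neg_div_neg_eq])
  have htA : LP D K t := ⟨ht, fun v hv hvi => hb v t hv hvi htF ht⟩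
  have := (htA.mul_SP hn hKf (hSP s)).2
  rwa [hs, mul_div_cancel₀ _ ht0] at this

/-- All transvections. -/
theorem ctr_of_long (hn : 6 ≤ Fintype.card ι) (hKf : ∀ g ∈ K, f.Preserves g) (hb : Base D K) {r : ℕ} (hr : r.Prime)
    (hcard : Nat.card F = Nat.card D.F₀ ^ r) (hL : LongAt D K) {w : ι → F} (hwi : f.Iso w) {c : F}
    (hc : c + f.σ c = 0) : Op K (tN f w c) := by
  classical
  obtain ⟨hA, hSP⟩ := LP.all hn hKf hb hr hcard hL
  rcases eq_or_ne w 0 with rfl | hw0
  · rw [show tN f (0 : ι → F) c = 0 from LinearMap.ext fun x => by simp [tN_apply]]; exact Op.zero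
  obtain ⟨z, hz, hzw⟩ : ∃ z, D.Rat z ∧ f.B z w ≠ 0 := by
    by_contra hcon
    push Not at hcon
    exact hw0 (D.ext_zero hcon)
  obtain ⟨e, he, hei, -, hew⟩ := D.exists_iso_ne ∅ (by simp) (by simp; omega) hz (by simp) hzw
  have he0 : e ≠ 0 := fun h => hew (by rw [h, map_zero, LinearMap.zero_apply])
  obtain ⟨p, hp, hpi, hep⟩ := D.exists_partner' (by omega) he he0
  have hee : f.B e e = 0 := hei
  have hpp : f.B p p = 0 := hpi
  have hpe : f.B p e = 1 := by rw [← f.herm e p, hep, map_one]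
  let P : (ι → F) → Prop := fun y => f.B e y = 0 ∧ ∃ g ∈ K, (g : Matrix ι ι F) *ᵥ e = e ∧
    (∀ x, f.B e x = 0 → (g : Matrix ι ι F) *ᵥ x - x ∈ F ∙ e) ∧ (g : Matrix ι ι F) *ᵥ p - p - y ∈ F ∙ e
  have P0 : P 0 := ⟨map_zero _, 1, K.one_mem, by simp, fun x _ => by simp, by simp⟩
  have Padd : ∀ y y', P y → P y' → P (y + y') := by
    rintro y y' ⟨hy, g, hg, hge, hgx, hgp⟩ ⟨hy', g', hg', hge', hgx', hgp'⟩
    have hfix : ∀ z ∈ F ∙ e, (g : Matrix ι ι F) *ᵥ z = z := fun z hz => by
      obtain ⟨d, rfl⟩ := Submodule.mem_span_singleton.mp hz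
      rw [Matrix.mulVec_smul, hge]
    refine ⟨by rw [map_add, hy, hy', add_zero], g * g', K.mul_mem hg hg', ?_, fun x hx => ?_, ?_⟩
    · rw [Units.val_mul, ← Matrix.mulVec_mulVec, hge', hge]
    · rw [Units.val_mul, ← Matrix.mulVec_mulVec]
      have h1 := hfix _ (hgx' x hx)
      rw [Matrix.mulVec_sub] at h1
      rw [show (g : Matrix ι ι F) *ᵥ ((g' : Matrix ι ι F) *ᵥ x) - x
        = ((g' : Matrix ι ι F) *ᵥ x - x) + ((g : Matrix ι ι F) *ᵥ x - x) by rw [← h1]; abel]
      exact add_mem (hgx' x hx) (hgx x hx)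
    · rw [Units.val_mul, ← Matrix.mulVec_mulVec]
      have h1 := hfix _ hgp'
      rw [Matrix.mulVec_sub, Matrix.mulVec_sub] at h1
      rw [show (g : Matrix ι ι F) *ᵥ ((g' : Matrix ι ι F) *ᵥ p) - p - (y + y')
        = ((g' : Matrix ι ι F) *ᵥ p - p - y') + ((g : Matrix ι ι F) *ᵥ p - p - y) + ((g : Matrix ι ι F) *ᵥ y' - y')
        by rw [← h1]; abel]
      exact add_mem (add_mem hgp' hgp) (hgx y' hy')
  have hspan : ∀ y, D.Rat y → f.B e y = 0 → f.B p y = 0 → ∀ d : F, P (d • y) := fun y hy h1 h2 =>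
    D.of_iso {e, p} (by simp [he, hp])
      (by have : ({e, p} : Finset (ι → F)).card ≤ 2 := Finset.card_le_two; omega) (fun y => ∀ d : F, P (d • y))
      (fun d => by rw [smul_zero]; exact P0) (fun x y hx hy d => by rw [smul_add]; exact Padd _ _ (hx d) (hy d))
      (fun a _ x hx d => by rw [smul_smul]; exact hx _)
      (fun v hv hvi hvs d => by
        have hev : f.B e v = 0 := hvs e (by simp)
        have hvp : f.B v p = 0 := f.eq_zero_comm (hvs p (by simp))
        by_cases hve : v ∈ F ∙ e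
        · obtain ⟨b, rfl⟩ := Submodule.mem_span_singleton.mp hve
          exact ⟨by rw [map_smul, map_smul, hee, smul_zero, smul_zero], 1, K.one_mem, by simp, fun x _ => by simp,
            Submodule.mem_span_singleton.mpr ⟨-(d * b), by simp [smul_smul]⟩⟩
        · obtain ⟨g, hg, hgx⟩ := hSP (-(f.σ d)) e v he hei hv hvi hev hve 1 D.F₀.one_mem
          refine ⟨by rw [map_smul, hev, smul_zero], g, hg, ?_, fun x hx => ?_, ?_⟩
          · rw [hgx, sN_apply, f.eq_zero_comm hev, hee]; simp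
          · rw [hgx, sN_apply, hx, mul_zero, zero_smul, sub_zero, add_sub_cancel_left]
            exact Submodule.smul_mem _ _ (Submodule.mem_span_singleton_self e)
          · rw [hgx, sN_apply, hvp, hep]
            simp [f.invol])
      hy (by simp [h1, h2])
  set β := f.B e w with hβ
  set w' := β⁻¹ • w with hw'
  have hew' : f.B e w' = 1 := by rw [hw', map_smul, smul_eq_mul, inv_mul_cancel₀ hew]
  set y := w' - p - f.B p w' • e with hy
  have hey : f.B e y = 0 := by simp [hy, hew', hep, hee]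
  have hpy : f.B p y = 0 := by simp [hy, hpp, hpe]
  have hPy : P y := by
    have hexp : y = ∑ i, (((D.P⁻¹ : GL ι F) : Matrix ι ι F) *ᵥ y) i •
        (D.rv (Pi.single i 1) - f.B p (D.rv (Pi.single i 1)) • e - f.B e (D.rv (Pi.single i 1)) • p) := by
      simp only [smul_sub, Finset.sum_sub_distrib, smul_smul, ← Finset.sum_smul]
      rw [show ∑ i, (((D.P⁻¹ : GL ι F) : Matrix ι ι F) *ᵥ y) i * f.B p (D.rv (Pi.single i 1)) = 0 by
          simpa [← hpy] using (congrArg (f.B p) (D.exists_expand y)).symm,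
        show ∑ i, (((D.P⁻¹ : GL ι F) : Matrix ι ι F) *ᵥ y) i * f.B e (D.rv (Pi.single i 1)) = 0 by
          simpa [← hey] using (congrArg (f.B e) (D.exists_expand y)).symm,
        zero_smul, zero_smul, sub_zero, sub_zero, ← D.exists_expand]
    rw [hexp]
    refine Finset.sum_induction _ P Padd P0 fun i _ => hspan _
      ((((D.rv_rat _).sub (he.smul (D.rat _ _ hp (D.rv_rat _)))).sub (hp.smul (D.rat _ _ he (D.rv_rat _))))) ?_ ?_ _
    · simp [hee, hep]
    · simp [hpp, hpe]
  obtain ⟨-, g, hg, hge, -, hgp⟩ := hPy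
  obtain ⟨a, ha⟩ := Submodule.mem_span_singleton.mp hgp
  set p' := (g : Matrix ι ι F) *ᵥ p with hp'
  set d := f.B p w' - a with hd
  have hwp : w' = p' + d • e := by rw [hd, sub_smul, ha, hy]; abel
  have hp'i : f.Iso p' := (f.iso_mulVec (hKf g hg)).mpr hpi
  have hep' : f.B e p' = 1 := by
    have := hKf g hg e p
    rwa [hge, hep] at this
  have hdt : d + f.σ d = 0 := by
    have h : f.B w' w' = 0 := HermF.Iso.smul hwi _
    simp only [hwp, map_add, LinearMap.add_apply, LinearMap.map_smulₛₗ, LinearMap.smul_apply, map_smul, smul_eq_mul,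
      show f.B p' p' = 0 from hp'i, hep', hee, show f.B p' e = 1 by rw [← f.herm e p', hep', map_one]] at h
    linear_combination h
  obtain ⟨h, hh, hhx⟩ := (hA d hdt).2 e he hei
  have hhp : (h : Matrix ι ι F) *ᵥ p' = w' := by rw [hhx, tN_apply, hep', mul_one, hwp]
  have hc' := trace_mul hc β
  have hfin := ((hA _ hc').2 p hp hpi).conj_tN (K.mul_mem hh hg) (hKf _ (K.mul_mem hh hg))
  rw [Units.val_mul, ← Matrix.mulVec_mulVec, ← hp', hhp] at hfin
  have := hfin.of_smul_tN
  rwa [hw', smul_smul, mul_inv_cancel₀ hew, one_smul] at this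

end Cfsg.Agent.Lib.MaxSub.UnitarySub
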